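import Mathlib
import Cfsg.Agent.Lib.helper44.SL3Defs
import Cfsg.Agent.Lib.helper45.SLGen

set_option autoImplicit false

namespace Cfsg.Agent.Lib.helper44.SL3

open Matrix

/-- The matrix identity behind conjugation by the 3-cycle. -/
theorem h85_mC_mat {F : Type*} [Field F] (i j : Fin 3) (a : F) :
    (!![0, 0, 1; 1, 0, 0; 0, 1, 0] : Matrix (Fin 3) (Fin 3) F) * (1 + Matrix.single i j a) =
      (1 + Matrix.single (i + 1) (j + 1) a) * !![0, 0, 1; 1, 0, 0; 0, 1, 0] := by
  fin_cases i <;> fin_cases j <;>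
    (ext r s; fin_cases r <;> fin_cases s <;>
        simp [Matrix.mul_apply, Fin.sum_univ_three, Matrix.single_apply, Matrix.one_apply])

/-- Conjugation by the 3-cycle matrix shifts the indices of a transvection. -/
theorem h85_mC_conj_transvection {F : Type*} [Field F] (i j : Fin 3) (hij : i ≠ j)
    (hij' : i + 1 ≠ j + 1) (a : F) :
    mC F * Matrix.SpecialLinearGroup.transvection hij a * (mC F)⁻¹ =
      Matrix.SpecialLinearGroup.transvection hij' a := by
  rw [mul_inv_eq_iff_eq_mul]
  apply Subtype.ext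
  rw [Matrix.SpecialLinearGroup.coe_mul, Matrix.SpecialLinearGroup.coe_mul,
    Matrix.SpecialLinearGroup.transvection_coe, Matrix.SpecialLinearGroup.transvection_coe]
  exact h85_mC_mat i j a

theorem h85_mX01_eq {F : Type*} [Field F] (a : F) :
    mX01 F a = Matrix.SpecialLinearGroup.transvection (show (0 : Fin 3) ≠ 1 by decide) a := rfl

/-- MATR -/
theorem mat_rootX {G : Type*} [Group G] {F : Type*} [Field F]
    (φ : G →* Matrix.SpecialLinearGroup (Fin 3) F) (x : F → G) (c : G)
    (hx : ∀ a, φ (x a) = mX01 F a) (hc : φ c = mC F) :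
    ∀ (a b : Fin 3) (hab : a ≠ b) (t : F),
      φ (rootX x c a b t) = Matrix.SpecialLinearGroup.transvection hab t := by
  -- images of the basic words
  have h01 : ∀ t, φ (x t) = Matrix.SpecialLinearGroup.transvection (show (0 : Fin 3) ≠ 1 by decide) t :=
    fun t => hx t
  have h12 : ∀ t, φ (c * x t * c⁻¹) =
      Matrix.SpecialLinearGroup.transvection (show (1 : Fin 3) ≠ 2 by decide) t := by
    intro t
    rw [map_mul, map_mul, map_inv, hc, h01]
    exact h85_mC_conj_transvection 0 1 (by decide) (by decide) t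
  have h02 : ∀ t, φ (ZZ x c t) =
      Matrix.SpecialLinearGroup.transvection (show (0 : Fin 3) ≠ 2 by decide) t := by
    intro t
    have : ZZ x c t = x t * (c * x 1 * c⁻¹) * (x t)⁻¹ * (c * x 1 * c⁻¹)⁻¹ := rfl
    rw [this, map_mul, map_mul, map_mul, map_inv, map_inv, h12, h01]
    have := Cfsg.Agent.Lib.helper45.transvection_comm (F := F) (show (0 : Fin 3) ≠ 1 by decide)
      (show (1 : Fin 3) ≠ 2 by decide) (show (0 : Fin 3) ≠ 2 by decide) t 1
    rw [mul_one] at this
    exact this
  have hconj : ∀ (w : G) (i j : Fin 3) (hij : i ≠ j) (hij' : i + 1 ≠ j + 1) (t : F),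
      φ w = Matrix.SpecialLinearGroup.transvection hij t →
      φ (c * w * c⁻¹) = Matrix.SpecialLinearGroup.transvection hij' t := by
    intro w i j hij hij' t hw
    rw [map_mul, map_mul, map_inv, hc, hw]
    exact h85_mC_conj_transvection i j hij hij' t
  have hsq : ∀ w : G, c ^ 2 * w * (c ^ 2)⁻¹ = c * (c * w * c⁻¹) * c⁻¹ := by
    intro w; rw [pow_two]; group
  intro a b hab t
  match a, b, hab with
  | 0, 0, h => exact absurd rfl h
  | 1, 1, h => exact absurd rfl h
  | 2, 2, h => exact absurd rfl h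
  | 0, 1, _ =>
    have : rootX x c 0 1 t = x t := by simp [rootX]
    rw [this]; exact h01 t
  | 1, 2, _ =>
    have : rootX x c 1 2 t = c * x t * c⁻¹ := by
      simp [rootX]
    rw [this]; exact h12 t
  | 2, 0, _ =>
    have : rootX x c 2 0 t = c ^ 2 * x t * (c ^ 2)⁻¹ := by
      simp [rootX]
    rw [this, hsq]
    exact hconj _ 1 2 (by decide) (by decide) t (h12 t)
  | 0, 2, _ =>
    have : rootX x c 0 2 t = ZZ x c t := by simp [rootX]
    rw [this]; exact h02 t
  | 1, 0, _ =>
    have : rootX x c 1 0 t = c * ZZ x c t * c⁻¹ := by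
      simp [rootX]
    rw [this]
    exact hconj _ 0 2 (by decide) (by decide) t (h02 t)
  | 2, 1, _ =>
    have : rootX x c 2 1 t = c ^ 2 * ZZ x c t * (c ^ 2)⁻¹ := by
      simp [rootX]
    rw [this, hsq]
    exact hconj _ 1 0 (by decide) (by decide) t (hconj _ 0 2 (by decide) (by decide) t (h02 t))

end Cfsg.Agent.Lib.helper44.SL3
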