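import Mathlib
import Cfsg.Prelude.Def_RootSubgroups

/-!
# McLaughlin's theorem over `ZMod p` (S5075): shared definitions

Everything here is a plain definition; the pieces of the split project import this file.
-/

set_option autoImplicit false

namespace Cfsg.Agent.Lib.helper85.McL

universe u

variable {p : ℕ} [Fact p.Prime] {V : Type u} [AddCommGroup V] [Module (ZMod p) V]

/-- `t` is a transvection: `t x = x + φ x • c` with `c ≠ 0`, `φ ≠ 0`, `φ c = 0`. -/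
def IsTv (t : V ≃ₗ[ZMod p] V) : Prop :=
  ∃ (c : V) (φ : Module.Dual (ZMod p) V), c ≠ 0 ∧ φ ≠ 0 ∧ φ c = 0 ∧ ∀ x, t x = x + φ x • c

/-- `[V, K]`: the span of all `k v - v`, `k ∈ K`. -/
def commSub (K : Subgroup (V ≃ₗ[ZMod p] V)) : Submodule (ZMod p) V :=
  Submodule.span (ZMod p) {w | ∃ k ∈ K, ∃ v : V, w = k v - v}

/-- `C_V(K)`: the vectors fixed by `K`. -/
def fixSub (K : Subgroup (V ≃ₗ[ZMod p] V)) : Submodule (ZMod p) V where
  carrier := {v | ∀ k ∈ K, k v = v}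
  add_mem' := by
    intro a b ha hb k hk
    rw [map_add, ha k hk, hb k hk]
  zero_mem' := by
    intro k _
    exact map_zero k
  smul_mem' := by
    intro r a ha k hk
    rw [map_smul, ha k hk]

theorem mem_fixSub {K : Subgroup (V ≃ₗ[ZMod p] V)} {v : V} :
    v ∈ fixSub K ↔ ∀ k ∈ K, k v = v := Iff.rfl

/-- An abstract transvection system: a set of pairs (centre, axis functional) closed under the
operations available for the set of all transvections of a group. -/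
structure TSys (T : Set (V × Module.Dual (ZMod p) V)) : Prop where
  ne : ∀ c φ, (c, φ) ∈ T → c ≠ 0 ∧ φ ≠ 0 ∧ φ c = 0
  smul_left : ∀ c φ, (c, φ) ∈ T → ∀ a : ZMod p, a ≠ 0 → (a • c, φ) ∈ T
  smul_right : ∀ c φ, (c, φ) ∈ T → ∀ a : ZMod p, a ≠ 0 → (c, a • φ) ∈ T
  add_right : ∀ c φ ψ, (c, φ) ∈ T → (c, ψ) ∈ T → φ + ψ ≠ 0 → (c, φ + ψ) ∈ T
  add_left : ∀ c d φ, (c, φ) ∈ T → (d, φ) ∈ T → c + d ≠ 0 → (c + d, φ) ∈ T
  conj : ∀ c φ d ψ, (c, φ) ∈ T → (d, ψ) ∈ T → (d + φ d • c, ψ - ψ c • φ) ∈ T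

/-- `U` is invariant under (the transvections of) the system `T`. -/
def TInv (T : Set (V × Module.Dual (ZMod p) V)) (U : Submodule (ZMod p) V) : Prop :=
  ∀ c φ, (c, φ) ∈ T → c ∈ U ∨ U ≤ LinearMap.ker φ

/-- The system `T` is irreducible. -/
def TIrr (T : Set (V × Module.Dual (ZMod p) V)) : Prop :=
  ∀ U : Submodule (ZMod p) V, TInv T U → U = ⊥ ∨ U = ⊤

/-- The system of all transvections of a group `G`. -/
def tsysOf (G : Subgroup (V ≃ₗ[ZMod p] V)) : Set (V × Module.Dual (ZMod p) V) :=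
  {q | q.1 ≠ 0 ∧ q.2 ≠ 0 ∧ q.2 q.1 = 0 ∧ ∃ t ∈ G, ∀ x, t x = x + q.2 x • q.1}

/-- The conclusion "`G` is `SL(V)` or `Sp(V, B)`". -/
def IsSLSp (G : Subgroup (V ≃ₗ[ZMod p] V)) : Prop :=
  (G : Set (V ≃ₗ[ZMod p] V)) =
    {f : V ≃ₗ[ZMod p] V | LinearMap.det (f : V →ₗ[ZMod p] V) = 1} ∨
  ∃ B : LinearMap.BilinForm (ZMod p) V, B.IsAlt ∧ B.Nondegenerate ∧
    (G : Set (V ≃ₗ[ZMod p] V)) = {f : V ≃ₗ[ZMod p] V | ∀ x y, B (f x) (f y) = B x y}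

/-- The statement of the irreducible theorem, for all spaces in the universe `u`. -/
def IrrThm (p : ℕ) [Fact p.Prime] : Prop :=
  ∀ (X : Type u) [AddCommGroup X] [Module (ZMod p) X] [Finite X]
    (G : Subgroup (X ≃ₗ[ZMod p] X)),
    G = Subgroup.closure {t | t ∈ G ∧ IsTv t} → G ≠ ⊥ →
    (∀ U : Submodule (ZMod p) X, (∀ g ∈ G, ∀ x ∈ U, g x ∈ U) → U = ⊥ ∨ U = ⊤) → IsSLSp G

/-- `C` is a "component" of transvections of `H`: a nonempty `H`-invariant set of transvections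
of `H`, connected for the relation "do not commute", such that every element of `H` acts on
`[V, ⟨C⟩]` like some element of `⟨C⟩`. -/
structure Comp (H : Subgroup (V ≃ₗ[ZMod p] V)) (C : Set (V ≃ₗ[ZMod p] V)) : Prop where
  ne : C.Nonempty
  tv : ∀ t ∈ C, IsTv t
  sub : ∀ t ∈ C, t ∈ H
  conj : ∀ h ∈ H, ∀ t ∈ C, h * t * h⁻¹ ∈ C
  conn : ∀ s ∈ C, ∀ t ∈ C, Relation.ReflTransGen (fun a b => a ∈ C ∧ b ∈ C ∧ ¬ Commute a b) s t
  fixW : ∀ h ∈ H, ∃ k ∈ Subgroup.closure C, ∀ w ∈ commSub (Subgroup.closure C), h w = k w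

/-- What is proved about a component. -/
def CompConcl (C : Set (V ≃ₗ[ZMod p] V)) : Prop :=
  commSub (Subgroup.closure C) ⊓ fixSub (Subgroup.closure C) = ⊥ ∧
  commSub (Subgroup.closure C) ⊔ fixSub (Subgroup.closure C) = ⊤ ∧
  ∃ ρ : ↥(Subgroup.closure C) →*
      (↥(commSub (Subgroup.closure C)) ≃ₗ[ZMod p] ↥(commSub (Subgroup.closure C))),
    (∀ (k : ↥(Subgroup.closure C)) (w : ↥(commSub (Subgroup.closure C))),
      ((ρ k w : ↥(commSub (Subgroup.closure C))) : V) = (k : V ≃ₗ[ZMod p] V) (w : V)) ∧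
    IsSLSp ρ.range

/-- `W0 = [V, K] ⊓ C_V(K)`. -/
def radSub (K : Subgroup (V ≃ₗ[ZMod p] V)) : Submodule (ZMod p) V := commSub K ⊓ fixSub K

/-- `K` acts faithfully on `[V, K] / W0`. -/
def Faithful (K : Subgroup (V ≃ₗ[ZMod p] V)) : Prop :=
  ∀ k ∈ K, (∀ w ∈ commSub K, k w - w ∈ radSub K) → k = 1

/-- Some element of `K` acts as `-1` on `[V, K] / W0`. -/
def HasNeg (K : Subgroup (V ≃ₗ[ZMod p] V)) : Prop :=
  ∃ z ∈ K, ∀ w ∈ commSub K, z w + w ∈ radSub K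

/-- `dim [V, K] / W0 ≥ 3` and every transvection of `[V, K] / W0` (centre the class of `w`,
axis functional induced by `ξ`) is induced by a transvection `t ∈ K` of `V`. -/
def HasLift (K : Subgroup (V ≃ₗ[ZMod p] V)) : Prop :=
  Module.finrank (ZMod p) ↥(radSub K) + 3 ≤ Module.finrank (ZMod p) ↥(commSub K) ∧
  ∀ w ∈ commSub K, w ∉ radSub K → ∀ ξ : Module.Dual (ZMod p) V, ξ w = 0 →
    (∀ u ∈ radSub K, ξ u = 0) → (∃ u ∈ commSub K, ξ u ≠ 0) →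
    ∃ (c : V) (φ : Module.Dual (ZMod p) V) (t : V ≃ₗ[ZMod p] V), t ∈ K ∧
      (∀ x, t x = x + φ x • c) ∧ c - w ∈ radSub K ∧ ∀ u ∈ commSub K, φ u = ξ u

/-- The conclusion of S5075 for `H`. -/
def McLConcl (H : Subgroup (V ≃ₗ[ZMod p] V)) : Prop :=
  ∃ (n : ℕ) (W : Fin (n + 1) → Submodule (ZMod p) V) (K : Fin n → Subgroup (V ≃ₗ[ZMod p] V)),
      1 ≤ n ∧ DirectSum.IsInternal W ∧
      (∀ h ∈ H, ∀ i, (W i).map (h : V →ₗ[ZMod p] V) = W i) ∧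
      (∀ j, K j ≤ H ∧ ((K j).subgroupOf H).Normal) ∧ ⨆ j, K j = H ∧
      (∀ j, K j ⊓ (⨆ j' ∈ {j' : Fin n | j' ≠ j}, K j') = ⊥) ∧
      (∀ j j', j ≠ j' → ∀ a ∈ K j, ∀ b ∈ K j', a * b = b * a) ∧
      (∀ j, ∀ h ∈ K j, ∀ i : Fin (n + 1), i ≠ j.succ → ∀ v ∈ W i, h v = v) ∧
      (∀ j, ∃ ρ : ↥(K j) →* (↥(W j.succ) ≃ₗ[ZMod p] ↥(W j.succ)),
        (∀ (h : ↥(K j)) (v : ↥(W j.succ)), ((ρ h v : ↥(W j.succ)) : V) = (h : V ≃ₗ[ZMod p] V) (v : V)) ∧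
        ((ρ.range : Set (↥(W j.succ) ≃ₗ[ZMod p] ↥(W j.succ))) =
            {f : ↥(W j.succ) ≃ₗ[ZMod p] ↥(W j.succ) | LinearMap.det (f : ↥(W j.succ) →ₗ[ZMod p] ↥(W j.succ)) = 1} ∨
          ∃ B : LinearMap.BilinForm (ZMod p) ↥(W j.succ), B.IsAlt ∧ B.Nondegenerate ∧
            (ρ.range : Set (↥(W j.succ) ≃ₗ[ZMod p] ↥(W j.succ))) = {f : ↥(W j.succ) ≃ₗ[ZMod p] ↥(W j.succ) | ∀ x y, B (f x) (f y) = B x y}))

/-- The statement of piece UNIP for `H` (used as a hypothesis by QUOT and CFIN). -/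
def UnipHyp (H : Subgroup (V ≃ₗ[ZMod p] V)) : Prop :=
  ∀ (U₁ U₂ : Submodule (ZMod p) V), (∀ h ∈ H, ∀ u ∈ U₁, h u ∈ U₁) → (∀ h ∈ H, ∀ u ∈ U₂, h u ∈ U₂) →
    ∀ k : V ≃ₗ[ZMod p] V, k ∈ H → (∀ v, k v - v ∈ U₂) → (∀ u ∈ U₂, k u - u ∈ U₁) →
      (∀ u ∈ U₁, k u = u) → k = 1

/-- The statement of the abstract system theorem (used as a hypothesis by IRR). -/
def SysThm (p : ℕ) [Fact p.Prime] : Prop :=
  ∀ (X : Type u) [AddCommGroup X] [Module (ZMod p) X] [Finite X]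
    (T : Set (X × Module.Dual (ZMod p) X)), TSys T → T.Nonempty → TIrr T →
    ((∀ c φ, c ≠ 0 → φ ≠ 0 → φ c = 0 → (c, φ) ∈ T) ∨
     ∃ B : LinearMap.BilinForm (ZMod p) X, B.IsAlt ∧ B.Nondegenerate ∧
      ∀ c φ, (c, φ) ∈ T ↔ c ≠ 0 ∧ ∃ a : ZMod p, a ≠ 0 ∧ φ = a • B c)

/-- The statement of piece SLGEN (used as a hypothesis by IRR). -/
def SlThm (p : ℕ) [Fact p.Prime] : Prop :=
  ∀ (X : Type u) [AddCommGroup X] [Module (ZMod p) X] [Finite X] (g : X ≃ₗ[ZMod p] X),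
    LinearMap.det (g : X →ₗ[ZMod p] X) = 1 → g ∈ Subgroup.closure {t : X ≃ₗ[ZMod p] X | IsTv t}

/-- The statement of piece SPGEN (used as a hypothesis by IRR). -/
def SpThm (p : ℕ) [Fact p.Prime] : Prop :=
  ∀ (X : Type u) [AddCommGroup X] [Module (ZMod p) X] [Finite X]
    (B : LinearMap.BilinForm (ZMod p) X), B.IsAlt → B.Nondegenerate →
    ∀ g : X ≃ₗ[ZMod p] X, (∀ x y, B (g x) (g y) = B x y) →
      g ∈ Subgroup.closure {t : X ≃ₗ[ZMod p] X |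
        ∃ (c : X) (a : ZMod p), c ≠ 0 ∧ a ≠ 0 ∧ ∀ x, t x = x + (a * B c x) • c}

end Cfsg.Agent.Lib.helper85.McL
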