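import Mathlib
import Cfsg.Agent.Lib.helper24.S6eDefs
import Cfsg.Agent.Lib.helper17.SympPrim

/-! S6002 piece BTE (helper85): existence of a symplectic transvection of order `p`. -/

set_option autoImplicit false

namespace Cfsg.Agent.Lib.helper24

open Matrix Cfsg Cfsg.Geo

/-- powers of `1 + N` with `N * N = 0` -/
theorem h85_one_add_nilp_pow {ι R : Type*} [Fintype ι] [DecidableEq ι] [CommRing R]
    (N : Matrix ι ι R) (hN : N * N = 0) (k : ℕ) : (1 + N) ^ k = 1 + k • N := by
  induction k with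
  | zero => simp
  | succ k ih =>
    rw [pow_succ, ih, add_mul, mul_add, mul_add, one_mul, mul_one, one_mul, smul_mul_assoc, hN,
      smul_zero, add_zero, succ_nsmul]
    abel

/-- BTE (M). A symplectic transvection: x = sympTransvection 2 v c = 1 + c • vecMulVec v (J v) with v a basis vector, c = 1; it preserves sympForm, x^p = 1 + p•N = 1 (N² = 0), and is not scalar. -/
theorem s6_transv_exists {F : Type*} [Field F] (p : ℕ) [Fact p.Prime] [CharP F p] :
    ∃ x : GL S6I F, x ∈ spGL 2 F ∧ x ^ p = 1 ∧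
      (∃ u w : S6I → F, (x : Matrix S6I S6I F) = 1 + Matrix.vecMulVec u w) ∧
      ∀ z : F, (x : Matrix S6I S6I F) ≠ z • (1 : Matrix S6I S6I F) := by
  classical
  obtain ⟨v, hv⟩ : ∃ v : S6I → F, v = Pi.single (Sum.inl 0) 1 := ⟨_, rfl⟩
  obtain ⟨w, hw⟩ : ∃ w : S6I → F, w = Matrix.J (Fin 2) F *ᵥ v := ⟨_, rfl⟩
  have hA : sympTransvection 2 v (1 : F) = 1 + Matrix.vecMulVec v w := by
    unfold sympTransvection
    rw [one_smul, hw]
  have hmem := Cfsg.Agent.Lib.helper17.sympTransvection_mem 2 v (1 : F)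
  obtain ⟨g, hg⟩ := Cfsg.Agent.Lib.helper17.exists_spGL 2 hmem
  have hgA : ((g : GL S6I F) : Matrix S6I S6I F) = 1 + Matrix.vecMulVec v w := hg.trans hA
  have hNN : Matrix.vecMulVec v w * Matrix.vecMulVec v w = 0 := by
    rw [Matrix.vecMulVec_mul_vecMulVec]
    have h0 : w ⬝ᵥ v = 0 := by
      rw [dotProduct_comm, hw]
      exact Cfsg.Agent.Lib.helper17.dot_J_self 2 v
    rw [h0, zero_smul]
    ext i j
    simp [Matrix.vecMulVec_apply]
  refine ⟨(g : GL S6I F), g.2, ?_, ⟨v, w, hgA⟩, ?_⟩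
  · apply Units.ext
    rw [Units.val_pow_eq_pow_val, Units.val_one, hgA, h85_one_add_nilp_pow _ hNN]
    have hp0 : (p : F) = 0 := CharP.cast_eq_zero F p
    have h1 : p • Matrix.vecMulVec v w = (p : F) • Matrix.vecMulVec v w := by
      rw [Nat.cast_smul_eq_nsmul]
    rw [h1, hp0, zero_smul, add_zero]
  · intro z hz
    rw [hgA] at hz
    have h1 := congrFun (congrFun hz (Sum.inl 0)) (Sum.inr 0)
    have h2 : w (Sum.inr 0) = 1 := by
      rw [hw, Cfsg.Agent.Lib.helper17.J_mulVec_inr, hv]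
      simp
    have h3 : v (Sum.inl 0) = 1 := by rw [hv]; simp
    simp [Matrix.vecMulVec_apply, h2, h3] at h1

end Cfsg.Agent.Lib.helper24
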