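import Mathlib
import Cfsg.Agent.Lib.helper24.SfoDefs

/-! S5981 piece OCRIT (helper85): eigenvalue pairing for diagonalisable similarities of a
non-degenerate quadratic form. -/

set_option autoImplicit false

namespace Cfsg.Agent.Lib.helper24

open Module Matrix Cfsg.Geo

/-- OCRIT -/
theorem sfo_crit {F : Type*} [Field F] [Fintype F] [DecidableEq F] {n : ℕ} (h2 : (2 : F) ≠ 0)
    (Q : (Fin n → F) → F) (hQ : IsNondegenerateQuadraticForm Q) (g : GL (Fin n) F)
    (hg : g ∈ quadSimilarityGroup Q) (K : Matrix (Fin n) (Fin n) F) (μ : Fin n → F)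
    (hK : K.det ≠ 0) (hgK : (g : Matrix (Fin n) (Fin n) F) * K = K * Matrix.diagonal μ) :
    ∃ c : F, c ≠ 0 ∧ ∀ a : F, a ≠ 0 → (Finset.univ.filter (fun j => μ j = a)).card =
      (Finset.univ.filter (fun j => μ j = c / a)).card := by
  classical
  obtain ⟨c, hc⟩ := hg
  refine ⟨(c : F), c.ne_zero, ?_⟩
  have hc0 : (c : F) ≠ 0 := c.ne_zero
  have hB := hQ.polar_bilinear
  -- the similarity scales the polar form
  have hpol : ∀ u v : Fin n → F,
      QuadraticMap.polar Q ((g : Matrix (Fin n) (Fin n) F) *ᵥ u)
        ((g : Matrix (Fin n) (Fin n) F) *ᵥ v) = (c : F) * QuadraticMap.polar Q u v := by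
    intro u v
    unfold QuadraticMap.polar
    rw [← Matrix.mulVec_add, hc, hc, hc]
    ring
  -- the columns of `K`
  let k : Fin n → (Fin n → F) := fun j i => K i j
  have hKy : ∀ y : Fin n → F, K *ᵥ y = ∑ j, y j • k j := by
    intro y
    ext i
    simp [Matrix.mulVec, dotProduct, k, mul_comm]
  have hgk : ∀ j, (g : Matrix (Fin n) (Fin n) F) *ᵥ k j = μ j • k j := by
    intro j
    ext i
    have h1 := congrFun (congrFun hgK i) j
    rw [Matrix.mul_diagonal, Matrix.mul_apply] at h1
    simp only [Matrix.mulVec, dotProduct, k, Pi.smul_apply, smul_eq_mul]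
    rw [h1, mul_comm]
  -- linearity in the first argument
  have hlin : ∀ (y : Fin n → F) (w : Fin n → F),
      QuadraticMap.polar Q (K *ᵥ y) w = ∑ j, y j * QuadraticMap.polar Q (k j) w := by
    intro y w
    let L : (Fin n → F) →ₗ[F] F :=
      { toFun := fun u => QuadraticMap.polar Q u w
        map_add' := fun x z => hB.add_left x z w
        map_smul' := fun a x => by simpa using hB.smul_left a x w }
    have h1 : L (K *ᵥ y) = ∑ j, y j * L (k j) := by
      rw [hKy y, map_sum]
      apply Finset.sum_congr rfl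
      intro j _
      rw [map_smul, smul_eq_mul]
    exact h1
  -- linearity in the second argument
  have hlin2 : ∀ (w : Fin n → F) (y : Fin n → F),
      QuadraticMap.polar Q w (K *ᵥ y) = ∑ j, y j * QuadraticMap.polar Q w (k j) := by
    intro w y
    let L : (Fin n → F) →ₗ[F] F :=
      { toFun := fun u => QuadraticMap.polar Q w u
        map_add' := fun x z => hB.add_right w x z
        map_smul' := fun a x => by simpa using hB.smul_right a w x }
    have h1 : L (K *ᵥ y) = ∑ j, y j * L (k j) := by
      rw [hKy y, map_sum]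
      apply Finset.sum_congr rfl
      intro j _
      rw [map_smul, smul_eq_mul]
    exact h1
  -- the key relation
  have hkey : ∀ i j, QuadraticMap.polar Q (k i) (k j) ≠ 0 → μ i * μ j = c := by
    intro i j hne
    have h1 := hpol (k i) (k j)
    rw [hgk i, hgk j, hB.smul_left, hB.smul_right] at h1
    have h3 : (μ i * μ j - c) * QuadraticMap.polar Q (k i) (k j) = 0 := by
      rw [sub_mul, ← h1]; ring
    rcases mul_eq_zero.mp h3 with h4 | h4
    · exact sub_eq_zero.mp h4
    · exact absurd h4 hne
  -- the Gram matrix is invertible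
  let G : Matrix (Fin n) (Fin n) F := Matrix.of fun i j => QuadraticMap.polar Q (k i) (k j)
  have hG : G.det ≠ 0 := by
    intro h0
    obtain ⟨x, hx0, hx⟩ := Matrix.exists_vecMul_eq_zero_iff.mpr h0
    have hw : K *ᵥ x ≠ 0 := fun h => hx0 (Matrix.eq_zero_of_mulVec_eq_zero hK h)
    have h1 : ∀ j, QuadraticMap.polar Q (K *ᵥ x) (k j) = 0 := by
      intro j
      rw [hlin x (k j)]
      have h2 := congrFun hx j
      simpa [Matrix.vecMul, dotProduct, G] using h2
    have h3 : ∀ v, QuadraticMap.polar Q (K *ᵥ x) v = 0 := by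
      intro v
      have hv : K *ᵥ (K⁻¹ *ᵥ v) = v := by
        rw [Matrix.mulVec_mulVec, Matrix.mul_nonsing_inv K (isUnit_iff_ne_zero.mpr hK),
          Matrix.one_mulVec]
      rw [← hv, hlin2]
      apply Finset.sum_eq_zero
      intro j _
      rw [h1 j, mul_zero]
    obtain ⟨-, ⟨y, hy⟩⟩ := hQ.nondegenerate _ hw
    exact hy (h3 y)
  -- a permutation along which the Gram matrix does not vanish
  obtain ⟨π, hπ⟩ : ∃ π : Equiv.Perm (Fin n), ∀ i, G (π i) i ≠ 0 := by
    by_contra hcon
    have hcon' : ∀ σ : Equiv.Perm (Fin n), ∃ i, G (σ i) i = 0 := by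
      intro σ
      by_contra h
      exact hcon ⟨σ, fun i hi => h ⟨i, hi⟩⟩
    apply hG
    rw [Matrix.det_apply]
    apply Finset.sum_eq_zero
    intro σ _
    obtain ⟨i, hi⟩ := hcon' σ
    have hz : ∏ j, G (σ j) j = 0 := Finset.prod_eq_zero (Finset.mem_univ i) hi
    rw [hz, smul_zero]
  have hrel : ∀ i, μ (π i) * μ i = c := fun i => hkey (π i) i (hπ i)
  intro a ha
  have hiff : ∀ i, μ i = (c : F) / a ↔ μ (π i) = a := by
    intro i
    constructor
    · intro h
      have h1 := hrel i
      rw [h] at h1
      field_simp at h1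
      exact h1
    · intro h
      have h1 := hrel i
      rw [h] at h1
      field_simp
      rw [← h1]; ring
  have h1 : (Finset.univ.filter (fun j => μ j = (c : F) / a)) =
      Finset.univ.filter (fun i => μ (π i) = a) := by
    ext i
    simp only [Finset.mem_filter, Finset.mem_univ, true_and]
    exact hiff i
  rw [h1]
  symm
  apply Finset.card_bij (fun i _ => π i)
  · intro i hi
    simpa using hi
  · intro i _ j _ h
    exact π.injective h
  · intro j hj
    refine ⟨π.symm j, ?_, by simp⟩
    simpa using hj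

end Cfsg.Agent.Lib.helper24
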