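import Mathlib
import Cfsg.Prelude.Def_Classical
import Cfsg.Prelude.Def_GeometricClasses
import Cfsg.Agent.Lib.helper63.Elusive1

/-! S5977/S5978 block [B], piece BDIM (helper85): an element `≠ 1` of order `r` of `GL_n(F)`,
`n = ord_r(q)`, is annihilated by the cyclotomic polynomial `Φ_r`. -/

set_option autoImplicit false

namespace Cfsg.Agent.Lib.helper96.FE

open Polynomial

/-- BDIM (M): an element `≠ 1` with `x^r = 1` of `GL_n(F)`, `n = ord_r(q)`, is killed by `Φ_r`. -/
theorem fe_cyc_zero {F : Type*} [Field F] [Fintype F] {κ : Type} [Fintype κ] [DecidableEq κ]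
    (r : ℕ) [Fact r.Prime] (hrF : (r : F) ≠ 0)
    (hκ : Fintype.card κ = orderOf ((Fintype.card F : ℕ) : ZMod r))
    (x : GL κ F) (hx1 : x ≠ 1) (hxr : x ^ r = 1) :
    aeval (Matrix.toLin' (x : Matrix κ κ F)) (cyclotomic r F) = 0 := by
  classical
  have hr : r.Prime := Fact.out
  -- `r` does not divide `q`
  have hq : ((Fintype.card F : ℕ) : ZMod r) ≠ 0 := by
    intro h0
    rw [ZMod.natCast_eq_zero_iff] at h0
    obtain ⟨p, hp⟩ := CharP.exists F
    have hpp : p.Prime := CharP.char_is_prime F p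
    have : Fact p.Prime := ⟨hpp⟩
    obtain ⟨k, -, hk⟩ := FiniteField.card F p
    rw [hk] at h0
    have h1 := Nat.Prime.dvd_of_dvd_pow hr h0
    have h2 := (Nat.prime_dvd_prime_iff_eq hr hpp).mp h1
    apply hrF
    rw [h2]
    exact CharP.cast_eq_zero F p
  obtain ⟨f, hfdef⟩ : ∃ f : (κ → F) →ₗ[F] (κ → F), f = Matrix.toLin' (x : Matrix κ κ F) :=
    ⟨_, rfl⟩
  have hfalg : f = Matrix.toLinAlgEquiv' (x : Matrix κ κ F) := hfdef
  rw [← hfdef]
  have hf : f ^ r = 1 := by
    rw [hfalg, ← map_pow, ← Units.val_pow_eq_pow_val, hxr, Units.val_one, map_one]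
  have hf1 : f ≠ 1 := by
    intro h
    apply hx1
    apply Units.ext
    rw [Units.val_one]
    apply (Matrix.toLinAlgEquiv' (R := F) (n := κ)).injective
    rw [← hfalg, h, map_one]
  have h := Cfsg.Agent.Lib.helper63.Elusive.orderOf_dvd_finrank_sub r hq f hf
  have hdim : Module.finrank F (κ → F) = Fintype.card κ := Module.finrank_fintype_fun_eq_card F
  have hle : Module.finrank F (LinearMap.ker (f - 1)) ≤ Module.finrank F (κ → F) :=
    Submodule.finrank_le _
  -- the kernel of `f - 1` is trivial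
  have hbot : LinearMap.ker (f - 1) = ⊥ := by
    by_contra hne
    have hd0 : Module.finrank F (LinearMap.ker (f - 1)) ≠ 0 := fun h0 =>
      hne (Submodule.finrank_eq_zero.mp h0)
    have hsub : Module.finrank F (κ → F) - Module.finrank F (LinearMap.ker (f - 1)) = 0 := by
      by_contra hpos
      have h3 := Nat.le_of_dvd (Nat.pos_of_ne_zero hpos) h
      rw [← hκ, ← hdim] at h3
      omega
    have hd : Module.finrank F (LinearMap.ker (f - 1)) = Module.finrank F (κ → F) := by omega
    have htop : LinearMap.ker (f - 1) = ⊤ := Submodule.eq_top_of_finrank_eq hd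
    apply hf1
    apply LinearMap.ext
    intro v
    have hv : v ∈ LinearMap.ker (f - 1) := by rw [htop]; trivial
    rw [LinearMap.mem_ker, LinearMap.sub_apply, sub_eq_zero] at hv
    exact hv
  have hinj : Function.Injective (f - 1 : (κ → F) →ₗ[F] (κ → F)) := LinearMap.ker_eq_bot.mp hbot
  have hsurj : Function.Surjective (f - 1 : (κ → F) →ₗ[F] (κ → F)) :=
    LinearMap.surjective_of_injective hinj
  have hpoly : aeval f (cyclotomic r F) * (f - 1) = 0 := by
    have h1 := congrArg (aeval f) (cyclotomic_prime_mul_X_sub_one F r)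
    rw [map_mul, map_sub, map_sub, aeval_X, map_one, map_pow, aeval_X, hf, sub_self] at h1
    exact h1
  apply LinearMap.ext
  intro v
  obtain ⟨u, rfl⟩ := hsurj v
  have h4 := congrArg (fun g : (κ → F) →ₗ[F] (κ → F) => g u) hpoly
  simpa using h4

end Cfsg.Agent.Lib.helper96.FE
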