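import Mathlib

/-! S5977/S5978 block [C], piece ARITH1 (helper85): an odd prime `r ∤ q` dividing the order
formula of an orthogonal group falls into one of the good cases, or `4 ∣ ord_r(q)`. -/

set_option autoImplicit false

namespace Cfsg.Agent.Lib.helper2

/-- ARITH1 -/
theorem qfc_arith_cases (q d r : ℕ) (hq : 2 ≤ q) (hd : 2 ≤ d) [Fact r.Prime] (hr2 : r ≠ 2)
    (hrq : ¬ r ∣ q) (s : Bool)
    (h : r ∣ 2 * q ^ (d * (d - 1)) * (if s then q ^ d - 1 else q ^ d + 1) *
        ∏ j ∈ Finset.range (d - 1), (q ^ (2 * (j + 1)) - 1)) :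
    (Odd (orderOf ((q : ℕ) : ZMod r)) ∧
        (orderOf ((q : ℕ) : ZMod r) ≤ d - 1 ∨ (orderOf ((q : ℕ) : ZMod r) = d ∧ s = true))) ∨
      (orderOf ((q : ℕ) : ZMod r) % 4 = 2 ∧
        (orderOf ((q : ℕ) : ZMod r) ≤ 2 * d - 2 ∨
          (orderOf ((q : ℕ) : ZMod r) = 2 * d ∧ s = false))) ∨
      4 ∣ orderOf ((q : ℕ) : ZMod r) := by
  have hr : r.Prime := Fact.out
  obtain ⟨i, hi⟩ : ∃ i, i = orderOf ((q : ℕ) : ZMod r) := ⟨_, rfl⟩
  rw [← hi]
  have hq1 : ∀ n : ℕ, 1 ≤ q ^ n := fun n => Nat.one_le_pow _ _ (by omega)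
  have hA : ∀ n : ℕ, r ∣ q ^ n - 1 → i ∣ n := by
    intro n hn
    rw [hi]
    apply orderOf_dvd_of_pow_eq_one
    have h1 := (ZMod.natCast_eq_zero_iff (q ^ n - 1) r).mpr hn
    rw [Nat.cast_sub (hq1 n), Nat.cast_pow, Nat.cast_one, sub_eq_zero] at h1
    exact h1
  have h2ne : (2 : ZMod r) ≠ 0 := by
    intro h0
    have h1 : ((2 : ℕ) : ZMod r) = 0 := by exact_mod_cast h0
    rw [ZMod.natCast_eq_zero_iff] at h1
    exact hr2 ((Nat.prime_dvd_prime_iff_eq hr Nat.prime_two).mp h1)
  have hB : ∀ n : ℕ, r ∣ q ^ n + 1 → i ∣ 2 * n ∧ ¬ i ∣ n := by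
    intro n hn
    have h1 := (ZMod.natCast_eq_zero_iff (q ^ n + 1) r).mpr hn
    rw [Nat.cast_add, Nat.cast_pow, Nat.cast_one] at h1
    have h3 : ((q : ℕ) : ZMod r) ^ n = -1 := eq_neg_of_add_eq_zero_left h1
    constructor
    · rw [hi]
      apply orderOf_dvd_of_pow_eq_one
      rw [mul_comm, pow_mul, h3]
      norm_num
    · intro hdiv
      rw [hi, orderOf_dvd_iff_pow_eq_one, h3] at hdiv
      apply h2ne
      linear_combination (-1 : ZMod r) * hdiv
  have hcases : (r ∣ (if s then q ^ d - 1 else q ^ d + 1)) ∨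
      ∃ j ∈ Finset.range (d - 1), r ∣ q ^ (2 * (j + 1)) - 1 := by
    rcases (Nat.Prime.dvd_mul hr).mp h with h1 | h1
    · rcases (Nat.Prime.dvd_mul hr).mp h1 with h2 | h2
      · rcases (Nat.Prime.dvd_mul hr).mp h2 with h3 | h3
        · exact absurd ((Nat.prime_dvd_prime_iff_eq hr Nat.prime_two).mp h3) hr2
        · exact absurd (hr.dvd_of_dvd_pow h3) hrq
      · exact Or.inl h2
    · exact Or.inr ((Prime.dvd_finsetProd_iff hr.prime _).mp h1)
  rcases Nat.even_or_odd i with hev | hodd
  · by_cases h4 : 4 ∣ i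
    · exact Or.inr (Or.inr h4)
    · have hi2 : i % 4 = 2 := by
        obtain ⟨t, ht⟩ := hev
        omega
      refine Or.inr (Or.inl ⟨hi2, ?_⟩)
      rcases hcases with hc | ⟨j, hj, hc⟩
      · cases s with
        | true =>
          simp only [if_true] at hc
          have hle := Nat.le_of_dvd (by omega) (hA d hc)
          left
          omega
        | false =>
          simp only [Bool.false_eq_true, if_false] at hc
          obtain ⟨h1, h2⟩ := hB d hc
          have hle := Nat.le_of_dvd (by omega) h1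
          by_cases hlt : i ≤ 2 * d - 2
          · left; exact hlt
          · right
            exact ⟨by omega, rfl⟩
      · have hjd : j < d - 1 := Finset.mem_range.mp hj
        have hle := Nat.le_of_dvd (by omega) (hA _ hc)
        left
        omega
  · refine Or.inl ⟨hodd, ?_⟩
    have hcop : Nat.Coprime i 2 := Nat.coprime_two_right.mpr hodd
    rcases hcases with hc | ⟨j, hj, hc⟩
    · cases s with
      | true =>
        simp only [if_true] at hc
        have hle := Nat.le_of_dvd (by omega) (hA d hc)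
        by_cases hlt : i ≤ d - 1
        · left; exact hlt
        · right
          exact ⟨by omega, rfl⟩
      | false =>
        simp only [Bool.false_eq_true, if_false] at hc
        obtain ⟨h1, h2⟩ := hB d hc
        exact absurd (hcop.dvd_of_dvd_mul_left h1) h2
    · have hjd : j < d - 1 := Finset.mem_range.mp hj
      have h1 := hcop.dvd_of_dvd_mul_left (hA _ hc)
      have hle := Nat.le_of_dvd (by omega) h1
      left
      omega

end Cfsg.Agent.Lib.helper2
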