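import Mathlib
import Cfsg.Agent.Lib.helper24.SfuDefs

/-!
# S5982 split, piece ORDER (core): the order of the isometry group of a unitary form

`h85_sfu_card_isom_core` is the verbatim conclusion of `sfu_card_isom`, with the pieces
STD, COUNT, ORDT, ORDS taken as hypotheses.
-/

set_option autoImplicit false

namespace Cfsg.Agent.Lib.helper24

open Module Matrix Cfsg.Geo

/-- The natural action of the isometry group on vectors. -/
@[reducible] def h85_sfuAct {F : Type*} [Field F] {n : ℕ} (f : (Fin n → F) → (Fin n → F) → F) :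
    MulAction (sfuIsom f) (Fin n → F) where
  smul g v := ((g : GL (Fin n) F) : Matrix (Fin n) (Fin n) F) *ᵥ v
  one_smul v := by
    show (((1 : sfuIsom f) : GL (Fin n) F) : Matrix (Fin n) (Fin n) F) *ᵥ v = v
    simp
  mul_smul g h v := by
    show (((g * h : sfuIsom f) : GL (Fin n) F) : Matrix (Fin n) (Fin n) F) *ᵥ v =
      ((g : GL (Fin n) F) : Matrix (Fin n) (Fin n) F) *ᵥ
        (((h : GL (Fin n) F) : Matrix (Fin n) (Fin n) F) *ᵥ v)
    simp [Matrix.mulVec_mulVec]

theorem h85_sfuAct_smul {F : Type*} [Field F] {n : ℕ} (f : (Fin n → F) → (Fin n → F) → F)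
    (g : sfuIsom f) (v : Fin n → F) :
    (letI := h85_sfuAct f; g • v) = ((g : GL (Fin n) F) : Matrix (Fin n) (Fin n) F) *ᵥ v := rfl

/-- Orbit–stabiliser for the isometry group acting on the vectors of norm one. -/
theorem h85_sfu_card_step {F : Type*} [Field F] [Fintype F] [DecidableEq F] {m : ℕ}
    (f : (Fin (m + 1) → F) → (Fin (m + 1) → F) → F)
    (htrans : ∀ v w, f v v = 1 → f w w = 1 →
      ∃ g ∈ sfuIsom f, (g : Matrix (Fin (m + 1)) (Fin (m + 1)) F) *ᵥ v = w)
    (v : Fin (m + 1) → F) (hv : f v v = 1) :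
    Nat.card (sfuIsom f) =
      (Finset.univ.filter (fun w : Fin (m + 1) → F => f w w = 1)).card *
      Nat.card {g : GL (Fin (m + 1)) F // g ∈ sfuIsom f ∧
        (g : Matrix (Fin (m + 1)) (Fin (m + 1)) F) *ᵥ v = v} := by
  let _inst := h85_sfuAct f
  have horb : MulAction.orbit (sfuIsom f) v = {w | f w w = 1} := by
    ext w
    constructor
    · rintro ⟨g, rfl⟩
      show f (((g : GL (Fin (m + 1)) F) : Matrix (Fin (m + 1)) (Fin (m + 1)) F) *ᵥ v)
        (((g : GL (Fin (m + 1)) F) : Matrix (Fin (m + 1)) (Fin (m + 1)) F) *ᵥ v) = 1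
      rw [g.2 v v]; exact hv
    · intro hw
      obtain ⟨g, hg, hgv⟩ := htrans v w hv hw
      exact ⟨⟨g, hg⟩, hgv⟩
  have h1 : Nat.card (MulAction.orbit (sfuIsom f) v) =
      (Finset.univ.filter (fun w : Fin (m + 1) → F => f w w = 1)).card := by
    rw [horb]
    rw [Nat.card_eq_fintype_card, ← Fintype.card_subtype]
    exact Fintype.card_congr (Equiv.refl _)
  have h2 : Nat.card (MulAction.stabilizer (sfuIsom f) v) =
      Nat.card {g : GL (Fin (m + 1)) F // g ∈ sfuIsom f ∧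
        (g : Matrix (Fin (m + 1)) (Fin (m + 1)) F) *ᵥ v = v} := by
    apply Nat.card_congr
    exact
      { toFun := fun g => ⟨(g.1 : GL (Fin (m + 1)) F), g.1.2, g.2⟩
        invFun := fun g => ⟨⟨g.1, g.2.1⟩, g.2.2⟩
        left_inv := fun g => rfl
        right_inv := fun g => rfl }
  have h3 := Nat.card_congr (MulAction.orbitProdStabilizerEquivGroup (sfuIsom f) v)
  rw [Nat.card_prod, h1, h2] at h3
  exact h3.symm

/-- ORDER, core form: STD, COUNT, ORDT and ORDS as hypotheses. -/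
theorem h85_sfu_card_isom_core {F : Type*} [Field F] [Fintype F] [DecidableEq F] (q₀ : ℕ)
    (hcard : Fintype.card F = q₀ ^ 2)
    (hstd : ∀ m : ℕ, IsUnitaryFormPow q₀ (sfuStd F q₀ m))
    (hcount : ∀ (m : ℕ) (f : (Fin m → F) → (Fin m → F) → F), IsUnitaryFormPow q₀ f →
      ((Finset.univ.filter (fun v : Fin m → F => f v v = 1)).card : ℤ) =
        (q₀ : ℤ) ^ (m - 1) * ((q₀ : ℤ) ^ m - (-1) ^ m))
    (htrans : ∀ (n : ℕ) (f : (Fin n → F) → (Fin n → F) → F), IsUnitaryFormPow q₀ f →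
      ∀ v w : Fin n → F, f v v = 1 → f w w = 1 →
        ∃ g ∈ sfuIsom f, (g : Matrix (Fin n) (Fin n) F) *ᵥ v = w)
    (hstab : ∀ (m : ℕ) (f : (Fin (m + 1) → F) → (Fin (m + 1) → F) → F), IsUnitaryFormPow q₀ f →
      ∀ v : Fin (m + 1) → F, f v v = 1 →
        Nat.card {g : GL (Fin (m + 1)) F // g ∈ sfuIsom f ∧
          (g : Matrix (Fin (m + 1)) (Fin (m + 1)) F) *ᵥ v = v} =
        Nat.card (sfuIsom (sfuStd F q₀ m))) :
    ∀ (n : ℕ) (f : (Fin n → F) → (Fin n → F) → F), IsUnitaryFormPow q₀ f →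
      (Nat.card (sfuIsom f) : ℤ) =
        ∏ m ∈ Finset.range n, (q₀ : ℤ) ^ m * ((q₀ : ℤ) ^ (m + 1) - (-1) ^ (m + 1)) := by
  have hq : 2 ≤ q₀ := by
    have h1 : 1 < Fintype.card F := Fintype.one_lt_card
    rw [hcard] at h1
    by_contra hlt
    have : q₀ ≤ 1 := by omega
    have : q₀ ^ 2 ≤ 1 := by
      calc q₀ ^ 2 ≤ 1 ^ 2 := Nat.pow_le_pow_left this 2
        _ = 1 := by norm_num
    omega
  intro n
  induction n with
  | zero =>
    intro f _
    rw [Finset.range_zero, Finset.prod_empty]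
    have : Nat.card (sfuIsom f) = 1 := by
      rw [Nat.card_eq_one_iff_unique]
      refine ⟨⟨fun a b => ?_⟩, ⟨1⟩⟩
      apply Subtype.ext
      apply Units.ext
      ext i
      exact i.elim0
    rw [this]; norm_num
  | succ m ih =>
    intro f hf
    have hc := hcount (m + 1) f hf
    rw [Nat.add_sub_cancel] at hc
    have hpos : (0 : ℤ) < (q₀ : ℤ) ^ m * ((q₀ : ℤ) ^ (m + 1) - (-1) ^ (m + 1)) := by
      have hq' : (2 : ℤ) ≤ (q₀ : ℤ) := by exact_mod_cast hq
      have h1 : (0 : ℤ) < (q₀ : ℤ) ^ m := by positivity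
      have h2 : (2 : ℤ) ≤ (q₀ : ℤ) ^ (m + 1) := by
        calc (2 : ℤ) ≤ (q₀ : ℤ) := hq'
          _ = (q₀ : ℤ) ^ 1 := (pow_one _).symm
          _ ≤ (q₀ : ℤ) ^ (m + 1) := by
            apply pow_le_pow_right₀ (by linarith) (by omega)
      have h3 : ((-1 : ℤ)) ^ (m + 1) ≤ 1 := by
        rcases Nat.even_or_odd (m + 1) with he | ho
        · rw [he.neg_one_pow]
        · rw [ho.neg_one_pow]; norm_num
      have h4 : (0 : ℤ) < (q₀ : ℤ) ^ (m + 1) - (-1) ^ (m + 1) := by linarith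
      exact mul_pos h1 h4
    have hne : (Finset.univ.filter (fun v : Fin (m + 1) → F => f v v = 1)).Nonempty := by
      rw [← Finset.card_pos]
      have : (0 : ℤ) < ((Finset.univ.filter (fun v : Fin (m + 1) → F => f v v = 1)).card : ℤ) := by
        rw [hc]; exact hpos
      exact_mod_cast this
    obtain ⟨v, hv⟩ := hne
    have hv1 : f v v = 1 := (Finset.mem_filter.mp hv).2
    have hstep := h85_sfu_card_step f (htrans (m + 1) f hf) v hv1
    rw [hstab m f hf v hv1] at hstep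
    rw [hstep, Nat.cast_mul, hc, ih (sfuStd F q₀ m) (hstd m), Finset.prod_range_succ]
    ring

end Cfsg.Agent.Lib.helper24
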