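import Mathlib
import Cfsg.Agent.Lib.helper24.SfuDefs

/-!
# S5982 split, piece ORDT (racer copy, core): the isometry group is transitive on norm-one vectors

`h85_sfu_isom_transitive_core` takes the piece EXT (orthonormal bases through a norm-one vector, at
a fixed index) as a hypothesis.
-/

set_option autoImplicit false

namespace Cfsg.Agent.Lib.helper24

open Module Matrix Cfsg.Geo

/-- A form that is linear in the first argument is determined there by a basis. -/
theorem h85_sfu_lin_ext {F : Type*} [Field F] {n : ℕ} {q₀ : ℕ}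
    {f : (Fin n → F) → (Fin n → F) → F} (hf : IsUnitaryFormPow q₀ f)
    {ι : Type*} (b : Basis ι F (Fin n → F)) (L : (Fin n → F) →ₗ[F] (Fin n → F))
    (y y' : Fin n → F) (h : ∀ i, f (L (b i)) y = f (b i) y') : ∀ u, f (L u) y = f u y' := by
  let φ₁ : (Fin n → F) →ₗ[F] F :=
    { toFun := fun u => f (L u) y
      map_add' := fun a c => by rw [map_add, hf.add_left]
      map_smul' := fun c a => by rw [map_smul, hf.smul_left]; rfl }
  let φ₂ : (Fin n → F) →ₗ[F] F :=
    { toFun := fun u => f u y'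
      map_add' := fun a c => by rw [hf.add_left]
      map_smul' := fun c a => by rw [hf.smul_left]; rfl }
  have h12 : φ₁ = φ₂ := b.ext (fun i => h i)
  intro u
  exact LinearMap.congr_fun h12 u

/-- A linear map taking an orthonormal basis to an orthonormal basis is an isometry. -/
theorem h85_sfu_isometry_of_onb {F : Type*} [Field F] {n : ℕ} {q₀ : ℕ}
    {f : (Fin n → F) → (Fin n → F) → F} (hf : IsUnitaryFormPow q₀ f)
    {ι : Type*} [DecidableEq ι] (b b' : Basis ι F (Fin n → F))
    (hb : ∀ i j, f (b i) (b j) = if i = j then 1 else 0)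
    (hb' : ∀ i j, f (b' i) (b' j) = if i = j then 1 else 0)
    (L : (Fin n → F) →ₗ[F] (Fin n → F)) (hL : ∀ i, L (b i) = b' i) :
    ∀ u u', f (L u) (L u') = f u u' := by
  have step1 : ∀ u j, f (L u) (b' j) = f u (b j) := by
    intro u j
    apply h85_sfu_lin_ext hf b L
    intro i
    rw [hL, hb, hb']
  intro u u'
  rw [hf.herm (L u) (L u'), hf.herm u u']
  congr 1
  apply h85_sfu_lin_ext hf b L
  intro i
  rw [hL, hf.herm (b' i) (L u), step1, ← hf.herm]

/-- The invertible matrix of a linear equivalence of `F^n`. -/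
noncomputable def h85_sfuGLOfEquiv {F : Type*} [Field F] {n : ℕ}
    (L : (Fin n → F) ≃ₗ[F] (Fin n → F)) : GL (Fin n) F where
  val := LinearMap.toMatrix' (L : (Fin n → F) →ₗ[F] (Fin n → F))
  inv := LinearMap.toMatrix' (L.symm : (Fin n → F) →ₗ[F] (Fin n → F))
  val_inv := by
    rw [← LinearMap.toMatrix'_comp]
    have : (L : (Fin n → F) →ₗ[F] (Fin n → F)) ∘ₗ (L.symm : (Fin n → F) →ₗ[F] (Fin n → F)) =
        LinearMap.id := by
      ext1 i; simp
    rw [this, LinearMap.toMatrix'_id]
  inv_val := by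
    rw [← LinearMap.toMatrix'_comp]
    have : (L.symm : (Fin n → F) →ₗ[F] (Fin n → F)) ∘ₗ (L : (Fin n → F) →ₗ[F] (Fin n → F)) =
        LinearMap.id := by
      ext1 i; simp
    rw [this, LinearMap.toMatrix'_id]

theorem h85_sfuGLOfEquiv_mulVec {F : Type*} [Field F] {n : ℕ}
    (L : (Fin n → F) ≃ₗ[F] (Fin n → F)) (u : Fin n → F) :
    ((h85_sfuGLOfEquiv L : GL (Fin n) F) : Matrix (Fin n) (Fin n) F) *ᵥ u = L u := by
  show (LinearMap.toMatrix' (L : (Fin n → F) →ₗ[F] (Fin n → F))) *ᵥ u = L u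
  rw [← Matrix.toLin'_apply, Matrix.toLin'_toMatrix']
  rfl

/-- ORDT, core form: EXT (at a fixed index `i₀`) as a hypothesis. -/
theorem h85_sfu_isom_transitive_core {F : Type*} [Field F] {n : ℕ} (q₀ : ℕ)
    (f : (Fin n → F) → (Fin n → F) → F) (hf : IsUnitaryFormPow q₀ f) (i₀ : Fin n)
    (hext : ∀ v : Fin n → F, f v v = 1 → ∃ e : Fin n → (Fin n → F), LinearIndependent F e ∧
      (∀ i j, f (e i) (e j) = if i = j then 1 else 0) ∧ e i₀ = v)
    (v w : Fin n → F) (hv : f v v = 1) (hw : f w w = 1) :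
    ∃ g ∈ sfuIsom f, (g : Matrix (Fin n) (Fin n) F) *ᵥ v = w := by
  obtain ⟨e, he, hee, hev⟩ := hext v hv
  obtain ⟨e', he', hee', hew⟩ := hext w hw
  have _ne : Nonempty (Fin n) := ⟨i₀⟩
  have hcardeq : Fintype.card (Fin n) = finrank F (Fin n → F) := by simp
  let b : Basis (Fin n) F (Fin n → F) := basisOfLinearIndependentOfCardEqFinrank he hcardeq
  let b' : Basis (Fin n) F (Fin n → F) := basisOfLinearIndependentOfCardEqFinrank he' hcardeq
  have hb : ∀ i, b i = e i := fun i => by
    show (basisOfLinearIndependentOfCardEqFinrank he hcardeq) i = e i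
    rw [coe_basisOfLinearIndependentOfCardEqFinrank]
  have hb' : ∀ i, b' i = e' i := fun i => by
    show (basisOfLinearIndependentOfCardEqFinrank he' hcardeq) i = e' i
    rw [coe_basisOfLinearIndependentOfCardEqFinrank]
  let L : (Fin n → F) ≃ₗ[F] (Fin n → F) := b.equiv b' (Equiv.refl _)
  have hL : ∀ i, L (b i) = b' i := fun i => by
    show (b.equiv b' (Equiv.refl _)) (b i) = b' i
    rw [Basis.equiv_apply]; rfl
  have hiso := h85_sfu_isometry_of_onb hf b b'
    (fun i j => by rw [hb, hb]; exact hee i j) (fun i j => by rw [hb', hb']; exact hee' i j)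
    (L : (Fin n → F) →ₗ[F] (Fin n → F)) hL
  refine ⟨h85_sfuGLOfEquiv L, ?_, ?_⟩
  · intro u u'
    rw [h85_sfuGLOfEquiv_mulVec, h85_sfuGLOfEquiv_mulVec]
    exact hiso u u'
  · rw [h85_sfuGLOfEquiv_mulVec, ← hev, ← hb, hL, hb', hew]

end Cfsg.Agent.Lib.helper24
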