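import Mathlib
import Cfsg.Agent.Lib.helper24.SfuDefs
import Cfsg.Agent.Lib.helper32.SfuEXT
import Cfsg.Agent.Lib.helper85.SfuORDTcore

/-!
# S5982 split, piece ORDT (racer copy): the isometry group is transitive on norm-one vectors

`h85_sfu_isom_transitive` is the verbatim statement of `sfu_isom_transitive` under a prefixed name.
-/

set_option autoImplicit false

namespace Cfsg.Agent.Lib.helper24

open Module Matrix Cfsg.Geo

/-- ORDT (racer copy, prefixed name) -/
theorem h85_sfu_isom_transitive {F : Type*} [Field F] [Fintype F] {n : ℕ} (q₀ : ℕ)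
    (hcard : Fintype.card F = q₀ ^ 2) (f : (Fin n → F) → (Fin n → F) → F)
    (hf : IsUnitaryFormPow q₀ f) (v w : Fin n → F) (hv : f v v = 1) (hw : f w w = 1) :
    ∃ g ∈ sfuIsom f, (g : Matrix (Fin n) (Fin n) F) *ᵥ v = w := by
  cases n with
  | zero =>
    refine ⟨1, Subgroup.one_mem _, ?_⟩
    funext i
    exact i.elim0
  | succ m =>
    exact h85_sfu_isom_transitive_core q₀ f hf (Fin.last m)
      (fun v hv => sfu_onb_extend q₀ hcard f hf v hv) v w hv hw

end Cfsg.Agent.Lib.helper24
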