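import Mathlib
import Cfsg.Agent.Lib.helper24.SfuDefs
import Cfsg.Agent.Lib.helper9.SfuSTD
import Cfsg.Agent.Lib.helper46.SfuONB
import Cfsg.Agent.Lib.helper89.SfuCNTSTD
import Cfsg.Agent.Lib.helper27.SfuCOUNTcore
import Cfsg.Agent.Lib.helper39.SfuORDS
import Cfsg.Agent.Lib.helper85.SfuORDT
import Cfsg.Agent.Lib.helper85.SfuORDERcore

/-!
# S5982 split, piece ORDER: the order of the isometry group of a unitary form

`sfu_card_isom` (verbatim skeleton statement), from the landed pieces STD (`sfu_std_unitary`),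
ONB + CNTSTD + the COUNT core, ORDT (`h85_sfu_isom_transitive`) and ORDS (`h39_sfu_isom_stab`).
-/

set_option autoImplicit false

namespace Cfsg.Agent.Lib.helper24

open Module Matrix Cfsg.Geo

/-- COUNT (racer copy, prefixed name): the number of vectors of norm one. -/
theorem h85_sfu_count {F : Type*} [Field F] [Fintype F] [DecidableEq F] {m : ℕ} (q₀ : ℕ)
    (hcard : Fintype.card F = q₀ ^ 2) (f : (Fin m → F) → (Fin m → F) → F)
    (hf : IsUnitaryFormPow q₀ f) :
    ((Finset.univ.filter (fun v : Fin m → F => f v v = 1)).card : ℤ) =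
      (q₀ : ℤ) ^ (m - 1) * ((q₀ : ℤ) ^ m - (-1) ^ m) := by
  obtain ⟨e, he, hon⟩ := sfu_onb q₀ hcard f hf
  rw [h27_sfu_count_core q₀ f hf e he hon]
  exact h89_sfu_count_std q₀ hcard m

/-- ORDER -/
theorem sfu_card_isom {F : Type*} [Field F] [Fintype F] {n : ℕ} (q₀ : ℕ)
    (hcard : Fintype.card F = q₀ ^ 2) (f : (Fin n → F) → (Fin n → F) → F)
    (hf : IsUnitaryFormPow q₀ f) :
    (Nat.card (sfuIsom f) : ℤ) =
      ∏ m ∈ Finset.range n, (q₀ : ℤ) ^ m * ((q₀ : ℤ) ^ (m + 1) - (-1) ^ (m + 1)) := by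
  classical
  exact h85_sfu_card_isom_core q₀ hcard (fun m => sfu_std_unitary q₀ hcard m)
    (fun m f hf => h85_sfu_count q₀ hcard f hf)
    (fun n f hf v w hv hw => h85_sfu_isom_transitive q₀ hcard f hf v w hv hw)
    (fun m f hf v hv => h39_sfu_isom_stab q₀ hcard f hf v hv) n f hf

end Cfsg.Agent.Lib.helper24
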