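import Mathlib
import Cfsg.Agent.Lib.helper26.S4409Defs

/-! S4409 piece AQ (helper85), core: the quaternion case of case A, with the statements of
Q8L, AQA and KN (for this group) as hypotheses. -/

set_option autoImplicit false

namespace Cfsg.Agent.Lib.helper26.S4409

open scoped commutatorElement

variable {G : Type*} [Group G]

/-- AQ with Q8L, AQA, KN as hypotheses. -/
theorem h85_aq_core [Finite G] (X H : Subgroup G) (hM : MinSet X H)
    (hQ : IsQ8 (⁅X, H⁆ : Subgroup G))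
    (hkn : ⁅X, H⁆ ≤ X ∧ X ≤ Subgroup.normalizer ((⁅X, H⁆ : Subgroup G) : Set G) ∧
      H ≤ Subgroup.normalizer ((⁅X, H⁆ : Subgroup G) : Set G))
    (hq8l : X ⊓ Subgroup.centralizer ((⁅X, H⁆ : Subgroup G) : Set G) ≤ ⁅X, H⁆ → NoP X)
    (haqa : ∀ c : G, c ∈ Subgroup.centralizer ((⁅X, H⁆ : Subgroup G) : Set G) →
      c ∉ (⁅X, H⁆ : Subgroup G) → c * c ∈ (⁅X, H⁆ : Subgroup G) →
      ¬ NoP ((⁅X, H⁆ : Subgroup G) ⊔ Subgroup.zpowers c) ∧
        Nat.card ↥((⁅X, H⁆ : Subgroup G) ⊔ Subgroup.zpowers c : Subgroup G) = 16) :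
    (⁅X, H⁆ : Subgroup G).relIndex X = 2 ∧
      (⁅X, H⁆ : Subgroup G) ⊔ (X ⊓ Subgroup.centralizer ((⁅X, H⁆ : Subgroup G) : Set G)) = X := by
  classical
  obtain ⟨hX, hHX, hodd, hmin, hnot⟩ := hM
  obtain ⟨hKX, hXK, hHK⟩ := hkn
  obtain ⟨K, hKdef⟩ : ∃ K : Subgroup G, K = ⁅X, H⁆ := ⟨_, rfl⟩
  rw [← hKdef] at hQ hKX hXK hHK hq8l haqa ⊢
  have hCK : ¬ X ⊓ Subgroup.centralizer (K : Set G) ≤ K := fun hle => hnot (hq8l hle)
  -- an element of `C` outside `K` of minimal order
  have hex : ∃ n : ℕ, ∃ c ∈ X ⊓ Subgroup.centralizer (K : Set G), c ∉ K ∧ orderOf c = n := by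
    obtain ⟨c, hc, hcK⟩ := SetLike.not_le_iff_exists.mp hCK
    exact ⟨orderOf c, c, hc, hcK, rfl⟩
  obtain ⟨c, hcC, hcK, hcn⟩ := Nat.find_spec hex
  have hcmin : ∀ d ∈ X ⊓ Subgroup.centralizer (K : Set G), d ∉ K → orderOf c ≤ orderOf d := by
    intro d hd hdK
    rw [hcn]
    exact Nat.find_min' hex ⟨d, hd, hdK, rfl⟩
  have hcX : c ∈ X := (Subgroup.mem_inf.mp hcC).1
  have hcZ : c ∈ Subgroup.centralizer (K : Set G) := (Subgroup.mem_inf.mp hcC).2
  have hc1 : c ≠ 1 := fun h => hcK (h ▸ K.one_mem)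
  have h2c : 2 ∣ orderOf c := by
    obtain ⟨k, hk⟩ := hX ⟨c, hcX⟩
    have hk' : c ^ 2 ^ k = 1 := by
      have := congrArg Subtype.val hk
      simpa using this
    obtain ⟨j, hj, hjeq⟩ := (Nat.dvd_prime_pow Nat.prime_two).mp (orderOf_dvd_of_pow_eq_one hk')
    rw [hjeq]
    have hj0 : j ≠ 0 := by
      rintro rfl
      rw [pow_zero, orderOf_eq_one_iff] at hjeq
      exact hc1 hjeq
    exact dvd_pow_self 2 hj0
  have hcc : c * c ∈ K := by
    by_contra hccK
    have h1 := hcmin (c * c) (Subgroup.mul_mem _ hcC hcC) hccK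
    have h2 : orderOf (c * c) = orderOf c / 2 := by
      rw [← pow_two]
      exact orderOf_pow_of_dvd (by norm_num) h2c
    have hpos : 0 < orderOf c := orderOf_pos c
    rw [h2] at h1
    have := Nat.div_lt_self hpos (by norm_num : 1 < 2)
    omega
  obtain ⟨hnopY, hcardY⟩ := haqa c hcZ hcK hcc
  have hYX : K ⊔ Subgroup.zpowers c ≤ X :=
    sup_le hKX (by rw [Subgroup.zpowers_le]; exact hcX)
  -- `H` normalizes `Y`
  have hconj : ∀ h ∈ H, ∀ n ∈ K ⊔ Subgroup.zpowers c, h * n * h⁻¹ ∈ K ⊔ Subgroup.zpowers c := by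
    intro h hh
    have hle : K ⊔ Subgroup.zpowers c ≤
        (K ⊔ Subgroup.zpowers c).comap (MulAut.conj h).toMonoidHom := by
      apply sup_le
      · intro k hk
        rw [Subgroup.mem_comap]
        show h * k * h⁻¹ ∈ K ⊔ Subgroup.zpowers c
        exact (le_sup_left : K ≤ K ⊔ Subgroup.zpowers c)
          ((Subgroup.mem_normalizer_iff.mp (hHK hh) k).mp hk)
      · rw [Subgroup.zpowers_le, Subgroup.mem_comap]
        show h * c * h⁻¹ ∈ K ⊔ Subgroup.zpowers c
        have h1 : ⁅c, h⁆ ∈ K := by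
          rw [hKdef]
          exact Subgroup.commutator_mem_commutator hcX hh
        have h2 : h * c * h⁻¹ = (⁅c, h⁆)⁻¹ * c := by
          rw [commutatorElement_def]; group
        rw [h2]
        exact Subgroup.mul_mem _ ((le_sup_left : K ≤ K ⊔ Subgroup.zpowers c) (K.inv_mem h1))
          ((le_sup_right : Subgroup.zpowers c ≤ K ⊔ Subgroup.zpowers c)
            (Subgroup.mem_zpowers c))
    intro n hn
    exact hle hn
  have hHY : H ≤ Subgroup.normalizer ((K ⊔ Subgroup.zpowers c : Subgroup G) : Set G) := by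
    intro h hh
    rw [Subgroup.mem_normalizer_iff]
    intro n
    constructor
    · exact hconj h hh n
    · intro hn
      have := hconj h⁻¹ (H.inv_mem hh) _ hn
      simpa [mul_assoc] using this
  have hYeq : K ⊔ Subgroup.zpowers c = X := by
    by_contra hne
    exact hnopY (hmin _ hYX hne hHY)
  have hcardK : Nat.card ↥K = 8 := by
    obtain ⟨e⟩ := hQ
    rw [Nat.card_congr e.toEquiv, Nat.card_eq_fintype_card, QuaternionGroup.card]
  have hcardX : Nat.card ↥X = 16 := by rw [← hYeq]; exact hcardY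
  constructor
  · have h1 : Nat.card ↥(K.subgroupOf X) * (K.subgroupOf X).index = Nat.card ↥X :=
      Subgroup.card_mul_index _
    have h2 : Nat.card ↥(K.subgroupOf X) = Nat.card ↥K :=
      Nat.card_congr (Subgroup.subgroupOfEquivOfLe hKX).toEquiv
    rw [h2, hcardK, hcardX] at h1
    show (K.subgroupOf X).index = 2
    omega
  · apply le_antisymm
    · exact sup_le hKX inf_le_left
    · intro x hx
      have hx' : x ∈ K ⊔ Subgroup.zpowers c := hYeq ▸ hx
      exact (sup_le_sup_left ((Subgroup.zpowers_le).mpr hcC) K) hx'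

end Cfsg.Agent.Lib.helper26.S4409
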