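import Cfsg.Agent.Lib.helper3.GfDefs
import Cfsg.Agent.Lib.helper46.GfVQ

/-! S4395 piece COVQ (helper85): the commutator form and the `p`-th power map of a cover, as maps
on the irreducible module `P/N` with values in `N`. -/

set_option autoImplicit false

namespace Cfsg.Agent.Lib.helper3.Gf

universe u

/-- a subgroup contained in the centre is commutative -/
def h85_centralCommGroup {K : Type*} [Group K] (N : Subgroup K) (hN : N ≤ Subgroup.center K) :
    CommGroup ↥N :=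
  { (inferInstance : Group ↥N) with
    mul_comm := fun a b => Subtype.ext (Subgroup.mem_center_iff.mp (hN b.2) (a : K)) }

theorem h85_comm_central {K : Type*} [Group K] (g h n m : K) (hn : ∀ x : K, x * n = n * x)
    (hm : ∀ x : K, x * m = m * x) :
    (g * n) * (h * m) * (g * n)⁻¹ * (h * m)⁻¹ = g * h * g⁻¹ * h⁻¹ := by
  have e1 : n * (h * m) * n⁻¹ = h * m := by rw [← hn (h * m)]; group
  have e2 : m * g⁻¹ * m⁻¹ = g⁻¹ := by rw [← hm g⁻¹]; group
  calc (g * n) * (h * m) * (g * n)⁻¹ * (h * m)⁻¹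
      = g * (n * (h * m) * n⁻¹) * g⁻¹ * m⁻¹ * h⁻¹ := by group
    _ = g * (h * m) * g⁻¹ * m⁻¹ * h⁻¹ := by rw [e1]
    _ = g * h * (m * g⁻¹ * m⁻¹) * h⁻¹ := by group
    _ = g * h * g⁻¹ * h⁻¹ := by rw [e2]

theorem h85_comm_mul_left {K : Type*} [Group K] (a b v c : K) (hcdef : c = b * v * b⁻¹ * v⁻¹)
    (hc : ∀ x : K, x * c = c * x) :
    (a * b) * v * (a * b)⁻¹ * v⁻¹ = (a * v * a⁻¹ * v⁻¹) * c := by
  calc (a * b) * v * (a * b)⁻¹ * v⁻¹ = a * (b * v * b⁻¹ * v⁻¹) * v * a⁻¹ * v⁻¹ := by group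
    _ = (a * c) * v * a⁻¹ * v⁻¹ := by rw [hcdef]
    _ = (c * a) * v * a⁻¹ * v⁻¹ := by rw [hc a]
    _ = c * (a * v * a⁻¹ * v⁻¹) := by simp only [mul_assoc]
    _ = (a * v * a⁻¹ * v⁻¹) * c := (hc _).symm

theorem h85_comm_mul_right {K : Type*} [Group K] (a v w c : K) (hcdef : c = a * w * a⁻¹ * w⁻¹)
    (hc : ∀ x : K, x * c = c * x) :
    a * (v * w) * a⁻¹ * (v * w)⁻¹ = (a * v * a⁻¹ * v⁻¹) * c := by
  calc a * (v * w) * a⁻¹ * (v * w)⁻¹ = a * v * a⁻¹ * ((a * w * a⁻¹ * w⁻¹) * v⁻¹) := by group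
    _ = a * v * a⁻¹ * (c * v⁻¹) := by rw [hcdef]
    _ = a * v * a⁻¹ * (v⁻¹ * c) := by rw [hc v⁻¹]
    _ = (a * v * a⁻¹ * v⁻¹) * c := by simp only [mul_assoc]

theorem h85_comm_conj {K : Type*} [Group K] (y a b c : K) (hcdef : c = a * b * a⁻¹ * b⁻¹)
    (hc : ∀ x : K, x * c = c * x) :
    (y * a * y⁻¹) * (y * b * y⁻¹) * (y * a * y⁻¹)⁻¹ * (y * b * y⁻¹)⁻¹ = c := by
  calc (y * a * y⁻¹) * (y * b * y⁻¹) * (y * a * y⁻¹)⁻¹ * (y * b * y⁻¹)⁻¹
      = y * (a * b * a⁻¹ * b⁻¹) * y⁻¹ := by group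
    _ = (y * c) * y⁻¹ := by rw [hcdef]
    _ = (c * y) * y⁻¹ := by rw [hc y]
    _ = c := by group

theorem h85_pow_mul_comm {K : Type*} [Group K] (a b c : K) (hc : ∀ x : K, x * c = c * x)
    (hba : b * a = c * a * b) (n : ℕ) : b ^ n * a = c ^ n * a * b ^ n := by
  induction n with
  | zero => simp
  | succ n ih =>
    calc b ^ (n + 1) * a = b ^ n * (b * a) := by rw [pow_succ, mul_assoc]
      _ = b ^ n * (c * a * b) := by rw [hba]
      _ = (b ^ n * c) * a * b := by simp only [mul_assoc]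
      _ = (c * b ^ n) * a * b := by rw [hc (b ^ n)]
      _ = c * (b ^ n * a) * b := by simp only [mul_assoc]
      _ = c * (c ^ n * a * b ^ n) * b := by rw [ih]
      _ = c ^ (n + 1) * a * b ^ (n + 1) := by
          rw [pow_succ' c n, pow_succ b n]; simp only [mul_assoc]

/-- the power formula in a group of class two -/
theorem h85_mul_pow_class2 {K : Type*} [Group K] (a b c : K) (hc : ∀ x : K, x * c = c * x)
    (hba : b * a = c * a * b) (n : ℕ) :
    (a * b) ^ n = a ^ n * b ^ n * c ^ (n.choose 2) := by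
  induction n with
  | zero => simp
  | succ n ih =>
    have h1 := h85_pow_mul_comm a b c hc hba n
    have hck : ∀ (k : ℕ) (x : K), x * c ^ k = c ^ k * x := fun k x =>
      ((show Commute x c from hc x).pow_right k).eq
    have hch : (n + 1).choose 2 = n.choose 2 + n := by
      rw [Nat.choose_succ_succ' n 1, Nat.choose_one_right, add_comm]
    calc (a * b) ^ (n + 1) = (a * b) ^ n * (a * b) := pow_succ _ _
      _ = a ^ n * b ^ n * c ^ (n.choose 2) * (a * b) := by rw [ih]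
      _ = a ^ n * b ^ n * ((a * b) * c ^ (n.choose 2)) := by
          rw [hck (n.choose 2) (a * b)]; simp only [mul_assoc]
      _ = a ^ n * (b ^ n * a) * b * c ^ (n.choose 2) := by simp only [mul_assoc]
      _ = a ^ n * (c ^ n * a * b ^ n) * b * c ^ (n.choose 2) := by rw [h1]
      _ = (a ^ n * c ^ n) * a * b ^ n * b * c ^ (n.choose 2) := by simp only [mul_assoc]
      _ = (c ^ n * a ^ n) * a * b ^ n * b * c ^ (n.choose 2) := by rw [hck n (a ^ n)]
      _ = c ^ n * (a ^ (n + 1) * b ^ (n + 1) * c ^ (n.choose 2)) := by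
          rw [pow_succ a n, pow_succ b n]; simp only [mul_assoc]
      _ = a ^ (n + 1) * b ^ (n + 1) * c ^ (n.choose 2) * c ^ n := (hck n _).symm
      _ = a ^ (n + 1) * b ^ (n + 1) * c ^ ((n + 1).choose 2) := by
          rw [hch, pow_add c (n.choose 2) n]; simp only [mul_assoc]

/-- COVQ -/
theorem covq (p q r : ℕ) [Fact p.Prime] [Fact q.Prime] (hpq : p ≠ q) {K : Type u} [Group K] [Finite K]
    (N P : Subgroup K) (y : K) (h : Cov p q r N P y)
    (hexp : ∀ n ∈ N, n ^ p = 1) (hgen : N ≤ Subgroup.closure (CP p P)) :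
    ∃ (V : Type u) (_ : AddCommGroup V) (_ : Finite V) (M : Type u) (_ : AddCommGroup M) (_ : Finite M)
      (T : V ≃+ V) (κ : V → V → M) (π : V → M), Irr p q T ∧
      (∀ u u' v, κ (u + u') v = κ u v + κ u' v) ∧ (∀ u v v', κ u (v + v') = κ u v + κ u v') ∧
      (∀ v, κ v v = 0) ∧ (∀ u v, κ (T u) (T v) = κ u v) ∧
      (∀ u v, π (u + v) = π u + π v + (p.choose 2) • κ v u) ∧ (∀ v, π (T v) = π v) ∧
      AddSubgroup.closure (Set.range (fun uv : V × V => κ uv.1 uv.2) ∪ Set.range π) = ⊤ ∧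
      Nat.card ↥P = Nat.card V * Nat.card M := by
  classical
  obtain ⟨V, instV, finV, T, pr, hIrr, hsurj, hadd, hker, hT⟩ := vq p q r hpq N P y h
  letI : CommGroup ↥N := h85_centralCommGroup N h.N_central
  have hcen : ∀ n ∈ N, ∀ g : K, g * n = n * g := fun n hn g =>
    Subgroup.mem_center_iff.mp (h.N_central hn) g
  have hconjP : ∀ u : ↥P, y * (u : K) * y⁻¹ ∈ P := fun u => h.P_normal.conj_mem u u.2 y
  -- a section of `pr`
  have hs' : ∀ x : V, ∃ u : ↥P, pr u = x := hsurj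
  choose s hs using hs'
  -- the commutator and power maps
  let cm : ↥P → ↥P → ↥N := fun u v =>
    ⟨(u : K) * v * (u : K)⁻¹ * (v : K)⁻¹, h.comm_mem u u.2 v v.2⟩
  let pw : ↥P → ↥N := fun u => ⟨(u : K) ^ p, h.pow_mem u u.2⟩
  let κ : V → V → Additive ↥N := fun x x' => Additive.ofMul (cm (s x) (s x'))
  let π : V → Additive ↥N := fun x => Additive.ofMul (pw (s x))
  -- elements with the same image differ by an element of `N`
  have hdiff : ∀ u u' : ↥P, pr u = pr u' → ∃ n ∈ N, (u' : K) = u * n := by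
    intro u u' e
    have h1 : pr u' = pr u + pr (u⁻¹ * u') := by
      rw [← hadd]; congr 1; group
    have h2 : pr (u⁻¹ * u') = 0 := by
      rw [← e] at h1
      exact (add_eq_left.mp h1.symm)
    refine ⟨((u⁻¹ * u' : ↥P) : K), (hker _).mp h2, ?_⟩
    simp
  have hsec : ∀ u : ↥P, ∃ n ∈ N, ((s (pr u) : ↥P) : K) = u * n := fun u =>
    hdiff u (s (pr u)) (hs (pr u)).symm
  have hκ : ∀ u v : ↥P, κ (pr u) (pr v) = Additive.ofMul (cm u v) := by
    intro u v
    obtain ⟨n, hn, e1⟩ := hsec u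
    obtain ⟨m, hm, e2⟩ := hsec v
    show Additive.ofMul (cm (s (pr u)) (s (pr v))) = Additive.ofMul (cm u v)
    congr 1
    apply Subtype.ext
    show ((s (pr u) : ↥P) : K) * (s (pr v) : ↥P) * ((s (pr u) : ↥P) : K)⁻¹ *
      ((s (pr v) : ↥P) : K)⁻¹ = (u : K) * v * (u : K)⁻¹ * (v : K)⁻¹
    rw [e1, e2]
    exact h85_comm_central _ _ n m (hcen n hn) (hcen m hm)
  have hπ : ∀ u : ↥P, π (pr u) = Additive.ofMul (pw u) := by
    intro u
    obtain ⟨n, hn, e1⟩ := hsec u
    show Additive.ofMul (pw (s (pr u))) = Additive.ofMul (pw u)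
    congr 1
    apply Subtype.ext
    show ((s (pr u) : ↥P) : K) ^ p = (u : K) ^ p
    rw [e1, (show Commute (u : K) n from hcen n hn u).mul_pow, hexp n hn, mul_one]
  have hTpr : ∀ u : ↥P, T (pr u) = pr ⟨y * (u : K) * y⁻¹, hconjP u⟩ := fun u =>
    (hT u (hconjP u)).symm
  have hfin : Finite (Additive ↥N) := Finite.of_equiv ↥N Additive.ofMul
  refine ⟨V, instV, finV, Additive ↥N, inferInstance, hfin, T, κ, π, hIrr, ?_, ?_, ?_, ?_, ?_, ?_,
    ?_, ?_⟩
  · -- additivity in the first variable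
    intro x x' z
    obtain ⟨u, rfl⟩ := hsurj x
    obtain ⟨u', rfl⟩ := hsurj x'
    obtain ⟨v, rfl⟩ := hsurj z
    rw [← hadd, hκ, hκ, hκ]
    show Additive.ofMul (cm (u * u') v) = Additive.ofMul (cm u v * cm u' v)
    congr 1
    apply Subtype.ext
    exact h85_comm_mul_left (u : K) u' v _ rfl (hcen _ (h.comm_mem u' u'.2 v v.2))
  · -- additivity in the second variable
    intro x z z'
    obtain ⟨u, rfl⟩ := hsurj x
    obtain ⟨v, rfl⟩ := hsurj z
    obtain ⟨v', rfl⟩ := hsurj z'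
    rw [← hadd, hκ, hκ, hκ]
    show Additive.ofMul (cm u (v * v')) = Additive.ofMul (cm u v * cm u v')
    congr 1
    apply Subtype.ext
    exact h85_comm_mul_right (u : K) v v' _ rfl (hcen _ (h.comm_mem u u.2 v' v'.2))
  · -- alternating
    intro x
    obtain ⟨u, rfl⟩ := hsurj x
    rw [hκ]
    show Additive.ofMul (cm u u) = Additive.ofMul (1 : ↥N)
    congr 1
    apply Subtype.ext
    show (u : K) * u * (u : K)⁻¹ * (u : K)⁻¹ = 1
    group
  · -- invariance
    intro x z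
    obtain ⟨u, rfl⟩ := hsurj x
    obtain ⟨v, rfl⟩ := hsurj z
    rw [hTpr, hTpr, hκ, hκ]
    congr 1
    apply Subtype.ext
    exact h85_comm_conj y (u : K) v _ rfl (hcen _ (h.comm_mem u u.2 v v.2))
  · -- the power map
    intro x z
    obtain ⟨u, rfl⟩ := hsurj x
    obtain ⟨v, rfl⟩ := hsurj z
    rw [← hadd, hπ, hπ, hπ, hκ]
    show Additive.ofMul (pw (u * v)) = Additive.ofMul (pw u * pw v * cm v u ^ (p.choose 2))
    congr 1
    apply Subtype.ext
    show ((u : K) * v) ^ p = (u : K) ^ p * (v : K) ^ p *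
      ((v : K) * u * (v : K)⁻¹ * (u : K)⁻¹) ^ (p.choose 2)
    apply h85_mul_pow_class2 (u : K) v _ (hcen _ (h.comm_mem v v.2 u u.2))
    group
  · -- invariance of the power map
    intro x
    obtain ⟨u, rfl⟩ := hsurj x
    rw [hTpr, hπ, hπ]
    congr 1
    apply Subtype.ext
    show (y * (u : K) * y⁻¹) ^ p = (u : K) ^ p
    rw [conj_pow, hcen _ (h.pow_mem u u.2) y]
    group
  · -- generation
    rw [eq_top_iff]
    intro m _
    have hmem : ((Additive.toMul m : ↥N) : K) ∈ Subgroup.closure (CP p P) :=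
      hgen (Additive.toMul m).2
    have key : ∀ k (hk : k ∈ Subgroup.closure (CP p P)), ∃ hkN : k ∈ N,
        Additive.ofMul (⟨k, hkN⟩ : ↥N) ∈ AddSubgroup.closure
          (Set.range (fun uv : V × V => κ uv.1 uv.2) ∪ Set.range π) := by
      intro k hk
      induction hk using Subgroup.closure_induction with
      | mem k hk =>
        rcases hk with ⟨u, hu, v, hv, rfl⟩ | ⟨u, hu, rfl⟩
        · refine ⟨h.comm_mem u hu v hv, AddSubgroup.subset_closure (Or.inl ?_)⟩
          exact ⟨(pr ⟨u, hu⟩, pr ⟨v, hv⟩), hκ ⟨u, hu⟩ ⟨v, hv⟩⟩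
        · refine ⟨h.pow_mem u hu, AddSubgroup.subset_closure (Or.inr ?_)⟩
          exact ⟨pr ⟨u, hu⟩, hπ ⟨u, hu⟩⟩
      | one => exact ⟨N.one_mem, AddSubgroup.zero_mem _⟩
      | mul a b _ _ ha hb =>
        obtain ⟨haN, hA⟩ := ha
        obtain ⟨hbN, hB⟩ := hb
        exact ⟨N.mul_mem haN hbN, AddSubgroup.add_mem _ hA hB⟩
      | inv a _ ha =>
        obtain ⟨haN, hA⟩ := ha
        exact ⟨N.inv_mem haN, AddSubgroup.neg_mem _ hA⟩
    obtain ⟨_, hm⟩ := key _ hmem
    exact hm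
  · -- the order
    let f : ↥P →* Multiplicative V :=
      { toFun := fun u => Multiplicative.ofAdd (pr u)
        map_one' := by
          show Multiplicative.ofAdd (pr 1) = 1
          rw [(hker 1).mpr N.one_mem]; rfl
        map_mul' := fun u v => by
          show Multiplicative.ofAdd (pr (u * v)) = Multiplicative.ofAdd (pr u) * Multiplicative.ofAdd (pr v)
          rw [hadd]; rfl }
    have hfs : Function.Surjective f := by
      intro x
      obtain ⟨u, hu⟩ := hsurj (Multiplicative.toAdd x)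
      exact ⟨u, by show Multiplicative.ofAdd (pr u) = x; rw [hu]; rfl⟩
    have hkerf : f.ker = N.subgroupOf P := by
      ext u
      rw [MonoidHom.mem_ker, Subgroup.mem_subgroupOf, ← hker]
      show Multiplicative.ofAdd (pr u) = 1 ↔ pr u = 0
      exact Iff.rfl
    have h1 : Nat.card f.ker * f.ker.index = Nat.card ↥P := Subgroup.card_mul_index f.ker
    have h2 : f.ker.index = Nat.card V := by
      rw [Subgroup.index_ker, MonoidHom.range_eq_top.mpr hfs, Subgroup.card_top]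
      rfl
    have h3 : Nat.card f.ker = Nat.card (Additive ↥N) := by
      rw [hkerf]
      exact Nat.card_congr ((Subgroup.subgroupOfEquivOfLe h.N_le_P).toEquiv.trans Additive.ofMul)
    rw [← h1, h2, h3, mul_comm]

end Cfsg.Agent.Lib.helper3.Gf
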