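import Mathlib
import Cfsg.Agent.Lib.helper68.HallPet
import Cfsg.Agent.Lib.helper65.PearlPow

/-!
S5238 BLOCK G, piece B2 (helper85): `(k, h) ↦ x ^ k * h` is injective on `Fin p × N` when `x ∉ N`.
-/

set_option autoImplicit false

namespace Cfsg.Agent.Lib.helper33.PearlG

open Cfsg.Agent.Lib.helper68 Cfsg.Agent.Lib.helper65.PearlPow

variable {G : Type*} [Group G] [Finite G]

/-- auxiliary: a power `x ^ d` with `0 < d < p` in `N` forces `x ∈ N` when `x ^ p = 1`. -/
theorem h85_mem_of_pow_mem (p : ℕ) [Fact p.Prime] (x : G) (hx : x ^ p = 1) (N : Subgroup G)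
    (d : ℕ) (hd0 : 0 < d) (hdp : d < p) (hd : x ^ d ∈ N) : x ∈ N := by
  have hp : p.Prime := Fact.out
  have hcop : Nat.Coprime d p :=
    ((Nat.Prime.coprime_iff_not_dvd hp).mpr (Nat.not_dvd_of_pos_of_lt hd0 hdp)).symm
  obtain ⟨m, -, hm⟩ := Nat.exists_mul_mod_eq_one_of_coprime hcop hp.one_lt
  have h1 : x ^ (d * m) = x := by
    conv_lhs => rw [← Nat.div_add_mod (d * m) p]
    rw [pow_add, pow_mul, hx, one_pow, one_mul, hm, pow_one]
  rw [← h1, pow_mul]
  exact Subgroup.pow_mem N hd m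

/-- B2. `(k, h) ↦ x ^ k * h` is injective on `Fin p × N` when `x ∉ N`. -/
theorem card_coset_le (p : ℕ) [Fact p.Prime] (x : G) (hx : x ^ p = 1) (N : Subgroup G)
    (hxN : x ∉ N) (S : Set G) (hS : ∀ h ∈ N, ∀ k : ℕ, x ^ k * h ∈ S) :
    p * Nat.card N ≤ Nat.card S := by
  classical
  -- the key: x^a * h = x^b * h' with a < b < p is impossible
  have key : ∀ (a b : ℕ) (h h' : G), a < b → b < p → h ∈ N → h' ∈ N →
      x ^ a * h = x ^ b * h' → False := by
    intro a b h h' hab hbp hh hh' heq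
    apply hxN
    apply h85_mem_of_pow_mem p x hx N (b - a) (by omega) (by omega)
    have h1 : x ^ (b - a) = h * h'⁻¹ := by
      have h2 : x ^ b = x ^ a * x ^ (b - a) := by
        rw [← pow_add]
        congr 1
        omega
      rw [h2, mul_assoc] at heq
      have h3 := mul_left_cancel heq
      rw [h3]
      group
    rw [h1]
    exact N.mul_mem hh (N.inv_mem hh')
  let f : Fin p × N → S := fun q => ⟨x ^ (q.1 : ℕ) * (q.2 : G), hS q.2 q.2.2 q.1⟩
  have hf : Function.Injective f := by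
    rintro ⟨a, h⟩ ⟨b, h'⟩ heq
    have heq' : x ^ (a : ℕ) * (h : G) = x ^ (b : ℕ) * (h' : G) := congrArg Subtype.val heq
    have hab : (a : ℕ) = (b : ℕ) := by
      rcases Nat.lt_trichotomy (a : ℕ) (b : ℕ) with hlt | heq2 | hgt
      · exact (key a b h h' hlt b.2 h.2 h'.2 heq').elim
      · exact heq2
      · exact (key b a h' h hgt a.2 h'.2 h.2 heq'.symm).elim
    have hab' : a = b := Fin.ext hab
    subst hab'
    have hh : (h : G) = (h' : G) := mul_left_cancel heq'
    have hh' : h = h' := Subtype.ext hh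
    rw [hh']
  have hcard := Nat.card_le_card_of_injective f hf
  rw [Nat.card_prod, Nat.card_eq_fintype_card (α := Fin p), Fintype.card_fin] at hcard
  exact hcard

end Cfsg.Agent.Lib.helper33.PearlG
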