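import Mathlib
import Cfsg.Prelude.Def_RootSubgroups
import Cfsg.Prelude.Def_Transfer
import Cfsg.Agent.Lib.helper85.RootSub3

set_option autoImplicit false

namespace Cfsg.Agent.Lib.helper85

open Cfsg

variable {X : Type*} [Group X]

/-- The relation `b = b(a)`: `a ∈ A^#`, `b ∈ B^#` and `b⁻¹ A b = a⁻¹ B a`. -/
def RR (A B : Subgroup X) (a b : X) : Prop :=
  a ∈ A ∧ b ∈ B ∧ a ≠ 1 ∧ b ≠ 1 ∧ conjBy A b⁻¹ = conjBy B a⁻¹

/-- A special rank one pair with abelian unipotent subgroups. -/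
structure SP (A B : Subgroup X) : Prop where
  rop : IsRankOnePair A B
  commA : ∀ x ∈ A, ∀ y ∈ A, x * y = y * x
  commB : ∀ x ∈ B, ∀ y ∈ B, x * y = y * x
  special : ∀ a b, RR A B a b → b⁻¹ * a * b = a⁻¹ * b⁻¹ * a

/-- `g` interchanges `A` and `B` by conjugation. -/
def Swaps (A B : Subgroup X) (g : X) : Prop := conjBy A g = B ∧ conjBy B g = A

/-- `C` has no `j`-torsion. -/
def NoTor (C : Subgroup X) (j : ℕ) : Prop := ∀ x ∈ C, x ^ j = 1 → x = 1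

/-- The statement `D_k`: if `b(d) = b(c)^k` then `d^k = c`. -/
def Dk (A B : Subgroup X) (k : ℕ) : Prop :=
  ∀ c d b, RR A B c b → RR A B d (b ^ k) → d ^ k = c

variable {A B : Subgroup X}

theorem RR.swap {a b : X} (h : RR A B a b) : RR B A b a :=
  ⟨h.2.1, h.1, h.2.2.2.1, h.2.2.1, h.2.2.2.2.symm⟩

theorem SP.symm (h : SP A B) : SP B A :=
  ⟨RankOnePair_symm h.rop, h.commB, h.commA, fun b a hr => by
    have := h.special a b hr.swap
    calc a⁻¹ * b * a = (a⁻¹ * b⁻¹ * a)⁻¹ := by group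
      _ = (b⁻¹ * a * b)⁻¹ := by rw [this]
      _ = b⁻¹ * a⁻¹ * b := by group⟩

theorem SP.exists_right (h : SP A B) {a : X} (ha : a ∈ A) (ha1 : a ≠ 1) : ∃ b, RR A B a b := by
  obtain ⟨b, hb, hb1, hD⟩ := h.rop.cond_left a ha ha1
  exact ⟨b, ha, hb, ha1, hb1, hD⟩

theorem SP.exists_left (h : SP A B) {b : X} (hb : b ∈ B) (hb1 : b ≠ 1) : ∃ a, RR A B a b := by
  obtain ⟨a, hr⟩ := h.symm.exists_right hb hb1
  exact ⟨a, hr.swap⟩

theorem SP.unique_right (h : SP A B) {a b b' : X} (h1 : RR A B a b) (h2 : RR A B a b') :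
    b = b' := by
  have e : conjBy A b⁻¹ = conjBy A b'⁻¹ := h1.2.2.2.2.trans h2.2.2.2.2.symm
  have := rop_eq_of_conjBy_eq (RankOnePair_symm h.rop) (B.inv_mem h1.2.1) (B.inv_mem h2.2.1) e
  exact inv_injective this

theorem SP.unique_left (h : SP A B) {a a' b : X} (h1 : RR A B a b) (h2 : RR A B a' b) :
    a = a' :=
  h.symm.unique_right h1.swap h2.swap

theorem SP.n_eq (h : SP A B) {a b : X} (hr : RR A B a b) :
    a * b⁻¹ * a = b⁻¹ * a * b⁻¹ := by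
  have := h.special a b hr
  calc a * b⁻¹ * a = a * (b⁻¹ * a * b) * b⁻¹ := by group
    _ = a * (a⁻¹ * b⁻¹ * a) * b⁻¹ := by rw [this]
    _ = b⁻¹ * a * b⁻¹ := by group

theorem SP.n_conj_a (h : SP A B) {a b : X} (hr : RR A B a b) :
    (a * b⁻¹ * a) * a * (a * b⁻¹ * a)⁻¹ = b⁻¹ := by
  have e := h.n_eq hr
  have h1 : (a * b⁻¹ * a) * a = b⁻¹ * (a * b⁻¹ * a) := by
    calc (a * b⁻¹ * a) * a = (b⁻¹ * a * b⁻¹) * a := by rw [e]
      _ = b⁻¹ * (a * b⁻¹ * a) := by group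
  rw [h1]; group

theorem SP.n_conj_b (h : SP A B) {a b : X} (hr : RR A B a b) :
    (a * b⁻¹ * a) * b * (a * b⁻¹ * a)⁻¹ = a⁻¹ := by
  have e := h.n_eq hr
  have h1 : (a * b⁻¹ * a) * b⁻¹ = a * (a * b⁻¹ * a) := by
    calc (a * b⁻¹ * a) * b⁻¹ = a * (b⁻¹ * a * b⁻¹) := by group
      _ = a * (a * b⁻¹ * a) := by rw [← e]
  calc (a * b⁻¹ * a) * b * (a * b⁻¹ * a)⁻¹
      = ((a * b⁻¹ * a) * b⁻¹ * (a * b⁻¹ * a)⁻¹)⁻¹ := by group
    _ = (a * (a * b⁻¹ * a) * (a * b⁻¹ * a)⁻¹)⁻¹ := by rw [h1]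
    _ = a⁻¹ := by group

theorem SP.conj_n_A (_h : SP A B) {a b : X} (hr : RR A B a b) :
    conjBy A (a * b⁻¹ * a) = B := by
  have hD := hr.2.2.2.2
  have e : conjBy A (a * b⁻¹ * a) = conjBy (conjBy (conjBy A a) b⁻¹) a := by
    rw [conjBy_conjBy, conjBy_conjBy, mul_assoc]
  rw [e, conjBy_of_mem hr.1, hD, conjBy_conjBy]
  simp [conjBy_one]

theorem SP.eq_of_mem (h : SP A B) {C : Subgroup X} (hC : C ∈ unipotentSubgroups A B) {a : X}
    (ha : a ∈ A) (ha1 : a ≠ 1) (haC : a ∈ C) : C = A := by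
  rcases (rop_unipotent_iff h.rop).mp hC with rfl | ⟨a', ha', rfl⟩
  · rfl
  · exfalso
    rw [mem_conjBy] at haC
    have e : a'⁻¹ * a * a' = a := by
      rw [mul_assoc, h.commA a ha a' ha']; group
    rw [e] at haC
    exact ha1 (rop_eq_one_of_mem_normalizer h.rop ha (Subgroup.le_normalizer haC))

theorem SP.n_mem (_h : SP A B) {a b : X} (hr : RR A B a b) : a * b⁻¹ * a ∈ A ⊔ B :=
  mul_mem (mul_mem (Subgroup.mem_sup_left hr.1) (Subgroup.mem_sup_right (B.inv_mem hr.2.1)))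
    (Subgroup.mem_sup_left hr.1)

theorem SP.conj_n_B (h : SP A B) {a b : X} (hr : RR A B a b) :
    conjBy B (a * b⁻¹ * a) = A := by
  apply h.eq_of_mem (unipotent_conj_mem (right_mem_unipotent h.rop) (h.n_mem hr)) hr.1 hr.2.2.1
  rw [mem_conjBy]
  have e : (a * b⁻¹ * a)⁻¹ * a * (a * b⁻¹ * a) = b⁻¹ := by
    calc (a * b⁻¹ * a)⁻¹ * a * (a * b⁻¹ * a)
        = (a * b⁻¹ * a)⁻¹ * ((a * b⁻¹ * a) * b * (a * b⁻¹ * a)⁻¹)⁻¹ * (a * b⁻¹ * a) := by
          rw [h.n_conj_b hr, inv_inv]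
      _ = b⁻¹ := by group
  rw [e]; exact B.inv_mem hr.2.1

theorem SP.inv (h : SP A B) {a b : X} (hr : RR A B a b) : RR A B a⁻¹ b⁻¹ := by
  refine ⟨A.inv_mem hr.1, B.inv_mem hr.2.1, inv_ne_one.mpr hr.2.2.1, inv_ne_one.mpr hr.2.2.2.1, ?_⟩
  rw [inv_inv, inv_inv]
  have hB := h.conj_n_B hr
  rw [h.n_eq hr] at hB
  have e : conjBy B (b⁻¹ * a * b⁻¹) = conjBy (conjBy (conjBy B b⁻¹) a) b⁻¹ := by
    rw [conjBy_conjBy, conjBy_conjBy, mul_assoc]
  rw [e, conjBy_of_mem (B.inv_mem hr.2.1), conjBy_eq_iff, inv_inv] at hB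
  exact hB.symm

theorem SP.swaps_n (h : SP A B) {a b : X} (hr : RR A B a b) : Swaps A B (a * b⁻¹ * a) :=
  ⟨h.conj_n_A hr, h.conj_n_B hr⟩

theorem Swaps.inv {g : X} (hg : Swaps A B g) : Swaps A B g⁻¹ :=
  ⟨(conjBy_eq_iff.mp hg.2).symm, (conjBy_eq_iff.mp hg.1).symm⟩

theorem RR.transport {g x y : X} (hg : Swaps A B g) (hr : RR A B x y) :
    RR A B (g * y * g⁻¹) (g * x * g⁻¹) := by
  obtain ⟨hx, hy, hx1, hy1, hD⟩ := hr
  refine ⟨?_, ?_, ?_, ?_, ?_⟩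
  · rw [← hg.2]; exact conj_mem_conjBy hy
  · rw [← hg.1]; exact conj_mem_conjBy hx
  · intro h1
    apply hy1
    calc y = g⁻¹ * (g * y * g⁻¹) * g := by group
      _ = 1 := by rw [h1]; group
  · intro h1
    apply hx1
    calc x = g⁻¹ * (g * x * g⁻¹) * g := by group
      _ = 1 := by rw [h1]; group
  · have e1 : (g * x * g⁻¹)⁻¹ = g * x⁻¹ * g⁻¹ := by group
    have e2 : (g * y * g⁻¹)⁻¹ = g * y⁻¹ * g⁻¹ := by group
    rw [e1, e2]
    have hA' : conjBy A g⁻¹ = B := hg.inv.1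
    have hB' : conjBy B g⁻¹ = A := hg.inv.2
    calc conjBy A (g * x⁻¹ * g⁻¹) = conjBy (conjBy (conjBy A g⁻¹) x⁻¹) g := by
          rw [conjBy_conjBy, conjBy_conjBy, mul_assoc]
      _ = conjBy (conjBy B x⁻¹) g := by rw [hA']
      _ = conjBy (conjBy A y⁻¹) g := by rw [hD]
      _ = conjBy (conjBy (conjBy B g⁻¹) y⁻¹) g := by rw [hB']
      _ = conjBy B (g * y⁻¹ * g⁻¹) := by
          rw [conjBy_conjBy, conjBy_conjBy, mul_assoc]

theorem SP.pow_eq_one_iff (h : SP A B) {a b : X} (hr : RR A B a b) (j : ℕ) :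
    a ^ j = 1 ↔ b ^ j = 1 := by
  have e : (a * b⁻¹ * a) * a ^ j * (a * b⁻¹ * a)⁻¹ = (b ^ j)⁻¹ := by
    rw [← conj_pow, h.n_conj_a hr, inv_pow]
  constructor
  · intro h1
    rw [h1] at e
    have : (b ^ j)⁻¹ = 1 := by rw [← e]; group
    exact inv_eq_one.mp this
  · intro h1
    rw [h1] at e
    calc a ^ j = (a * b⁻¹ * a)⁻¹ * ((a * b⁻¹ * a) * a ^ j * (a * b⁻¹ * a)⁻¹) * (a * b⁻¹ * a) := by
          group
      _ = 1 := by rw [e]; group


/-- The "Hua" formula `b(y) b(c) = b(ⁿ b(yc) · c)` with `n = n(c)`. -/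
theorem SP.hua (h : SP A B) {c b y b₁ b₂ n : X} (hc : RR A B c b) (hy : RR A B y b₁)
    (hz : RR A B (y * c) b₂) (hn : n = c * b⁻¹ * c) :
    RR A B (n * b₂ * n⁻¹ * c) (b₁ * b) := by
  have hsw : Swaps A B n := by rw [hn]; exact h.swaps_n hc
  have hA1 : n * b₂ * n⁻¹ ∈ A := by rw [← hsw.2]; exact conj_mem_conjBy hz.2.1
  have key : conjBy A (b₁ * b)⁻¹ = conjBy B (n * b₂ * n⁻¹ * c)⁻¹ := by
    have g1 : b⁻¹ * y⁻¹ = c⁻¹ * n * (y * c)⁻¹ := by rw [hn]; group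
    have g2 : c⁻¹ * n * b₂⁻¹ = c⁻¹ * (n * b₂⁻¹ * n⁻¹) * n := by group
    have g3 : c⁻¹ * (n * b₂⁻¹ * n⁻¹) = (n * b₂ * n⁻¹ * c)⁻¹ := by group
    calc conjBy A (b₁ * b)⁻¹ = conjBy (conjBy A b₁⁻¹) b⁻¹ := by rw [conjBy_conjBy, mul_inv_rev]
      _ = conjBy (conjBy B y⁻¹) b⁻¹ := by rw [hy.2.2.2.2]
      _ = conjBy B (c⁻¹ * n * (y * c)⁻¹) := by rw [conjBy_conjBy, g1]
      _ = conjBy (conjBy (conjBy B (y * c)⁻¹) n) c⁻¹ := by rw [conjBy_conjBy, conjBy_conjBy]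
      _ = conjBy (conjBy (conjBy A b₂⁻¹) n) c⁻¹ := by rw [hz.2.2.2.2]
      _ = conjBy (conjBy A n) (c⁻¹ * (n * b₂⁻¹ * n⁻¹)) := by
          rw [conjBy_conjBy, conjBy_conjBy, conjBy_conjBy, g2]
      _ = conjBy B (n * b₂ * n⁻¹ * c)⁻¹ := by rw [hsw.1, g3]
  refine ⟨A.mul_mem hA1 hc.1, B.mul_mem hy.2.1 hc.2.1, ?_, ?_, key⟩
  · intro h1
    rw [h1] at key
    have e : conjBy B (1 : X)⁻¹ = conjBy B (b₁ * b)⁻¹ := by
      rw [inv_one, conjBy_one, conjBy_of_mem (B.inv_mem (B.mul_mem hy.2.1 hc.2.1))]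
    rw [e] at key
    exact h.rop.ne (conjBy_inj.mp key)
  · intro h1
    have hby : b₁ = b⁻¹ := eq_inv_of_mul_eq_one_left h1
    rw [hby] at hy
    have e := h.unique_left hy (h.inv hc)
    apply hz.2.2.1
    rw [e]; group

theorem SP.D_one (h : SP A B) : Dk A B 1 := by
  intro c d b hc hd
  rw [pow_one] at hd ⊢
  exact h.unique_left hd hc

/-- The key step: with `b_k = b(c^k)`, `w = b(c^{k²})`, `b(e) = w^{k+1}`:
`b(c) b(c^k) = b(e⁻¹ c^k)`. -/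
theorem SP.step3 (h : SP A B) {k : ℕ} (hE : Dk B A k) {c b d : X} (hc : RR A B c b)
    (hd : RR A B d (b ^ (k + 1))) {bk w e : X} (hbk : RR A B (c ^ k) bk)
    (hw : RR A B (c ^ (k * k)) w) (he : RR A B e (w ^ (k + 1))) :
    RR A B (e⁻¹ * c ^ k) (b * bk) := by
  have hbkb : bk ^ k = b := hE b bk c hc.swap hbk.swap
  have hwbk : w ^ k = bk := hE bk w (c ^ k) hbk.swap (by rw [← pow_mul]; exact hw.swap)
  have hsw := h.swaps_n hbk
  have hnb := h.n_conj_b hbk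
  -- transport `hc` by `n_k`
  have t1 := RR.transport hsw hc
  have e1 : (c ^ k * bk⁻¹ * c ^ k) * b * (c ^ k * bk⁻¹ * c ^ k)⁻¹ = (c ^ (k * k))⁻¹ := by
    rw [← hbkb, ← conj_pow, hnb, inv_pow, ← pow_mul]
  rw [e1] at t1
  have e2 : (c ^ k * bk⁻¹ * c ^ k) * c * (c ^ k * bk⁻¹ * c ^ k)⁻¹ = w⁻¹ :=
    h.unique_right t1 (h.inv hw)
  have hz1 : c * c ^ k ≠ 1 := by
    intro h1
    have : c ^ (k + 1) = 1 := by rw [pow_succ']; exact h1
    exact hd.2.2.2.1 ((h.pow_eq_one_iff hc (k + 1)).mp this)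
  obtain ⟨bz, hbz⟩ := h.exists_right (A.mul_mem hc.1 (A.pow_mem hc.1 k)) hz1
  have t2 := RR.transport hsw hbz
  have e3 : (c ^ k * bk⁻¹ * c ^ k) * (c * c ^ k) * (c ^ k * bk⁻¹ * c ^ k)⁻¹
      = (w ^ (k + 1))⁻¹ := by
    rw [← pow_succ', ← conj_pow, e2, inv_pow]
  rw [e3] at t2
  have e4 : (c ^ k * bk⁻¹ * c ^ k) * bz * (c ^ k * bk⁻¹ * c ^ k)⁻¹ = e⁻¹ :=
    h.unique_left t2 (h.inv he)
  have h4 := h.hua hbk hc hbz (n := c ^ k * bk⁻¹ * c ^ k) rfl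
  rw [e4] at h4
  exact h4

theorem SP.D_two (h : SP A B) : Dk A B 2 := by
  intro c d b hc hd
  have hE1 : Dk B A 1 := h.symm.D_one
  have hc' : RR A B (c ^ 1) b := by rw [pow_one]; exact hc
  have hc'' : RR A B (c ^ (1 * 1)) b := by rw [mul_one, pow_one]; exact hc
  have h3 := h.step3 (k := 1) hE1 hc hd hc' hc'' hd
  rw [pow_one, ← pow_two] at h3
  have e := h.unique_left h3 hd
  calc d ^ 2 = d * d := pow_two d
    _ = d * (d⁻¹ * c) := by rw [e]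
    _ = c := by group

theorem final_alg_aux {c d : X} (hcomm : c * d = d * c) {j : ℕ}
    (h : c ^ (j + 1) * d = d ^ ((j + 1) * (j + 1)) * c) : (d ^ (j + 2) * c⁻¹) ^ j = 1 := by
  have h1 : c ^ j * (c * d) = d ^ (j * (j + 2)) * (c * d) := by
    calc c ^ j * (c * d) = c ^ (j + 1) * d := by rw [pow_succ, mul_assoc]
      _ = d ^ ((j + 1) * (j + 1)) * c := h
      _ = d ^ (j * (j + 2) + 1) * c := by
          have : (j + 1) * (j + 1) = j * (j + 2) + 1 := by ring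
          rw [this]
      _ = d ^ (j * (j + 2)) * (d * c) := by rw [pow_succ, mul_assoc]
      _ = d ^ (j * (j + 2)) * (c * d) := by rw [hcomm]
  have h2 : c ^ j = d ^ (j * (j + 2)) := mul_right_cancel h1
  have hC : Commute (d ^ (j + 2)) c⁻¹ := by
    have : Commute d c := hcomm.symm
    exact (this.pow_left (j + 2)).inv_right
  rw [hC.mul_pow, ← pow_mul, inv_pow, h2, mul_comm (j + 2) j, mul_inv_cancel]

theorem SP.D_succ (h : SP A B) {k : ℕ} (hk : 2 ≤ k)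
    (hTA : ∀ j, 1 ≤ j → j ≤ k → NoTor A j) (hTB : ∀ j, 1 ≤ j → j ≤ k → NoTor B j)
    (hD : Dk A B k) (hE : Dk B A k) : Dk A B (k + 1) := by
  intro c d b hc hd
  have hc1 := hc.2.2.1
  have hck : c ^ k ≠ 1 := fun h1 => hc1 (hTA k (by omega) le_rfl c hc.1 h1)
  have hckk : c ^ (k * k) ≠ 1 := by
    rw [pow_mul]
    exact fun h1 => hck (hTA k (by omega) le_rfl (c ^ k) (A.pow_mem hc.1 k) h1)
  obtain ⟨bk, hbk⟩ := h.exists_right (A.pow_mem hc.1 k) hck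
  obtain ⟨w, hw⟩ := h.exists_right (A.pow_mem hc.1 (k * k)) hckk
  have hbk1 : b ^ (k + 1) ≠ 1 := hd.2.2.2.1
  have hbkb : bk ^ k = b := hE b bk c hc.swap hbk.swap
  have hwbk : w ^ k = bk := hE bk w (c ^ k) hbk.swap (by rw [← pow_mul]; exact hw.swap)
  have hwb : (w ^ (k + 1)) ^ (k * k) = b ^ (k + 1) := by
    rw [← hbkb, ← hwbk]
    simp only [← pow_mul]
    congr 1
    ring
  have hw1 : w ^ (k + 1) ≠ 1 := by
    intro h1
    apply hbk1
    rw [← hwb, h1, one_pow]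
  obtain ⟨e, he⟩ := h.exists_left (B.pow_mem hw.2.1 (k + 1)) hw1
  have h3 := h.step3 hE hc hd hbk hw he
  have hbk' : b ^ k ≠ 1 := fun h1 => hc.2.2.2.1 (hTB k (by omega) le_rfl b hc.2.1 h1)
  obtain ⟨dk, hdk⟩ := h.exists_left (B.pow_mem hc.2.1 k) hbk'
  have hdkc : dk ^ k = c := hD c dk b hc hdk
  have hz1 : dk * c ≠ 1 := by
    intro h1
    have e1 : dk ^ (k + 1) = 1 := by rw [pow_succ', hdkc]; exact h1
    have : c ^ (k + 1) = 1 := by
      calc c ^ (k + 1) = (dk ^ k) ^ (k + 1) := by rw [hdkc]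
        _ = (dk ^ (k + 1)) ^ k := by rw [← pow_mul, ← pow_mul, mul_comm]
        _ = 1 := by rw [e1, one_pow]
    exact hbk1 ((h.pow_eq_one_iff hc (k + 1)).mp this)
  obtain ⟨bz', hbz'⟩ := h.exists_right (A.mul_mem hdk.1 hc.1) hz1
  have hsw := h.swaps_n hc
  have hnb := h.n_conj_b hc
  have hnc := h.n_conj_a hc
  have t1 := RR.transport hsw hdk
  have e1 : (c * b⁻¹ * c) * b ^ k * (c * b⁻¹ * c)⁻¹ = (c ^ k)⁻¹ := by
    rw [← conj_pow, hnb, inv_pow]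
  rw [e1] at t1
  have e2 : (c * b⁻¹ * c) * dk * (c * b⁻¹ * c)⁻¹ = bk⁻¹ := h.unique_right t1 (h.inv hbk)
  have t2 := RR.transport hsw hbz'
  have e3 : (c * b⁻¹ * c) * (dk * c) * (c * b⁻¹ * c)⁻¹ = (b * bk)⁻¹ := by
    calc (c * b⁻¹ * c) * (dk * c) * (c * b⁻¹ * c)⁻¹
        = ((c * b⁻¹ * c) * dk * (c * b⁻¹ * c)⁻¹) * ((c * b⁻¹ * c) * c * (c * b⁻¹ * c)⁻¹) := by
          group
      _ = bk⁻¹ * b⁻¹ := by rw [e2, hnc]
      _ = (b * bk)⁻¹ := by group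
  rw [e3] at t2
  have e4 : (c * b⁻¹ * c) * bz' * (c * b⁻¹ * c)⁻¹ = (e⁻¹ * c ^ k)⁻¹ :=
    h.unique_left t2 (h.inv h3)
  have h4 := h.hua hc hdk hbz' (n := c * b⁻¹ * c) rfl
  rw [e4, ← pow_succ] at h4
  have e5 : (e⁻¹ * c ^ k)⁻¹ * c = d := h.unique_left h4 hd
  have hwk1 : (w ^ (k + 1)) ^ k ≠ 1 := by
    intro h1
    apply hbk1
    rw [← hwb, pow_mul, h1, one_pow]
  obtain ⟨e', he'⟩ := h.exists_left (B.pow_mem (B.pow_mem hw.2.1 (k + 1)) k) hwk1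
  have he'e : e' ^ k = e := hD e e' (w ^ (k + 1)) he he'
  have hde' : d ^ k = e' := hD e' d ((w ^ (k + 1)) ^ k) he' (by rw [← pow_mul, hwb]; exact hd)
  have hdkk : d ^ (k * k) = e := by rw [pow_mul, hde', he'e]
  have hcd : c ^ k * d = d ^ (k * k) * c := by
    rw [hdkk, ← e5]; group
  obtain ⟨j, rfl⟩ : ∃ j, k = j + 1 := ⟨k - 1, by omega⟩
  have hfin := final_alg_aux (h.commA c hc.1 d hd.1) hcd
  have hmem : d ^ (j + 2) * c⁻¹ ∈ A := A.mul_mem (A.pow_mem hd.1 _) (A.inv_mem hc.1)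
  have := hTA j (by omega) (by omega) _ hmem hfin
  exact mul_inv_eq_one.mp this

theorem SP.D_all : ∀ k : ℕ, 1 ≤ k → ∀ A B : Subgroup X, SP A B →
    (∀ j, 1 ≤ j → j < k → NoTor A j ∧ NoTor B j) → Dk A B k := by
  intro k
  induction k using Nat.strong_induction_on with
  | _ k ih =>
    intro hk A B h hT
    by_cases h1 : k = 1
    · subst h1; exact h.D_one
    by_cases h2 : k = 2
    · subst h2; exact h.D_two
    obtain ⟨k', rfl⟩ : ∃ k', k = k' + 1 := ⟨k - 1, by omega⟩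
    have hk' : 2 ≤ k' := by omega
    exact h.D_succ hk' (fun j hj1 hj2 => (hT j hj1 (by omega)).1)
      (fun j hj1 hj2 => (hT j hj1 (by omega)).2)
      (ih k' (by omega) (by omega) A B h (fun j hj1 hj2 => hT j hj1 (by omega)))
      (ih k' (by omega) (by omega) B A h.symm (fun j hj1 hj2 => (hT j hj1 (by omega)).symm))

theorem SP.noTor_B (h : SP A B) {j : ℕ} (hA : NoTor A j) : NoTor B j := by
  obtain ⟨x, -, hBx⟩ := rop_right_mem_unipotent h.rop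
  intro b hb hbj
  rw [hBx, mem_conjBy] at hb
  have e : (x⁻¹ * b * x) ^ j = 1 := by
    have e1 : x⁻¹ * b * x = x⁻¹ * b * x⁻¹⁻¹ := by rw [inv_inv]
    rw [e1, conj_pow, hbj]; group
  have := hA _ hb e
  calc b = x * (x⁻¹ * b * x) * x⁻¹ := by group
    _ = 1 := by rw [this]; group

theorem SP.dich (h : SP A B) {m : ℕ} (hD : Dk A B m) (hE : Dk B A m)
    (hex : ∃ c₀ ∈ A, c₀ ^ m ≠ 1) : NoTor A m ∧ ∀ a ∈ A, ∃ c ∈ A, c ^ m = a := by
  have hdiv : ∀ c ∈ A, c ^ m ≠ 1 → ∃ d ∈ A, d ^ m = c := by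
    intro c hc hcm
    have hc1 : c ≠ 1 := by rintro rfl; exact hcm (one_pow m)
    obtain ⟨b, hb⟩ := h.exists_right hc hc1
    have hbm : b ^ m ≠ 1 := fun h1 => hcm ((h.pow_eq_one_iff hb m).mpr h1)
    obtain ⟨d, hd⟩ := h.exists_left (B.pow_mem hb.2.1 m) hbm
    exact ⟨d, hd.1, hD c d b hb hd⟩
  have hsq : ∀ p ∈ A, p ^ m ≠ 1 → (p ^ m) ^ m ≠ 1 := by
    intro p hp hpm
    have hp1 : p ≠ 1 := by rintro rfl; exact hpm (one_pow m)
    obtain ⟨b, hb⟩ := h.exists_right hp hp1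
    obtain ⟨b', hb'⟩ := h.exists_right (A.pow_mem hp m) hpm
    have e : b' ^ m = b := hE b b' p hb.swap hb'.swap
    intro h1
    have := (h.pow_eq_one_iff hb' m).mp h1
    rw [e] at this
    exact hb.2.2.2.1 this
  have hnt : NoTor A m := by
    intro e he hem
    by_contra he1
    obtain ⟨c₀, hc₀, hc₀m⟩ := hex
    have hce : (c₀ * e) ^ m ≠ 1 := by
      have hC : Commute c₀ e := h.commA c₀ hc₀ e he
      rw [hC.mul_pow, hem, mul_one]; exact hc₀m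
    obtain ⟨d, hd, hdm⟩ := hdiv c₀ hc₀ hc₀m
    obtain ⟨d', hd', hd'm⟩ := hdiv (c₀ * e) (A.mul_mem hc₀ he) hce
    have hf : (d' * d⁻¹) ^ m = e := by
      have hC : Commute d' d⁻¹ := by
        have : Commute d' d := h.commA d' hd' d hd
        exact this.inv_right
      rw [hC.mul_pow, inv_pow, hd'm, hdm]
      have hC2 : c₀ * e = e * c₀ := h.commA c₀ hc₀ e he
      rw [hC2]; group
    have hfm : (d' * d⁻¹) ^ m ≠ 1 := by rw [hf]; exact he1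
    have := hsq _ (A.mul_mem hd' (A.inv_mem hd)) hfm
    rw [hf] at this
    exact this hem
  refine ⟨hnt, ?_⟩
  intro a ha
  by_cases ha1 : a = 1
  · exact ⟨1, A.one_mem, by rw [ha1, one_pow]⟩
  · exact hdiv a ha (fun h1 => ha1 (hnt a ha h1))

/-- Timmesfeld I (2.2): in a special rank one group with abelian unipotent subgroups, `A` is
elementary abelian or torsion-free divisible. -/
theorem special_aus_structure {A B : Subgroup X} (hs : IsSpecialRankOnePair A B)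
    (hab : HasAbelianUnipotents A B) :
    (∃ p : ℕ, p.Prime ∧ IsElementaryAbelian p A) ∨
    ((∀ a ∈ A, a ≠ 1 → ¬ IsOfFinOrder a) ∧ ∀ a ∈ A, ∀ n : ℕ, 0 < n → ∃ c ∈ A, c ^ n = a) := by
  have h : SP A B :=
    ⟨hs.1, isMulCommutative_iff_of_setLike.mp hab.1, isMulCommutative_iff_of_setLike.mp hab.2,
      fun a b hr => hs.2 a hr.1 hr.2.2.1 b hr.2.1 hr.2.2.2.1 hr.2.2.2.2⟩
  have core : ∀ j : ℕ, 1 ≤ j → (∀ i, 2 ≤ i → i ≤ j → ∃ a ∈ A, a ^ i ≠ 1) →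
      NoTor A j ∧ ∀ a ∈ A, ∃ c ∈ A, c ^ j = a := by
    intro j
    induction j using Nat.strong_induction_on with
    | _ j ih =>
      intro hj hQ
      have hT : ∀ i, 1 ≤ i → i < j → NoTor A i ∧ NoTor B i := by
        intro i hi hij
        have := (ih i hij hi (fun i' h1 h2 => hQ i' h1 (by omega))).1
        exact ⟨this, h.noTor_B this⟩
      have hD := SP.D_all j hj A B h hT
      have hE := SP.D_all j hj B A h.symm (fun i hi hij => (hT i hi hij).symm)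
      by_cases hj1 : j = 1
      · subst hj1
        exact ⟨fun x _ hx => by simpa using hx, fun a ha => ⟨a, ha, pow_one a⟩⟩
      · exact h.dich hD hE (hQ j (by omega) le_rfl)
  by_cases hex : ∃ m, 2 ≤ m ∧ ∀ a ∈ A, a ^ m = 1
  · left
    classical
    have hm := Nat.find_spec hex
    have hmin : ∀ i, i < Nat.find hex → ¬ (2 ≤ i ∧ ∀ a ∈ A, a ^ i = 1) :=
      fun i hi => Nat.find_min hex hi
    have hQ : ∀ i, 2 ≤ i → i < Nat.find hex → ∃ a ∈ A, a ^ i ≠ 1 := by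
      intro i h2 hi
      by_contra hcon
      push Not at hcon
      exact hmin i hi ⟨h2, hcon⟩
    refine ⟨Nat.find hex, ?_, hab.1, hm.2⟩
    by_contra hnp
    have hlt : (Nat.find hex).minFac < Nat.find hex :=
      (Nat.not_prime_iff_minFac_lt hm.1).mp hnp
    have hpp : (Nat.find hex).minFac.Prime := Nat.minFac_prime (by omega)
    obtain ⟨l, hl⟩ := Nat.minFac_dvd (Nat.find hex)
    have hl2 : 2 ≤ l := by
      by_contra hcon
      have : l = 0 ∨ l = 1 := by omega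
      rcases this with rfl | rfl
      · rw [mul_zero] at hl; omega
      · rw [mul_one] at hl; omega
    have hll : l < Nat.find hex := by
      have := hpp.two_le
      nlinarith
    have hNT := (core (Nat.find hex).minFac (by have := hpp.two_le; omega)
      (fun i h1 h2 => hQ i h1 (by omega))).1
    apply hmin l hll
    refine ⟨hl2, fun a ha => hNT (a ^ l) (A.pow_mem ha l) ?_⟩
    rw [← pow_mul, mul_comm, ← hl]
    exact hm.2 a ha
  · right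
    push Not at hex
    have hall : ∀ j, 1 ≤ j → NoTor A j ∧ ∀ a ∈ A, ∃ c ∈ A, c ^ j = a :=
      fun j hj => core j hj (fun i h1 _ => hex i h1)
    refine ⟨?_, fun a ha n hn => (hall n hn).2 a ha⟩
    intro a ha ha1 hfin
    obtain ⟨n, hn, hn1⟩ := isOfFinOrder_iff_pow_eq_one.mp hfin
    exact ha1 ((hall n hn).1 a ha hn1)

end Cfsg.Agent.Lib.helper85
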