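import Mathlib
import Cfsg.Prelude.Def_RootSubgroups
import Cfsg.Agent.Lib.helper85.SpecialRankOne
import Cfsg.Agent.Lib.helper85.RootSub8

set_option autoImplicit false

namespace Cfsg.Agent.Lib.helper85

open Cfsg
open scoped commutatorElement

variable {G : Type*} [Group G]

/-- If `x ≡ a` and `y ≡ a'` modulo the normal subgroup `N` and `a`, `a'` commute, then
`[x, y] ∈ N`. -/
theorem comm_mem_normal {N : Subgroup G} (hN : N.Normal) {x y a a' : G} (hx : x * a⁻¹ ∈ N)
    (hy : y * a'⁻¹ ∈ N) (hc : a * a' = a' * a) : x * y * x⁻¹ * y⁻¹ ∈ N := by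
  have e : x * y * x⁻¹ * y⁻¹ = (x * a⁻¹) * (a * (y * a'⁻¹) * a⁻¹) * (a * a' * a⁻¹ * a'⁻¹) *
      (a' * (x * a⁻¹)⁻¹ * a'⁻¹) * (y * a'⁻¹)⁻¹ := by group
  have e1 : a * a' * a⁻¹ * a'⁻¹ = 1 := by rw [hc]; group
  rw [e, e1, mul_one]
  exact N.mul_mem (N.mul_mem (N.mul_mem hx (hN.conj_mem _ hy a))
    (hN.conj_mem _ (N.inv_mem hx) a')) (N.inv_mem hy)

theorem conj_mod {N : Subgroup G} (hN : N.Normal) {A : Subgroup G} {m : G} (hm : m ∈ N) {x : G}
    (hx : x ∈ conjBy A m) : ∃ a ∈ A, x * a⁻¹ ∈ N := by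
  refine ⟨m⁻¹ * x * m, mem_conjBy.mp hx, ?_⟩
  have : x * (m⁻¹ * x * m)⁻¹ = (x * m⁻¹ * x⁻¹) * m := by group
  rw [this]
  exact N.mul_mem (hN.conj_mem _ (N.inv_mem hm) x) hm

section SPker
variable {A B : Subgroup G} {H : Type*} [Group H]

theorem SP.map_inv_of_comm (h : SP A B) (φ : G →* H)
    (hcomm : ∀ x ∈ A ⊔ B, ∀ y ∈ A ⊔ B, φ x * φ y = φ y * φ x) {a b : G} (hr : RR A B a b) :
    φ b = (φ a)⁻¹ := by
  have e := h.n_conj_a hr
  have hn := h.n_mem hr
  have := congrArg φ e
  rw [map_mul, map_mul, map_inv, map_inv, hcomm _ hn _ (Subgroup.mem_sup_left hr.1),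
    mul_inv_cancel_right] at this
  rw [this, inv_inv]

theorem SP.sq_mul_of_comm (h : SP A B) (φ : G →* H)
    (hcomm : ∀ x ∈ A ⊔ B, ∀ y ∈ A ⊔ B, φ x * φ y = φ y * φ x) {y c : G} (hy : y ∈ A)
    (hc : c ∈ A) (hy1 : y ≠ 1) (hc1 : c ≠ 1) (hyc : y * c ≠ 1) : φ y * φ y * φ c = 1 := by
  obtain ⟨b, hb⟩ := h.exists_right hc hc1
  obtain ⟨b₁, hb₁⟩ := h.exists_right hy hy1
  obtain ⟨b₂, hb₂⟩ := h.exists_right (A.mul_mem hy hc) hyc
  have hH := h.hua hb hb₁ hb₂ (n := c * b⁻¹ * c) rfl
  have e0 := h.map_inv_of_comm φ hcomm hb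
  have e1 := h.map_inv_of_comm φ hcomm hb₁
  have e2 := h.map_inv_of_comm φ hcomm hb₂
  have e3 := h.map_inv_of_comm φ hcomm hH
  have hn := h.n_mem hb
  have e4 : φ (c * b⁻¹ * c * b₂ * (c * b⁻¹ * c)⁻¹ * c) = φ b₂ * φ c := by
    rw [map_mul, map_mul, map_mul, map_inv, hcomm _ hn _ (Subgroup.mem_sup_right hb₂.2.1),
      mul_inv_cancel_right]
  rw [e4, map_mul, e1, e0, e2, map_mul] at e3
  have hyc' : φ y * φ c = φ c * φ y :=
    hcomm _ (Subgroup.mem_sup_left hy) _ (Subgroup.mem_sup_left hc)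
  generalize φ y = u at e3 hyc' ⊢
  generalize φ c = v at e3 hyc' ⊢
  have e5 : ((u * v)⁻¹ * v)⁻¹ = u := by rw [hyc']; group
  rw [e5] at e3
  calc u * u * v = u * (u⁻¹ * v⁻¹) * v := by rw [e3]
    _ = 1 := by group

theorem SP.le_ker_of_comm (h : SP A B) (hcard : 3 < ENat.card A) (φ : G →* H)
    (hcomm : ∀ x ∈ A ⊔ B, ∀ y ∈ A ⊔ B, φ x * φ y = φ y * φ x) : ∀ a ∈ A, φ a = 1 := by
  intro c hc
  by_cases hc1 : c = 1
  · rw [hc1, map_one]
  obtain ⟨y, hy, hy1, hyc, hyci⟩ : ∃ y ∈ A, y ≠ 1 ∧ y ≠ c ∧ y ≠ c⁻¹ := by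
    by_contra hcon
    push Not at hcon
    have hsub : (A : Set G) ⊆ {1, c, c⁻¹} := by
      intro y hy
      by_cases h1 : y = 1
      · simp [h1]
      by_cases h2 : y = c
      · simp [h2]
      simp [hcon y hy h1 h2]
    have hle : ENat.card A ≤ 3 := by
      have e : ENat.card A = (A : Set G).encard := rfl
      rw [e]
      calc (A : Set G).encard ≤ ({1, c, c⁻¹} : Set G).encard := Set.encard_le_encard hsub
        _ ≤ ({c, c⁻¹} : Set G).encard + 1 := Set.encard_insert_le _ _
        _ ≤ (({c⁻¹} : Set G).encard + 1) + 1 := by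
            gcongr
            exact Set.encard_insert_le _ _
        _ = 3 := by rw [Set.encard_singleton]; norm_num
    exact absurd hcard (not_lt.mpr hle)
  have hcinv1 : c⁻¹ ≠ 1 := inv_ne_one.mpr hc1
  have p1 := h.sq_mul_of_comm φ hcomm hy hc hy1 hc1
    (fun e => hyci (eq_inv_of_mul_eq_one_left e))
  have p2 := h.sq_mul_of_comm φ hcomm hc hy hc1 hy1
    (fun e => hyci (eq_inv_of_mul_eq_one_right e))
  have p3 := h.sq_mul_of_comm φ hcomm hy (A.inv_mem hc) hy1 hcinv1
    (fun e => hyc (mul_inv_eq_one.mp e))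
  rw [map_inv] at p3
  generalize φ y = u at p1 p2 p3
  generalize φ c = v at p1 p2 p3 ⊢
  have a1 : v = (u * u)⁻¹ := eq_inv_of_mul_eq_one_right p1
  have a2 : v⁻¹ = (u * u)⁻¹ := eq_inv_of_mul_eq_one_right p3
  have hv : v = v⁻¹ := by rw [a2]; exact a1
  have hvv : v * v = 1 := by
    nth_rewrite 2 [hv]
    exact mul_inv_cancel v
  rw [hvv, one_mul] at p2
  rw [p2, one_mul, one_mul] at p1
  exact p1

end SPker


section Main
variable {S : Set (Subgroup G)}

theorem sp_of_special (hS : IsRootSubgroupSet S) {A B : Subgroup G} (hA : A ∈ S) (hB : B ∈ S)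
    (hsp : IsSpecialRankOnePair A B) : SP A B :=
  ⟨hsp.1, isMulCommutative_iff_of_setLike.mp (hS.commutative A hA),
    isMulCommutative_iff_of_setLike.mp (hS.commutative B hB),
    fun a b hr => hsp.2 a hr.1 hr.2.2.1 b hr.2.1 hr.2.2.2.1 hr.2.2.2.2⟩

theorem exists_partner_of_conn (h2 : ∃ A ∈ S, ∃ B ∈ S, A ≠ B)
    (h1 : IsConnectedFamily (FAdj S) S) {A : Subgroup G} (hA : A ∈ S) :
    ∃ B ∈ S, IsRankOnePair A B := by
  obtain ⟨A₀, hA₀, B₀, hB₀, hne⟩ := h2
  obtain ⟨C, hC, hCA⟩ : ∃ C ∈ S, C ≠ A := by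
    by_cases h : A₀ = A
    · exact ⟨B₀, hB₀, fun hh => hne (h.trans hh.symm)⟩
    · exact ⟨A₀, hA₀, h⟩
  rcases (h1 A hA C hC).cases_head with h | ⟨c, hc, -⟩
  · exact absurd h.symm hCA
  · exact ⟨c, hc.2.1, hc.2.2⟩

/-- Under the hypotheses of the quasisimplicity criterion, `G` is perfect. -/
theorem perfect_of_hyps (hS : IsRootSubgroupSet S) (h2 : ∃ A ∈ S, ∃ B ∈ S, A ≠ B)
    (h1 : IsConnectedFamily (FAdj S) S)
    (h3 : IsDegenerateRootSet S → ∀ A ∈ S, 3 < ENat.card A)
    (h4 : ∀ A ∈ S, ∀ B ∈ rankOnePartners S A, IsSpecialRankOnePair A B) :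
    commutator G = ⊤ := by
  have key : ∀ A ∈ S, A ≤ commutator G := by
    by_cases hdeg : IsDegenerateRootSet S
    · intro A hA a ha
      obtain ⟨B, hB, hAB⟩ := exists_partner_of_conn h2 h1 hA
      have hsp := sp_of_special hS hA hB (h4 A hA B ⟨hB, hAB⟩)
      have := hsp.le_ker_of_comm (h3 hdeg A hA) (Abelianization.of : G →* Abelianization G)
        (fun x _ y _ => mul_comm _ _) a ha
      rw [← Abelianization.ker_of]
      exact MonoidHom.mem_ker.mpr this
    · unfold IsDegenerateRootSet at hdeg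
      push Not at hdeg
      obtain ⟨A₀, hA₀, B₀, hB₀, hcc⟩ := hdeg
      intro A hA a ha
      obtain ⟨g, hg⟩ := conj_of_reach (h1 _ hcc.1 A hA)
      rw [hg, mem_conjBy] at ha
      have h1' : g⁻¹ * a * g ∈ commutator G := by
        rw [commutator_def]
        exact Subgroup.commutator_mono le_top le_top ha
      have : a = g * (g⁻¹ * a * g) * g⁻¹ := by group
      rw [this]
      exact (inferInstance : (commutator G).Normal).conj_mem _ h1' g
  rw [eq_top_iff, ← hS.generates]
  exact iSup₂_le key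

/-- Under the hypotheses of the quasisimplicity criterion, every normal subgroup of `G` is
central or everything. -/
theorem normal_dichotomy_of_hyps (hS : IsRootSubgroupSet S) (h2 : ∃ A ∈ S, ∃ B ∈ S, A ≠ B)
    (h1 : IsConnectedFamily (FAdj S) S)
    (h2' : ∀ A ∈ S, ∀ C ∈ S, A ≠ C → centralizingMembers S A ≠ centralizingMembers S C)
    (h3 : IsDegenerateRootSet S → ∀ A ∈ S, 3 < ENat.card A)
    (h4 : ∀ A ∈ S, ∀ B ∈ rankOnePartners S A, IsSpecialRankOnePair A B)
    (N : Subgroup G) (hN : N.Normal) : N ≤ Subgroup.center G ∨ N = ⊤ := by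
  have hperf := perfect_of_hyps hS h2 h1 h3 h4
  have hcommS : ∀ A ∈ S, ∀ x ∈ A, ∀ y ∈ A, x * y = y * x :=
    fun A hA => isMulCommutative_iff_of_setLike.mp (hS.commutative A hA)
  have hdich : ∀ A ∈ S, ∀ B ∈ S, IsRankOnePair A B →
      (∃ m ∈ N, B = conjBy A m) ∨
        N ⊓ (A ⊔ B) ≤ Subgroup.centralizer ((A ⊔ B : Subgroup G) : Set G) := by
    intro A hA B hB hAB
    have hnorm : ∀ x ∈ A ⊔ B, ∀ n ∈ N ⊓ (A ⊔ B), x * n * x⁻¹ ∈ N ⊓ (A ⊔ B) := by
      intro x hx n hn
      rw [Subgroup.mem_inf] at hn ⊢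
      exact ⟨hN.conj_mem n hn.1 x, mul_mem (mul_mem hx hn.2) (inv_mem hx)⟩
    rcases rop_normal_dichotomy hAB inf_le_right hnorm with ⟨m, hm, hBm⟩ | hc
    · exact Or.inl ⟨m, (Subgroup.mem_inf.mp hm).1, hBm⟩
    · exact Or.inr hc
  have hnocent : ∀ D ∈ S, ∀ C ∈ S, IsRankOnePair D C →
      N ⊓ (D ⊔ C) ≤ Subgroup.centralizer ((D ⊔ C : Subgroup G) : Set G) →
      (∀ d ∈ D, ∀ c ∈ C, d * c * d⁻¹ * c⁻¹ ∈ N) → False := by
    intro D hD C hC hDC hK hcomm
    obtain ⟨d, hd, hd1⟩ := rop_exists_ne_one hDC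
    obtain ⟨c, hc, hc1, hR⟩ := hDC.cond_left d hd hd1
    have hz : ⁅c, d⁆ ∈ N ⊓ (D ⊔ C) := by
      rw [Subgroup.mem_inf]
      constructor
      · have := N.inv_mem (hcomm d hd c hc)
        have e : ⁅c, d⁆ = (d * c * d⁻¹ * c⁻¹)⁻¹ := by rw [commutatorElement_def]; group
        rw [e]; exact this
      · rw [commutatorElement_def]
        exact mul_mem (mul_mem (mul_mem (Subgroup.mem_sup_right hc) (Subgroup.mem_sup_left hd))
          (inv_mem (Subgroup.mem_sup_right hc))) (inv_mem (Subgroup.mem_sup_left hd))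
    have hz' := hK hz
    rw [Subgroup.mem_centralizer_iff] at hz'
    exact rop_no_central_commutator hDC (hS.commutative D hD) hd hc hc1 hR
      (hz' d (Subgroup.mem_sup_left hd)).symm (hz' c (Subgroup.mem_sup_right hc)).symm
  by_cases hI : ∃ A ∈ S, ∃ a ∈ A, a ≠ 1 ∧ a ∈ N
  · right
    obtain ⟨A, hA, a, ha, ha1, haN⟩ := hI
    have hall : ∀ C ∈ S, ∃ c ∈ C, c ≠ 1 ∧ c ∈ N := by
      intro C hC
      obtain ⟨g, rfl⟩ := conj_of_reach (h1 A hA C hC)
      refine ⟨g * a * g⁻¹, conj_mem_conjBy ha, ?_, hN.conj_mem a haN g⟩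
      intro h
      apply ha1
      calc a = g⁻¹ * (g * a * g⁻¹) * g := by group
        _ = 1 := by rw [h]; group
    have hcol : ∀ C ∈ S, ∀ D ∈ S, IsRankOnePair C D → D ≤ N ⊔ C := by
      intro C hC D hD hCD
      obtain ⟨c, hc, hc1, hcN⟩ := hall C hC
      rcases hdich C hC D hD hCD with ⟨m, hm, hDm⟩ | hK
      · intro d hd
        rw [hDm] at hd
        obtain ⟨c', hc', hdc⟩ := conj_mod hN hm hd
        have : d = (d * c'⁻¹) * c' := by group
        rw [this]
        exact mul_mem (Subgroup.mem_sup_left hdc) (Subgroup.mem_sup_right hc')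
      · exfalso
        have hcK : c ∈ N ⊓ (C ⊔ D) := Subgroup.mem_inf.mpr ⟨hcN, Subgroup.mem_sup_left hc⟩
        have hcz := hK hcK
        rw [Subgroup.mem_centralizer_iff] at hcz
        exact hc1 (rop_eq_one_of_mem_normalizer hCD hc
          (mem_normalizer_of_forall_comm (fun d hd => (hcz d (Subgroup.mem_sup_right hd)).symm)))
    have hreach : ∀ C, Relation.ReflTransGen (FAdj S) A C → N ⊔ C = N ⊔ A := by
      intro C hr
      induction hr with
      | refl => rfl
      | tail _ hstep ih =>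
        rw [← ih]
        apply le_antisymm
        · exact sup_le le_sup_left (hcol _ hstep.1 _ hstep.2.1 hstep.2.2)
        · exact sup_le le_sup_left (hcol _ hstep.2.1 _ hstep.1 (RankOnePair_symm hstep.2.2))
    have htop : N ⊔ A = ⊤ := by
      rw [eq_top_iff, ← hS.generates]
      apply iSup₂_le
      intro C hC
      rw [← hreach C (h1 A hA C hC)]
      exact le_sup_right
    have hcomm : commutator G ≤ N := by
      rw [commutator_def, Subgroup.commutator_le]
      intro x _ y _
      have hmem : ∀ z : G, ∃ a ∈ A, z * a⁻¹ ∈ N := by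
        intro z
        have hz : z ∈ N ⊔ A := by rw [htop]; trivial
        have := hN
        have hz' : z ∈ ((N ⊔ A : Subgroup G) : Set G) := hz
        rw [Subgroup.normal_mul] at hz'
        obtain ⟨ν, hν, a, ha, rfl⟩ := hz'
        exact ⟨a, ha, by simpa using hν⟩
      obtain ⟨a, ha, hxa⟩ := hmem x
      obtain ⟨a', ha', hya⟩ := hmem y
      rw [commutatorElement_def]
      exact comm_mem_normal hN hxa hya (hcommS A hA a ha a' ha')
    rw [hperf] at hcomm
    exact top_le_iff.mp hcomm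
  · push Not at hI
    have hII : ∀ A ∈ S, ∀ a ∈ A, a ∈ N → a = 1 := by
      intro A hA a ha haN
      by_contra h
      exact hI A hA a ha h haN
    have hnotle : ∀ D ∈ S, ¬ D ≤ N := by
      intro D hD hle
      obtain ⟨d, hd, hd1⟩ := exists_ne_one_of_ne_bot (hS.ne_bot D hD)
      exact hd1 (hII D hD d hd (hle hd))
    have hnocol : ∀ A ∈ S, ∀ B ∈ S, IsRankOnePair A B → ∀ m ∈ N, B ≠ conjBy A m := by
      intro A hA B hB hAB m hm hBm
      have hBmod : ∀ b ∈ B, ∃ a ∈ A, b * a⁻¹ ∈ N := by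
        intro b hb
        rw [hBm] at hb
        exact conj_mod hN hm hb
      obtain ⟨a₀, ha₀, ha₀1⟩ := rop_exists_ne_one hAB
      by_cases hdeg : IsDegenerateRootSet S
      · have hsp := sp_of_special hS hA hB (h4 A hA B ⟨hB, hAB⟩)
        have hmod : ∀ x ∈ A ⊔ B, ∃ a ∈ A, x * a⁻¹ ∈ N := by
          intro x hx
          refine sup_induction (P := fun x => ∃ a ∈ A, x * a⁻¹ ∈ N) ?_ ?_ ?_ ?_ hx
          · intro a ha
            exact ⟨a, ha, by rw [mul_inv_cancel]; exact N.one_mem⟩
          · exact hBmod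
          · exact ⟨1, A.one_mem, by simp⟩
          · rintro x y ⟨a, ha, hxa⟩ ⟨a', ha', hya⟩
            refine ⟨a * a', A.mul_mem ha ha', ?_⟩
            have : x * y * (a * a')⁻¹ = (x * a⁻¹) * (a * (y * a'⁻¹) * a⁻¹) := by group
            rw [this]
            exact N.mul_mem hxa (hN.conj_mem _ hya a)
        have := hN
        have hker := hsp.le_ker_of_comm (h3 hdeg A hA) (QuotientGroup.mk' N) (by
          intro x hx y hy
          obtain ⟨a, ha, hxa⟩ := hmod x hx
          obtain ⟨a', ha', hya⟩ := hmod y hy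
          have := comm_mem_normal hN hxa hya (hcommS A hA a ha a' ha')
          have e : (QuotientGroup.mk' N) (x * y * x⁻¹ * y⁻¹) = 1 :=
            (QuotientGroup.eq_one_iff _).mpr this
          rw [map_mul, map_mul, map_mul, map_inv, map_inv, mul_inv_eq_one,
            mul_inv_eq_iff_eq_mul] at e
          exact e)
        exact ha₀1 (hII A hA a₀ ha₀ ((QuotientGroup.eq_one_iff a₀).mp (hker a₀ ha₀)))
      · unfold IsDegenerateRootSet at hdeg
        push Not at hdeg
        obtain ⟨E₀, hE₀, F₀, hF₀, hcc₀⟩ := hdeg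
        obtain ⟨g, hg⟩ := conj_of_reach (h1 _ hcc₀.1 A hA)
        have hE : conjBy E₀ g ∈ S := hS.conj_mem _ hE₀ g
        have hF : conjBy F₀ g ∈ S := hS.conj_mem _ hF₀ g
        have hEF : ⁅conjBy E₀ g, conjBy F₀ g⁆ = A := by
          rw [hg]; exact (Subgroup.map_commutator E₀ F₀ _).symm
        obtain ⟨E, hEdef⟩ : ∃ E, E = conjBy E₀ g := ⟨_, rfl⟩
        obtain ⟨F, hFdef⟩ : ∃ F, F = conjBy F₀ g := ⟨_, rfl⟩
        rw [← hEdef] at hE
        rw [← hFdef] at hF
        rw [← hEdef, ← hFdef] at hEF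
        have hcc : RootCommutatorCase S E F :=
          comm_case_of_mem hS hE hF (by rw [hEF]; exact hA)
        have hAE : ∀ a ∈ A, ∀ e ∈ E, a * e = e * a :=
          fun a ha e he => cc_comm_left hcc he (by rw [hEF]; exact ha)
        have hAF : ∀ a ∈ A, ∀ f ∈ F, a * f = f * a :=
          fun a ha f hf => cc_comm_right hcc hf (by rw [hEF]; exact ha)
        have hEno : (∀ e ∈ E, ∃ a ∈ A, e * a⁻¹ ∈ N) → False := by
          intro hmod
          apply hnotle A hA
          rw [← hEF, Subgroup.commutator_le]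
          intro e he f hf
          obtain ⟨a, ha, hea⟩ := hmod e he
          rw [commutatorElement_def]
          exact comm_mem_normal hN hea (by rw [mul_inv_cancel]; exact N.one_mem) (hAF a ha f hf)
        have hFno : (∀ f ∈ F, ∃ a ∈ A, f * a⁻¹ ∈ N) → False := by
          intro hmod
          apply hnotle A hA
          rw [← hEF, Subgroup.commutator_le]
          intro e he f hf
          obtain ⟨a, ha, hfa⟩ := hmod f hf
          rw [commutatorElement_def]
          exact comm_mem_normal hN (by rw [mul_inv_cancel]; exact N.one_mem) hfa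
            (hAE a ha e he).symm
        have hBcomm : ∀ E' ∈ S, (∀ a ∈ A, ∀ e ∈ E', a * e = e * a) →
            ((∀ e ∈ E', ∃ a ∈ A, e * a⁻¹ ∈ N) → False) →
            ∀ b ∈ B, ∀ e ∈ E', b * e = e * b := by
          intro E' hE' hAE' hno
          have hcommN : ∀ b ∈ B, ∀ e ∈ E', b * e * b⁻¹ * e⁻¹ ∈ N := by
            intro b hb e he
            obtain ⟨a, ha, hba⟩ := hBmod b hb
            exact comm_mem_normal hN hba (by rw [mul_inv_cancel]; exact N.one_mem)
              (hAE' a ha e he)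
          rcases hS.pair B hB E' hE' with h | h | h
          · intro b hb e he
            exact mul_comm_of_commutator_eq_bot h hb he
          · exfalso
            rcases hdich B hB E' hE' h with ⟨m', hm', hE'm⟩ | hK
            · apply hno
              intro e he
              rw [hE'm] at he
              obtain ⟨b, hb, heb⟩ := conj_mod hN hm' he
              obtain ⟨a, ha, hba⟩ := hBmod b hb
              refine ⟨a, ha, ?_⟩
              have : e * a⁻¹ = (e * b⁻¹) * (b * a⁻¹) := by group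
              rw [this]
              exact N.mul_mem heb hba
            · exact hnocent B hB E' hE' h hK hcommN
          · exfalso
            apply hnotle _ h.1
            rw [Subgroup.commutator_le]
            intro b hb e he
            rw [commutatorElement_def]
            exact hcommN b hb e he
        have hBE := hBcomm E hE hAE hEno
        have hBF := hBcomm F hF hAF hFno
        have hle : ⁅E, F⁆ ≤ Subgroup.centralizer (B : Set G) := by
          rw [Subgroup.commutator_le]
          intro e he f hf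
          have heB : e ∈ Subgroup.centralizer (B : Set G) := by
            rw [Subgroup.mem_centralizer_iff]
            intro b hb
            exact hBE b hb e he
          have hfB : f ∈ Subgroup.centralizer (B : Set G) := by
            rw [Subgroup.mem_centralizer_iff]
            intro b hb
            exact hBF b hb f hf
          rw [commutatorElement_def]
          exact mul_mem (mul_mem (mul_mem heB hfB) (inv_mem heB)) (inv_mem hfB)
        rw [hEF] at hle
        have ha₀c := hle ha₀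
        rw [Subgroup.mem_centralizer_iff] at ha₀c
        exact ha₀1 (rop_eq_one_of_mem_normalizer hAB ha₀
          (mem_normalizer_of_forall_comm (fun b hb => (ha₀c b hb).symm)))
    by_cases hmove : ∃ A ∈ S, ∃ n ∈ N, conjBy A n ≠ A
    · exfalso
      obtain ⟨A, hA, n, hn, hCA⟩ := hmove
      have hC : conjBy A n ∈ S := hS.conj_mem A hA n
      obtain ⟨C, hCdef⟩ : ∃ C, C = conjBy A n := ⟨_, rfl⟩
      rw [← hCdef] at hC hCA
      have hCmod : ∀ c ∈ C, ∃ a ∈ A, c * a⁻¹ ∈ N := by
        intro c hc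
        rw [hCdef] at hc
        exact conj_mod hN hn hc
      have hAeq : A = conjBy C n⁻¹ := by
        rw [hCdef, conjBy_conjBy]; simp [conjBy_one]
      have hAmod : ∀ a ∈ A, ∃ c ∈ C, a * c⁻¹ ∈ N := by
        intro a ha
        rw [hAeq] at ha
        exact conj_mod hN (N.inv_mem hn) ha
      have gen : ∀ A₁ ∈ S, ∀ C₁ ∈ S, (∀ c ∈ C₁, ∃ a ∈ A₁, c * a⁻¹ ∈ N) → ∀ D ∈ S,
          D ≤ Subgroup.centralizer (A₁ : Set G) → D ≤ Subgroup.centralizer (C₁ : Set G) := by
        intro A₁ hA₁ C₁ hC₁ hmod D hD hDA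
        have hda : ∀ d ∈ D, ∀ a ∈ A₁, d * a = a * d := by
          intro d hd a ha
          have := hDA hd
          rw [Subgroup.mem_centralizer_iff] at this
          exact (this a ha).symm
        have hcommN : ∀ d ∈ D, ∀ c ∈ C₁, d * c * d⁻¹ * c⁻¹ ∈ N := by
          intro d hd c hc
          obtain ⟨a, ha, hca⟩ := hmod c hc
          exact comm_mem_normal hN (by rw [mul_inv_cancel]; exact N.one_mem) hca (hda d hd a ha)
        rcases hS.pair D hD C₁ hC₁ with h | h | h
        · exact Subgroup.commutator_eq_bot_iff_le_centralizer.mp h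
        · exfalso
          rcases hdich D hD C₁ hC₁ h with ⟨m, hm, hCm⟩ | hK
          · exact hnocol D hD C₁ hC₁ h m hm hCm
          · exact hnocent D hD C₁ hC₁ h hK hcommN
        · exfalso
          apply hnotle _ h.1
          rw [Subgroup.commutator_le]
          intro d hd c hc
          rw [commutatorElement_def]
          exact hcommN d hd c hc
      apply h2' A hA C hC (Ne.symm hCA)
      ext D
      constructor
      · rintro ⟨hD, hDA⟩
        exact ⟨hD, gen A hA C hC hCmod D hD hDA⟩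
      · rintro ⟨hD, hDC⟩
        exact ⟨hD, gen C hC A hA hAmod D hD hDC⟩
    · left
      push Not at hmove
      have hcent : ∀ A ∈ S, A ≤ Subgroup.centralizer (N : Set G) := by
        intro A hA a ha
        rw [Subgroup.mem_centralizer_iff]
        intro n hn
        have h1' : n * a * n⁻¹ ∈ conjBy A n := conj_mem_conjBy ha
        rw [hmove A hA n hn] at h1'
        have h2'' : n * a * n⁻¹ * a⁻¹ ∈ N := by
          have : n * a * n⁻¹ * a⁻¹ = n * (a * n⁻¹ * a⁻¹) := by group
          rw [this]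
          exact N.mul_mem hn (hN.conj_mem _ (N.inv_mem hn) a)
        have h3' := hII A hA _ (A.mul_mem h1' (A.inv_mem ha)) h2''
        calc n * a = (n * a * n⁻¹ * a⁻¹) * (a * n) := by group
          _ = a * n := by rw [h3', one_mul]
      have htop : (⊤ : Subgroup G) ≤ Subgroup.centralizer (N : Set G) := by
        rw [← hS.generates]
        exact iSup₂_le hcent
      intro n hn
      rw [Subgroup.mem_center_iff]
      intro g
      have := htop (Subgroup.mem_top g)
      rw [Subgroup.mem_centralizer_iff] at this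
      exact (this n hn).symm

end Main

/-- A nontrivial perfect group all of whose normal subgroups are central or everything is
quasisimple. -/
theorem isQuasisimple_of_normal_dichotomy {H : Type*} [Group H] (hperf : commutator H = ⊤)
    (hnt : Nontrivial H) (hN : ∀ N : Subgroup H, N.Normal → N ≤ Subgroup.center H ∨ N = ⊤) :
    IsQuasisimple H := by
  have hP : Group.IsPerfect H := Group.isPerfect_def.mpr hperf
  refine ⟨hP, ?_⟩
  have hZ : Subgroup.center H ≠ ⊤ := by
    intro h
    have hbot := (commutator_eq_bot_iff_center_eq_top H).mpr h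
    rw [hperf] at hbot
    obtain ⟨x, y, hxy⟩ := hnt
    have hx : x ∈ (⊤ : Subgroup H) := Subgroup.mem_top x
    have hy : y ∈ (⊤ : Subgroup H) := Subgroup.mem_top y
    rw [hbot, Subgroup.mem_bot] at hx hy
    exact hxy (hx.trans hy.symm)
  have : Nontrivial (H ⧸ Subgroup.center H) := by
    obtain ⟨x, hx⟩ : ∃ x : H, x ∉ Subgroup.center H := by
      by_contra hcon
      push Not at hcon
      exact hZ (eq_top_iff.mpr (fun x _ => hcon x))
    exact ⟨⟨(x : H ⧸ Subgroup.center H), 1, fun h => hx ((QuotientGroup.eq_one_iff x).mp h)⟩⟩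
  constructor
  intro M hM
  have hcomap : (M.comap (QuotientGroup.mk' (Subgroup.center H))).Normal := hM.comap _
  rcases hN _ hcomap with h | h
  · left
    rw [eq_bot_iff]
    intro q hq
    obtain ⟨x, rfl⟩ := QuotientGroup.mk'_surjective (Subgroup.center H) q
    have hx : x ∈ M.comap (QuotientGroup.mk' (Subgroup.center H)) := hq
    rw [Subgroup.mem_bot]
    exact (QuotientGroup.eq_one_iff x).mpr (h hx)
  · right
    rw [eq_top_iff]
    intro q _
    obtain ⟨x, rfl⟩ := QuotientGroup.mk'_surjective (Subgroup.center H) q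
    have hx : x ∈ M.comap (QuotientGroup.mk' (Subgroup.center H)) := by rw [h]; trivial
    exact hx

/-- Transport of the hypotheses of `isQuasisimple_of_normal_dichotomy` along an isomorphism. -/
theorem isQuasisimple_of_equiv_dichotomy {H H' : Type*} [Group H] [Group H'] (e : H ≃* H')
    (hperf : commutator H' = ⊤) (hnt : Nontrivial H')
    (hN : ∀ N : Subgroup H', N.Normal → N ≤ Subgroup.center H' ∨ N = ⊤) : IsQuasisimple H := by
  apply isQuasisimple_of_normal_dichotomy
  · have : Group.IsPerfect H' := Group.isPerfect_def.mpr hperf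
    have : Group.IsPerfect H := Group.IsPerfect.ofSurjective (f := e.symm.toMonoidHom) e.symm.surjective
    exact Group.isPerfect_def.mp this
  · exact e.toEquiv.nontrivial
  · intro N hNn
    have hmap : (N.map e.toMonoidHom).Normal := hNn.map e.toMonoidHom e.surjective
    rcases hN _ hmap with h | h
    · left
      intro n hn
      rw [Subgroup.mem_center_iff]
      intro x
      have h1 : e n ∈ Subgroup.center H' := h ⟨n, hn, rfl⟩
      rw [Subgroup.mem_center_iff] at h1
      apply e.injective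
      rw [map_mul, map_mul]
      exact h1 (e x)
    · right
      rw [eq_top_iff]
      intro x _
      have h1 : e x ∈ N.map e.toMonoidHom := by rw [h]; trivial
      obtain ⟨n, hn, hne⟩ := h1
      have : n = x := e.injective hne
      rw [← this]; exact hn

section Final
variable {S : Set (Subgroup G)}

/-- The quasisimplicity criterion. -/
theorem quasi_main (hS : IsRootSubgroupSet S) (h2 : ∃ A ∈ S, ∃ B ∈ S, A ≠ B)
    (h1 : IsConnectedFamily (FAdj S) S)
    (h2' : ∀ A ∈ S, ∀ C ∈ S, A ≠ C → centralizingMembers S A ≠ centralizingMembers S C)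
    (h3 : IsDegenerateRootSet S → ∀ A ∈ S, 3 < ENat.card A)
    (h4 : ∀ A ∈ S, ∀ B ∈ rankOnePartners S A, IsSpecialRankOnePair A B) :
    (∀ A ∈ S, commutator G ⊔ A = ⊤ ∧ A ⊓ commutator G ≠ ⊥) ∧
      IsQuasisimple ↥(commutator G) ∧ commutator G = ⊤ := by
  have hperf := perfect_of_hyps hS h2 h1 h3 h4
  refine ⟨?_, ?_, hperf⟩
  · intro A hA
    rw [hperf]
    exact ⟨top_sup_eq _, by rw [inf_top_eq]; exact hS.ne_bot A hA⟩
  · have hnt : Nontrivial G := by
      obtain ⟨A, hA, -⟩ := h2
      obtain ⟨a, -, ha1⟩ := exists_ne_one_of_ne_bot (hS.ne_bot A hA)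
      exact ⟨⟨a, 1, ha1⟩⟩
    have e : ↥(commutator G) ≃* G := (MulEquiv.subgroupCongr hperf).trans Subgroup.topEquiv
    exact isQuasisimple_of_equiv_dichotomy e hperf hnt
      (normal_dichotomy_of_hyps hS h2 h1 h2' h3 h4)

end Final

end Cfsg.Agent.Lib.helper85
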