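import Cfsg.Agent.S3335
import Mathlib

set_option autoImplicit false
open Cfsg Cfsg.Agent.S3335

namespace Cfsg.Agent.Lib.helper70.SM

universe u

/-- local copy of W1 (the Klein four group inside `⟨a, b | a³, b², (ab)³⟩`). -/
theorem h85_a4_comm {G : Type*} [Group G] (a b : G) (ha : a ^ 3 = 1) (hb : b ^ 2 = 1)
    (hab : (a * b) ^ 3 = 1) : b * (a * b * a⁻¹) = (a * b * a⁻¹) * b := by
  obtain ⟨c, hc⟩ : ∃ c : G, c = a * b * a⁻¹ := ⟨_, rfl⟩
  rw [← hc]
  have hbb : b * b = 1 := by rw [← sq, hb]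
  have hcc : c * c = 1 := by
    have : c * c = a * (b * b) * a⁻¹ := by rw [hc]; group
    rw [this, hbb]; group
  -- c d b = 1 with d = a c a⁻¹
  have hcdb : c * (a * c * a⁻¹) * b = 1 := by
    have hab' : a * b * (a * b) * (a * b) = 1 := by
      have := hab; rw [pow_succ, pow_succ, pow_one] at this; exact this
    have ha' : a * a * a = 1 := by
      have := ha; rw [pow_succ, pow_succ, pow_one] at this; exact this
    have : c * (a * c * a⁻¹) * b =
        (a * b * (a * b) * (a * b)) * (b⁻¹ * (a * a * a)⁻¹ * b) := by rw [hc]; group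
    rw [this, hab', ha']; group
  have hd : a * c * a⁻¹ = c⁻¹ * b⁻¹ := by
    have : a * c * a⁻¹ = c⁻¹ * (c * (a * c * a⁻¹) * b) * b⁻¹ := by group
    rw [hcdb] at this; rw [this]; group
  have hdd : (a * c * a⁻¹) * (a * c * a⁻¹) = 1 := by
    have : (a * c * a⁻¹) * (a * c * a⁻¹) = a * (c * c) * a⁻¹ := by group
    rw [this, hcc]; group
  rw [hd] at hdd
  -- (c⁻¹ b⁻¹)² = 1, so b c b c = 1
  have hbinv : b⁻¹ = b := inv_eq_of_mul_eq_one_right hbb
  have hcinv : c⁻¹ = c := inv_eq_of_mul_eq_one_right hcc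
  rw [hbinv, hcinv] at hdd
  -- hdd : c * b * (c * b) = 1
  calc b * c = b * c * (c * b * (c * b)) := by rw [hdd, mul_one]
    _ = b * (c * c) * b * (c * b) := by group
    _ = (b * b) * (c * b) := by rw [hcc]; group
    _ = c * b := by rw [hbb, one_mul]

/-- T2 (the `A₄` computation, 2-group kernel). -/
theorem two_a4 {Γ : Type u} [Group Γ] [Finite Γ] {P : Type*} [Group P] (π : Γ →* P)
    (hc : π.ker ≤ Subgroup.center Γ) (h2 : IsPGroup 2 π.ker)
    (a b : Γ) (ha : a ^ 3 = 1) (hb : π b ^ 2 = 1) (hab : (a * b) ^ 3 = 1) :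
    (b ^ 2) ^ 2 = 1 ∧ b ^ 2 = b * (a * b * a⁻¹) * b⁻¹ * (a * b * a⁻¹)⁻¹ := by
  -- α := b², central
  have hαk : b ^ 2 ∈ π.ker := by rw [MonoidHom.mem_ker, map_pow, hb]
  have hαc0 : ∀ g : Γ, g * b ^ 2 = b ^ 2 * g := fun g => Subgroup.mem_center_iff.mp (hc hαk) g
  -- the images commute
  have hP : π b * (π a * π b * (π a)⁻¹) = (π a * π b * (π a)⁻¹) * π b :=
    h85_a4_comm (π a) (π b) (by rw [← map_pow, ha, map_one]) hb
      (by rw [← map_mul, ← map_pow, hab, map_one])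
  have hεk : b * (a * b * a⁻¹) * b⁻¹ * (a * b * a⁻¹)⁻¹ ∈ π.ker := by
    rw [MonoidHom.mem_ker]
    simp only [map_mul, map_inv]
    rw [hP]; group
  have hεc0 : ∀ g : Γ, g * (b * (a * b * a⁻¹) * b⁻¹ * (a * b * a⁻¹)⁻¹) =
      (b * (a * b * a⁻¹) * b⁻¹ * (a * b * a⁻¹)⁻¹) * g :=
    fun g => Subgroup.mem_center_iff.mp (hc hεk) g
  -- 2-group property of α
  obtain ⟨k, hk⟩ := h2 ⟨b ^ 2, hαk⟩
  have hk' : (b ^ 2) ^ (2 ^ k) = 1 := by
    have := congrArg Subtype.val hk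
    simpa using this
  -- opaque names
  obtain ⟨α, hα⟩ : ∃ α : Γ, α = b ^ 2 := ⟨_, rfl⟩
  obtain ⟨v, hv⟩ : ∃ v : Γ, v = a * b * a⁻¹ := ⟨_, rfl⟩
  rw [← hv] at hεc0
  obtain ⟨ε, hε⟩ : ∃ ε : Γ, ε = b * v * b⁻¹ * v⁻¹ := ⟨_, rfl⟩
  rw [← hv, ← hε, ← hα]
  rw [← hε] at hεc0
  rw [← hα] at hαc0 hk'
  have hbb : b * b = α := by rw [hα, sq]
  -- v² = α
  have hvv : v * v = α := by
    have : v * v = a * (b * b) * a⁻¹ := by rw [hv]; group
    rw [this, hbb, hαc0 a, mul_assoc, mul_inv_cancel, mul_one]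
  -- v w u = 1
  have hvwu : v * (a * v * a⁻¹) * b = 1 := by
    have hab' : a * b * (a * b) * (a * b) = 1 := by
      have := hab; rw [pow_succ, pow_succ, pow_one] at this; exact this
    have ha' : a * a * a = 1 := by
      have := ha; rw [pow_succ, pow_succ, pow_one] at this; exact this
    have : v * (a * v * a⁻¹) * b =
        (a * b * (a * b) * (a * b)) * (b⁻¹ * (a * a * a)⁻¹ * b) := by rw [hv]; group
    rw [this, hab', ha']; group
  have hw : a * v * a⁻¹ = v⁻¹ * b⁻¹ := by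
    have : a * v * a⁻¹ = v⁻¹ * (v * (a * v * a⁻¹) * b) * b⁻¹ := by group
    rw [hvwu] at this; rw [this]; group
  have hww : (a * v * a⁻¹) * (a * v * a⁻¹) = α := by
    have : (a * v * a⁻¹) * (a * v * a⁻¹) = a * (v * v) * a⁻¹ := by group
    rw [this, hvv, hαc0 a, mul_assoc, mul_inv_cancel, mul_one]
  rw [hw] at hww
  -- (b v)² = α⁻¹
  have h5 : b * v * (b * v) = α⁻¹ := by
    have : b * v * (b * v) = ((v⁻¹ * b⁻¹) * (v⁻¹ * b⁻¹))⁻¹ := by group
    rw [this, hww]
  -- ε² = 1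
  have hεε : ε * ε = 1 := by
    have hconj : b * v * b⁻¹ = ε * v := by rw [hε]; group
    have hA : (b * v * b⁻¹) * (b * v * b⁻¹) = α := by
      have : (b * v * b⁻¹) * (b * v * b⁻¹) = b * (v * v) * b⁻¹ := by group
      rw [this, hvv, hαc0 b, mul_assoc, mul_inv_cancel, mul_one]
    have hB : (ε * v) * (ε * v) = ε * ε * α := by
      calc ε * v * (ε * v) = ε * (v * ε) * v := by group
        _ = ε * (ε * v) * v := by rw [hεc0 v]
        _ = ε * ε * (v * v) := by group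
        _ = ε * ε * α := by rw [hvv]
    rw [hconj, hB] at hA
    exact mul_right_cancel (a := ε * ε) (b := α) (c := 1) (by rw [hA, one_mul])
  -- (b v)² = ε α²
  have hbv : ε * v * b = b * v := by rw [hε]; group
  have h6 : b * v * (b * v) = ε * α * α := by
    calc b * v * (b * v) = ε * v * b * (b * v) := by rw [hbv]
      _ = ε * (v * (b * b)) * v := by group
      _ = ε * (v * α) * v := by rw [hbb]
      _ = ε * (α * v) * v := by rw [hαc0 v]
      _ = ε * α * (v * v) := by group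
      _ = ε * α * α := by rw [hvv]
  rw [h5] at h6
  -- α³ = ε
  have h8 : α * α * α = ε := by
    calc α * α * α = (ε * ε) * α * α * α := by rw [hεε, one_mul]
      _ = ε * (ε * α * α) * α := by group
      _ = ε * α⁻¹ * α := by rw [← h6]
      _ = ε := by group
  have h9 : α ^ 6 = 1 := by
    have : α ^ 6 = (α * α * α) * (α * α * α) := by
      rw [show (6 : ℕ) = 3 + 3 from rfl, pow_add, pow_succ, pow_succ, pow_one]
    rw [this, h8, hεε]
  -- α² = 1
  have h10 : α ^ 2 = 1 := by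
    have hg : α ^ (Nat.gcd (2 ^ k) 6) = 1 := pow_gcd_eq_one.mpr ⟨hk', h9⟩
    have hd : Nat.gcd (2 ^ k) 6 ∣ 2 := by
      have h3 : Nat.Coprime (Nat.gcd (2 ^ k) 6) 3 := by
        have : Nat.Coprime (2 ^ k) 3 := Nat.Coprime.pow_left k (by decide)
        exact Nat.Coprime.coprime_dvd_left (Nat.gcd_dvd_left _ _) this
      have h6' : Nat.gcd (2 ^ k) 6 ∣ 2 * 3 := Nat.gcd_dvd_right _ _
      exact h3.dvd_of_dvd_mul_right h6'
    obtain ⟨m, hm⟩ := hd
    rw [hm, pow_mul, hg, one_pow]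
  have h11 : α = ε := by
    have : α * α * α = α := by
      have h : α * α = 1 := by rw [← sq, h10]
      rw [h, one_mul]
    rw [← this, h8]
  exact ⟨h10, h11⟩

end Cfsg.Agent.Lib.helper70.SM
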