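import Cfsg.Agent.S3335
import Mathlib

set_option autoImplicit false
set_option linter.unusedSimpArgs false
open Cfsg Cfsg.Agent.S3335

namespace Cfsg.Agent.Lib.helper70.SM

universe u

/-- T6a (word identity). -/
theorem word_identity {G : Type*} [Group G] (s1 s2 s3 z : G)
    (hz : ∀ g : G, z * g = g * z) (hzz : z ^ 2 = 1)
    (h1 : s1 ^ 2 = z) (h2 : s2 ^ 2 = z) (h3 : s3 ^ 2 = z)
    (h12 : (s1 * s2) ^ 3 = 1) (h23 : (s2 * s3) ^ 3 = 1)
    (hε : ∀ g : G, (s1 * s3 * s1⁻¹ * s3⁻¹) * g = g * (s1 * s3 * s1⁻¹ * s3⁻¹)) :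
    (s1 * s3) * (s2 * (s1 * s3) * s2⁻¹) * (s1 * s3)⁻¹ * (s2 * (s1 * s3) * s2⁻¹)⁻¹ =
      s1 * s3 * s1⁻¹ * s3⁻¹ := by
  obtain ⟨ε, hεdef⟩ : ∃ ε : G, ε = s1 * s3 * s1⁻¹ * s3⁻¹ := ⟨_, rfl⟩
  rw [← hεdef] at hε ⊢
  -- basic facts
  have zz : ∀ g : G, z * (z * g) = g := by
    intro g; rw [← mul_assoc, ← sq, hzz, one_mul]
  have cz : ∀ a g : G, a * (z * g) = z * (a * g) := by
    intro a g; rw [← mul_assoc, ← hz a, mul_assoc]
  have cε : ∀ a g : G, a * (ε * g) = ε * (a * g) := by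
    intro a g; rw [← mul_assoc, ← hε a, mul_assoc]
  have cz1 := cz s1
  have cz2 := cz s2
  have cz3 := cz s3
  have czε := cz ε
  have cε1 := cε s1
  have cε2 := cε s2
  have cε3 := cε s3
  have i1 : s1⁻¹ = z * s1 := by
    apply inv_eq_of_mul_eq_one_right
    rw [cz, ← sq, h1, ← sq, hzz]
  have i2 : s2⁻¹ = z * s2 := by
    apply inv_eq_of_mul_eq_one_right
    rw [cz, ← sq, h2, ← sq, hzz]
  have i3 : s3⁻¹ = z * s3 := by
    apply inv_eq_of_mul_eq_one_right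
    rw [cz, ← sq, h3, ← sq, hzz]
  have e13 : ∀ g : G, s1 * (s3 * g) = ε * (s3 * (s1 * g)) := by
    intro g; rw [hεdef]; group
  have εε : ∀ g : G, ε * (ε * g) = g := by
    have hconj : s1 * s3 * s1⁻¹ = ε * s3 := by rw [hεdef]; group
    have hA : (s1 * s3 * s1⁻¹) * (s1 * s3 * s1⁻¹) = z := by
      have : (s1 * s3 * s1⁻¹) * (s1 * s3 * s1⁻¹) = s1 * (s3 * s3) * s1⁻¹ := by group
      rw [this, ← sq, h3, ← hz s1, mul_assoc, mul_inv_cancel, mul_one]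
    have hB : (ε * s3) * (ε * s3) = ε * ε * z := by
      rw [← h3, sq]
      calc ε * s3 * (ε * s3) = ε * (s3 * (ε * s3)) := by rw [mul_assoc]
        _ = ε * (ε * (s3 * s3)) := by rw [cε3]
        _ = ε * ε * (s3 * s3) := by rw [mul_assoc]
    rw [hconj, hB] at hA
    have hεε : ε * ε = 1 := by
      have := mul_right_cancel (a := ε * ε) (b := z) (c := 1) (by rw [hA, one_mul])
      exact this
    intro g; rw [← mul_assoc, hεε, one_mul]
  have e31 : ∀ g : G, s3 * (s1 * g) = ε * (s1 * (s3 * g)) := by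
    intro g; rw [e13, εε]
  -- braid relations
  have b121 : ∀ g : G, s1 * (s2 * (s1 * g)) = z * (s2 * (s1 * (s2 * g))) := by
    intro g
    have h : s1 * s2 * (s1 * s2) * (s1 * s2) = 1 := by
      have := h12; rw [pow_succ, pow_succ, pow_one] at this; exact this
    -- s1 s2 s1 = s2⁻¹ s1⁻¹ s2⁻¹
    have h' : s1 * (s2 * s1) = s2⁻¹ * (s1⁻¹ * s2⁻¹) := by
      have : s1 * (s2 * s1) = (s1 * s2 * (s1 * s2) * (s1 * s2)) * (s2⁻¹ * (s1⁻¹ * s2⁻¹)) := by group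
      rw [this, h, one_mul]
    calc s1 * (s2 * (s1 * g)) = (s1 * (s2 * s1)) * g := by simp only [mul_assoc]
      _ = (s2⁻¹ * (s1⁻¹ * s2⁻¹)) * g := by rw [h']
      _ = z * (s2 * (s1 * (s2 * g))) := by
          rw [i1, i2]; simp only [mul_assoc, cz1, cz2, cz3, zz]
  have b232 : ∀ g : G, s2 * (s3 * (s2 * g)) = z * (s3 * (s2 * (s3 * g))) := by
    intro g
    have h : s2 * s3 * (s2 * s3) * (s2 * s3) = 1 := by
      have := h23; rw [pow_succ, pow_succ, pow_one] at this; exact this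
    have h' : s2 * (s3 * s2) = s3⁻¹ * (s2⁻¹ * s3⁻¹) := by
      have : s2 * (s3 * s2) = (s2 * s3 * (s2 * s3) * (s2 * s3)) * (s3⁻¹ * (s2⁻¹ * s3⁻¹)) := by group
      rw [this, h, one_mul]
    calc s2 * (s3 * (s2 * g)) = (s2 * (s3 * s2)) * g := by simp only [mul_assoc]
      _ = (s3⁻¹ * (s2⁻¹ * s3⁻¹)) * g := by rw [h']
      _ = z * (s3 * (s2 * (s3 * g))) := by
          rw [i2, i3]; simp only [mul_assoc, cz1, cz2, cz3, zz]
  have b212 : ∀ g : G, s2 * (s1 * (s2 * g)) = z * (s1 * (s2 * (s1 * g))) := by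
    intro g; rw [b121, zz]
  have b323 : ∀ g : G, s3 * (s2 * (s3 * g)) = z * (s2 * (s3 * (s2 * g))) := by
    intro g; rw [b232, zz]
  -- the key identity
  have K : ∀ g : G, s1 * (s3 * (s2 * (s1 * (s3 * (s2 * g))))) =
      ε * (s2 * (s1 * (s3 * (s2 * (s1 * (s3 * g)))))) := by
    intro g
    calc s1 * (s3 * (s2 * (s1 * (s3 * (s2 * g)))))
        = ε * (s1 * (s3 * (s2 * (s3 * (s1 * (s2 * g)))))) := by
          rw [e13 (s2 * g)]; simp only [cε1, cε2, cε3]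
      _ = ε * (z * (s1 * (s2 * (s3 * (s2 * (s1 * (s2 * g))))))) := by
          rw [b323]; simp only [cz1, cz2, cz3]
      _ = ε * (s1 * (s2 * (s3 * (s1 * (s2 * (s1 * g)))))) := by
          rw [b212]; simp only [cz1, cz2, cz3, zz]
      _ = s1 * (s2 * (s1 * (s3 * (s2 * (s1 * g))))) := by
          rw [e31]; simp only [cε1, cε2, cε3, εε]
      _ = z * (s2 * (s1 * (s2 * (s3 * (s2 * (s1 * g)))))) := by
          rw [b121]
      _ = s2 * (s1 * (s3 * (s2 * (s3 * (s1 * g))))) := by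
          rw [b232]; simp only [cz1, cz2, cz3, zz]
      _ = ε * (s2 * (s1 * (s3 * (s2 * (s1 * (s3 * g)))))) := by
          rw [e31 g]; simp only [cε1, cε2, cε3]
  -- conclude
  have hw' : s2 * (s1 * s3) * s2⁻¹ = z * (s2 * (s1 * (s3 * s2))) := by
    rw [i2]; simp only [mul_assoc, cz1, cz2, cz3]
  have hcomm : (s1 * s3) * (s2 * (s1 * s3) * s2⁻¹) = ε * ((s2 * (s1 * s3) * s2⁻¹) * (s1 * s3)) := by
    rw [hw']
    have K1 := K 1
    simp only [mul_one] at K1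
    simp only [mul_assoc, cz1, cz2, cz3, czε]
    rw [K1]
  calc (s1 * s3) * (s2 * (s1 * s3) * s2⁻¹) * (s1 * s3)⁻¹ * (s2 * (s1 * s3) * s2⁻¹)⁻¹
      = ε * ((s2 * (s1 * s3) * s2⁻¹) * (s1 * s3)) * (s1 * s3)⁻¹ * (s2 * (s1 * s3) * s2⁻¹)⁻¹ := by
        rw [hcomm]
    _ = ε := by group

end Cfsg.Agent.Lib.helper70.SM
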