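import Mathlib
import Cfsg.Prelude.Def_RootSubgroups
import Cfsg.Agent.Lib.helper85.MatRoot
import Cfsg.Agent.Lib.helper85.Transfer

set_option autoImplicit false
set_option linter.unusedSimpArgs false

namespace Cfsg.Agent.Lib.helper85

open Matrix Cfsg

section MatRoot2

variable {G : Type*} [Group G] {ι : Type*} [Fintype ι] [DecidableEq ι] {F : Type*} [Field F]

theorem mrSub_smul (ρ : G →* Matrix ι ι F) (N : Matrix ι ι F) {c : F} (hc : c ≠ 0) :
    mrSub ρ (c • N) = mrSub ρ N := by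
  unfold mrSub
  congr 1
  ext t
  constructor
  · rintro ⟨d, hd⟩
    exact ⟨d * c, by rw [hd, smul_smul]⟩
  · rintro ⟨d, hd⟩
    exact ⟨d / c, by rw [hd, smul_smul, div_mul_cancel₀ d hc]⟩

theorem mrSub_neg (ρ : G →* Matrix ι ι F) (N : Matrix ι ι F) : mrSub ρ (-N) = mrSub ρ N := by
  have h := mrSub_smul ρ N (c := (-1 : F)) (by simp)
  rwa [neg_one_smul] at h

/-- The commutator case for two nilpotent matrices `P`, `Q` with `P Q P = 0 = Q P Q`. -/
theorem mr_cc (ρ : G →* Matrix ι ι F) {S : Set (Subgroup G)} {P Q : Matrix ι ι F}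
    (hP : P * P = 0) (hQ : Q * Q = 0) (hPQP : P * Q * P = 0) (hQPQ : Q * P * Q = 0)
    (hfP : ∀ c : F, ∃ g : G, ρ g = 1 + c • P) (hfQ : ∀ c : F, ∃ g : G, ρ g = 1 + c • Q)
    (hρ : Function.Injective ρ) (hS : mrSub ρ (P * Q - Q * P) ∈ S) :
    RootCommutatorCase S (mrSub ρ P) (mrSub ρ Q) := by
  obtain ⟨R, hRdef⟩ : ∃ R, R = P * Q - Q * P := ⟨_, rfl⟩
  rw [← hRdef] at hS
  have hPPX : ∀ X : Matrix ι ι F, P * (P * X) = 0 := fun X => by rw [← mul_assoc, hP, zero_mul]
  have hQQX : ∀ X : Matrix ι ι F, Q * (Q * X) = 0 := fun X => by rw [← mul_assoc, hQ, zero_mul]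
  have hPQP' : P * (Q * P) = 0 := by rw [← mul_assoc, hPQP]
  have hQPQ' : Q * (P * Q) = 0 := by rw [← mul_assoc, hQPQ]
  have hPQPX : ∀ X : Matrix ι ι F, P * (Q * (P * X)) = 0 := fun X => by
    rw [← mul_assoc, ← mul_assoc, hPQP, zero_mul]
  have hQPQX : ∀ X : Matrix ι ι F, Q * (P * (Q * X)) = 0 := fun X => by
    rw [← mul_assoc, ← mul_assoc, hQPQ, zero_mul]
  have hRP : R * P = 0 := by
    rw [hRdef, sub_mul, mul_assoc, hPQP', mul_assoc, hP, mul_zero, sub_zero]
  have hPR : P * R = 0 := by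
    rw [hRdef, mul_sub, hPPX, hPQP', sub_zero]
  have hRQ : R * Q = 0 := by
    rw [hRdef, sub_mul, mul_assoc, hQ, mul_zero, mul_assoc, hQPQ', sub_zero]
  have hQR : Q * R = 0 := by
    rw [hRdef, mul_sub, hQPQ', hQQX, sub_zero]
  have hR : R * R = 0 := by
    rw [show R * R = (P * Q - Q * P) * R from by rw [← hRdef], sub_mul, mul_assoc, hQR, mul_zero,
      mul_assoc, hPR, mul_zero, sub_zero]
  have hform : ∀ (a b : G) (c d : F), ρ a = 1 + c • P → ρ b = 1 + d • Q →
      ρ (a * b * a⁻¹ * b⁻¹) = 1 + (c * d) • R := by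
    intro a b c d ha hb
    have ha' := mr_coe_inv ρ hP ha
    have hb' := mr_coe_inv ρ hQ hb
    rw [map_mul, map_mul, map_mul, ha, hb, ha', hb', hRdef]
    simp only [mul_add, add_mul, Matrix.smul_mul, Matrix.mul_smul, mul_one, one_mul, mul_assoc, hP, hQ,
      hPPX, hQQX, hPQP', hQPQ', hPQPX, hQPQX, smul_zero, add_zero, zero_add, smul_sub, mul_zero,
      zero_mul]
    module
  have hle : ⁅mrSub ρ P, mrSub ρ Q⁆ ≤ mrSub ρ R := by
    rw [Subgroup.commutator_le]
    intro a ha b hb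
    obtain ⟨c, hc⟩ := (mem_mrSub ρ hP).mp ha
    obtain ⟨d, hd⟩ := (mem_mrSub ρ hQ).mp hb
    rw [commutatorElement_def, mem_mrSub ρ hR]
    exact ⟨_, hform a b c d hc hd⟩
  have hge1 : ∀ a ∈ mrSub ρ P, a ≠ 1 → mrSub ρ R ≤
      Subgroup.closure ((fun b => a * b * a⁻¹ * b⁻¹) '' (mrSub ρ Q : Set G)) := by
    intro a ha ha1 x hx
    obtain ⟨c, hc⟩ := (mem_mrSub ρ hP).mp ha
    have hc0 : c ≠ 0 := by
      rintro rfl
      apply ha1
      apply hρ
      rw [hc, map_one]; simp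
    obtain ⟨e, he⟩ := (mem_mrSub ρ hR).mp hx
    obtain ⟨b, hb⟩ := hfQ (e / c)
    apply Subgroup.subset_closure
    refine ⟨b, (mem_mrSub ρ hQ).mpr ⟨_, hb⟩, ?_⟩
    apply hρ
    rw [hform a b c (e / c) hc hb, he, mul_div_cancel₀ e hc0]
  have hge2 : ∀ b ∈ mrSub ρ Q, b ≠ 1 → mrSub ρ R ≤
      Subgroup.closure ((fun a => a * b * a⁻¹ * b⁻¹) '' (mrSub ρ P : Set G)) := by
    intro b hb hb1 x hx
    obtain ⟨d, hd⟩ := (mem_mrSub ρ hQ).mp hb
    have hd0 : d ≠ 0 := by
      rintro rfl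
      apply hb1
      apply hρ
      rw [hd, map_one]; simp
    obtain ⟨e, he⟩ := (mem_mrSub ρ hR).mp hx
    obtain ⟨a, ha⟩ := hfP (e / d)
    apply Subgroup.subset_closure
    refine ⟨a, (mem_mrSub ρ hP).mpr ⟨_, ha⟩, ?_⟩
    apply hρ
    rw [hform a b (e / d) d ha hd, he, div_mul_cancel₀ e hd0]
  have hle1 : ∀ a ∈ mrSub ρ P,
      Subgroup.closure ((fun b => a * b * a⁻¹ * b⁻¹) '' (mrSub ρ Q : Set G)) ≤
        ⁅mrSub ρ P, mrSub ρ Q⁆ := by
    intro a ha
    rw [Subgroup.closure_le]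
    rintro _ ⟨b, hb, rfl⟩
    have := Subgroup.commutator_mem_commutator ha hb
    rwa [commutatorElement_def] at this
  have hle2 : ∀ b ∈ mrSub ρ Q,
      Subgroup.closure ((fun a => a * b * a⁻¹ * b⁻¹) '' (mrSub ρ P : Set G)) ≤
        ⁅mrSub ρ P, mrSub ρ Q⁆ := by
    intro b hb
    rw [Subgroup.closure_le]
    rintro _ ⟨a, ha, rfl⟩
    have := Subgroup.commutator_mem_commutator ha hb
    rwa [commutatorElement_def] at this
  have heq : ⁅mrSub ρ P, mrSub ρ Q⁆ = mrSub ρ R := by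
    apply le_antisymm hle
    intro x hx
    obtain ⟨e, he⟩ := (mem_mrSub ρ hR).mp hx
    obtain ⟨a, ha⟩ := hfP (1 : F)
    obtain ⟨b, hb⟩ := hfQ e
    have h1 := Subgroup.commutator_mem_commutator ((mem_mrSub ρ hP).mpr ⟨_, ha⟩)
      ((mem_mrSub ρ hQ).mpr ⟨_, hb⟩)
    rw [commutatorElement_def] at h1
    have h2 : a * b * a⁻¹ * b⁻¹ = x := by
      apply hρ
      rw [hform a b 1 e ha hb, he, one_mul]
    rwa [h2] at h1
  refine ⟨heq ▸ hS, ?_, ?_, ?_⟩
  · rw [heq]
    intro c hc x hx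
    have h1 : mrSub ρ P ⊔ mrSub ρ Q ≤ Subgroup.centralizer (mrSub ρ R : Set G) := by
      apply sup_le
      · intro y hy
        rw [Subgroup.mem_centralizer_iff]
        intro z hz
        exact mr_commute ρ hρ hR hP hRP hPR z hz y hy
      · intro y hy
        rw [Subgroup.mem_centralizer_iff]
        intro z hz
        exact mr_commute ρ hρ hR hQ hRQ hQR z hz y hy
    exact Subgroup.mem_centralizer_iff.mp (h1 hx) c hc
  · intro a ha ha1
    exact le_antisymm (hle1 a ha) (heq ▸ hge1 a ha ha1)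
  · intro b hb hb1
    exact le_antisymm (hle2 b hb) (heq ▸ hge2 b hb hb1)

open Cfsg.Agent.S5016 in
/-- The `SL₂` attached to an abstract pair `e`, `f` with `e² = f² = 0`, `e f e = e`, `f e f = f`. -/
theorem exists_sl2_hom_of_rel {e f : Matrix ι ι F} (he : e * e = 0) (hf : f * f = 0)
    (hefe : e * f * e = e) (hfef : f * e * f = f) (he0 : e ≠ 0) :
    ∃ Ψ : Matrix.SpecialLinearGroup (Fin 2) F →* Matrix ι ι F, Function.Injective Ψ ∧
      (∀ x : F, Ψ (U x) = 1 + x • e) ∧ (∀ x : F, Ψ (L x) = 1 + x • f) := by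
  obtain ⟨A, hA⟩ : ∃ A, A = e * f := ⟨_, rfl⟩
  obtain ⟨B, hB⟩ : ∃ B, B = f * e := ⟨_, rfl⟩
  have ef : e * f = A := hA.symm
  have fe : f * e = B := hB.symm
  have Ae : A * e = e := by rw [hA, hefe]
  have Bf : B * f = f := by rw [hB, hfef]
  have eB : e * B = e := by rw [hB, ← mul_assoc, hefe]
  have fA : f * A = f := by rw [hA, ← mul_assoc, hfef]
  have AA : A * A = A := by rw [hA, mul_assoc, ← mul_assoc f, hfef]
  have BB : B * B = B := by rw [hB, mul_assoc, ← mul_assoc e, hefe]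
  have Af : A * f = 0 := by rw [hA, mul_assoc, hf, mul_zero]
  have Be : B * e = 0 := by rw [hB, mul_assoc, he, mul_zero]
  have eA : e * A = 0 := by rw [hA, ← mul_assoc, he, zero_mul]
  have fB : f * B = 0 := by rw [hB, ← mul_assoc, hf, zero_mul]
  have AB : A * B = 0 := by rw [hB, ← mul_assoc, Af, zero_mul]
  have BA : B * A = 0 := by rw [hA, ← mul_assoc, Be, zero_mul]
  have hf0 : f ≠ 0 := by
    rintro rfl
    apply he0
    rw [← hefe]; simp
  have hA0 : A ≠ 0 := by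
    intro h
    apply he0
    rw [← Ae, h, zero_mul]
  have hB0 : B ≠ 0 := by
    intro h
    apply he0
    rw [← eB, h, mul_zero]
  let Ψ : Matrix.SpecialLinearGroup (Fin 2) F →* Matrix ι ι F :=
    { toFun := fun M => 1 + ((M : Matrix (Fin 2) (Fin 2) F) 0 0 - 1) • A +
        ((M : Matrix (Fin 2) (Fin 2) F) 0 1) • e + ((M : Matrix (Fin 2) (Fin 2) F) 1 0) • f +
        ((M : Matrix (Fin 2) (Fin 2) F) 1 1 - 1) • B
      map_one' := by simp
      map_mul' := by
        intro M M'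
        simp only [Matrix.SpecialLinearGroup.coe_mul, Matrix.mul_apply, Fin.sum_univ_two]
        simp only [mul_add, add_mul, Matrix.smul_mul, Matrix.mul_smul, mul_one, one_mul, ef, fe, Ae, Bf,
          eB, fA, AA, BB, Af, Be, eA, fB, AB, BA, he, hf, smul_zero, add_zero, zero_add]
        module }
  have hΨ : ∀ M : Matrix.SpecialLinearGroup (Fin 2) F, Ψ M =
      1 + ((M : Matrix (Fin 2) (Fin 2) F) 0 0 - 1) • A +
        ((M : Matrix (Fin 2) (Fin 2) F) 0 1) • e + ((M : Matrix (Fin 2) (Fin 2) F) 1 0) • f +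
        ((M : Matrix (Fin 2) (Fin 2) F) 1 1 - 1) • B := fun M => rfl
  refine ⟨Ψ, ?_, ?_, ?_⟩
  · have key00 : ∀ M : Matrix.SpecialLinearGroup (Fin 2) F,
        A * Ψ M * A = ((M : Matrix (Fin 2) (Fin 2) F) 0 0) • A := by
      intro M
      rw [hΨ]
      simp only [mul_add, add_mul, Matrix.smul_mul, Matrix.mul_smul, mul_one, one_mul, ef, fe, Ae, Bf,
        eB, fA, AA, BB, Af, Be, eA, fB, AB, BA, he, hf, smul_zero, add_zero, zero_add, zero_mul,
        mul_zero]
      module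
    have key01 : ∀ M : Matrix.SpecialLinearGroup (Fin 2) F,
        A * Ψ M * B = ((M : Matrix (Fin 2) (Fin 2) F) 0 1) • e := by
      intro M
      rw [hΨ]
      simp only [mul_add, add_mul, Matrix.smul_mul, Matrix.mul_smul, mul_one, one_mul, ef, fe, Ae, Bf,
        eB, fA, AA, BB, Af, Be, eA, fB, AB, BA, he, hf, smul_zero, add_zero, zero_add, zero_mul,
        mul_zero]
    have key10 : ∀ M : Matrix.SpecialLinearGroup (Fin 2) F,
        B * Ψ M * A = ((M : Matrix (Fin 2) (Fin 2) F) 1 0) • f := by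
      intro M
      rw [hΨ]
      simp only [mul_add, add_mul, Matrix.smul_mul, Matrix.mul_smul, mul_one, one_mul, ef, fe, Ae, Bf,
        eB, fA, AA, BB, Af, Be, eA, fB, AB, BA, he, hf, smul_zero, add_zero, zero_add, zero_mul,
        mul_zero]
    have key11 : ∀ M : Matrix.SpecialLinearGroup (Fin 2) F,
        B * Ψ M * B = ((M : Matrix (Fin 2) (Fin 2) F) 1 1) • B := by
      intro M
      rw [hΨ]
      simp only [mul_add, add_mul, Matrix.smul_mul, Matrix.mul_smul, mul_one, one_mul, ef, fe, Ae, Bf,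
        eB, fA, AA, BB, Af, Be, eA, fB, AB, BA, he, hf, smul_zero, add_zero, zero_add, zero_mul,
        mul_zero]
      module
    intro M M' h
    have h00 : (M : Matrix (Fin 2) (Fin 2) F) 0 0 = (M' : Matrix (Fin 2) (Fin 2) F) 0 0 := by
      have h2 : ((M : Matrix (Fin 2) (Fin 2) F) 0 0 - (M' : Matrix (Fin 2) (Fin 2) F) 0 0) • A = 0 := by
        rw [sub_smul, ← key00 M, ← key00 M', h, sub_self]
      rcases smul_eq_zero.mp h2 with h3 | h3
      · exact sub_eq_zero.mp h3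
      · exact absurd h3 hA0
    have h01 : (M : Matrix (Fin 2) (Fin 2) F) 0 1 = (M' : Matrix (Fin 2) (Fin 2) F) 0 1 := by
      have h2 : ((M : Matrix (Fin 2) (Fin 2) F) 0 1 - (M' : Matrix (Fin 2) (Fin 2) F) 0 1) • e = 0 := by
        rw [sub_smul, ← key01 M, ← key01 M', h, sub_self]
      rcases smul_eq_zero.mp h2 with h3 | h3
      · exact sub_eq_zero.mp h3
      · exact absurd h3 he0
    have h10 : (M : Matrix (Fin 2) (Fin 2) F) 1 0 = (M' : Matrix (Fin 2) (Fin 2) F) 1 0 := by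
      have h2 : ((M : Matrix (Fin 2) (Fin 2) F) 1 0 - (M' : Matrix (Fin 2) (Fin 2) F) 1 0) • f = 0 := by
        rw [sub_smul, ← key10 M, ← key10 M', h, sub_self]
      rcases smul_eq_zero.mp h2 with h3 | h3
      · exact sub_eq_zero.mp h3
      · exact absurd h3 hf0
    have h11 : (M : Matrix (Fin 2) (Fin 2) F) 1 1 = (M' : Matrix (Fin 2) (Fin 2) F) 1 1 := by
      have h2 : ((M : Matrix (Fin 2) (Fin 2) F) 1 1 - (M' : Matrix (Fin 2) (Fin 2) F) 1 1) • B = 0 := by
        rw [sub_smul, ← key11 M, ← key11 M', h, sub_self]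
      rcases smul_eq_zero.mp h2 with h3 | h3
      · exact sub_eq_zero.mp h3
      · exact absurd h3 hB0
    apply Subtype.ext
    ext i j
    fin_cases i <;> fin_cases j
    · exact h00
    · exact h01
    · exact h10
    · exact h11
  · intro x
    rw [hΨ, U_coe]
    simp
  · intro x
    rw [hΨ, L_coe]
    simp

end MatRoot2

end Cfsg.Agent.Lib.helper85
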