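import Mathlib
import Cfsg.Prelude.Def_RootSubgroups
import Cfsg.Agent.Lib.helper85.Transfer
import Cfsg.Agent.Lib.helper85.Line2
import Cfsg.Agent.Lib.helper85.CommGen
import Cfsg.Agent.Lib.helper85.RankOne

set_option autoImplicit false

namespace Cfsg.Agent.Lib.helper85

open Cfsg

section SubTransfer

variable {G : Type*} [Group G]

theorem rop_comm_ne_bot {A B : Subgroup G} (hrop : IsRankOnePair A B) (hBc : IsMulCommutative B) :
    ⁅A, B⁆ ≠ ⊥ := by
  intro h
  apply rop_not_le_centralizer hrop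
  have h1 : A ⊔ B ≤ Subgroup.centralizer (B : Set G) := by
    apply sup_le
    · intro a ha
      rw [Subgroup.mem_centralizer_iff]
      intro b hb
      exact (commute_of_comm_eq_bot h a ha b hb).symm
    · intro b' hb'
      rw [Subgroup.mem_centralizer_iff]
      intro b hb
      exact mul_comm_of_mem hBc hb hb'
  exact Subgroup.le_centralizer_iff.mp h1

theorem comm_subgroupOf {A : Subgroup G} (H : Subgroup G) (hA : IsMulCommutative A) :
    IsMulCommutative (A.subgroupOf H) := by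
  rw [isMulCommutative_iff]
  rintro ⟨a, ha⟩ ⟨b, hb⟩
  apply Subtype.ext
  apply Subtype.ext
  exact mul_comm_of_mem hA (Subgroup.mem_subgroupOf.mp ha) (Subgroup.mem_subgroupOf.mp hb)

theorem subgroupOf_ne_bot' {A H : Subgroup G} (hA : A ≤ H) (hne : A ≠ ⊥) : A.subgroupOf H ≠ ⊥ := by
  intro h
  rw [Subgroup.subgroupOf_eq_bot, disjoint_iff, inf_of_le_left hA] at h
  exact hne h

theorem conjBy_subgroupOf (A H : Subgroup G) (g : ↥H) :
    conjBy (A.subgroupOf H) g = (conjBy A (g : G)).subgroupOf H := by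
  ext x
  rw [mem_conjBy_subgroupOf, Subgroup.mem_subgroupOf]

theorem comm_subgroupOf_eq_bot {A B : Subgroup G} (H : Subgroup G) (h : ⁅A, B⁆ = ⊥) :
    ⁅A.subgroupOf H, B.subgroupOf H⁆ = ⊥ := by
  apply comm_eq_bot_of_commute
  intro x hx y hy
  apply Subtype.ext
  exact commute_of_comm_eq_bot h x (Subgroup.mem_subgroupOf.mp hx) y (Subgroup.mem_subgroupOf.mp hy)

theorem map_subtype_commutator {A B H : Subgroup G} (hA : A ≤ H) (hB : B ≤ H) :
    (⁅A.subgroupOf H, B.subgroupOf H⁆).map H.subtype = ⁅A, B⁆ := by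
  rw [Subgroup.map_commutator, Subgroup.subgroupOf_map_subtype, Subgroup.subgroupOf_map_subtype,
    inf_of_le_left hA, inf_of_le_left hB]

theorem commutator_le_of_le {A B H : Subgroup G} (hA : A ≤ H) (hB : B ≤ H) : ⁅A, B⁆ ≤ H := by
  rw [Subgroup.commutator_le]
  intro a ha b hb
  rw [commutatorElement_def]
  exact H.mul_mem (H.mul_mem (H.mul_mem (hA ha) (hB hb)) (H.inv_mem (hA ha))) (H.inv_mem (hB hb))

theorem commutator_subgroupOf {A B H : Subgroup G} (hA : A ≤ H) (hB : B ≤ H) :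
    ⁅A.subgroupOf H, B.subgroupOf H⁆ = (⁅A, B⁆).subgroupOf H := by
  apply Subgroup.map_injective H.subtype_injective
  rw [map_subtype_commutator hA hB, Subgroup.subgroupOf_map_subtype,
    inf_of_le_left (commutator_le_of_le hA hB)]

theorem cc_subgroupOf {S : Set (Subgroup G)} {A B H : Subgroup G} (hA : A ≤ H) (hB : B ≤ H)
    (h : RootCommutatorCase S A B) :
    RootCommutatorCase ((fun A : Subgroup G => A.subgroupOf H) '' S) (A.subgroupOf H)
      (B.subgroupOf H) := by
  obtain ⟨h1, h2, h3, h4⟩ := h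
  have hmem : ∀ c : ↥H, c ∈ ⁅A.subgroupOf H, B.subgroupOf H⁆ → (c : G) ∈ ⁅A, B⁆ := by
    intro c hc
    rw [commutator_subgroupOf hA hB] at hc
    exact Subgroup.mem_subgroupOf.mp hc
  refine ⟨⟨_, h1, (commutator_subgroupOf hA hB).symm⟩, ?_, ?_, ?_⟩
  · intro c hc x hx
    apply Subtype.ext
    have hx' : (x : G) ∈ A ⊔ B := by
      rw [← Subgroup.subgroupOf_sup hA hB] at hx
      exact Subgroup.mem_subgroupOf.mp hx
    exact h2 c (hmem c hc) x hx'
  · intro a ha ha1
    apply Subgroup.map_injective H.subtype_injective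
    rw [map_subtype_commutator hA hB, MonoidHom.map_closure]
    have ha1' : (a : G) ≠ 1 := fun h => ha1 (Subtype.ext h)
    rw [← h3 (a : G) (Subgroup.mem_subgroupOf.mp ha) ha1']
    congr 1
    ext y
    constructor
    · rintro ⟨_, ⟨b, hb, rfl⟩, rfl⟩
      exact ⟨(b : G), Subgroup.mem_subgroupOf.mp hb, rfl⟩
    · rintro ⟨b, hb, rfl⟩
      exact ⟨_, ⟨⟨b, hB hb⟩, Subgroup.mem_subgroupOf.mpr hb, rfl⟩, rfl⟩
  · intro b hb hb1
    apply Subgroup.map_injective H.subtype_injective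
    rw [map_subtype_commutator hA hB, MonoidHom.map_closure]
    have hb1' : (b : G) ≠ 1 := fun h => hb1 (Subtype.ext h)
    rw [← h4 (b : G) (Subgroup.mem_subgroupOf.mp hb) hb1']
    congr 1
    ext y
    constructor
    · rintro ⟨_, ⟨a, ha, rfl⟩, rfl⟩
      exact ⟨(a : G), Subgroup.mem_subgroupOf.mp ha, rfl⟩
    · rintro ⟨a, ha, rfl⟩
      exact ⟨_, ⟨⟨a, hA ha⟩, Subgroup.mem_subgroupOf.mpr ha, rfl⟩, rfl⟩

theorem psl2_subgroupOf {k : Type*} [Field k] {A B H : Subgroup G} (hA : A ≤ H) (hB : B ≤ H)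
    (h : IsPSL2PairOver k A B) : IsPSL2PairOver k (A.subgroupOf H) (B.subgroupOf H) := by
  obtain ⟨φ, hrange, hker, hup, hlow⟩ := h
  have hφH : ∀ x, φ x ∈ H := by
    intro x
    have : φ x ∈ φ.range := ⟨x, rfl⟩
    rw [hrange] at this
    exact (sup_le hA hB) this
  refine ⟨φ.codRestrict H hφH, ?_, ?_, ?_, ?_⟩
  · apply Subgroup.map_injective H.subtype_injective
    rw [MonoidHom.map_range, Subgroup.map_sup, Subgroup.subgroupOf_map_subtype,
      Subgroup.subgroupOf_map_subtype, inf_of_le_left hA, inf_of_le_left hB, ← hrange]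
    rfl
  · rw [MonoidHom.ker_codRestrict]
    exact hker
  · apply Subgroup.map_injective H.subtype_injective
    rw [Subgroup.map_map, Subgroup.subgroupOf_map_subtype, inf_of_le_left hA, ← hup]
    rfl
  · apply Subgroup.map_injective H.subtype_injective
    rw [Subgroup.map_map, Subgroup.subgroupOf_map_subtype, inf_of_le_left hB, ← hlow]
    rfl

/-- A family of subgroups with the pair trichotomy is a set of `k`-root subgroups of the subgroup
it generates. -/
theorem kroot_subgroupOf {k : Type*} [Field k] {S : Set (Subgroup G)}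
    (hcomm : ∀ A ∈ S, IsMulCommutative A) (hne : ∀ A ∈ S, A ≠ ⊥)
    (hconj : ∀ A ∈ S, ∀ g ∈ (⨆ B ∈ S, B), conjBy A g ∈ S)
    (hpair : ∀ A ∈ S, ∀ B ∈ S, ⁅A, B⁆ = ⊥ ∨ (IsRankOnePair A B ∧ IsPSL2PairOver k A B) ∨
      RootCommutatorCase S A B) :
    IsKRootSubgroupSet k ((fun A : Subgroup G => A.subgroupOf (⨆ B ∈ S, B)) '' S) := by
  obtain ⟨H, hH⟩ : ∃ H, H = ⨆ B ∈ S, B := ⟨_, rfl⟩
  rw [← hH] at hconj ⊢
  have hle : ∀ A ∈ S, A ≤ H := by
    intro A hA
    rw [hH]
    exact le_biSup (fun B => B) hA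
  have hroot : IsRootSubgroupSet ((fun A : Subgroup G => A.subgroupOf H) '' S) := by
    refine ⟨?_, ?_, ?_, ?_, ?_⟩
    · rintro _ ⟨A, hA, rfl⟩
      exact comm_subgroupOf H (hcomm A hA)
    · rintro _ ⟨A, hA, rfl⟩
      exact subgroupOf_ne_bot' (hle A hA) (hne A hA)
    · apply Subgroup.map_injective H.subtype_injective
      rw [iSup_image, Subgroup.map_iSup]
      have h1 : ∀ A : Subgroup G, Subgroup.map H.subtype (⨆ (_ : A ∈ S), A.subgroupOf H) =
          ⨆ (_ : A ∈ S), A := by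
        intro A
        rw [Subgroup.map_iSup]
        congr 1
        funext hA
        rw [Subgroup.subgroupOf_map_subtype, inf_of_le_left (hle A hA)]
      simp_rw [h1]
      rw [← hH, ← MonoidHom.range_eq_map, Subgroup.range_subtype]
    · rintro _ ⟨A, hA, rfl⟩ g
      exact ⟨_, hconj A hA (g : G) g.2, (conjBy_subgroupOf A H g).symm⟩
    · rintro _ ⟨A, hA, rfl⟩ _ ⟨B, hB, rfl⟩
      rcases hpair A hA B hB with h | h | h
      · exact Or.inl (comm_subgroupOf_eq_bot H h)
      · exact Or.inr (Or.inl (rop_subgroupOf h.1 (hle A hA) (hle B hB)))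
      · exact Or.inr (Or.inr (cc_subgroupOf (hle A hA) (hle B hB) h))
  refine ⟨hroot, ?_⟩
  rintro _ ⟨A, hA, rfl⟩ _ ⟨B, hB, rfl⟩ hrop
  rcases hpair A hA B hB with h | h | h
  · exact absurd (comm_subgroupOf_eq_bot H h)
      (rop_comm_ne_bot hrop (comm_subgroupOf H (hcomm B hB)))
  · exact psl2_subgroupOf (hle A hA) (hle B hB) h.2
  · exact absurd (rop_not_cc hrop (comm_subgroupOf H (hcomm A hA))
      (cc_subgroupOf (hle A hA) (hle B hB) h)) id

end SubTransfer

end Cfsg.Agent.Lib.helper85
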