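import Mathlib
import Cfsg.Prelude.Def_RootSubgroups
import Cfsg.Agent.Lib.helper85.MatRoot2
import Cfsg.Agent.Lib.helper85.SubTransfer

set_option autoImplicit false
set_option linter.unusedSimpArgs false
set_option linter.unusedSectionVars false

namespace Cfsg.Agent.Lib.helper85

open Cfsg

section AlgRoot

variable {G : Type*} [Group G] {K : Type*} [Field K] {R : Type*} [Ring R] [Algebra K R]

/-- The subgroup generated by the elements of `G` represented by some `1 + c • N`, `c ∈ K`. -/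
def arSub (K : Type*) [Field K] {R : Type*} [Ring R] [Algebra K R] (ρ : G →* R) (N : R) :
    Subgroup G :=
  Subgroup.closure {t | ∃ c : K, ρ t = 1 + c • N}

theorem ar_inv_mul (ρ : G →* R) (x : G) : ρ x⁻¹ * ρ x = 1 := by
  rw [← map_mul, inv_mul_cancel, map_one]

theorem ar_mul_inv (ρ : G →* R) (x : G) : ρ x * ρ x⁻¹ = 1 := by
  rw [← map_mul, mul_inv_cancel, map_one]

theorem ar_coe_inv (ρ : G →* R) {N : R} (hN : N * N = 0) {x : G} {c : K}
    (hc : ρ x = 1 + c • N) : ρ x⁻¹ = 1 + (-c) • N := by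
  have h1 : ρ x * (1 + (-c) • N) = 1 := by
    rw [hc]
    simp only [mul_add, add_mul, mul_one, one_mul, smul_mul_assoc, mul_smul_comm, hN, smul_zero,
      add_zero]
    module
  calc ρ x⁻¹ = ρ x⁻¹ * (ρ x * (1 + (-c) • N)) := by rw [h1, mul_one]
    _ = 1 + (-c) • N := by rw [← mul_assoc, ar_inv_mul, one_mul]

theorem mem_arSub (ρ : G →* R) {N : R} (hN : N * N = 0) {t : G} :
    t ∈ arSub K ρ N ↔ ∃ c : K, ρ t = 1 + c • N := by
  constructor
  · intro h
    unfold arSub at h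
    induction h using Subgroup.closure_induction with
    | mem x hx => exact hx
    | one => exact ⟨0, by simp⟩
    | mul x y _ _ hx hy =>
      obtain ⟨c, hc⟩ := hx
      obtain ⟨d, hd⟩ := hy
      refine ⟨c + d, ?_⟩
      rw [map_mul, hc, hd]
      simp only [mul_add, add_mul, mul_one, one_mul, smul_mul_assoc, mul_smul_comm, hN, smul_zero,
        add_zero, add_smul]
      abel
    | inv x _ hx =>
      obtain ⟨c, hc⟩ := hx
      exact ⟨-c, ar_coe_inv ρ hN hc⟩
  · intro h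
    exact Subgroup.subset_closure h

theorem ar_conj_sq (ρ : G →* R) {N : R} (hN : N * N = 0) (g : G) :
    (ρ g * N * ρ g⁻¹) * (ρ g * N * ρ g⁻¹) = 0 := by
  calc _ = ρ g * (N * (ρ g⁻¹ * ρ g) * N) * ρ g⁻¹ := by simp only [mul_assoc]
    _ = 0 := by rw [ar_inv_mul, mul_one, hN, mul_zero, zero_mul]

theorem conjBy_arSub (ρ : G →* R) {N : R} (hN : N * N = 0) (g : G) :
    conjBy (arSub K ρ N) g = arSub K ρ (ρ g * N * ρ g⁻¹) := by
  ext x
  rw [mem_conjBy, mem_arSub ρ hN, mem_arSub ρ (ar_conj_sq ρ hN g)]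
  have c1 : ∀ M : R, ρ g * (ρ g⁻¹ * M * ρ g) * ρ g⁻¹ = M := by
    intro M
    calc _ = (ρ g * ρ g⁻¹) * M * (ρ g * ρ g⁻¹) := by simp only [mul_assoc]
      _ = M := by rw [ar_mul_inv, one_mul, mul_one]
  have c2 : ∀ M : R, ρ g⁻¹ * (ρ g * M * ρ g⁻¹) * ρ g = M := by
    intro M
    calc _ = (ρ g⁻¹ * ρ g) * M * (ρ g⁻¹ * ρ g) := by simp only [mul_assoc]
      _ = M := by rw [ar_inv_mul, one_mul, mul_one]
  constructor
  · rintro ⟨c, hc⟩
    refine ⟨c, ?_⟩
    rw [map_mul, map_mul] at hc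
    rw [← c1 (ρ x), hc]
    simp only [mul_add, add_mul, mul_one, smul_mul_assoc, mul_smul_comm, ar_mul_inv]
  · rintro ⟨c, hc⟩
    refine ⟨c, ?_⟩
    rw [map_mul, map_mul, hc]
    simp only [mul_add, add_mul, mul_one, smul_mul_assoc, mul_smul_comm, ar_inv_mul]
    rw [c2]

theorem ar_commute (ρ : G →* R) (hρ : Function.Injective ρ) {P Q : R}
    (hP : P * P = 0) (hQ : Q * Q = 0) (hPQ : P * Q = Q * P) :
    ∀ a ∈ arSub K ρ P, ∀ b ∈ arSub K ρ Q, a * b = b * a := by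
  intro a ha b hb
  obtain ⟨c, hc⟩ := (mem_arSub ρ hP).mp ha
  obtain ⟨d, hd⟩ := (mem_arSub ρ hQ).mp hb
  apply hρ
  rw [map_mul, map_mul, hc, hd]
  simp only [mul_add, add_mul, mul_one, one_mul, smul_mul_assoc, mul_smul_comm, hPQ]
  module

theorem ar_comm_sub (ρ : G →* R) (hρ : Function.Injective ρ) {P : R} (hP : P * P = 0) :
    IsMulCommutative (arSub K ρ P) := by
  rw [isMulCommutative_iff]
  rintro ⟨a, ha⟩ ⟨b, hb⟩
  apply Subtype.ext
  exact ar_commute ρ hρ hP hP rfl a ha b hb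

theorem ar_ne_bot (ρ : G →* R) {P : R} (hP : P * P = 0) (hP0 : P ≠ 0)
    (hf : ∃ g : G, ρ g = 1 + (1 : K) • P) : arSub K ρ P ≠ ⊥ := by
  intro hbot
  obtain ⟨g, hg⟩ := hf
  have h1 : g ∈ arSub K ρ P := (mem_arSub ρ hP).mpr ⟨1, hg⟩
  rw [hbot, Subgroup.mem_bot] at h1
  rw [h1, map_one, one_smul] at hg
  apply hP0
  have := hg.symm
  rwa [add_eq_left] at this

theorem arSub_smul (ρ : G →* R) (N : R) {c : K} (hc : c ≠ 0) :
    arSub K ρ (c • N) = arSub K ρ N := by
  unfold arSub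
  congr 1
  ext t
  constructor
  · rintro ⟨d, hd⟩
    exact ⟨d * c, by rw [hd, smul_smul]⟩
  · rintro ⟨d, hd⟩
    exact ⟨d / c, by rw [hd, smul_smul, div_mul_cancel₀ d hc]⟩

open Cfsg.Agent.S5016 in
/-- The rank one criterion: two subgroups parametrised by the root subgroups of an `SL₂(K)`
inside a monoid `M`. -/
theorem rop_of_sl2 {M : Type*} [Monoid M] (ρ : G →* M) (hρ : Function.Injective ρ)
    (Ψ : Matrix.SpecialLinearGroup (Fin 2) K →* M) (hΨ : Function.Injective Ψ) {A B : Subgroup G}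
    (hA : ∀ t, t ∈ A ↔ ∃ x : K, ρ t = Ψ (U x)) (hB : ∀ t, t ∈ B ↔ ∃ x : K, ρ t = Ψ (L x))
    (hfA : ∀ x : K, ∃ t, ρ t = Ψ (U x)) (hfB : ∀ x : K, ∃ t, ρ t = Ψ (L x)) :
    IsRankOnePair A B ∧ IsPSL2PairOver K A B := by
  have hinv : ∀ x : G, ρ x⁻¹ * ρ x = 1 := fun x => by rw [← map_mul, inv_mul_cancel, map_one]
  have hex : ∀ X : Matrix.SpecialLinearGroup (Fin 2) K, ∃ g : G, ρ g = Ψ X := by
    let H : Subgroup (Matrix.SpecialLinearGroup (Fin 2) K) :=
      { carrier := {X | ∃ g : G, ρ g = Ψ X}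
        one_mem' := ⟨1, by rw [map_one, map_one]⟩
        mul_mem' := by
          rintro X X' ⟨g, hg⟩ ⟨g', hg'⟩
          exact ⟨g * g', by rw [map_mul, map_mul, hg, hg']⟩
        inv_mem' := by
          rintro X ⟨g, hg⟩
          refine ⟨g⁻¹, ?_⟩
          have h1 : Ψ X * Ψ X⁻¹ = 1 := by rw [← map_mul, mul_inv_cancel, map_one]
          calc ρ g⁻¹ = ρ g⁻¹ * (Ψ X * Ψ X⁻¹) := by rw [h1, mul_one]
            _ = Ψ X⁻¹ := by rw [← hg, ← mul_assoc, hinv, one_mul] }
    have hlow : lowerUnipotentSL2 K ≤ H := by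
      intro X hX
      obtain ⟨x, rfl⟩ := (mem_lower_iff X).mp hX
      exact hfB x
    have hup : upperUnipotentSL2 K ≤ H := by
      intro X hX
      obtain ⟨x, rfl⟩ := (mem_upper_iff X).mp hX
      exact hfA x
    intro X
    exact (sup_le hlow hup) (gen X)
  obtain ⟨Φ, hΦ⟩ : ∃ Φ : Matrix.SpecialLinearGroup (Fin 2) K →* G, ∀ X, ρ (Φ X) = Ψ X := by
    refine ⟨{ toFun := fun X => Classical.choose (hex X), map_one' := ?_, map_mul' := ?_ }, ?_⟩
    · apply hρ
      rw [Classical.choose_spec (hex 1), map_one, map_one]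
    · intro X X'
      apply hρ
      rw [Classical.choose_spec (hex (X * X')), map_mul, map_mul, Classical.choose_spec (hex X),
        Classical.choose_spec (hex X')]
    · intro X
      exact Classical.choose_spec (hex X)
  have hinj : Function.Injective Φ := by
    intro X X' h
    apply hΨ
    rw [← hΦ, ← hΦ, h]
  have hAeq : (upperUnipotentSL2 K).map Φ = A := by
    ext x
    rw [Subgroup.mem_map, hA]
    constructor
    · rintro ⟨y, hy, rfl⟩
      obtain ⟨c, rfl⟩ := (mem_upper_iff y).mp hy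
      exact ⟨c, hΦ _⟩
    · rintro ⟨c, hc⟩
      refine ⟨U c, U_mem _, ?_⟩
      apply hρ
      rw [hΦ, hc]
  have hBeq : (lowerUnipotentSL2 K).map Φ = B := by
    ext x
    rw [Subgroup.mem_map, hB]
    constructor
    · rintro ⟨y, hy, rfl⟩
      obtain ⟨c, rfl⟩ := (mem_lower_iff y).mp hy
      exact ⟨c, hΦ _⟩
    · rintro ⟨c, hc⟩
      refine ⟨L c, L_mem _, ?_⟩
      apply hρ
      rw [hΦ, hc]
  constructor
  · have h1 := rop_map_inj Φ hinj (RankOnePair_symm (sl2_rop (k := K))) upper_comm lower_comm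
    rwa [hAeq, hBeq] at h1
  · refine ⟨Φ, ?_, ?_, hAeq, hBeq⟩
    · have htop : (⊤ : Subgroup (Matrix.SpecialLinearGroup (Fin 2) K)) =
          lowerUnipotentSL2 K ⊔ upperUnipotentSL2 K := (eq_top_iff.mpr fun g _ => gen g).symm
      rw [MonoidHom.range_eq_map, htop, Subgroup.map_sup, hAeq, hBeq, sup_comm]
    · rw [(MonoidHom.ker_eq_bot_iff Φ).mpr hinj]
      exact bot_le

end AlgRoot

end Cfsg.Agent.Lib.helper85
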