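import Mathlib

set_option autoImplicit false

namespace Cfsg.Agent.Lib.helper85

open Polynomial

section dk60basic
variable {K : Type*} [Field K]

/-- upper unitriangular element of SL₂ -/
def dkU (x : K) : Matrix.SpecialLinearGroup (Fin 2) K :=
  ⟨!![1, x; 0, 1], by simp [Matrix.det_fin_two_of]⟩

/-- lower unitriangular element of SL₂ -/
def dkL (y : K) : Matrix.SpecialLinearGroup (Fin 2) K :=
  ⟨!![1, 0; y, 1], by simp [Matrix.det_fin_two_of]⟩

/-- an element of SL₂ from its four entries -/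
def dkMk (a b c d : K) (h : a * d - b * c = 1) : Matrix.SpecialLinearGroup (Fin 2) K :=
  ⟨!![a, b; c, d], by rw [Matrix.det_fin_two_of]; exact h⟩

@[simp] theorem dkMk_00 (a b c d : K) (h : a * d - b * c = 1) : (dkMk a b c d h).1 0 0 = a := rfl
@[simp] theorem dkMk_01 (a b c d : K) (h : a * d - b * c = 1) : (dkMk a b c d h).1 0 1 = b := rfl
@[simp] theorem dkMk_10 (a b c d : K) (h : a * d - b * c = 1) : (dkMk a b c d h).1 1 0 = c := rfl
@[simp] theorem dkMk_11 (a b c d : K) (h : a * d - b * c = 1) : (dkMk a b c d h).1 1 1 = d := rfl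

@[simp] theorem dkU_00 (x : K) : (dkU x).1 0 0 = 1 := rfl
@[simp] theorem dkU_01 (x : K) : (dkU x).1 0 1 = x := rfl
@[simp] theorem dkU_10 (x : K) : (dkU x).1 1 0 = 0 := rfl
@[simp] theorem dkU_11 (x : K) : (dkU x).1 1 1 = 1 := rfl
@[simp] theorem dkL_00 (x : K) : (dkL x).1 0 0 = 1 := rfl
@[simp] theorem dkL_01 (x : K) : (dkL x).1 0 1 = 0 := rfl
@[simp] theorem dkL_10 (x : K) : (dkL x).1 1 0 = x := rfl
@[simp] theorem dkL_11 (x : K) : (dkL x).1 1 1 = 1 := rfl

theorem dk_ext {g h : Matrix.SpecialLinearGroup (Fin 2) K} (h00 : g.1 0 0 = h.1 0 0)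
    (h01 : g.1 0 1 = h.1 0 1) (h10 : g.1 1 0 = h.1 1 0) (h11 : g.1 1 1 = h.1 1 1) : g = h := by
  apply Subtype.ext
  ext i j
  fin_cases i <;> fin_cases j <;> assumption

theorem dk_det (g : Matrix.SpecialLinearGroup (Fin 2) K) :
    g.1 0 0 * g.1 1 1 - g.1 0 1 * g.1 1 0 = 1 := by
  have := g.2
  rwa [Matrix.det_fin_two] at this

@[simp] theorem dk_mul00 (g h : Matrix.SpecialLinearGroup (Fin 2) K) :
    (g * h).1 0 0 = g.1 0 0 * h.1 0 0 + g.1 0 1 * h.1 1 0 := by
  simp [Matrix.SpecialLinearGroup.coe_mul, Matrix.mul_apply, Fin.sum_univ_two]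
@[simp] theorem dk_mul01 (g h : Matrix.SpecialLinearGroup (Fin 2) K) :
    (g * h).1 0 1 = g.1 0 0 * h.1 0 1 + g.1 0 1 * h.1 1 1 := by
  simp [Matrix.SpecialLinearGroup.coe_mul, Matrix.mul_apply, Fin.sum_univ_two]
@[simp] theorem dk_mul10 (g h : Matrix.SpecialLinearGroup (Fin 2) K) :
    (g * h).1 1 0 = g.1 1 0 * h.1 0 0 + g.1 1 1 * h.1 1 0 := by
  simp [Matrix.SpecialLinearGroup.coe_mul, Matrix.mul_apply, Fin.sum_univ_two]
@[simp] theorem dk_mul11 (g h : Matrix.SpecialLinearGroup (Fin 2) K) :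
    (g * h).1 1 1 = g.1 1 0 * h.1 0 1 + g.1 1 1 * h.1 1 1 := by
  simp [Matrix.SpecialLinearGroup.coe_mul, Matrix.mul_apply, Fin.sum_univ_two]

@[simp] theorem dk_inv00 (g : Matrix.SpecialLinearGroup (Fin 2) K) : (g⁻¹).1 0 0 = g.1 1 1 := by
  simp [Matrix.SpecialLinearGroup.coe_inv, Matrix.adjugate_fin_two]
@[simp] theorem dk_inv01 (g : Matrix.SpecialLinearGroup (Fin 2) K) : (g⁻¹).1 0 1 = - g.1 0 1 := by
  simp [Matrix.SpecialLinearGroup.coe_inv, Matrix.adjugate_fin_two]
@[simp] theorem dk_inv10 (g : Matrix.SpecialLinearGroup (Fin 2) K) : (g⁻¹).1 1 0 = - g.1 1 0 := by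
  simp [Matrix.SpecialLinearGroup.coe_inv, Matrix.adjugate_fin_two]
@[simp] theorem dk_inv11 (g : Matrix.SpecialLinearGroup (Fin 2) K) : (g⁻¹).1 1 1 = g.1 0 0 := by
  simp [Matrix.SpecialLinearGroup.coe_inv, Matrix.adjugate_fin_two]

@[simp] theorem dk_one00 : (1 : Matrix.SpecialLinearGroup (Fin 2) K).1 0 0 = 1 := by simp
@[simp] theorem dk_one01 : (1 : Matrix.SpecialLinearGroup (Fin 2) K).1 0 1 = 0 := by simp
@[simp] theorem dk_one10 : (1 : Matrix.SpecialLinearGroup (Fin 2) K).1 1 0 = 0 := by simp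
@[simp] theorem dk_one11 : (1 : Matrix.SpecialLinearGroup (Fin 2) K).1 1 1 = 1 := by simp

theorem dkU_mul (x y : K) : dkU x * dkU y = dkU (x + y) := by
  apply dk_ext <;> simp [add_comm]

theorem dkU_zero : dkU (0 : K) = 1 := by
  apply dk_ext <;> simp

theorem dkU_inv (x : K) : (dkU x)⁻¹ = dkU (-x) := by
  apply dk_ext <;> simp

theorem dkL_mul (x y : K) : dkL x * dkL y = dkL (x + y) := by
  apply dk_ext <;> simp

theorem dkL_zero : dkL (0 : K) = 1 := by
  apply dk_ext <;> simp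

theorem dkL_inv (x : K) : (dkL x)⁻¹ = dkL (-x) := by
  apply dk_ext <;> simp

/-- conjugation by `diag(lam, 1)` -/
def dkTw (lam : K) (hl : lam ≠ 0) :
    Matrix.SpecialLinearGroup (Fin 2) K →* Matrix.SpecialLinearGroup (Fin 2) K :=
  MonoidHom.mk' (fun g => dkMk (g.1 0 0) (lam * g.1 0 1) (lam⁻¹ * g.1 1 0) (g.1 1 1)
    (by have := dk_det g; field_simp; linear_combination this))
    (by
      intro g h
      apply dk_ext <;> simp <;> field_simp)

theorem dkTw_U (lam : K) (hl : lam ≠ 0) (x : K) : dkTw lam hl (dkU x) = dkU (lam * x) := by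
  apply dk_ext <;> simp [dkTw]

theorem dkTw_L (lam : K) (hl : lam ≠ 0) (x : K) : dkTw lam hl (dkL x) = dkL (lam⁻¹ * x) := by
  apply dk_ext <;> simp [dkTw]

/-- conjugation by `[[0,1],[-α,0]]` -/
def dkNu (al : K) (ha : al ≠ 0) :
    Matrix.SpecialLinearGroup (Fin 2) K →* Matrix.SpecialLinearGroup (Fin 2) K :=
  MonoidHom.mk' (fun g => dkMk (g.1 1 1) (-(g.1 1 0) / al) (-(al * g.1 0 1)) (g.1 0 0)
    (by have := dk_det g; field_simp; linear_combination this))
    (by
      intro g h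
      apply dk_ext <;> simp <;> field_simp <;> ring)

theorem dkNu_U (al : K) (ha : al ≠ 0) (x : K) : dkNu al ha (dkU x) = dkL (-(al * x)) := by
  apply dk_ext <;> simp [dkNu]

theorem dkNu_L (al : K) (ha : al ≠ 0) (x : K) : dkNu al ha (dkL x) = dkU (-x / al) := by
  apply dk_ext <;> simp [dkNu]

end dk60basic

section dk60gen
variable {k K : Type*} [Field k] [Field K] [Algebra k K]

/-- the generating set of S5060 (verbatim) -/
def dkGen (k : Type*) {K : Type*} [Field k] [Field K] [Algebra k K] (α : K) :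
    Set (Matrix.SpecialLinearGroup (Fin 2) K) :=
  {g : Matrix.SpecialLinearGroup (Fin 2) K | ∃ c : k, (g : Matrix (Fin 2) (Fin 2) K) = !![1, algebraMap k K c; 0, 1]} ∪
        {g : Matrix.SpecialLinearGroup (Fin 2) K | ∃ c : k, (g : Matrix (Fin 2) (Fin 2) K) = !![1, 0; algebraMap k K c * α, 1]}

theorem dkU_mem_gen (α : K) (c : k) : dkU (algebraMap k K c) ∈ dkGen k α := Or.inl ⟨c, rfl⟩

theorem dkL_mem_gen (α : K) (c : k) : dkL (algebraMap k K c * α) ∈ dkGen k α := Or.inr ⟨c, rfl⟩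

theorem dkGen_cases {α : K} {g : Matrix.SpecialLinearGroup (Fin 2) K} (hg : g ∈ dkGen k α) :
    (∃ c : k, g = dkU (algebraMap k K c)) ∨ (∃ c : k, g = dkL (algebraMap k K c * α)) := by
  rcases hg with ⟨c, hc⟩ | ⟨c, hc⟩
  · exact Or.inl ⟨c, Subtype.ext hc⟩
  · exact Or.inr ⟨c, Subtype.ext hc⟩

theorem dkH_U (α : K) (c : k) : dkU (algebraMap k K c) ∈ Subgroup.closure (dkGen k α) :=
  Subgroup.subset_closure (dkU_mem_gen α c)

theorem dkH_L (α : K) (c : k) : dkL (algebraMap k K c * α) ∈ Subgroup.closure (dkGen k α) :=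
  Subgroup.subset_closure (dkL_mem_gen α c)

theorem dkH_hom {α : K}
    (f : Matrix.SpecialLinearGroup (Fin 2) K →* Matrix.SpecialLinearGroup (Fin 2) K)
    (hf : ∀ g ∈ dkGen k α, f g ∈ Subgroup.closure (dkGen k α))
    {g : Matrix.SpecialLinearGroup (Fin 2) K} (hg : g ∈ Subgroup.closure (dkGen k α)) :
    f g ∈ Subgroup.closure (dkGen k α) := by
  have : Subgroup.closure (dkGen k α) ≤ (Subgroup.closure (dkGen k α)).comap f := by
    rw [Subgroup.closure_le]; intro x hx; exact hf x hx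
  exact this hg

theorem dkH_tw {α : K} (c : k) (hc : c ≠ 0)
    {g : Matrix.SpecialLinearGroup (Fin 2) K} (hg : g ∈ Subgroup.closure (dkGen k α)) :
    dkTw (algebraMap k K c) (by simpa using hc) g ∈ Subgroup.closure (dkGen k α) := by
  refine dkH_hom _ ?_ hg
  intro x hx
  rcases dkGen_cases hx with ⟨a, rfl⟩ | ⟨b, rfl⟩
  · rw [dkTw_U, ← map_mul]; exact dkH_U α _
  · rw [dkTw_L]
    have : (algebraMap k K c)⁻¹ * (algebraMap k K b * α) = algebraMap k K (c⁻¹ * b) * α := by
      rw [map_mul, map_inv₀]; ring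
    rw [this]; exact dkH_L α _

theorem dkH_nu {α : K} (hα : α ≠ 0)
    {g : Matrix.SpecialLinearGroup (Fin 2) K} (hg : g ∈ Subgroup.closure (dkGen k α)) :
    dkNu α hα g ∈ Subgroup.closure (dkGen k α) := by
  refine dkH_hom _ ?_ hg
  intro x hx
  rcases dkGen_cases hx with ⟨a, rfl⟩ | ⟨b, rfl⟩
  · rw [dkNu_U]
    have : -(α * algebraMap k K a) = algebraMap k K (-a) * α := by
      rw [map_neg]; ring
    rw [this]; exact dkH_L α _
  · rw [dkNu_L]
    have : -(algebraMap k K b * α) / α = algebraMap k K (-b) := by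
      rw [map_neg]; field_simp
    rw [this]; exact dkH_U α _

theorem dkH_U_scale {α : K} {x : K} (hx : dkU x ∈ Subgroup.closure (dkGen k α)) (c : k) :
    dkU (algebraMap k K c * x) ∈ Subgroup.closure (dkGen k α) := by
  by_cases hc : c = 0
  · subst hc; simp [dkU_zero]
  · have := dkH_tw c hc hx
    rwa [dkTw_U] at this

theorem dkH_U_add {α : K} {x y : K} (hx : dkU x ∈ Subgroup.closure (dkGen k α))
    (hy : dkU y ∈ Subgroup.closure (dkGen k α)) : dkU (x + y) ∈ Subgroup.closure (dkGen k α) := by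
  rw [← dkU_mul]; exact mul_mem hx hy

theorem dkH_U_neg {α : K} {x : K} (hx : dkU x ∈ Subgroup.closure (dkGen k α)) :
    dkU (-x) ∈ Subgroup.closure (dkGen k α) := by
  rw [← dkU_inv]; exact inv_mem hx

theorem dkH_L_of_U {α : K} (hα : α ≠ 0) {x : K} (hx : dkU x ∈ Subgroup.closure (dkGen k α)) :
    dkL (-(α * x)) ∈ Subgroup.closure (dkGen k α) := by
  have := dkH_nu hα hx
  rwa [dkNu_U] at this

/-- matrices of SL₂ with all entries in a subring -/
def dkSub (S : Subring K) : Subgroup (Matrix.SpecialLinearGroup (Fin 2) K) where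
  carrier := {g | g.1 0 0 ∈ S ∧ g.1 0 1 ∈ S ∧ g.1 1 0 ∈ S ∧ g.1 1 1 ∈ S}
  mul_mem' := by
    rintro g h ⟨g1, g2, g3, g4⟩ ⟨h1, h2, h3, h4⟩
    refine ⟨?_, ?_, ?_, ?_⟩
    · rw [dk_mul00]; exact S.add_mem (S.mul_mem g1 h1) (S.mul_mem g2 h3)
    · rw [dk_mul01]; exact S.add_mem (S.mul_mem g1 h2) (S.mul_mem g2 h4)
    · rw [dk_mul10]; exact S.add_mem (S.mul_mem g3 h1) (S.mul_mem g4 h3)
    · rw [dk_mul11]; exact S.add_mem (S.mul_mem g3 h2) (S.mul_mem g4 h4)
  one_mem' := by
    refine ⟨?_, ?_, ?_, ?_⟩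
    · rw [dk_one00]; exact S.one_mem
    · rw [dk_one01]; exact S.zero_mem
    · rw [dk_one10]; exact S.zero_mem
    · rw [dk_one11]; exact S.one_mem
  inv_mem' := by
    rintro g ⟨g1, g2, g3, g4⟩
    refine ⟨?_, ?_, ?_, ?_⟩
    · rw [dk_inv00]; exact g4
    · rw [dk_inv01]; exact S.neg_mem g2
    · rw [dk_inv10]; exact S.neg_mem g3
    · rw [dk_inv11]; exact g1

theorem dkH_le_sub (α : K) :
    Subgroup.closure (dkGen k α) ≤ dkSub (IntermediateField.adjoin k ({α} : Set K)).toSubfield.toSubring := by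
  rw [Subgroup.closure_le]
  intro g hg
  have hα : α ∈ IntermediateField.adjoin k ({α} : Set K) := IntermediateField.mem_adjoin_simple_self k α
  rcases dkGen_cases hg with ⟨a, rfl⟩ | ⟨b, rfl⟩
  · refine ⟨?_, ?_, ?_, ?_⟩
    · exact (IntermediateField.adjoin k ({α} : Set K)).one_mem
    · exact (IntermediateField.adjoin k ({α} : Set K)).algebraMap_mem a
    · exact (IntermediateField.adjoin k ({α} : Set K)).zero_mem
    · exact (IntermediateField.adjoin k ({α} : Set K)).one_mem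
  · refine ⟨?_, ?_, ?_, ?_⟩
    · exact (IntermediateField.adjoin k ({α} : Set K)).one_mem
    · exact (IntermediateField.adjoin k ({α} : Set K)).zero_mem
    · exact (IntermediateField.adjoin k ({α} : Set K)).mul_mem
        ((IntermediateField.adjoin k ({α} : Set K)).algebraMap_mem b) hα
    · exact (IntermediateField.adjoin k ({α} : Set K)).one_mem

/-- `SL₂` over a subfield is generated by its unitriangular elements -/
theorem dk_gen_top (S : Subfield K) (M : Subgroup (Matrix.SpecialLinearGroup (Fin 2) K))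
    (hU : ∀ x ∈ S, dkU x ∈ M) (hL : ∀ y ∈ S, dkL y ∈ M)
    {g : Matrix.SpecialLinearGroup (Fin 2) K} (hg : g ∈ dkSub S.toSubring) : g ∈ M := by
  have key : ∀ g : Matrix.SpecialLinearGroup (Fin 2) K, g ∈ dkSub S.toSubring → g.1 1 0 ≠ 0 → g ∈ M := by
    rintro g ⟨g1, g2, g3, g4⟩ hne
    have h1 : (g.1 0 0 - 1) / g.1 1 0 ∈ S := S.div_mem (S.sub_mem g1 S.one_mem) g3
    have h2 : (g.1 1 1 - 1) / g.1 1 0 ∈ S := S.div_mem (S.sub_mem g4 S.one_mem) g3
    have : g = dkU ((g.1 0 0 - 1) / g.1 1 0) * dkL (g.1 1 0) * dkU ((g.1 1 1 - 1) / g.1 1 0) := by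
      have hd := dk_det g
      apply dk_ext <;> simp <;> field_simp
      · ring
      · linear_combination (-1 : K) * hd
      · ring
    rw [this]
    exact mul_mem (mul_mem (hU _ h1) (hL _ g3)) (hU _ h2)
  by_cases hne : g.1 1 0 = 0
  · have hg' : dkL 1 * g ∈ dkSub S.toSubring := by
      refine mul_mem ⟨?_, ?_, ?_, ?_⟩ hg
      · rw [dkL_00]; exact S.one_mem
      · rw [dkL_01]; exact S.zero_mem
      · rw [dkL_10]; exact S.one_mem
      · rw [dkL_11]; exact S.one_mem
    have hne' : (dkL 1 * g).1 1 0 ≠ 0 := by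
      have hd := dk_det g
      rw [hne] at hd
      simp only [dk_mul10, dkL_10, dkL_11, hne, one_mul, add_zero]
      intro h0
      rw [h0] at hd
      simp at hd
    have := key _ hg' hne'
    have h3 : g = (dkL 1)⁻¹ * (dkL 1 * g) := by group
    rw [h3]
    exact mul_mem (inv_mem (hL 1 S.one_mem)) this
  · exact key g hg hne

end dk60gen

section dk60euclid

/-- fraction-free elimination step on the first polynomial -/
noncomputable def dkP1 {A : Type*} [CommRing A] (j : ℕ) (P R : A[X]) : A[X] :=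
  C (R.coeff (j + 1)) * P - C (P.coeff (j + 1)) * R

/-- fraction-free elimination step on the second polynomial -/
noncomputable def dkR1 {A : Type*} [CommRing A] (j : ℕ) (P R : A[X]) : A[X] :=
  C ((dkP1 j P R).coeff j) * R - C (R.coeff (j + 1)) * X * dkP1 j P R

/-- product of the leading data of the fraction-free elimination -/
noncomputable def dkG {A : Type*} [CommRing A] : ℕ → A[X] → A[X] → A
  | 0, _, _ => 1
  | (j + 1), P, R => R.coeff (j + 1) * (dkP1 j P R).coeff j * dkG j (dkP1 j P R) (dkR1 j P R)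

theorem dkP1_map {A B : Type*} [CommRing A] [CommRing B] (φ : A →+* B) (j : ℕ) (P R : A[X]) :
    dkP1 j (P.map φ) (R.map φ) = (dkP1 j P R).map φ := by
  simp [dkP1, Polynomial.coeff_map]

theorem dkR1_map {A B : Type*} [CommRing A] [CommRing B] (φ : A →+* B) (j : ℕ) (P R : A[X]) :
    dkR1 j (P.map φ) (R.map φ) = (dkR1 j P R).map φ := by
  simp [dkR1, dkP1_map, Polynomial.coeff_map]

theorem dkG_map {A B : Type*} [CommRing A] [CommRing B] (φ : A →+* B) :
    ∀ (j : ℕ) (P R : A[X]), dkG j (P.map φ) (R.map φ) = φ (dkG j P R)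
  | 0, _, _ => by simp [dkG]
  | (j + 1), P, R => by
      simp [dkG, dkP1_map, dkR1_map, Polynomial.coeff_map, dkG_map φ j]

theorem dkP1_coeff {A : Type*} [CommRing A] (j : ℕ) (P R : A[X]) (N : ℕ) :
    (dkP1 j P R).coeff N = R.coeff (j + 1) * P.coeff N - P.coeff (j + 1) * R.coeff N := by
  simp [dkP1]

theorem dkR1_coeff_succ {A : Type*} [CommRing A] (j : ℕ) (P R : A[X]) (N : ℕ) :
    (dkR1 j P R).coeff (N + 1)
      = (dkP1 j P R).coeff j * R.coeff (N + 1) - R.coeff (j + 1) * (dkP1 j P R).coeff N := by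
  simp [dkR1, mul_assoc]

theorem dkR1_coeff_zero {A : Type*} [CommRing A] (j : ℕ) (P R : A[X]) :
    (dkR1 j P R).coeff 0 = (dkP1 j P R).coeff j * R.coeff 0 := by
  simp [dkR1, mul_assoc]

end dk60euclid

section dk60orbit
variable {k K : Type*} [Field k] [Field K] [Algebra k K]

/-- scaled first columns of elements of the generated group -/
def dkO (k : Type*) {K : Type*} [Field k] [Field K] [Algebra k K] (α : K) (x y : K) : Prop :=
  ∃ h ∈ Subgroup.closure (dkGen k α), ∃ c : k, c ≠ 0 ∧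
    x = algebraMap k K c * h.1 0 0 ∧ y = algebraMap k K c * h.1 1 0

theorem dkO_u {α x y : K} (h : dkO k α x y) (a : k) {x' : K}
    (hx : x' = x + algebraMap k K a * y) : dkO k α x' y := by
  obtain ⟨g, hg, c, hc, rfl, rfl⟩ := h
  refine ⟨dkU (algebraMap k K a) * g, mul_mem (dkH_U α a) hg, c, hc, ?_, ?_⟩
  · rw [hx]; simp; ring
  · simp

theorem dkO_l {α x y : K} (h : dkO k α x y) (b : k) {y' : K}
    (hy : y' = y + algebraMap k K b * α * x) : dkO k α x y' := by
  obtain ⟨g, hg, c, hc, rfl, rfl⟩ := h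
  refine ⟨dkL (algebraMap k K b * α) * g, mul_mem (dkH_L α b) hg, c, hc, ?_, ?_⟩
  · simp
  · rw [hy]; simp; ring

theorem dkO_s {α x y : K} (h : dkO k α x y) (d : k) (hd : d ≠ 0) {x' y' : K}
    (hx : x' = algebraMap k K d * x) (hy : y' = algebraMap k K d * y) : dkO k α x' y' := by
  obtain ⟨g, hg, c, hc, rfl, rfl⟩ := h
  refine ⟨g, hg, d * c, mul_ne_zero hd hc, ?_, ?_⟩
  · rw [hx, map_mul]; ring
  · rw [hy, map_mul]; ring

theorem dkO_s2 {α x y : K} (h : dkO k α x y) (d : k) (hd : d ≠ 0) {y' : K}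
    (hy : y' = algebraMap k K d * y) : dkO k α x y' := by
  obtain ⟨g, hg, c, hc, rfl, rfl⟩ := h
  refine ⟨_, dkH_tw d⁻¹ (inv_ne_zero hd) hg, c, hc, ?_, ?_⟩
  · simp [dkTw]
  · rw [hy]; simp [dkTw]; ring

theorem dkO_s1 {α x y : K} (h : dkO k α x y) (d : k) (hd : d ≠ 0) {x' : K}
    (hx : x' = algebraMap k K d * x) : dkO k α x' y := by
  have h1 := dkO_s h d hd hx rfl
  refine dkO_s2 h1 d⁻¹ (inv_ne_zero hd) ?_
  rw [← mul_assoc, ← map_mul, inv_mul_cancel₀ hd, map_one, one_mul]

/-- peeling lemma: a regular pair of polynomials evaluates into the scaled orbit -/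
theorem dk_peel (α : K) : ∀ (j : ℕ) (P R : k[X]), (∀ N, j < N → P.coeff N = 0) →
    (∀ N, j < N → R.coeff N = 0) → P.coeff 0 ≠ 0 → R.coeff 0 = 0 → dkG j P R ≠ 0 →
    dkO k α (aeval α P) (aeval α R)
  | 0, P, R, hP, hR, hP0, hR0, _ => by
      have h1 : P = C (P.coeff 0) := by
        ext N
        rcases Nat.eq_zero_or_pos N with rfl | hN
        · simp
        · rw [hP N hN, coeff_C, if_neg (by omega)]
      have h2 : R = 0 := by
        ext N
        rcases Nat.eq_zero_or_pos N with rfl | hN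
        · simpa using hR0
        · rw [hR N hN]; simp
      rw [h1, h2]
      refine ⟨1, one_mem _, P.coeff 0, hP0, ?_, ?_⟩
      · simp
      · simp
  | (j + 1), P, R, hP, hR, hP0, hR0, hG => by
      have hG' : R.coeff (j + 1) * (dkP1 j P R).coeff j * dkG j (dkP1 j P R) (dkR1 j P R) ≠ 0 := hG
      have hc : R.coeff (j + 1) ≠ 0 := fun h => hG' (by rw [h]; ring)
      have hc' : (dkP1 j P R).coeff j ≠ 0 := fun h => hG' (by rw [h]; ring)
      have hG2 : dkG j (dkP1 j P R) (dkR1 j P R) ≠ 0 := fun h => hG' (by rw [h]; ring)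
      have hP' : ∀ N, j < N → (dkP1 j P R).coeff N = 0 := by
        intro N hN
        rw [dkP1_coeff]
        rcases Nat.lt_or_ge (j + 1) N with h | h
        · rw [hP N h, hR N h]; ring
        · have : N = j + 1 := by omega
          subst this; ring
      have hR' : ∀ N, j < N → (dkR1 j P R).coeff N = 0 := by
        intro N hN
        obtain ⟨N', rfl⟩ : ∃ N', N = N' + 1 := ⟨N - 1, by omega⟩
        rw [dkR1_coeff_succ]
        rcases Nat.lt_or_ge j N' with h | h
        · rw [hR (N' + 1) (by omega), hP' N' h]; ring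
        · have : N' = j := by omega
          subst this; ring
      have hP0' : (dkP1 j P R).coeff 0 ≠ 0 := by
        rw [dkP1_coeff, hR0]
        simpa using mul_ne_zero hc hP0
      have hR0' : (dkR1 j P R).coeff 0 = 0 := by
        rw [dkR1_coeff_zero, hR0]; ring
      have ih := dk_peel α j (dkP1 j P R) (dkR1 j P R) hP' hR' hP0' hR0' hG2
      have e1 : aeval α (dkP1 j P R)
          = algebraMap k K (R.coeff (j + 1)) * aeval α P - algebraMap k K (P.coeff (j + 1)) * aeval α R := by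
        simp [dkP1]
      have e2 : aeval α (dkR1 j P R)
          = algebraMap k K ((dkP1 j P R).coeff j) * aeval α R
            - algebraMap k K (R.coeff (j + 1)) * α * aeval α (dkP1 j P R) := by
        simp [dkR1]
      have s1 := dkO_l ih (R.coeff (j + 1))
        (y' := algebraMap k K ((dkP1 j P R).coeff j) * aeval α R) (by rw [e2]; ring)
      have s2 := dkO_s2 s1 ((dkP1 j P R).coeff j)⁻¹ (inv_ne_zero hc') (y' := aeval α R) (by
        rw [← mul_assoc, ← map_mul, inv_mul_cancel₀ hc', map_one, one_mul])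
      have s3 := dkO_u s2 (P.coeff (j + 1))
        (x' := algebraMap k K (R.coeff (j + 1)) * aeval α P) (by rw [e1]; ring)
      exact dkO_s1 s3 (R.coeff (j + 1))⁻¹ (inv_ne_zero hc) (by
        rw [← mul_assoc, ← map_mul, inv_mul_cancel₀ hc, map_one, one_mul])

end dk60orbit

section dk60base

/-- the base chain: first columns of `(u(1) l(X))^j` -/
noncomputable def dkB (k : Type*) [Field k] : ℕ → k[X] × k[X]
  | 0 => (1, 0)
  | (j + 1) => ((dkB k j).1 + ((dkB k j).2 + X * (dkB k j).1), (dkB k j).2 + X * (dkB k j).1)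

variable {k : Type*} [Field k]

theorem dkB_succ1 (j : ℕ) :
    (dkB k (j + 1)).1 = (dkB k j).1 + ((dkB k j).2 + X * (dkB k j).1) := rfl

theorem dkB_succ2 (j : ℕ) :
    (dkB k (j + 1)).2 = (dkB k j).2 + X * (dkB k j).1 := rfl

theorem dkB_high : ∀ (j N : ℕ), j < N → (dkB k j).1.coeff N = 0 ∧ (dkB k j).2.coeff N = 0
  | 0, N, hN => by
      constructor
      · show (1 : k[X]).coeff N = 0
        rw [coeff_one, if_neg (by omega)]
      · show (0 : k[X]).coeff N = 0
        simp
  | (j + 1), N, hN => by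
      obtain ⟨N', rfl⟩ : ∃ N', N = N' + 1 := ⟨N - 1, by omega⟩
      have h1 := dkB_high j (N' + 1) (by omega)
      have h2 := dkB_high j N' (by omega)
      have e2 : (dkB k (j + 1)).2.coeff (N' + 1) = 0 := by
        rw [dkB_succ2, coeff_add, coeff_X_mul, h1.2, h2.1]; ring
      refine ⟨?_, e2⟩
      rw [dkB_succ1, ← dkB_succ2, coeff_add, h1.1, e2]; ring

theorem dkB_top : ∀ (j : ℕ), (dkB k j).1.coeff j = 1
  | 0 => by
      show (1 : k[X]).coeff 0 = 1
      simp
  | (j + 1) => by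
      rw [dkB_succ1, coeff_add, coeff_add, coeff_X_mul, (dkB_high j (j + 1) (by omega)).1,
        (dkB_high j (j + 1) (by omega)).2, dkB_top j]; ring

theorem dkB_top2 (j : ℕ) : (dkB k (j + 1)).2.coeff (j + 1) = 1 := by
  rw [dkB_succ2, coeff_add, coeff_X_mul, (dkB_high j (j + 1) (by omega)).2, dkB_top j]; ring

theorem dkB_zero : ∀ (j : ℕ), (dkB k j).1.coeff 0 = 1 ∧ (dkB k j).2.coeff 0 = 0
  | 0 => by
      constructor
      · show (1 : k[X]).coeff 0 = 1
        simp
      · show (0 : k[X]).coeff 0 = 0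
        simp
  | (j + 1) => by
      have h := dkB_zero j
      have e2 : (dkB k (j + 1)).2.coeff 0 = 0 := by
        rw [dkB_succ2, coeff_add, h.2]; simp
      refine ⟨?_, e2⟩
      rw [dkB_succ1, ← dkB_succ2, coeff_add, h.1, e2]; ring

theorem dkB_P1 (j : ℕ) : dkP1 j (dkB k (j + 1)).1 (dkB k (j + 1)).2 = (dkB k j).1 := by
  have h1 : (dkB k (j + 1)).1.coeff (j + 1) = 1 := dkB_top (j + 1)
  unfold dkP1
  rw [dkB_top2, h1, dkB_succ1, ← dkB_succ2]
  simp

theorem dkB_R1 (j : ℕ) : dkR1 j (dkB k (j + 1)).1 (dkB k (j + 1)).2 = (dkB k j).2 := by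
  unfold dkR1
  rw [dkB_P1, dkB_top, dkB_top2, dkB_succ2]
  simp

theorem dkB_G : ∀ (j : ℕ), dkG j (dkB k j).1 (dkB k j).2 = 1
  | 0 => rfl
  | (j + 1) => by
      show (dkB k (j + 1)).2.coeff (j + 1) * (dkP1 j (dkB k (j + 1)).1 (dkB k (j + 1)).2).coeff j
        * dkG j (dkP1 j (dkB k (j + 1)).1 (dkB k (j + 1)).2) (dkR1 j (dkB k (j + 1)).1 (dkB k (j + 1)).2) = 1
      rw [dkB_P1, dkB_R1, dkB_top2, dkB_top, dkB_G j]; ring

/-- a line of polynomials with a polynomial parameter -/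
noncomputable def dkLine (U V : k[X]) : (k[X])[X] := U.map C + C X * V.map C

theorem dkLine_map (U V : k[X]) (s : k) :
    (dkLine U V).map (evalRingHom s) = U + C s * V := by
  have h : (evalRingHom s).comp (C : k →+* k[X]) = RingHom.id k := by
    ext a; simp
  simp [dkLine, Polynomial.map_map, h]

theorem dkG_line (n : ℕ) (U V U' V' : k[X]) (s : k) :
    eval s (dkG n (dkLine U V) (dkLine U' V')) = dkG n (U + C s * V) (U' + C s * V') := by
  rw [← dkLine_map, ← dkLine_map, dkG_map]; rfl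

end dk60base

section dk60inf
variable {k K : Type*} [Field k] [Field K] [Algebra k K]

theorem dk_aeval_mem (α : K) (P : k[X]) : aeval α P ∈ IntermediateField.adjoin k ({α} : Set K) :=
  IntermediateField.algebra_adjoin_le_adjoin k _ (Polynomial.aeval_mem_adjoin_singleton k α)

theorem dk_repr {α : K} (hα : IsAlgebraic k α) {y : K}
    (hy : y ∈ IntermediateField.adjoin k ({α} : Set K)) :
    ∃ Q : k[X], (∀ N, (minpoly k α).natDegree ≤ N → Q.coeff N = 0) ∧ aeval α Q = y := by
  have h1 : y ∈ (IntermediateField.adjoin k ({α} : Set K)).toSubalgebra := hy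
  rw [IntermediateField.adjoin_simple_toSubalgebra_of_isAlgebraic hα,
    Algebra.adjoin_singleton_eq_range_aeval] at h1
  obtain ⟨Q0, rfl⟩ := h1
  have hm : (minpoly k α).Monic := minpoly.monic hα.isIntegral
  refine ⟨Q0 %ₘ minpoly k α, ?_, ?_⟩
  · intro N hN
    apply coeff_eq_zero_of_natDegree_lt
    exact lt_of_lt_of_le (natDegree_modByMonic_lt Q0 hm (minpoly.ne_one k α)) hN
  · have h2 := modByMonic_add_div Q0 (minpoly k α)
    have h3 := congrArg (aeval α) h2
    rw [map_add, map_mul, minpoly.aeval, zero_mul, add_zero] at h3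
    exact h3

theorem dk_repr1 {α : K} (hα : IsAlgebraic k α) (hα0 : α ≠ 0) {z : K}
    (hz : z ∈ IntermediateField.adjoin k ({α} : Set K)) (c0 : k) :
    ∃ Q : k[X], (∀ N, (minpoly k α).natDegree < N → Q.coeff N = 0) ∧ Q.coeff 0 = c0 ∧
      aeval α Q = z := by
  have hαF : α ∈ IntermediateField.adjoin k ({α} : Set K) := IntermediateField.mem_adjoin_simple_self k α
  have h1 : (z - algebraMap k K c0) / α ∈ IntermediateField.adjoin k ({α} : Set K) :=
    (IntermediateField.adjoin k ({α} : Set K)).div_mem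
      ((IntermediateField.adjoin k ({α} : Set K)).sub_mem hz
        ((IntermediateField.adjoin k ({α} : Set K)).algebraMap_mem c0)) hαF
  obtain ⟨Q, hQ, hQe⟩ := dk_repr hα h1
  refine ⟨C c0 + X * Q, ?_, ?_, ?_⟩
  · intro N hN
    obtain ⟨N', rfl⟩ : ∃ N', N = N' + 1 := ⟨N - 1, by omega⟩
    rw [coeff_add, coeff_X_mul, hQ N' (by omega), coeff_C, if_neg (by omega)]; ring
  · simp
  · rw [map_add, map_mul, aeval_C, aeval_X, hQe]; field_simp; ring

theorem dk_O_pair {α x y p : K} (h1 : dkO k α x y) (h2 : dkO k α (p * x) (p * y)) :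
    ∃ g ∈ Subgroup.closure (dkGen k α), ∃ c : k, c ≠ 0 ∧ g.1 1 0 = 0 ∧
      g.1 0 0 = algebraMap k K c * p := by
  obtain ⟨g1, hg1, c1, hc1, hx1, hy1⟩ := h1
  obtain ⟨g2, hg2, c2, hc2, hx2, hy2⟩ := h2
  have hc1' : algebraMap k K c1 ≠ 0 := by simpa using hc1
  have hc2' : algebraMap k K c2 ≠ 0 := by simpa using hc2
  have hd := dk_det g1
  refine ⟨g1⁻¹ * g2, mul_mem (inv_mem hg1) hg2, c1 / c2, div_ne_zero hc1 hc2, ?_, ?_⟩
  · simp only [dk_mul10, dk_inv10, dk_inv11]
    have e1 : g2.1 0 0 = p * x / algebraMap k K c2 := by rw [hx2]; field_simp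
    have e2 : g2.1 1 0 = p * y / algebraMap k K c2 := by rw [hy2]; field_simp
    rw [e1, e2, hx1, hy1]; field_simp; ring
  · simp only [dk_mul00, dk_inv00, dk_inv01]
    have e1 : g2.1 0 0 = p * x / algebraMap k K c2 := by rw [hx2]; field_simp
    have e2 : g2.1 1 0 = p * y / algebraMap k K c2 := by rw [hy2]; field_simp
    rw [e1, e2, hx1, hy1, map_div₀]; field_simp
    linear_combination p * hd

/-- infinite base field: every nonzero element of `k(α)` is, up to a scalar of `k`, the diagonal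
entry of an upper triangular element of the generated group -/
theorem dk_diag [Infinite k] {α : K} (hα : IsAlgebraic k α) (hα0 : α ≠ 0) {p : K}
    (hp : p ∈ IntermediateField.adjoin k ({α} : Set K)) (hp0 : p ≠ 0) :
    ∃ g ∈ Subgroup.closure (dkGen k α), ∃ c : k, c ≠ 0 ∧ g.1 1 0 = 0 ∧
      g.1 0 0 = algebraMap k K c * p := by
  set n := (minpoly k α).natDegree with hn
  set P0 := (dkB k n).1 with hP0
  set R0 := (dkB k n).2 with hR0
  have hx0 : aeval α P0 ∈ IntermediateField.adjoin k ({α} : Set K) := dk_aeval_mem α P0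
  have hy0 : aeval α R0 ∈ IntermediateField.adjoin k ({α} : Set K) := dk_aeval_mem α R0
  have hpi : p⁻¹ ∈ IntermediateField.adjoin k ({α} : Set K) :=
    (IntermediateField.adjoin k ({α} : Set K)).inv_mem hp
  obtain ⟨Pt, hPt, hPt0, hPte⟩ := dk_repr1 hα hα0
    ((IntermediateField.adjoin k ({α} : Set K)).mul_mem hpi hx0) 1
  obtain ⟨Rt, hRt, hRt0, hRte⟩ := dk_repr1 hα hα0
    ((IntermediateField.adjoin k ({α} : Set K)).mul_mem hpi hy0) 0
  obtain ⟨Ph, hPh, hPh0, hPhe⟩ := dk_repr1 hα hα0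
    ((IntermediateField.adjoin k ({α} : Set K)).mul_mem hp hx0) 1
  obtain ⟨Rh, hRh, hRh0, hRhe⟩ := dk_repr1 hα hα0
    ((IntermediateField.adjoin k ({α} : Set K)).mul_mem hp hy0) 0
  set G1 := dkG n (dkLine P0 (Pt - P0)) (dkLine R0 (Rt - R0)) with hG1
  set G2 := dkG n (dkLine Ph (P0 - Ph)) (dkLine Rh (R0 - Rh)) with hG2
  have hG1ne : G1 ≠ 0 := by
    intro h
    have := dkG_line n P0 (Pt - P0) R0 (Rt - R0) 0
    rw [← hG1, h] at this
    simp only [eval_zero, map_zero, zero_mul, add_zero] at this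
    rw [dkB_G] at this
    exact zero_ne_one this
  have hG2ne : G2 ≠ 0 := by
    intro h
    have := dkG_line n Ph (P0 - Ph) Rh (R0 - Rh) 1
    rw [← hG2, h] at this
    simp only [eval_zero, map_one, one_mul, add_sub_cancel] at this
    rw [dkB_G] at this
    exact zero_ne_one this
  obtain ⟨s, hs⟩ : ∃ s : k, eval s (G1 * G2) ≠ 0 := by
    by_contra hcon
    simp only [not_exists, not_not] at hcon
    exact mul_ne_zero hG1ne hG2ne (zero_of_eval_zero _ hcon)
  rw [eval_mul] at hs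
  have hs1 : eval s G1 ≠ 0 := left_ne_zero_of_mul hs
  have hs2 : eval s G2 ≠ 0 := right_ne_zero_of_mul hs
  rw [hG1, dkG_line] at hs1
  rw [hG2, dkG_line] at hs2
  have hB0 := dkB_zero (k := k) n
  have o1 : dkO k α (aeval α (P0 + C s * (Pt - P0))) (aeval α (R0 + C s * (Rt - R0))) := by
    apply dk_peel α n _ _ _ _ _ _ hs1
    · intro N hN
      rw [coeff_add, coeff_C_mul, coeff_sub, hPt N hN, (dkB_high n N hN).1]; ring
    · intro N hN
      rw [coeff_add, coeff_C_mul, coeff_sub, hRt N hN, (dkB_high n N hN).2]; ring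
    · rw [coeff_add, coeff_C_mul, coeff_sub, hPt0, hB0.1]; simp
    · rw [coeff_add, coeff_C_mul, coeff_sub, hRt0, hB0.2]; simp
  have o2 : dkO k α (aeval α (Ph + C s * (P0 - Ph))) (aeval α (Rh + C s * (R0 - Rh))) := by
    apply dk_peel α n _ _ _ _ _ _ hs2
    · intro N hN
      rw [coeff_add, coeff_C_mul, coeff_sub, hPh N hN, (dkB_high n N hN).1]; ring
    · intro N hN
      rw [coeff_add, coeff_C_mul, coeff_sub, hRh N hN, (dkB_high n N hN).2]; ring
    · rw [coeff_add, coeff_C_mul, coeff_sub, hPh0, hB0.1]; simp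
    · rw [coeff_add, coeff_C_mul, coeff_sub, hRh0, hB0.2]; simp
  refine dk_O_pair o1 ?_
  have e1 : aeval α (Ph + C s * (P0 - Ph)) = p * aeval α (P0 + C s * (Pt - P0)) := by
    simp only [map_add, map_mul, map_sub, aeval_C, hPhe, hPte]
    field_simp
  have e2 : aeval α (Rh + C s * (R0 - Rh)) = p * aeval α (R0 + C s * (Rt - R0)) := by
    simp only [map_add, map_mul, map_sub, aeval_C, hRhe, hRte]
    field_simp
  rw [← e1, ← e2]
  exact o2

theorem dk_conj_U {g : Matrix.SpecialLinearGroup (Fin 2) K} (h : g.1 1 0 = 0) (x : K) :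
    g * dkU x * g⁻¹ = dkU (g.1 0 0 * g.1 0 0 * x) := by
  have hd := dk_det g
  rw [h] at hd
  apply dk_ext <;> simp [h]
  · linear_combination hd
  · ring
  · linear_combination hd

/-- infinite base field: all upper unitriangular elements over `k(α)` are in the group -/
theorem dk_U_all_inf [Infinite k] (h2 : (2 : k) ≠ 0) {α : K} (hα : IsAlgebraic k α) (hα0 : α ≠ 0)
    {x : K} (hx : x ∈ IntermediateField.adjoin k ({α} : Set K)) :
    dkU x ∈ Subgroup.closure (dkGen k α) := by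
  have hone : dkU (1 : K) ∈ Subgroup.closure (dkGen k α) := by
    have := dkH_U α (1 : k)
    rwa [map_one] at this
  have sq : ∀ p : K, p ∈ IntermediateField.adjoin k ({α} : Set K) →
      dkU (p * p) ∈ Subgroup.closure (dkGen k α) := by
    intro p hp
    by_cases hp0 : p = 0
    · subst hp0; simp [dkU_zero]
    · obtain ⟨g, hg, c, hc, hg10, hg00⟩ := dk_diag hα hα0 hp hp0
      have h1 : g * dkU 1 * g⁻¹ ∈ Subgroup.closure (dkGen k α) :=
        mul_mem (mul_mem hg hone) (inv_mem hg)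
      rw [dk_conj_U hg10, hg00] at h1
      have h3 := dkH_U_scale h1 (c⁻¹ * c⁻¹)
      have hc' : algebraMap k K c ≠ 0 := by simpa using hc
      have e : algebraMap k K (c⁻¹ * c⁻¹) * (algebraMap k K c * p * (algebraMap k K c * p) * 1)
          = p * p := by
        rw [map_mul, map_inv₀]; field_simp
      rwa [e] at h3
  have hF1 : (1 : K) ∈ IntermediateField.adjoin k ({α} : Set K) :=
    (IntermediateField.adjoin k ({α} : Set K)).one_mem
  have a1 := sq (x + 1) ((IntermediateField.adjoin k ({α} : Set K)).add_mem hx hF1)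
  have a2 := dkH_U_neg (sq (x - 1) ((IntermediateField.adjoin k ({α} : Set K)).sub_mem hx hF1))
  have a3 := dkH_U_scale (dkH_U_add a1 a2) ((4 : k)⁻¹)
  have h4 : (4 : k) ≠ 0 := by
    have : (4 : k) = 2 * 2 := by norm_num
    rw [this]; exact mul_ne_zero h2 h2
  have h4' : (4 : K) ≠ 0 := by
    have : algebraMap k K 4 ≠ 0 := (map_ne_zero (algebraMap k K)).mpr h4
    rwa [map_ofNat] at this
  have e : algebraMap k K (4 : k)⁻¹ * ((x + 1) * (x + 1) + -((x - 1) * (x - 1))) = x := by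
    rw [map_inv₀, map_ofNat]; field_simp; ring
  rwa [e] at a3

/-- final assembly: once all upper unitriangular elements over `k(α)` are available -/
theorem dk60_of_U {α : K} (hα0 : α ≠ 0)
    (hU : ∀ x ∈ IntermediateField.adjoin k ({α} : Set K), dkU x ∈ Subgroup.closure (dkGen k α)) :
    (Subgroup.closure (dkGen k α) : Set (Matrix.SpecialLinearGroup (Fin 2) K)) =
      {g : Matrix.SpecialLinearGroup (Fin 2) K | ∀ i j : Fin 2,
        (g : Matrix (Fin 2) (Fin 2) K) i j ∈ IntermediateField.adjoin k ({α} : Set K)} := by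
  have hαF : α ∈ IntermediateField.adjoin k ({α} : Set K) := IntermediateField.mem_adjoin_simple_self k α
  have hL : ∀ y ∈ IntermediateField.adjoin k ({α} : Set K), dkL y ∈ Subgroup.closure (dkGen k α) := by
    intro y hy
    have h1 : -y / α ∈ IntermediateField.adjoin k ({α} : Set K) :=
      (IntermediateField.adjoin k ({α} : Set K)).div_mem
        ((IntermediateField.adjoin k ({α} : Set K)).neg_mem hy) hαF
    have := dkH_L_of_U hα0 (hU _ h1)
    have e : -(α * (-y / α)) = y := by field_simp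
    rwa [e] at this
  ext g
  constructor
  · intro hg
    obtain ⟨g1, g2, g3, g4⟩ := dkH_le_sub α hg
    intro i j
    fin_cases i <;> fin_cases j
    · exact g1
    · exact g2
    · exact g3
    · exact g4
  · intro hg
    exact dk_gen_top (IntermediateField.adjoin k ({α} : Set K)).toSubfield _ hU hL
      ⟨hg 0 0, hg 0 1, hg 1 0, hg 1 1⟩

end dk60inf

end Cfsg.Agent.Lib.helper85
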