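import Mathlib
import Cfsg.Agent.Lib.helper85.Dk60
import Cfsg.Agent.Lib.helper46.DicksonMain

set_option autoImplicit false

namespace Cfsg.Agent.Lib.helper85

open Polynomial

section dk60fin
variable {k K : Type*} [Field k] [Field K] [Algebra k K]

theorem dk_exists_d [Finite k] (hk2 : (2 : k) ≠ 0) (hk3 : Nat.card k ≠ 3) :
    ∃ d : k, d ≠ 0 ∧ d ≠ 1 ∧ d ≠ -1 := by
  classical
  by_contra hcon
  apply hk3
  have := Fintype.ofFinite k
  have huniv : (Finset.univ : Finset k) = {0, 1, -1} := by
    ext d
    simp only [Finset.mem_univ, Finset.mem_insert, Finset.mem_singleton, true_iff]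
    by_contra h
    exact hcon ⟨d, fun h0 => h (Or.inl h0), fun h1 => h (Or.inr (Or.inl h1)),
      fun h2 => h (Or.inr (Or.inr h2))⟩
  rw [Nat.card_eq_fintype_card, ← Finset.card_univ, huniv]
  apply Finset.card_eq_three.mpr
  refine ⟨0, 1, -1, zero_ne_one, ?_, ?_, rfl⟩
  · intro h
    have : (1 : k) = 0 := by linear_combination h
    exact one_ne_zero this
  · intro h
    apply hk2
    linear_combination h

/-- finite base field: all upper unitriangular elements over `k(α)` are in the group
(via Dickson's lemma of helper46) -/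
theorem dk_U_all_fin [Finite k] (hk2 : (2 : k) ≠ 0) (hk3 : Nat.card k ≠ 3) {α : K}
    (hα : IsAlgebraic k α) (hα0 : α ≠ 0)
    {x : K} (hx : x ∈ IntermediateField.adjoin k ({α} : Set K)) :
    dkU x ∈ Subgroup.closure (dkGen k α) := by
  classical
  have : FiniteDimensional k ↥(IntermediateField.adjoin k ({α} : Set K)) :=
    IntermediateField.adjoin.finiteDimensional hα.isIntegral
  have : Finite ↥(IntermediateField.adjoin k ({α} : Set K)) := Module.finite_of_finite k
  haveI : Fintype ↥(IntermediateField.adjoin k ({α} : Set K)) := Fintype.ofFinite _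
  obtain ⟨p, hp⟩ := CharP.exists ↥(IntermediateField.adjoin k ({α} : Set K))
  have := hp
  have : Fact p.Prime := ⟨CharP.char_is_prime ↥(IntermediateField.adjoin k ({α} : Set K)) p⟩
  have h2K : (2 : K) ≠ 0 := by
    have : algebraMap k K 2 ≠ 0 := (map_ne_zero (algebraMap k K)).mpr hk2
    rwa [map_ofNat] at this
  have hp2 : p ≠ 2 := by
    rintro rfl
    apply h2K
    have h0 : ((2 : ℕ) : ↥(IntermediateField.adjoin k ({α} : Set K))) = 0 :=
      CharP.cast_eq_zero _ 2
    have := congrArg (algebraMap ↥(IntermediateField.adjoin k ({α} : Set K)) K) h0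
    rw [map_natCast, map_zero] at this
    exact_mod_cast this
  -- choice of the scalar
  obtain ⟨d, hd0, hd⟩ : ∃ d : k, d ≠ 0 ∧ ¬ (p = 3 ∧ (algebraMap k K d * α) ^ 2 = -1) := by
    by_cases h3 : p = 3 ∧ α ^ 2 = -1
    · obtain ⟨d, hd0, hd1, hd2⟩ := dk_exists_d hk2 hk3
      refine ⟨d, hd0, fun h => ?_⟩
      have e1 : algebraMap k K (d ^ 2) = algebraMap k K 1 := by
        rw [map_pow, map_one]
        have := h.2
        rw [mul_pow, h3.2] at this
        linear_combination (-1 : K) * this
      have e2 : d ^ 2 = 1 := (algebraMap k K).injective e1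
      have e3 : (d - 1) * (d + 1) = 0 := by linear_combination e2
      rcases mul_eq_zero.mp e3 with h' | h'
      · exact hd1 (by linear_combination h')
      · exact hd2 (by linear_combination h')
    · refine ⟨1, one_ne_zero, ?_⟩
      simpa using h3
  have hαF : α ∈ IntermediateField.adjoin k ({α} : Set K) := IntermediateField.mem_adjoin_simple_self k α
  have hcF : algebraMap k K d * α ∈ IntermediateField.adjoin k ({α} : Set K) :=
    (IntermediateField.adjoin k ({α} : Set K)).mul_mem
      ((IntermediateField.adjoin k ({α} : Set K)).algebraMap_mem d) hαF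
  have hXmap : ∀ s : ↥(IntermediateField.adjoin k ({α} : Set K)),
      Matrix.SpecialLinearGroup.map (algebraMap ↥(IntermediateField.adjoin k ({α} : Set K)) K)
        (Cfsg.Agent.Lib.helper46.dkX s) = dkU (s : K) := by
    intro s
    apply dk_ext <;> simp [Cfsg.Agent.Lib.helper46.sl_map_entry, Cfsg.Agent.Lib.helper46.dkX_coe]
  have hYmap : ∀ s : ↥(IntermediateField.adjoin k ({α} : Set K)),
      Matrix.SpecialLinearGroup.map (algebraMap ↥(IntermediateField.adjoin k ({α} : Set K)) K)
        (Cfsg.Agent.Lib.helper46.dkY s) = dkL (s : K) := by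
    intro s
    apply dk_ext <;> simp [Cfsg.Agent.Lib.helper46.sl_map_entry, Cfsg.Agent.Lib.helper46.dkY_coe]
  have hx1 : Cfsg.Agent.Lib.helper46.dkX (1 : ↥(IntermediateField.adjoin k ({α} : Set K)))
      ∈ (Subgroup.closure (dkGen k α)).comap (Matrix.SpecialLinearGroup.map
        (algebraMap ↥(IntermediateField.adjoin k ({α} : Set K)) K)) := by
    rw [Subgroup.mem_comap, hXmap]
    have := dkH_U α (1 : k)
    rw [map_one] at this
    simpa using this
  have hy1 : Cfsg.Agent.Lib.helper46.dkY
      (⟨algebraMap k K d * α, hcF⟩ : ↥(IntermediateField.adjoin k ({α} : Set K)))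
      ∈ (Subgroup.closure (dkGen k α)).comap (Matrix.SpecialLinearGroup.map
        (algebraMap ↥(IntermediateField.adjoin k ({α} : Set K)) K)) := by
    rw [Subgroup.mem_comap, hYmap]
    exact dkH_L α d
  have hc0 : (⟨algebraMap k K d * α, hcF⟩ : ↥(IntermediateField.adjoin k ({α} : Set K))) ≠ 0 := by
    intro h
    have := congrArg Subtype.val h
    simp only [ZeroMemClass.coe_zero] at this
    rcases mul_eq_zero.mp this with h' | h'
    · exact hd0 (by simpa using h')
    · exact hα0 h'
  rcases Cfsg.Agent.Lib.helper46.dk_main p hp2 _ hx1 _ hc0 hy1 with ⟨K', hcK, hK⟩ | hex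
  · have hpow : ∀ j : ℕ, dkU ((algebraMap k K d * α) ^ j) ∈ Subgroup.closure (dkGen k α) := by
      intro j
      have h1 := (hK _ (pow_mem hcK j)).1
      rw [Subgroup.mem_comap, hXmap] at h1
      simpa using h1
    have hmon : ∀ (j : ℕ) (a : k), dkU (algebraMap k K a * α ^ j) ∈ Subgroup.closure (dkGen k α) := by
      intro j a
      have h1 := dkH_U_scale (hpow j) (a * (d ^ j)⁻¹)
      have hd' : algebraMap k K d ≠ 0 := (map_ne_zero (algebraMap k K)).mpr hd0
      have e : algebraMap k K (a * (d ^ j)⁻¹) * (algebraMap k K d * α) ^ j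
          = algebraMap k K a * α ^ j := by
        rw [map_mul, map_inv₀, map_pow, mul_pow]
        field_simp
      rwa [e] at h1
    have hpoly : ∀ Q : k[X], dkU (aeval α Q) ∈ Subgroup.closure (dkGen k α) := by
      intro Q
      induction Q using Polynomial.induction_on' with
      | add P Q hP hQ => rw [map_add]; exact dkH_U_add hP hQ
      | monomial j a => rw [aeval_monomial]; exact hmon j a
    obtain ⟨Q, -, rfl⟩ := dk_repr hα hx
    exact hpoly Q
  · exfalso
    apply hd
    refine ⟨hex.1, ?_⟩
    have := congrArg Subtype.val hex.2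
    simpa using this

end dk60fin

end Cfsg.Agent.Lib.helper85
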