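import Mathlib
import Cfsg.Agent.Lib.helper86.IvDefs

/-! S3928 piece MAIN (helper85), core: the induction on `m`, with the statements of STEP and
SCHUR as hypotheses. -/

set_option autoImplicit false

namespace Cfsg.Agent.Lib.helper86.IV

/-- `1` lies in `ivI α`, so `ivI α` has at least one element. -/
theorem h85_iv_one_le_card {G : Type*} [Group G] [Finite G] (α : MulAut G) :
    1 ≤ Nat.card (ivI α) := by
  have h1 : (1 : G) ∈ ivI α := by
    refine ⟨?_, ?_⟩
    · rw [orderOf_one]; exact odd_one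
    · rw [map_one, inv_one]
  have : Nonempty (ivI α) := ⟨⟨1, h1⟩⟩
  exact Nat.card_pos

/-- MAIN, with STEP and SCHUR as hypotheses. -/
theorem h85_iv_main_core
    (hschur : ∀ (G : Type) [Group G] [Finite G] (α : MulAut G), IvHyp α → ∀ (m Q : ℕ),
      Nat.card (ivI α) ≤ m → (Subgroup.center G).index ≤ Q →
      Nat.card G ≤ (Nat.factorial m) ^ m * Q ^ (Q ^ 3 + 1))
    (hstep : ∀ (G : Type) [Group G] [Finite G] (α : MulAut G), IvHyp α → ∀ (m b : ℕ), 1 ≤ b →
      (∀ (G' : Type) [Group G'] [Finite G'] (α' : MulAut G'), IvHyp α' →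
        Nat.card (ivI α') ≤ m → Nat.card G' ≤ b) →
      Nat.card (ivI α) ≤ m + 1 → (Subgroup.center G).index ≤ b * ivE (m + 1) b) :
    ∀ m : ℕ, ∃ b : ℕ, 1 ≤ b ∧ ∀ (G : Type) [Group G] [Finite G] (α : MulAut G),
      IvHyp α → Nat.card (ivI α) ≤ m → Nat.card G ≤ b := by
  intro m
  induction m with
  | zero =>
    refine ⟨1, le_refl 1, ?_⟩
    intro G _ _ α _ hm
    have h1 := h85_iv_one_le_card α
    omega
  | succ m ih =>
    obtain ⟨b, hb1, hb⟩ := ih
    have hE : 1 ≤ ivE (m + 1) b := one_le_ivE (m + 1) b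
    have hQ1 : 1 ≤ b * ivE (m + 1) b := Nat.mul_pos hb1 hE
    refine ⟨(Nat.factorial (m + 1)) ^ (m + 1) *
      (b * ivE (m + 1) b) ^ ((b * ivE (m + 1) b) ^ 3 + 1), ?_, ?_⟩
    · have h1 : 1 ≤ (Nat.factorial (m + 1)) ^ (m + 1) :=
        Nat.one_le_pow _ _ (Nat.factorial_pos _)
      have h2 : 1 ≤ (b * ivE (m + 1) b) ^ ((b * ivE (m + 1) b) ^ 3 + 1) :=
        Nat.one_le_pow _ _ hQ1
      exact Nat.mul_pos h1 h2
    · intro G _ _ α h hm
      have h3 := hstep G α h m b hb1 hb hm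
      exact hschur G α h (m + 1) (b * ivE (m + 1) b) hm h3

end Cfsg.Agent.Lib.helper86.IV
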