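import Mathlib
import Cfsg.Agent.Lib.helper86.IvDefs
import Cfsg.Agent.Lib.helper85.IvMAINcore
import Cfsg.Agent.Lib.helper18.IvSCHUR
import Cfsg.Agent.Lib.helper86.IvSTEP

/-! S3928 piece MAIN (helper85): the bound, by induction on `m`. -/

set_option autoImplicit false

namespace Cfsg.Agent.Lib.helper86.IV

/-- MAIN : the bound, by induction on `m` (uses STEP, SCHUR). -/
theorem iv_main : ∀ m : ℕ, ∃ b : ℕ, 1 ≤ b ∧ ∀ (G : Type) [Group G] [Finite G] (α : MulAut G),
    IvHyp α → Nat.card (ivI α) ≤ m → Nat.card G ≤ b :=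
  h85_iv_main_core (fun _ _ _ α h m Q hm hQ => iv_schur α h m Q hm hQ)
    (fun _ _ _ α h m b hb1 hb hm => iv_step α h m b hb1 hb hm)

end Cfsg.Agent.Lib.helper86.IV
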