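import Mathlib

/-!
# Parity count for KUNIQ (S5977 / S5978 block [A]) -- helper85

If a function `q : V → F` is, in two coordinate systems `ψ₁ ψ₂ : X × E ≃ V`, of the shape
`re (R x + a w²)` resp. `re (R x + a' w²)` with `a' / a` a nonsquare of the finite field `E`
(odd characteristic) and all fibres of `y ↦ re (e₀ + y)` of the same size `m`, then
`#{q = t} = m * |X|`.  (For `q` a quadratic form this number is even, while `m * |X|` is odd.)
-/

set_option autoImplicit false

namespace Cfsg.Agent.Lib.helper85

open Finset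

theorem h85_sq_pair {E : Type*} [Field E] [Fintype E] [DecidableEq E] (h2 : (2 : E) ≠ 0)
    (a a' : E) (ha : a ≠ 0) (hns : ¬ IsSquare (a' / a)) (y : E) :
    (univ.filter (fun w : E => a * w ^ 2 = y)).card +
      (univ.filter (fun w : E => a' * w ^ 2 = y)).card = 2 := by
  have hF : ringChar E ≠ 2 := by
    intro h
    apply h2
    have h3 := CharP.cast_eq_zero E (ringChar E)
    rw [h] at h3
    exact_mod_cast h3
  have ha' : a' ≠ 0 := by
    rintro rfl
    apply hns
    rw [zero_div]
    exact IsSquare.zero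
  have h1 : (univ.filter (fun w : E => a * w ^ 2 = y)) = {x : E | x ^ 2 = y / a}.toFinset := by
    ext w
    simp only [mem_filter, mem_univ, true_and, Set.mem_toFinset, Set.mem_ofPred_eq]
    rw [eq_div_iff ha, mul_comm]
  have h1' : (univ.filter (fun w : E => a' * w ^ 2 = y)) = {x : E | x ^ 2 = y / a'}.toFinset := by
    ext w
    simp only [mem_filter, mem_univ, true_and, Set.mem_toFinset, Set.mem_ofPred_eq]
    rw [eq_div_iff ha', mul_comm]
  have e1 := quadraticChar_card_sqrts hF (y / a)
  have e2 := quadraticChar_card_sqrts hF (y / a')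
  have hχ : quadraticChar E (a' / a) = -1 := quadraticChar_neg_one_iff_not_isSquare.mpr hns
  have hmul : quadraticChar E (y / a) = quadraticChar E (y / a') * quadraticChar E (a' / a) := by
    rw [← map_mul]
    congr 1
    field_simp
  have h3 : ((univ.filter (fun w : E => a * w ^ 2 = y)).card : ℤ) +
      ((univ.filter (fun w : E => a' * w ^ 2 = y)).card : ℤ) = 2 := by
    rw [h1, h1', e1, e2, hmul, hχ]
    ring
  exact_mod_cast h3

theorem h85_fib_pair {E F : Type*} [Field E] [Fintype E] [DecidableEq E] [DecidableEq F]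
    (h2 : (2 : E) ≠ 0) (re : E → F) (m : ℕ)
    (hfib : ∀ (e₀ : E) (t : F), (univ.filter (fun y : E => re (e₀ + y) = t)).card = m)
    (a a' : E) (ha : a ≠ 0) (hns : ¬ IsSquare (a' / a)) (e₀ : E) (t : F) :
    (univ.filter (fun w : E => re (e₀ + a * w ^ 2) = t)).card +
      (univ.filter (fun w : E => re (e₀ + a' * w ^ 2) = t)).card = 2 * m := by
  have key : ∀ c : E, (univ.filter (fun w : E => re (e₀ + c * w ^ 2) = t)).card =
      ∑ y ∈ univ.filter (fun y : E => re (e₀ + y) = t),
        (univ.filter (fun w : E => c * w ^ 2 = y)).card := by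
    intro c
    rw [Finset.card_eq_sum_card_fiberwise (f := fun w => c * w ^ 2)
      (t := univ.filter (fun y : E => re (e₀ + y) = t))]
    · apply Finset.sum_congr rfl
      intro y hy
      congr 1
      ext w
      simp only [mem_filter, mem_univ, true_and]
      constructor
      · rintro ⟨_, h⟩
        exact h
      · intro h
        refine ⟨?_, h⟩
        rw [h]
        exact (mem_filter.mp hy).2
    · intro w hw
      have hw' := (Finset.mem_filter.mp (Finset.mem_coe.mp hw)).2
      exact Finset.mem_coe.mpr (Finset.mem_filter.mpr ⟨Finset.mem_univ _, hw'⟩)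
  rw [key a, key a', ← Finset.sum_add_distrib,
    Finset.sum_congr rfl (fun y _ => h85_sq_pair h2 a a' ha hns y), Finset.sum_const, hfib,
    smul_eq_mul, mul_comm]

theorem h85_kuniq_parity {E F V X : Type*} [Field E] [Fintype E] [Fintype V] [Fintype X]
    (h2 : (2 : E) ≠ 0) (re : E → F) (m : ℕ)
    (hfib : ∀ (e₀ : E) (t : F), Nat.card {y : E // re (e₀ + y) = t} = m)
    (R : X → E) (a a' : E) (ha : a ≠ 0) (hns : ¬ IsSquare (a' / a))
    (q : V → F) (t : F) (ψ₁ ψ₂ : X × E ≃ V)
    (h₁ : ∀ x w, q (ψ₁ (x, w)) = re (R x + a * w ^ 2))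
    (h₂ : ∀ x w, q (ψ₂ (x, w)) = re (R x + a' * w ^ 2)) :
    Nat.card {v : V // q v = t} = m * Fintype.card X := by
  classical
  have hfib' : ∀ (e₀ : E) (t : F), (univ.filter (fun y : E => re (e₀ + y) = t)).card = m := by
    intro e₀ t
    rw [← hfib e₀ t, Nat.card_eq_fintype_card, Fintype.card_subtype]
  -- counts in the two coordinate systems
  have hcount : ∀ (c : E) (ψ : X × E ≃ V), (∀ x w, q (ψ (x, w)) = re (R x + c * w ^ 2)) →
      Nat.card {v : V // q v = t} =
        ∑ x : X, (univ.filter (fun w : E => re (R x + c * w ^ 2) = t)).card := by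
    intro c ψ hψ
    have e : {v : V // q v = t} ≃ {p : X × E // re (R p.1 + c * p.2 ^ 2) = t} :=
      (ψ.subtypeEquiv (fun p => by rw [hψ p.1 p.2])).symm
    rw [Nat.card_congr e, Nat.card_eq_fintype_card, Fintype.card_subtype, Finset.card_filter,
      Fintype.sum_prod_type]
    apply Finset.sum_congr rfl
    intro x _
    rw [Finset.card_filter]
  have e1 := hcount a ψ₁ h₁
  have e2 := hcount a' ψ₂ h₂
  have hsum : (∑ x : X, (univ.filter (fun w : E => re (R x + a * w ^ 2) = t)).card) +
      (∑ x : X, (univ.filter (fun w : E => re (R x + a' * w ^ 2) = t)).card) =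
        2 * (m * Fintype.card X) := by
    rw [← Finset.sum_add_distrib,
      Finset.sum_congr rfl (fun x _ => h85_fib_pair h2 re m hfib' a a' ha hns (R x) t),
      Finset.sum_const, Finset.card_univ, smul_eq_mul]
    ring
  rw [← e1, ← e2] at hsum
  omega

end Cfsg.Agent.Lib.helper85
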