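import Mathlib
import Cfsg.Prelude.Def_RootSubgroups
import Cfsg.Agent.Lib.helper85.RankOne
import Cfsg.Agent.Lib.helper85.RootSub
import Cfsg.Agent.Lib.helper85.RootSub2
import Cfsg.Agent.Lib.helper85.RootSub4
import Cfsg.Agent.Lib.helper85.RootSub7
import Cfsg.Agent.Lib.helper85.RootSub8
import Cfsg.Agent.Lib.helper85.CommGen
import Cfsg.Agent.Lib.helper85.Chain3
import Cfsg.Agent.Lib.helper85.Transfer
import Cfsg.Agent.Lib.helper85.Line
import Cfsg.Agent.Lib.helper85.Line2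
import Cfsg.Agent.S5029

set_option autoImplicit false

namespace Cfsg.Agent.Lib.helper85

open Cfsg
open scoped commutatorElement

variable {G : Type*} [Group G]

/-! ### Conjugation invariance of lines -/

theorem partition_conj {S : Set (Subgroup G)} (hS : IsRootSubgroupSet S) {N : Subgroup G}
    (h : IsSubgroupPartition N (membersIn S N)) (g : G) :
    IsSubgroupPartition (conjBy N g) (membersIn S (conjBy N g)) := by
  obtain ⟨-, h2, h3⟩ := h
  have hback : ∀ T ∈ membersIn S (conjBy N g), conjBy T g⁻¹ ∈ membersIn S N := by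
    intro T hT
    refine ⟨hS.conj_mem T hT.1 g⁻¹, ?_⟩
    have := conjBy_mono hT.2 g⁻¹
    rw [conjBy_conjBy, inv_mul_cancel, conjBy_one] at this
    exact this
  refine ⟨fun T hT => hT.2, ?_, ?_⟩
  · intro x hx hx1
    have hx' : g⁻¹ * x * g ∈ N := mem_conjBy.mp hx
    have hx1' : g⁻¹ * x * g ≠ 1 := by
      intro h0
      apply hx1
      calc x = g * (g⁻¹ * x * g) * g⁻¹ := by group
        _ = 1 := by rw [h0]; group
    obtain ⟨T, hT, hxT⟩ := h2 _ hx' hx1'
    refine ⟨conjBy T g, ⟨hS.conj_mem T hT.1 g, conjBy_mono hT.2 g⟩, ?_⟩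
    rw [mem_conjBy]; exact hxT
  · intro T hT T' hT' hne
    have hne' : conjBy T g⁻¹ ≠ conjBy T' g⁻¹ := fun h => hne (conjBy_inj.mp h)
    have hinf := h3 _ (hback T hT) _ (hback T' hT') hne'
    rw [eq_bot_iff]
    intro x hx
    have e : g⁻¹⁻¹ * (g⁻¹ * x * g) * g⁻¹ = x := by group
    have h1a : g⁻¹ * x * g ∈ conjBy T g⁻¹ := by
      rw [mem_conjBy, e]; exact (Subgroup.mem_inf.mp hx).1
    have h1b : g⁻¹ * x * g ∈ conjBy T' g⁻¹ := by
      rw [mem_conjBy, e]; exact (Subgroup.mem_inf.mp hx).2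
    have h1 : g⁻¹ * x * g ∈ conjBy T g⁻¹ ⊓ conjBy T' g⁻¹ := Subgroup.mem_inf.mpr ⟨h1a, h1b⟩
    rw [hinf, Subgroup.mem_bot] at h1
    rw [Subgroup.mem_bot]
    calc x = g * (g⁻¹ * x * g) * g⁻¹ := by group
      _ = 1 := by rw [h1]; group

theorem conjBy_commutator (A B : Subgroup G) (g : G) :
    conjBy ⁅A, B⁆ g = ⁅conjBy A g, conjBy B g⁆ :=
  Subgroup.map_commutator A B _

theorem linePartners_conj {S : Set (Subgroup G)} (hS : IsRootSubgroupSet S) {A B : Subgroup G}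
    (h : B ∈ linePartners S A) (g : G) : conjBy B g ∈ linePartners S (conjBy A g) := by
  obtain ⟨⟨hB, hne, hc⟩, hp⟩ := h
  refine ⟨⟨hS.conj_mem B hB g, fun h => hne (conjBy_inj.mp h), ?_⟩, ?_⟩
  · rw [← conjBy_commutator, hc]
    exact Subgroup.map_bot _
  · rw [← conjBy_sup]; exact partition_conj hS hp g

/-! ### The graph `𝓔(Σ)` -/

theorem eadj_symm {S : Set (Subgroup G)} {A B : Subgroup G} (h : EAdj S S A B) : EAdj S S B A :=
  ⟨h.2.1, h.1, linePartners_symm h.1 h.2.2⟩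

theorem eadj_conj {S : Set (Subgroup G)} (hS : IsRootSubgroupSet S) {A B : Subgroup G}
    (h : EAdj S S A B) (g : G) : EAdj S S (conjBy A g) (conjBy B g) :=
  ⟨hS.conj_mem A h.1 g, hS.conj_mem B h.2.1 g, linePartners_conj hS h.2.2 g⟩

theorem ereach_symm {S : Set (Subgroup G)} {A B : Subgroup G}
    (h : Relation.ReflTransGen (EAdj S S) A B) : Relation.ReflTransGen (EAdj S S) B A := by
  induction h with
  | refl => exact Relation.ReflTransGen.refl
  | tail _ hstep ih => exact Relation.ReflTransGen.head (eadj_symm hstep) ih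

theorem ereach_conj {S : Set (Subgroup G)} (hS : IsRootSubgroupSet S) {A B : Subgroup G}
    (h : Relation.ReflTransGen (EAdj S S) A B) (g : G) :
    Relation.ReflTransGen (EAdj S S) (conjBy A g) (conjBy B g) := by
  induction h with
  | refl => exact Relation.ReflTransGen.refl
  | tail _ hstep ih => exact Relation.ReflTransGen.tail ih (eadj_conj hS hstep g)

/-- `A` is joined to `⁅A, C⁆` in `𝓔(Σ)`. -/
theorem eadj_comm {S : Set (Subgroup G)} (hS : IsRootSubgroupSet S)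
    (hiso : ∀ A ∈ S, ∃ D ∈ S, IsRankOnePair A D) {A C : Subgroup G} (hA : A ∈ S) (hC : C ∈ S)
    (hAC : ⁅A, C⁆ ∈ S) : EAdj S S A ⁅A, C⁆ := by
  obtain ⟨D, hD, hAD⟩ := hiso A hA
  have h1 := (Cfsg.Agent.S5029.result hS (not_isolated_of_partner hA hD hAD) hA hC hAC).2.2.1
  exact ⟨hA, hAC, linePartners_symm hAC h1⟩

theorem ereach_of_comm {S : Set (Subgroup G)} (hS : IsRootSubgroupSet S)
    (hiso : ∀ A ∈ S, ∃ D ∈ S, IsRankOnePair A D) {A C : Subgroup G} (hA : A ∈ S) (hC : C ∈ S)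
    (hAC : ⁅A, C⁆ ∈ S) : Relation.ReflTransGen (EAdj S S) A C := by
  have h1 := eadj_comm hS hiso hA hC hAC
  have hCA : ⁅C, A⁆ ∈ S := by rw [Subgroup.commutator_comm]; exact hAC
  have h2 := eadj_comm hS hiso hC hA hCA
  rw [Subgroup.commutator_comm] at h2
  exact Relation.ReflTransGen.tail (Relation.ReflTransGen.single h1) (eadj_symm h2)

theorem ereach_of_rank_one {S : Set (Subgroup G)} (hS : IsRootSubgroupClass S)
    (hnd : IsNondegenerateRootSet S) {A B : Subgroup G} (hA : A ∈ S) (hB : B ∈ S)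
    (hAB : IsRankOnePair A B) : Relation.ReflTransGen (EAdj S S) A B := by
  have hiso := class_exists_partner hS hnd.2.1
  obtain ⟨E, hE, hF, -⟩ := nondeg_partner_line hS hnd hA hB hAB
  have h1 : EAdj S S A E := ⟨hA, hE.1.1, hE⟩
  exact Relation.ReflTransGen.head h1 (ereach_of_comm hS.1 hiso hE.1.1 hB hF)

/-- In a non-degenerate class the graph `𝓔(Σ)` is connected. -/
theorem eadj_connected {S : Set (Subgroup G)} (hS : IsRootSubgroupClass S)
    (hnd : IsNondegenerateRootSet S) : IsConnectedFamily (EAdj S S) S := by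
  have hiso := class_exists_partner hS hnd.2.1
  have hstep : ∀ A ∈ S, ∀ C ∈ S, ⁅A, C⁆ ≠ ⊥ → Relation.ReflTransGen (EAdj S S) A C := by
    intro A hA C hC hne
    rcases hS.1.pair A hA C hC with h1 | h2 | h3
    · exact absurd h1 hne
    · exact ereach_of_rank_one hS hnd hA hC h2
    · exact ereach_of_comm hS.1 hiso hA hC h3.1
  have hmem : ∀ F ∈ S, ∀ g ∈ F, ∀ E ∈ S, Relation.ReflTransGen (EAdj S S) E (conjBy E g) := by
    intro F hF g hg E hE
    by_cases hc : ⁅E, F⁆ = ⊥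
    · have h1 : conjBy E g = E :=
        conjBy_eq_self_of_commute (fun a ha => (commute_of_comm_eq_bot hc a ha g hg).symm)
      rw [h1]
    · have h1 := hstep E hE F hF hc
      have h2 := ereach_conj hS.1 h1 g
      rw [conjBy_of_mem hg] at h2
      exact h1.trans (ereach_symm h2)
  let K : Subgroup G :=
    { carrier := {g | ∀ E ∈ S, Relation.ReflTransGen (EAdj S S) E (conjBy E g)}
      one_mem' := by
        intro E _
        rw [conjBy_one]
      mul_mem' := by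
        intro g g' hg hg' E hE
        rw [← conjBy_conjBy]
        exact (hg' E hE).trans (hg _ (hS.1.conj_mem E hE g'))
      inv_mem' := by
        intro g hg E hE
        have h1 := hg _ (hS.1.conj_mem E hE g⁻¹)
        rw [conjBy_conjBy, mul_inv_cancel, conjBy_one] at h1
        exact ereach_symm h1 }
  have hK : (⊤ : Subgroup G) ≤ K := by
    rw [← hS.1.generates]
    apply iSup₂_le
    intro F hF g hg
    exact hmem F hF g hg
  intro A hA B hB
  obtain ⟨g, rfl⟩ := hS.2.2 A hA B hB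
  exact hK (Subgroup.mem_top g) A hA

/-- If `⁅A, B⁆ ∈ S` then some `D ∈ S` has `⁅D, ⁅A, B⁆⁆ = A`. -/
theorem exists_double_comm {S : Set (Subgroup G)} (hS : IsRootSubgroupSet S)
    (hiso : ∀ A ∈ S, ∃ D ∈ S, IsRankOnePair A D) {A B : Subgroup G} (hA : A ∈ S) (hB : B ∈ S)
    (hC : ⁅A, B⁆ ∈ S) : ∃ D ∈ S, ⁅D, ⁅A, B⁆⁆ = A := by
  obtain ⟨D₁, hD₁, hAD₁⟩ := hiso A hA
  have hAiso := not_isolated_of_partner hA hD₁ hAD₁
  have hres := Cfsg.Agent.S5029.result hS hAiso hA hB hC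
  have hAB := comm_case_of_mem hS hA hB hC
  obtain ⟨D₀, hD₀, hCD₀⟩ := hiso _ hC
  obtain ⟨E, hE, hEC, hF, hdc, -⟩ := line_center hS hiso hC hres.2.2.1 hD₀ hCD₀
  rw [sup_comm, hres.1] at hE
  rcases hE with ⟨b, hb, rfl⟩ | hE
  · refine ⟨conjBy ⁅conjBy A b, D₀⁆ b⁻¹, hS.conj_mem _ hF b⁻¹, ?_⟩
    have hfix : conjBy ⁅A, B⁆ b⁻¹ = ⁅A, B⁆ :=
      conjBy_eq_self_of_commute (fun c hc => (cc_comm_right hAB (B.inv_mem hb) hc).symm)
    have h1 : ⁅conjBy ⁅conjBy A b, D₀⁆ b⁻¹, ⁅A, B⁆⁆ =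
        conjBy ⁅⁅A, B⁆, ⁅conjBy A b, D₀⁆⁆ b⁻¹ := by
      rw [conjBy_commutator ⁅A, B⁆, hfix, Subgroup.commutator_comm]
    rw [h1, hdc, conjBy_conjBy, inv_mul_cancel, conjBy_one]
  · exact absurd hE hEC

end Cfsg.Agent.Lib.helper85
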