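import Mathlib
import Cfsg.Prelude.Def_RootSubgroups
import Cfsg.Agent.Lib.helper85.RankOne
import Cfsg.Agent.Lib.helper85.RootSub
import Cfsg.Agent.Lib.helper85.RootSub2
import Cfsg.Agent.Lib.helper85.RootSub4
import Cfsg.Agent.Lib.helper85.RootSub7
import Cfsg.Agent.Lib.helper85.RootSub8
import Cfsg.Agent.Lib.helper85.CommGen
import Cfsg.Agent.Lib.helper85.Chain3
import Cfsg.Agent.Lib.helper85.Transfer
import Cfsg.Agent.Lib.helper85.Line
import Cfsg.Agent.Lib.helper85.Line2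
import Cfsg.Agent.Lib.helper85.Line3
import Cfsg.Agent.S5029

set_option autoImplicit false

namespace Cfsg.Agent.Lib.helper85

open Cfsg
open scoped commutatorElement

variable {G : Type*} [Group G]

/-- In the commutator case for `(P, F)`, with `P` having a rank one partner, no nonidentity
element of `F` normalizes `P`. -/
theorem cc_conj_ne {S : Set (Subgroup G)} (hS : IsRootSubgroupSet S) {P D F : Subgroup G}
    (hP : P ∈ S) (hD : D ∈ S) (hPD : IsRankOnePair P D) (hPF : RootCommutatorCase S P F)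
    {f₀ : G} (hf₀ : f₀ ∈ F) (hf₀1 : f₀ ≠ 1) : conjBy P f₀ ≠ P := by
  intro h
  have hinf := cc_inf_bot hS hP hD hPD hPF
  obtain ⟨a, ha, ha1⟩ := rop_exists_ne_one hPD
  have h1 : f₀ * a * f₀⁻¹ ∈ P := by
    have := conj_mem_conjBy (g := f₀) ha
    rw [h] at this; exact this
  have h2a : a * f₀ * a⁻¹ * f₀⁻¹ ∈ P := by
    have e : a * f₀ * a⁻¹ * f₀⁻¹ = a * (f₀ * a * f₀⁻¹)⁻¹ := by group
    rw [e]; exact P.mul_mem ha (P.inv_mem h1)
  have h2 : a * f₀ * a⁻¹ * f₀⁻¹ ∈ P ⊓ ⁅P, F⁆ :=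
    Subgroup.mem_inf.mpr ⟨h2a, comm_mem_commutator ha hf₀⟩
  rw [hinf, Subgroup.mem_bot] at h2
  apply cc_no_comm hS hP hD hPD hPF ha ha1 hf₀ hf₀1
  calc a * f₀ = (a * f₀ * a⁻¹ * f₀⁻¹) * (f₀ * a) := by group
    _ = f₀ * a := by rw [h2, one_mul]

/-- Every line partner `C` of `A` is a conjugate of `A` by a product `d * f`, with `d` in a
line partner of `A` and `f` in `⁅E, B⁆` for a line partner `E` of `A` (`B` a fixed rank one
partner of `A`). -/
theorem line_conj {S : Set (Subgroup G)} (hS : IsRootSubgroupSet S)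
    (hiso : ∀ A ∈ S, ∃ D ∈ S, IsRankOnePair A D) {A B C : Subgroup G} (hA : A ∈ S)
    (hC : C ∈ linePartners S A) (hB : B ∈ S) (hAB : IsRankOnePair A B) :
    ∃ E ∈ linePartners S A, ⁅E, B⁆ ∈ S ∧ ∃ D ∈ linePartners S A, ∃ d ∈ D, ∃ f ∈ ⁅E, B⁆,
      C = conjBy A (d * f) := by
  have hAiso := not_isolated_of_partner hA hB hAB
  obtain ⟨E, hE, hEA, hF, hdc, hsup⟩ := line_center hS hiso hA hC hB hAB
  have hC' : ⁅A, ⁅E, B⁆⁆ ∈ S := by rw [hdc]; exact hE.1
  have hres := Cfsg.Agent.S5029.result hS hAiso hA hF hC'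
  have hmem := hres.1
  have hEl : E ∈ linePartners S A := by
    have h := hres.2.2.1
    rw [hdc] at h
    exact linePartners_symm hE.1 h
  rw [hdc] at hmem
  have hCmem : C ∈ membersIn S (A ⊔ E) := by
    rw [← hsup]; exact ⟨hC.1.1, le_sup_right⟩
  refine ⟨E, hEl, hF, ?_⟩
  have hcase := hCmem
  rw [hmem] at hcase
  rcases hcase with ⟨f, hf, hCf⟩ | hCE
  · refine ⟨E, hEl, 1, E.one_mem, f, hf, ?_⟩
    rw [one_mul]; exact hCf.symm
  · have hCE' : C = E := hCE
    obtain ⟨D, hD, hDE⟩ := exists_double_comm hS hiso hA hF hC'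
    rw [hdc] at hDE
    obtain ⟨D', hD', hDD'⟩ := hiso D hD
    have hDiso := not_isolated_of_partner hD hD' hDD'
    have hDES : ⁅D, E⁆ ∈ S := by rw [hDE]; exact hA
    have hDl : D ∈ linePartners S A := by
      have h := (Cfsg.Agent.S5029.result hS hDiso hD hE.1 hDES).2.2.1
      rw [hDE] at h; exact h
    have hED : RootCommutatorCase S E D :=
      cc_symm (comm_case_of_mem hS hD hE.1 hDES)
    obtain ⟨E', hE', hEE'⟩ := hiso E hE.1
    obtain ⟨d₀, hd₀, hd₀1⟩ := exists_ne_one_of_ne_bot (hS.ne_bot D hD)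
    have hne : conjBy E d₀ ≠ E := cc_conj_ne hS hE.1 hE' hEE' hED hd₀ hd₀1
    have hle : conjBy E d₀ ≤ A ⊔ E := by
      have h := Cfsg.Agent.S5029.conj_le hED hd₀
      rw [Subgroup.commutator_comm, hDE, sup_comm] at h
      exact h
    have hmem2 : conjBy E d₀ ∈ membersIn S (A ⊔ E) := ⟨hS.conj_mem E hE.1 d₀, hle⟩
    rw [hmem] at hmem2
    rcases hmem2 with ⟨f, hf, hEf⟩ | h
    · refine ⟨D, hDl, d₀⁻¹, D.inv_mem hd₀, f, hf, ?_⟩
      have hEf' : conjBy A f = conjBy E d₀ := hEf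
      rw [hCE', ← conjBy_conjBy, hEf', conjBy_conjBy, inv_mul_cancel, conjBy_one]
    · exact absurd h hne

/-- In a non-degenerate class, `G` is generated by the line partners of `A` together with a
rank one partner `B` of `A`. -/
theorem gen_line_partners {S : Set (Subgroup G)} (hS : IsRootSubgroupClass S)
    (hnd : IsNondegenerateRootSet S) {A B : Subgroup G} (hA : A ∈ S) (hB : B ∈ S)
    (hAB : IsRankOnePair A B) : (⨆ C ∈ linePartners S A, C) ⊔ B = ⊤ := by
  have hiso := class_exists_partner hS hnd.2.1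
  obtain ⟨M, hM_def⟩ : ∃ M : Subgroup G, M = (⨆ C ∈ linePartners S A, C) ⊔ B := ⟨_, rfl⟩
  rw [← hM_def]
  have hΛ : ∀ C ∈ linePartners S A, C ≤ M := by
    intro C hC
    rw [hM_def]
    exact le_sup_of_le_left (le_iSup₂_of_le C hC le_rfl)
  have hBM : B ≤ M := by rw [hM_def]; exact le_sup_right
  have key : ∀ C ∈ linePartners S A, ∃ m ∈ M, C = conjBy A m := by
    intro C hC
    obtain ⟨E, hE, hF, D, hD, d, hd, f, hf, hCdf⟩ := line_conj hS.1 hiso hA hC hB hAB
    have hfM : f ∈ M :=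
      (Subgroup.commutator_le_sup E B).trans (sup_le (hΛ E hE) hBM) hf
    exact ⟨d * f, M.mul_mem (hΛ D hD hd) hfM, hCdf⟩
  have hAM : A ≤ M := by
    obtain ⟨E, hE, -, -⟩ := nondeg_partner_line hS hnd hA hB hAB
    obtain ⟨m, hm, hEm⟩ := key E hE
    have h1 : A = conjBy E m⁻¹ := conjBy_eq_iff.mp hEm.symm
    rw [h1]
    exact conjBy_le_of_mem (hΛ E hE) (M.inv_mem hm)
  have hreach : ∀ T : Subgroup G, Relation.ReflTransGen (EAdj S S) A T →
      ∃ m ∈ M, T = conjBy A m := by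
    intro T hT
    induction hT with
    | refl => exact ⟨1, M.one_mem, (conjBy_one A).symm⟩
    | tail _ hPQ ih =>
      obtain ⟨m, hm, rfl⟩ := ih
      have h1 := linePartners_conj hS.1 hPQ.2.2 m⁻¹
      rw [conjBy_conjBy, inv_mul_cancel, conjBy_one] at h1
      obtain ⟨m', hm', h2⟩ := key _ h1
      refine ⟨m * m', M.mul_mem hm hm', ?_⟩
      rw [← conjBy_conjBy, ← h2, conjBy_conjBy, mul_inv_cancel, conjBy_one]
  have hconn := eadj_connected hS hnd
  rw [eq_top_iff, ← hS.1.generates]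
  apply iSup₂_le
  intro T hT
  obtain ⟨m, hm, rfl⟩ := hreach T (hconn A hA T hT)
  exact conjBy_le_of_mem hAM hm

end Cfsg.Agent.Lib.helper85
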