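import Mathlib
import Cfsg.Prelude.Def_RootSubgroups
import Cfsg.Agent.Lib.helper85.RankOne
import Cfsg.Agent.Lib.helper85.RootSub
import Cfsg.Agent.Lib.helper85.RootSub3
import Cfsg.Agent.Lib.helper85.RootSub4
import Cfsg.Agent.Lib.helper85.RootSub7
import Cfsg.Agent.Lib.helper85.RootSub8
import Cfsg.Agent.Lib.helper85.CommGen
import Cfsg.Agent.Lib.helper85.Line
import Cfsg.Agent.Lib.helper85.Line2
import Cfsg.Agent.Lib.helper85.Line3
import Cfsg.Agent.S5029

set_option autoImplicit false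

namespace Cfsg.Agent.Lib.helper85

open Cfsg
open scoped commutatorElement

variable {G : Type*} [Group G]

theorem rop_not_commute {A B : Subgroup G} (h : IsRankOnePair A B) :
    ¬ (∀ a ∈ A, ∀ b ∈ B, a * b = b * a) := by
  intro hc
  obtain ⟨a, ha, ha1⟩ := rop_exists_ne_one h
  exact ha1 (rop_eq_one_of_mem_normalizer h ha (mem_normalizer_of_forall_comm (hc a ha)))

/-- Two distinct unipotent subgroups of a rank one group form a rank one pair. -/
theorem rop_of_unipotent {A B C₁ C₂ : Subgroup G} (h : IsRankOnePair A B)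
    (h1 : C₁ ∈ unipotentSubgroups A B) (h2 : C₂ ∈ unipotentSubgroups A B) (hne : C₁ ≠ C₂) :
    IsRankOnePair C₁ C₂ := by
  obtain ⟨x, -, hx1, hx2⟩ := rop_move_pair h h1 h2 hne
  have e1 : C₁ = conjBy A x⁻¹ := conjBy_eq_iff.mp hx1
  have e2 : C₂ = conjBy B x⁻¹ := conjBy_eq_iff.mp hx2
  rw [e1, e2]; exact rop_conj h x⁻¹

theorem rop_conj_self {Q T : Subgroup G} (h : IsRankOnePair Q T) {q : G} (hq : q ∈ Q)
    (hq1 : q ≠ 1) : IsRankOnePair (conjBy T q) T := by
  apply rop_of_unipotent h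
    (unipotent_conj_mem (right_mem_unipotent h) (Subgroup.mem_sup_left hq))
    (right_mem_unipotent h)
  intro hh
  exact hq1 (rop_eq_one_of_conjBy_eq h hq hh)

/-- If `P`, `Q` commute and `t⁻¹ P t = p⁻¹ T p`, `t⁻¹ Q t = q⁻¹ T q`, then `T` commutes with
`(q p⁻¹) T (q p⁻¹)⁻¹`. -/
theorem commute_conj_of_rels {P Q T : Subgroup G} (hPQ : ∀ p ∈ P, ∀ q ∈ Q, p * q = q * p)
    {t p q : G} (h1 : conjBy P t⁻¹ = conjBy T p⁻¹) (h2 : conjBy Q t⁻¹ = conjBy T q⁻¹) :
    ∀ x ∈ T, ∀ y ∈ conjBy T (q * p⁻¹), x * y = y * x := by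
  intro x hx y hy
  obtain ⟨x', hx', rfl⟩ := exists_of_mem_conjBy hy
  have e1 : q⁻¹ * x * q ∈ conjBy Q t⁻¹ := by
    rw [h2]
    have := conj_mem_conjBy (g := q⁻¹) hx
    simpa using this
  have e2 : p⁻¹ * x' * p ∈ conjBy P t⁻¹ := by
    rw [h1]
    have := conj_mem_conjBy (g := p⁻¹) hx'
    simpa using this
  obtain ⟨u, hu, eu⟩ := exists_of_mem_conjBy e1
  obtain ⟨v, hv, ev⟩ := exists_of_mem_conjBy e2
  have e3 : (q⁻¹ * x * q) * (p⁻¹ * x' * p) = (p⁻¹ * x' * p) * (q⁻¹ * x * q) := by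
    rw [eu, ev]
    calc t⁻¹ * u * t⁻¹⁻¹ * (t⁻¹ * v * t⁻¹⁻¹) = t⁻¹ * (u * v) * t⁻¹⁻¹ := by group
      _ = t⁻¹ * (v * u) * t⁻¹⁻¹ := by rw [hPQ v hv u hu]
      _ = t⁻¹ * v * t⁻¹⁻¹ * (t⁻¹ * u * t⁻¹⁻¹) := by group
  calc x * (q * p⁻¹ * x' * (q * p⁻¹)⁻¹) = q * ((q⁻¹ * x * q) * (p⁻¹ * x' * p)) * q⁻¹ := by group
    _ = q * ((p⁻¹ * x' * p) * (q⁻¹ * x * q)) * q⁻¹ := by rw [e3]
    _ = q * p⁻¹ * x' * (q * p⁻¹)⁻¹ * x := by group

theorem commute_conj_inv {T : Subgroup G} {w : G}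
    (h : ∀ x ∈ T, ∀ y ∈ conjBy T w, x * y = y * x) :
    ∀ x ∈ T, ∀ y ∈ conjBy T w⁻¹, x * y = y * x := by
  intro x hx y hy
  obtain ⟨x', hx', rfl⟩ := exists_of_mem_conjBy hy
  have e := h x' hx' (w * x * w⁻¹) (conj_mem_conjBy hx)
  calc x * (w⁻¹ * x' * w⁻¹⁻¹) = w⁻¹ * ((w * x * w⁻¹) * x') * w := by group
    _ = w⁻¹ * (x' * (w * x * w⁻¹)) * w := by rw [e]
    _ = w⁻¹ * x' * w⁻¹⁻¹ * x := by group

/-- The matching trick: `P`, `Q` commuting with a common rank one partner `T`, and `R` a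
conjugation invariant relation with `R P Q`, such that `R D D'` and `T` commuting with `D`
exclude that `(D', T)` is a rank one pair. Then `R Q P`. -/
theorem matching_symm {R : Subgroup G → Subgroup G → Prop}
    (hR : ∀ D D' : Subgroup G, ∀ g : G, R D D' → R (conjBy D g) (conjBy D' g))
    {P Q T : Subgroup G} (hPT : IsRankOnePair P T) (hQT : IsRankOnePair Q T)
    (hPQ : ∀ p ∈ P, ∀ q ∈ Q, p * q = q * p)
    (hX : ∀ D D' : Subgroup G, R D D' → (∀ x ∈ T, ∀ y ∈ D, x * y = y * x) →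
      ¬ IsRankOnePair D' T)
    (h : R P Q) : R Q P := by
  have hU : ∀ t p q : G, conjBy P t⁻¹ = conjBy T p⁻¹ → conjBy Q t⁻¹ = conjBy T q⁻¹ →
      ∀ q' ∈ Q, (∀ x ∈ T, ∀ y ∈ conjBy T (q' * q * p⁻¹), x * y = y * x) → q' = 1 := by
    intro t p q h1 h2 q' hq' hc
    by_contra hq'1
    have e1 : conjBy P (q' * q * t⁻¹) = conjBy T (q' * q * p⁻¹) := by
      rw [← conjBy_conjBy, h1, conjBy_conjBy]
    have e2 : conjBy Q (q' * q * t⁻¹) = conjBy T q' := by
      rw [← conjBy_conjBy, h2, conjBy_conjBy, mul_inv_cancel_right]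
    have h3 := hR P Q (q' * q * t⁻¹) h
    rw [e1, e2] at h3
    exact hX _ _ h3 hc (rop_conj_self hQT hq' hq'1)
  obtain ⟨p₀, hp₀, hp₀1⟩ := rop_exists_ne_one hPT
  obtain ⟨t, ht, ht1, h1⟩ := hPT.cond_left p₀ hp₀ hp₀1
  obtain ⟨q, hq, hq1, h2⟩ := hQT.cond_right t ht ht1
  obtain ⟨t₂, ht₂, ht₂1, h3⟩ := hPT.cond_left p₀⁻¹ (P.inv_mem hp₀) (inv_ne_one.mpr hp₀1)
  obtain ⟨q₂, hq₂, hq₂1, h4⟩ := hQT.cond_right t₂ ht₂ ht₂1
  have c1 := commute_conj_inv (commute_conj_of_rels hPQ h1 h2.symm)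
  have e : (q * p₀⁻¹)⁻¹ = (q⁻¹ * q₂⁻¹) * q₂ * p₀⁻¹⁻¹ := by
    have hc := hPQ p₀ hp₀ q⁻¹ (Q.inv_mem hq)
    calc (q * p₀⁻¹)⁻¹ = p₀ * q⁻¹ := by group
      _ = q⁻¹ * p₀ := hc
      _ = (q⁻¹ * q₂⁻¹) * q₂ * p₀⁻¹⁻¹ := by group
  rw [e] at c1
  have hq2 : q⁻¹ * q₂⁻¹ = 1 :=
    hU t₂ p₀⁻¹ q₂ h3 h4.symm (q⁻¹ * q₂⁻¹) (Q.mul_mem (Q.inv_mem hq) (Q.inv_mem hq₂)) c1
  have hq2' : q₂⁻¹ = q := by
    calc q₂⁻¹ = q * (q⁻¹ * q₂⁻¹) := by group
      _ = q := by rw [hq2, mul_one]
  have hpq : p₀ * q = q * p₀ := hPQ p₀ hp₀ q hq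
  have s1 := hR P Q t⁻¹ h
  rw [h1, ← h2] at s1
  have s2 := hR _ _ (q * p₀) s1
  rw [conjBy_conjBy, conjBy_conjBy] at s2
  have e3 : q * p₀ * p₀⁻¹ = q := by group
  have e4 : q * p₀ * q⁻¹ = p₀ := by rw [← hpq]; group
  rw [e3, e4] at s2
  rw [inv_inv] at h3
  rw [hq2'] at h4
  rw [h4, ← h3] at s2
  have s3 := hR _ _ t₂ s2
  rw [conjBy_conjBy, conjBy_conjBy, mul_inv_cancel, conjBy_one, conjBy_one] at s3
  exact s3

/-! ### Applications -/

theorem centralizingMembers_conj {S : Set (Subgroup G)} (hS : IsRootSubgroupSet S)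
    {D T : Subgroup G} (g : G) (h : T ∈ centralizingMembers S D) :
    conjBy T g ∈ centralizingMembers S (conjBy D g) := by
  refine ⟨hS.conj_mem T h.1 g, ?_⟩
  intro x hx
  rw [Subgroup.mem_centralizer_iff]
  intro y hy
  have hy' : y ∈ conjBy D g := hy
  obtain ⟨t, ht, rfl⟩ := exists_of_mem_conjBy hx
  obtain ⟨d, hd, rfl⟩ := exists_of_mem_conjBy hy'
  have e := (Subgroup.mem_centralizer_iff.mp (h.2 ht)) d hd
  calc g * d * g⁻¹ * (g * t * g⁻¹) = g * (d * t) * g⁻¹ := by group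
    _ = g * (t * d) * g⁻¹ := by rw [e]
    _ = g * t * g⁻¹ * (g * d * g⁻¹) := by group

theorem centralizing_rel_conj {S : Set (Subgroup G)} (hS : IsRootSubgroupSet S)
    (D D' : Subgroup G) (g : G) (h : centralizingMembers S D ⊆ centralizingMembers S D') :
    centralizingMembers S (conjBy D g) ⊆ centralizingMembers S (conjBy D' g) := by
  intro T hT
  have h1 := centralizingMembers_conj hS g⁻¹ hT
  rw [conjBy_conjBy, inv_mul_cancel, conjBy_one] at h1
  have h2 := centralizingMembers_conj hS g (h h1)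
  rw [conjBy_conjBy, mul_inv_cancel, conjBy_one] at h2
  exact h2

theorem rankOnePartners_conj {S : Set (Subgroup G)} (hS : IsRootSubgroupSet S)
    {D T : Subgroup G} (g : G) (h : T ∈ rankOnePartners S D) :
    conjBy T g ∈ rankOnePartners S (conjBy D g) :=
  ⟨hS.conj_mem T h.1 g, rop_conj h.2 g⟩

theorem rankOne_rel_conj {S : Set (Subgroup G)} (hS : IsRootSubgroupSet S)
    (D D' : Subgroup G) (g : G) (h : rankOnePartners S D' ⊆ rankOnePartners S D) :
    rankOnePartners S (conjBy D' g) ⊆ rankOnePartners S (conjBy D g) := by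
  intro T hT
  have h1 := rankOnePartners_conj hS g⁻¹ hT
  rw [conjBy_conjBy, inv_mul_cancel, conjBy_one] at h1
  have h2 := rankOnePartners_conj hS g (h h1)
  rw [conjBy_conjBy, mul_inv_cancel, conjBy_one] at h2
  exact h2

/-- If every member commuting with `A` commutes with `C ≠ A`, then `A` and `C` have the same
commuting members (every member having a rank one partner). -/
theorem centralizing_eq_of_sub {S : Set (Subgroup G)} (hS : IsRootSubgroupSet S)
    (hiso : ∀ A ∈ S, ∃ D ∈ S, IsRankOnePair A D) {A C : Subgroup G} (hA : A ∈ S) (hC : C ∈ S)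
    (hsub : centralizingMembers S A ⊆ centralizingMembers S C) :
    centralizingMembers S A = centralizingMembers S C := by
  obtain ⟨T, hT, hCT⟩ := hiso C hC
  have hTC := RankOnePair_symm hCT
  have hcommAC : ∀ a ∈ A, ∀ c ∈ C, a * c = c * a := by
    have hAA : A ∈ centralizingMembers S A := ⟨hA, fun x hx => by
      rw [Subgroup.mem_centralizer_iff]
      intro y hy
      exact mul_comm_of_mem (hS.commutative A hA) hy hx⟩
    have h1 := (hsub hAA).2
    intro a ha c hc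
    exact ((Subgroup.mem_centralizer_iff.mp (h1 ha)) c hc).symm
  have hAT : IsRankOnePair A T := by
    rcases hS.pair T hT A hA with h1 | h2 | h3
    · exfalso
      have hTA : T ∈ centralizingMembers S A :=
        ⟨hT, (Subgroup.commutator_eq_bot_iff_le_centralizer).mp h1⟩
      have h2 := (hsub hTA).2
      apply rop_not_commute hTC
      intro t ht c hc
      exact ((Subgroup.mem_centralizer_iff.mp (h2 ht)) c hc).symm
    · exact RankOnePair_symm h2
    · exfalso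
      have hE := h3.1
      have hEA : ⁅T, A⁆ ∈ centralizingMembers S A := ⟨hE, fun x hx => by
        rw [Subgroup.mem_centralizer_iff]
        intro a ha
        exact (cc_comm_right h3 ha hx).symm⟩
      have hEC := (hsub hEA).2
      have hTiso := not_isolated_of_partner hT hC hTC
      have hl := (Cfsg.Agent.S5029.result hS hTiso hT hA hE).2.2.1
      have hl' := linePartners_symm hE hl
      have hne : ⁅T, A⁆ ≠ T := hl'.1.2.1
      have hon := onLine_of_member hS hT hl' ⟨hE, le_sup_right⟩ hne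
      apply hon.not_commute hS hT hC hTC
      intro z hz c hc
      exact ((Subgroup.mem_centralizer_iff.mp (hEC hz)) c hc).symm
  apply Set.Subset.antisymm hsub
  refine matching_symm (R := fun D D' => centralizingMembers S D ⊆ centralizingMembers S D')
    (centralizing_rel_conj hS) hAT hCT hcommAC ?_ hsub
  intro D D' hDD' hc hr
  have hTD : T ∈ centralizingMembers S D := ⟨hT, fun x hx => by
    rw [Subgroup.mem_centralizer_iff]
    intro y hy
    exact (hc x hx y hy).symm⟩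
  have h1 := (hDD' hTD).2
  apply rop_not_commute hr
  intro d hd t ht
  exact (Subgroup.mem_centralizer_iff.mp (h1 ht)) d hd

/-- If every rank one partner of `A` is a rank one partner of `C ≠ A`, then `A` and `C`
commute and have the same rank one partners (every member having a rank one partner). -/
theorem rankOnePartners_eq_of_sub {S : Set (Subgroup G)} (hS : IsRootSubgroupSet S)
    (hiso : ∀ A ∈ S, ∃ D ∈ S, IsRankOnePair A D) {A C : Subgroup G} (hA : A ∈ S) (hC : C ∈ S)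
    (hsub : rankOnePartners S A ⊆ rankOnePartners S C) :
    ⁅A, C⁆ = ⊥ ∧ rankOnePartners S A = rankOnePartners S C := by
  obtain ⟨B, hB, hAB⟩ := hiso A hA
  have hCB : IsRankOnePair C B := (hsub ⟨hB, hAB⟩).2
  have hcomm : ⁅A, C⁆ = ⊥ := by
    rcases hS.pair A hA C hC with h1 | h2 | h3
    · exact h1
    · exact absurd rfl (hsub ⟨hC, h2⟩).2.ne
    · exfalso
      have hCA : ⁅C, A⁆ ∈ S := by rw [Subgroup.commutator_comm]; exact h3.1
      obtain ⟨D, hD, hDC⟩ := exists_double_comm hS hiso hC hA hCA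
      have hAD := rank_one_of_double_comm hS hC hA hCA hD hDC
      have hCD : IsRankOnePair C D := (hsub ⟨hD, hAD⟩).2
      have hcc : RootCommutatorCase S D ⁅C, A⁆ :=
        comm_case_of_mem hS hD hCA (by rw [hDC]; exact hC)
      apply rop_not_commute hCD
      intro c hc d hd
      have hc' : c ∈ ⁅D, ⁅C, A⁆⁆ := by rw [hDC]; exact hc
      exact cc_comm_left hcc hd hc'
  refine ⟨hcomm, Set.Subset.antisymm hsub ?_⟩
  have hcommCA : ∀ c ∈ C, ∀ a ∈ A, c * a = a * c := fun c hc a ha =>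
    (commute_of_comm_eq_bot hcomm a ha c hc).symm
  refine matching_symm (R := fun D D' => rankOnePartners S D' ⊆ rankOnePartners S D)
    (fun D D' g h => rankOne_rel_conj hS D D' g h) hCB hAB hcommCA ?_ hsub
  intro D D' hDD' hc hr
  have h1 : B ∈ rankOnePartners S D := hDD' ⟨hB, hr⟩
  apply rop_not_commute h1.2
  intro d hd b hb
  exact (hc b hb d hd).symm

end Cfsg.Agent.Lib.helper85
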