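import Mathlib
import Cfsg.Agent.Lib.helper85.McLDefs

/-!
# McLaughlin over `ZMod p` (S5075), piece SYSA: the linear case of the system theorem
-/

set_option autoImplicit false

namespace Cfsg.Agent.Lib.helper85.McL

universe u

open Module

/-- hyperplane sections drop the dimension by at most one. -/
theorem sysA_finrank_le_inf_ker {K M : Type*} [Field K] [AddCommGroup M] [Module K M]
    [FiniteDimensional K M] (A : Submodule K M) (f : M →ₗ[K] K) :
    finrank K A ≤ finrank K ↥(A ⊓ LinearMap.ker f) + 1 := by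
  have h1 := Submodule.finrank_sup_add_finrank_inf_eq A (LinearMap.ker f)
  have h2 := LinearMap.finrank_range_add_finrank_ker f
  have h3 : finrank K ↥(LinearMap.range f) ≤ 1 := by
    have := Submodule.finrank_le (LinearMap.range f)
    rwa [Module.finrank_self] at this
  have h4 := Submodule.finrank_le (A ⊔ LinearMap.ker f)
  omega

/-- a bounded natural-valued function on a nonempty set has a maximum. -/
theorem sysA_exists_max {α : Type*} (S : Set α) (hS : S.Nonempty) (f : α → ℕ) (B : ℕ)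
    (hB : ∀ x ∈ S, f x ≤ B) : ∃ x ∈ S, ∀ y ∈ S, f y ≤ f x := by
  induction B with
  | zero =>
    obtain ⟨x, hx⟩ := hS
    exact ⟨x, hx, fun y hy => by have := hB y hy; omega⟩
  | succ n ih =>
    by_cases h : ∃ x ∈ S, f x = n + 1
    · obtain ⟨x, hx, hfx⟩ := h
      exact ⟨x, hx, fun y hy => by have := hB y hy; omega⟩
    · simp only [not_exists, not_and] at h
      exact ih (fun x hx => by have := hB x hx; have := h x hx; omega)

variable {p : ℕ} [Fact p.Prime] {V : Type u} [AddCommGroup V] [Module (ZMod p) V]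
variable {T : Set (V × Module.Dual (ZMod p) V)}

namespace TSys

theorem neg_left (hT : TSys T) {c : V} {φ : Module.Dual (ZMod p) V} (h : (c, φ) ∈ T) :
    (-c, φ) ∈ T := by
  have := hT.smul_left c φ h (-1) (by simp)
  simpa using this

theorem neg_right (hT : TSys T) {c : V} {φ : Module.Dual (ZMod p) V} (h : (c, φ) ∈ T) :
    (c, -φ) ∈ T := by
  have := hT.smul_right c φ h (-1) (by simp)
  have h2 : (-1 : ZMod p) • φ = -φ := by
    ext x
    simp
  rwa [h2] at this

/-- the exchange rule. -/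
theorem swap_mem (hT : TSys T) {c d : V} {φ ψ : Module.Dual (ZMod p) V}
    (h1 : (c, φ) ∈ T) (h2 : (d, ψ) ∈ T) (hφd : φ d ≠ 0) (hψc : ψ c = 0) : (c, ψ) ∈ T := by
  have hc := hT.ne c φ h1
  have h3 := hT.conj c φ d ψ h1 h2
  rw [hψc, zero_smul, sub_zero] at h3
  have h4 := hT.neg_left h2
  have h5 := hT.add_left _ _ ψ h3 h4 (by
    rw [add_comm d, add_neg_cancel_right]
    exact smul_ne_zero hφd hc.1)
  have h6 := hT.smul_left _ _ h5 (φ d)⁻¹ (inv_ne_zero hφd)
  have : (φ d)⁻¹ • (d + φ d • c + -d) = c := by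
    rw [add_comm d, add_neg_cancel_right, smul_smul, inv_mul_cancel₀ hφd, one_smul]
  rwa [this] at h6

/-- the axes with a given centre, with `0`. -/
def axS (hT : TSys T) (c : V) : Submodule (ZMod p) (Module.Dual (ZMod p) V) where
  carrier := {φ | φ = 0 ∨ (c, φ) ∈ T}
  zero_mem' := Or.inl rfl
  add_mem' := by
    intro a b ha hb
    rcases ha with rfl | ha
    · simpa using hb
    rcases hb with rfl | hb
    · simpa using Or.inr ha
    by_cases h : a + b = 0
    · exact Or.inl h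
    · exact Or.inr (hT.add_right c a b ha hb h)
  smul_mem' := by
    intro r a ha
    rcases ha with rfl | ha
    · left; simp
    by_cases hr : r = 0
    · left; simp [hr]
    · exact Or.inr (hT.smul_right c a ha r hr)

/-- the centres with a given axis, with `0`. -/
def ceS (hT : TSys T) (φ : Module.Dual (ZMod p) V) : Submodule (ZMod p) V where
  carrier := {c | c = 0 ∨ (c, φ) ∈ T}
  zero_mem' := Or.inl rfl
  add_mem' := by
    intro a b ha hb
    rcases ha with rfl | ha
    · simpa using hb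
    rcases hb with rfl | hb
    · simpa using Or.inr ha
    by_cases h : a + b = 0
    · exact Or.inl h
    · exact Or.inr (hT.add_left a b φ ha hb h)
  smul_mem' := by
    intro r a ha
    rcases ha with rfl | ha
    · left; simp
    by_cases hr : r = 0
    · left; simp [hr]
    · exact Or.inr (hT.smul_left a φ ha r hr)

theorem mem_axS (hT : TSys T) {c : V} {φ : Module.Dual (ZMod p) V} :
    φ ∈ hT.axS c ↔ φ = 0 ∨ (c, φ) ∈ T := Iff.rfl

theorem mem_ceS (hT : TSys T) {c : V} {φ : Module.Dual (ZMod p) V} :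
    c ∈ hT.ceS φ ↔ c = 0 ∨ (c, φ) ∈ T := Iff.rfl

theorem mem_of_mem_axS (hT : TSys T) {c : V} {φ : Module.Dual (ZMod p) V} (h : φ ∈ hT.axS c)
    (h0 : φ ≠ 0) : (c, φ) ∈ T := h.resolve_left h0

theorem mem_of_mem_ceS (hT : TSys T) {c : V} {φ : Module.Dual (ZMod p) V} (h : c ∈ hT.ceS φ)
    (h0 : c ≠ 0) : (c, φ) ∈ T := h.resolve_left h0

variable [Finite V]

/-- monotonicity of the axis dimension. -/
theorem axS_mono (hT : TSys T) {c d : V} {φ : Module.Dual (ZMod p) V} (h : (c, φ) ∈ T)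
    (hd : φ d ≠ 0) : finrank (ZMod p) (hT.axS d) ≤ finrank (ZMod p) (hT.axS c) := by
  have hc := hT.ne c φ h
  have h1 := sysA_finrank_le_inf_ker (hT.axS d) (Module.Dual.eval (ZMod p) V c)
  have hφ : φ ∉ hT.axS d ⊓ LinearMap.ker (Module.Dual.eval (ZMod p) V c) := by
    intro hmem
    have := hT.mem_of_mem_axS hmem.1 hc.2.1
    exact hd (hT.ne d φ this).2.2
  have h2 := Submodule.finrank_sup_span_singleton hφ
  have h3 : hT.axS d ⊓ LinearMap.ker (Module.Dual.eval (ZMod p) V c) ⊔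
      Submodule.span (ZMod p) {φ} ≤ hT.axS c := by
    apply sup_le
    · intro ψ hψ
      by_cases h0 : ψ = 0
      · exact Or.inl h0
      · have hψ1 := hT.mem_of_mem_axS hψ.1 h0
        have hψ2 : ψ c = 0 := by
          have := hψ.2
          simp only [SetLike.mem_coe, LinearMap.mem_ker, Module.Dual.eval_apply] at this
          exact this
        exact Or.inr (hT.swap_mem h hψ1 hd hψ2)
    · rw [Submodule.span_le, Set.singleton_subset_iff]
      exact Or.inr h
  have h4 := Submodule.finrank_mono h3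
  omega

/-- monotonicity of the centre dimension. -/
theorem ceS_mono (hT : TSys T) {c : V} {φ ψ : Module.Dual (ZMod p) V} (h : (c, φ) ∈ T)
    (hψ : ψ c ≠ 0) : finrank (ZMod p) (hT.ceS ψ) ≤ finrank (ZMod p) (hT.ceS φ) := by
  have hc := hT.ne c φ h
  have h1 := sysA_finrank_le_inf_ker (hT.ceS ψ) φ
  have hcn : c ∉ hT.ceS ψ ⊓ LinearMap.ker φ := by
    intro hmem
    have := hT.mem_of_mem_ceS hmem.1 hc.1
    exact hψ (hT.ne c ψ this).2.2
  have h2 := Submodule.finrank_sup_span_singleton hcn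
  have h3 : hT.ceS ψ ⊓ LinearMap.ker φ ⊔ Submodule.span (ZMod p) {c} ≤ hT.ceS φ := by
    apply sup_le
    · intro d hd
      by_cases h0 : d = 0
      · exact Or.inl h0
      · have hd1 := hT.mem_of_mem_ceS hd.1 h0
        have hd2 : φ d = 0 := hd.2
        exact Or.inr (hT.swap_mem hd1 h hψ hd2)
    · rw [Submodule.span_le, Set.singleton_subset_iff]
      exact Or.inr h
  have h4 := Submodule.finrank_mono h3
  omega

/-- the axis dimension is constant on centres. -/
theorem axS_const (hT : TSys T) (hirr : TIrr T) {c d : V} {φ ψ : Module.Dual (ZMod p) V}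
    (h1 : (c, φ) ∈ T) (h2 : (d, ψ) ∈ T) :
    finrank (ZMod p) (hT.axS c) = finrank (ZMod p) (hT.axS d) := by
  obtain ⟨c₀, ⟨φ₀, h0⟩, hmax⟩ := sysA_exists_max {x : V | ∃ ξ, (x, ξ) ∈ T} ⟨c, φ, h1⟩
    (fun x => finrank (ZMod p) (hT.axS x)) (finrank (ZMod p) (Module.Dual (ZMod p) V))
    (fun x _ => Submodule.finrank_le _)
  have key : ∀ x ξ, (x, ξ) ∈ T → finrank (ZMod p) (hT.axS c₀) ≤ finrank (ZMod p) (hT.axS x) := by
    set M : Set V := {x | (∃ ξ, (x, ξ) ∈ T) ∧
      finrank (ZMod p) (hT.axS c₀) ≤ finrank (ZMod p) (hT.axS x)} with hM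
    have hex : ∀ x ξ, (x, ξ) ∈ T → ¬ (Submodule.span (ZMod p) M ≤ LinearMap.ker ξ) →
        finrank (ZMod p) (hT.axS c₀) ≤ finrank (ZMod p) (hT.axS x) := by
      intro x ξ hx hnot
      rw [Submodule.span_le] at hnot
      obtain ⟨y, hyM, hy⟩ := Set.not_subset.1 hnot
      have hy' : ξ y ≠ 0 := hy
      exact le_trans hyM.2 (hT.axS_mono hx hy')
    have hinv : TInv T (Submodule.span (ZMod p) M) := by
      intro x ξ hx
      by_cases hU : Submodule.span (ZMod p) M ≤ LinearMap.ker ξ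
      · exact Or.inr hU
      · exact Or.inl (Submodule.subset_span ⟨⟨ξ, hx⟩, hex x ξ hx hU⟩)
    have htop : Submodule.span (ZMod p) M = ⊤ := by
      rcases hirr _ hinv with hb | ht
      · exfalso
        have : c₀ ∈ Submodule.span (ZMod p) M := Submodule.subset_span ⟨⟨φ₀, h0⟩, le_refl _⟩
        rw [hb, Submodule.mem_bot] at this
        exact (hT.ne c₀ φ₀ h0).1 this
      · exact ht
    intro x ξ hx
    apply hex x ξ hx
    rw [htop]
    intro hle
    apply (hT.ne x ξ hx).2.1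
    ext v
    exact hle (Submodule.mem_top : v ∈ (⊤ : Submodule (ZMod p) V))
  have e1 := le_antisymm (hmax c ⟨φ, h1⟩) (key c φ h1)
  have e2 := le_antisymm (hmax d ⟨ψ, h2⟩) (key d ψ h2)
  omega

/-- the centre dimension is constant on axes. -/
theorem ceS_const (hT : TSys T) (hirr : TIrr T) {c d : V} {φ ψ : Module.Dual (ZMod p) V}
    (h1 : (c, φ) ∈ T) (h2 : (d, ψ) ∈ T) :
    finrank (ZMod p) (hT.ceS φ) = finrank (ZMod p) (hT.ceS ψ) := by
  obtain ⟨φ₀, ⟨c₀, h0⟩, hmax⟩ := sysA_exists_max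
    {ξ : Module.Dual (ZMod p) V | ∃ x, (x, ξ) ∈ T} ⟨φ, c, h1⟩
    (fun ξ => finrank (ZMod p) (hT.ceS ξ)) (finrank (ZMod p) V)
    (fun x _ => Submodule.finrank_le _)
  have key : ∀ x ξ, (x, ξ) ∈ T → finrank (ZMod p) (hT.ceS φ₀) ≤ finrank (ZMod p) (hT.ceS ξ) := by
    set M : Set (Module.Dual (ZMod p) V) := {ξ | (∃ x, (x, ξ) ∈ T) ∧
      finrank (ZMod p) (hT.ceS φ₀) ≤ finrank (ZMod p) (hT.ceS ξ)} with hM
    set K : Submodule (ZMod p) V := ⨅ ξ ∈ M, LinearMap.ker ξ with hK
    have hmemK : ∀ x, x ∈ K ↔ ∀ ξ ∈ M, ξ x = 0 := by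
      intro x
      simp only [hK, Submodule.mem_iInf, LinearMap.mem_ker]
    have hex : ∀ x ξ, (x, ξ) ∈ T → x ∉ K →
        finrank (ZMod p) (hT.ceS φ₀) ≤ finrank (ZMod p) (hT.ceS ξ) := by
      intro x ξ hx hnot
      rw [hmemK] at hnot
      simp only [not_forall] at hnot
      obtain ⟨η, hηM, hη⟩ := hnot
      exact le_trans hηM.2 (hT.ceS_mono hx hη)
    have hinv : TInv T K := by
      intro x ξ hx
      by_cases hU : x ∈ K
      · exact Or.inl hU
      · right
        intro y hy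
        exact (hmemK y).1 hy ξ ⟨⟨x, hx⟩, hex x ξ hx hU⟩
    have hbot : K = ⊥ := by
      rcases hirr _ hinv with hb | ht
      · exact hb
      · exfalso
        apply (hT.ne c₀ φ₀ h0).2.1
        ext v
        have : v ∈ K := by rw [ht]; exact Submodule.mem_top
        exact (hmemK v).1 this φ₀ ⟨⟨c₀, h0⟩, le_refl _⟩
    intro x ξ hx
    apply hex x ξ hx
    rw [hbot, Submodule.mem_bot]
    exact (hT.ne x ξ hx).1
  have e1 := le_antisymm (hmax φ ⟨c, h1⟩) (key c φ h1)
  have e2 := le_antisymm (hmax ψ ⟨d, h2⟩) (key d ψ h2)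
  omega

/-- a hyperbolic pair exists. -/
theorem exists_hyp (hT : TSys T) (hirr : TIrr T) (hne : T.Nonempty) :
    ∃ (c e : V) (φ χ : Module.Dual (ZMod p) V), (c, φ) ∈ T ∧ (e, χ) ∈ T ∧ φ e = 1 ∧ χ c = 1 := by
  have main : ∃ (c e : V) (φ χ : Module.Dual (ZMod p) V),
      (c, φ) ∈ T ∧ (e, χ) ∈ T ∧ φ e ≠ 0 ∧ χ c ≠ 0 := by
    by_contra hcon
    simp only [not_exists, not_and, not_not] at hcon
    obtain ⟨⟨c, φ⟩, h1⟩ := hne
    have hc := hT.ne c φ h1
    -- the centres span
    have hinv : TInv T (Submodule.span (ZMod p) {x : V | ∃ ξ, (x, ξ) ∈ T}) := by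
      intro x ξ hx
      exact Or.inl (Submodule.subset_span ⟨ξ, hx⟩)
    have htop : Submodule.span (ZMod p) {x : V | ∃ ξ, (x, ξ) ∈ T} = ⊤ := by
      rcases hirr _ hinv with hb | ht
      · exfalso
        have : c ∈ Submodule.span (ZMod p) {x : V | ∃ ξ, (x, ξ) ∈ T} :=
          Submodule.subset_span ⟨φ, h1⟩
        rw [hb, Submodule.mem_bot] at this
        exact hc.1 this
      · exact ht
    have hexd : ∃ d, (∃ ξ, (d, ξ) ∈ T) ∧ φ d ≠ 0 := by
      by_contra hno
      simp only [not_exists, not_and, not_not] at hno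
      apply hc.2.1
      have hle : Submodule.span (ZMod p) {x : V | ∃ ξ, (x, ξ) ∈ T} ≤ LinearMap.ker φ := by
        rw [Submodule.span_le]
        rintro x ⟨ξ, hx⟩
        exact hno x ⟨ξ, hx⟩
      rw [htop] at hle
      ext v
      exact hle (Submodule.mem_top : v ∈ (⊤ : Submodule (ZMod p) V))
    obtain ⟨d, ⟨ψ₀, hd⟩, hφd⟩ := hexd
    have hle : hT.axS d ≤ hT.axS c := by
      intro ψ hψ
      by_cases h0 : ψ = 0
      · exact Or.inl h0
      · have hψ1 := hT.mem_of_mem_axS hψ h0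
        exact Or.inr (hT.swap_mem h1 hψ1 hφd (hcon c d φ ψ h1 hψ1 hφd))
    have hlt : hT.axS d < hT.axS c := by
      refine lt_of_le_of_ne hle ?_
      intro heq
      have : φ ∈ hT.axS d := by rw [heq]; exact Or.inr h1
      exact hφd (hT.ne d φ (hT.mem_of_mem_axS this hc.2.1)).2.2
    have := Submodule.finrank_lt_finrank_of_lt hlt
    have := hT.axS_const hirr h1 hd
    omega
  obtain ⟨c, e, φ, χ, h1, h2, hα, hβ⟩ := main
  refine ⟨c, e, (φ e)⁻¹ • φ, (χ c)⁻¹ • χ, hT.smul_right c φ h1 _ (inv_ne_zero hα),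
    hT.smul_right e χ h2 _ (inv_ne_zero hβ), ?_, ?_⟩
  · rw [LinearMap.smul_apply, smul_eq_mul, inv_mul_cancel₀ hα]
  · rw [LinearMap.smul_apply, smul_eq_mul, inv_mul_cancel₀ hβ]

end TSys

/-- a normalised hyperbolic pair. -/
structure Hyp (T : Set (V × Module.Dual (ZMod p) V)) (c e : V)
    (φ χ : Module.Dual (ZMod p) V) : Prop where
  h1 : (c, φ) ∈ T
  h2 : (e, χ) ∈ T
  hα : φ e = 1
  hβ : χ c = 1

/-- the axes of `c` vanishing at `e`. -/
def sysLam (hT : TSys T) (c e : V) : Submodule (ZMod p) (Module.Dual (ZMod p) V) :=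
  hT.axS c ⊓ LinearMap.ker (Module.Dual.eval (ZMod p) V e)

/-- the centres of `φ` in the kernel of `χ`. -/
def sysGam (hT : TSys T) (φ χ : Module.Dual (ZMod p) V) : Submodule (ZMod p) V :=
  hT.ceS φ ⊓ LinearMap.ker χ

theorem mem_sysLam (hT : TSys T) {c e : V} {l : Module.Dual (ZMod p) V} :
    l ∈ sysLam hT c e ↔ (l = 0 ∨ (c, l) ∈ T) ∧ l e = 0 := by
  unfold sysLam
  rw [Submodule.mem_inf, LinearMap.mem_ker, Module.Dual.eval_apply]
  rfl

theorem mem_sysGam (hT : TSys T) {φ χ : Module.Dual (ZMod p) V} {y : V} :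
    y ∈ sysGam hT φ χ ↔ (y = 0 ∨ (y, φ) ∈ T) ∧ χ y = 0 := by
  unfold sysGam
  rw [Submodule.mem_inf, LinearMap.mem_ker]
  rfl

/-- `V₁`. -/
def sysV1 (hT : TSys T) (c e : V) (φ χ : Module.Dual (ZMod p) V) : Submodule (ZMod p) V :=
  (sysGam hT φ χ ⊔ Submodule.span (ZMod p) {e}) ⊔ Submodule.span (ZMod p) {c}

/-- `V₁*`. -/
def sysV1s (hT : TSys T) (c e : V) (φ χ : Module.Dual (ZMod p) V) :
    Submodule (ZMod p) (Module.Dual (ZMod p) V) :=
  (sysLam hT c e ⊔ Submodule.span (ZMod p) {χ}) ⊔ Submodule.span (ZMod p) {φ}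

theorem mem_sysV1 (hT : TSys T) {c e : V} {φ χ : Module.Dual (ZMod p) V} {v : V} :
    v ∈ sysV1 hT c e φ χ ↔
      ∃ (a b : ZMod p) (y : V), y ∈ sysGam hT φ χ ∧ v = a • c + b • e + y := by
  unfold sysV1
  constructor
  · intro h
    obtain ⟨w, hw, z, hz, rfl⟩ := Submodule.mem_sup.1 h
    obtain ⟨y, hy, z', hz', rfl⟩ := Submodule.mem_sup.1 hw
    obtain ⟨a, rfl⟩ := Submodule.mem_span_singleton.1 hz
    obtain ⟨b, rfl⟩ := Submodule.mem_span_singleton.1 hz'
    exact ⟨a, b, y, hy, by abel⟩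
  · rintro ⟨a, b, y, hy, rfl⟩
    have h1 : a • c ∈ Submodule.span (ZMod p) {c} :=
      Submodule.smul_mem _ a (Submodule.mem_span_singleton_self c)
    have h2 : b • e ∈ Submodule.span (ZMod p) {e} :=
      Submodule.smul_mem _ b (Submodule.mem_span_singleton_self e)
    have h3 : y + b • e ∈ sysGam hT φ χ ⊔ Submodule.span (ZMod p) {e} :=
      Submodule.add_mem_sup hy h2
    have h4 := Submodule.add_mem_sup h3 h1
    have e1 : a • c + b • e + y = y + b • e + a • c := by abel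
    rw [e1]
    exact h4

theorem mem_sysV1s (hT : TSys T) {c e : V} {φ χ : Module.Dual (ZMod p) V}
    {ξ : Module.Dual (ZMod p) V} :
    ξ ∈ sysV1s hT c e φ χ ↔
      ∃ (s t : ZMod p) (l : Module.Dual (ZMod p) V), l ∈ sysLam hT c e ∧
        ξ = s • φ + t • χ + l := by
  unfold sysV1s
  constructor
  · intro h
    obtain ⟨w, hw, z, hz, rfl⟩ := Submodule.mem_sup.1 h
    obtain ⟨y, hy, z', hz', rfl⟩ := Submodule.mem_sup.1 hw
    obtain ⟨a, rfl⟩ := Submodule.mem_span_singleton.1 hz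
    obtain ⟨b, rfl⟩ := Submodule.mem_span_singleton.1 hz'
    exact ⟨a, b, y, hy, by abel⟩
  · rintro ⟨a, b, y, hy, rfl⟩
    have h1 : a • φ ∈ Submodule.span (ZMod p) {φ} :=
      Submodule.smul_mem _ a (Submodule.mem_span_singleton_self φ)
    have h2 : b • χ ∈ Submodule.span (ZMod p) {χ} :=
      Submodule.smul_mem _ b (Submodule.mem_span_singleton_self χ)
    have h3 : y + b • χ ∈ sysLam hT c e ⊔ Submodule.span (ZMod p) {χ} :=
      Submodule.add_mem_sup hy h2
    have h4 := Submodule.add_mem_sup h3 h1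
    have e1 : a • φ + b • χ + y = y + b • χ + a • φ := by abel
    rw [e1]
    exact h4

namespace Hyp

variable {c e : V} {φ χ : Module.Dual (ZMod p) V}

theorem φc (H : Hyp T c e φ χ) (hT : TSys T) : φ c = 0 := (hT.ne c φ H.h1).2.2

theorem χe (H : Hyp T c e φ χ) (hT : TSys T) : χ e = 0 := (hT.ne e χ H.h2).2.2

theorem lam_c (hT : TSys T) {l : Module.Dual (ZMod p) V} (hl : l ∈ sysLam hT c e) :
    l c = 0 := by
  rcases ((mem_sysLam hT).1 hl).1 with rfl | h
  · rfl
  · exact (hT.ne c l h).2.2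

theorem lam_e (hT : TSys T) {l : Module.Dual (ZMod p) V} (hl : l ∈ sysLam hT c e) :
    l e = 0 := ((mem_sysLam hT).1 hl).2

theorem lam_mem_c (hT : TSys T) {l : Module.Dual (ZMod p) V} (hl : l ∈ sysLam hT c e)
    (h0 : l ≠ 0) : (c, l) ∈ T := ((mem_sysLam hT).1 hl).1.resolve_left h0

theorem lam_mem_e (H : Hyp T c e φ χ) (hT : TSys T) {l : Module.Dual (ZMod p) V}
    (hl : l ∈ sysLam hT c e) (h0 : l ≠ 0) : (e, l) ∈ T :=
  hT.swap_mem H.h2 (lam_mem_c hT hl h0) (by rw [H.hβ]; exact one_ne_zero) (lam_e hT hl)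

theorem gam_φ (hT : TSys T) {y : V} (hy : y ∈ sysGam hT φ χ) : φ y = 0 := by
  rcases ((mem_sysGam hT).1 hy).1 with rfl | h
  · exact map_zero φ
  · exact (hT.ne y φ h).2.2

theorem gam_χ (hT : TSys T) {y : V} (hy : y ∈ sysGam hT φ χ) : χ y = 0 :=
  ((mem_sysGam hT).1 hy).2

theorem gam_mem_φ (hT : TSys T) {y : V} (hy : y ∈ sysGam hT φ χ) (h0 : y ≠ 0) :
    (y, φ) ∈ T := ((mem_sysGam hT).1 hy).1.resolve_left h0

theorem gam_mem_χ (H : Hyp T c e φ χ) (hT : TSys T) {y : V} (hy : y ∈ sysGam hT φ χ)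
    (h0 : y ≠ 0) : (y, χ) ∈ T :=
  hT.swap_mem (gam_mem_φ hT hy h0) H.h2 (by rw [H.hα]; exact one_ne_zero) (gam_χ hT hy)

theorem gam_lam_mem (H : Hyp T c e φ χ) (hT : TSys T) {y : V} (hy : y ∈ sysGam hT φ χ)
    (hy0 : y ≠ 0) {l : Module.Dual (ZMod p) V} (hl : l ∈ sysLam hT c e) (hl0 : l ≠ 0)
    (hly : l y = 0) : (y, l) ∈ T :=
  hT.swap_mem (gam_mem_φ hT hy hy0) (H.lam_mem_e hT hl hl0)
    (by rw [H.hα]; exact one_ne_zero) hly

theorem φ_coord (H : Hyp T c e φ χ) (hT : TSys T) (a b : ZMod p) {y : V}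
    (hy : y ∈ sysGam hT φ χ) : φ (a • c + b • e + y) = b := by
  rw [map_add, map_add, map_smul, map_smul, H.φc hT, H.hα, gam_φ hT hy]
  simp

theorem χ_coord (H : Hyp T c e φ χ) (hT : TSys T) (a b : ZMod p) {y : V}
    (hy : y ∈ sysGam hT φ χ) : χ (a • c + b • e + y) = a := by
  rw [map_add, map_add, map_smul, map_smul, H.hβ, H.χe hT, gam_χ hT hy]
  simp

theorem lam_coord (hT : TSys T) {l : Module.Dual (ZMod p) V} (hl : l ∈ sysLam hT c e)
    (a b : ZMod p) (y : V) : l (a • c + b • e + y) = l y := by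
  rw [map_add, map_add, map_smul, map_smul, lam_c hT hl, lam_e hT hl]
  simp

theorem eval_coord (H : Hyp T c e φ χ) (hT : TSys T) (a b s t : ZMod p) {y : V}
    (hy : y ∈ sysGam hT φ χ) {l : Module.Dual (ZMod p) V} (hl : l ∈ sysLam hT c e) :
    (s • φ + t • χ + l) (a • c + b • e + y) = s * b + t * a + l y := by
  rw [LinearMap.add_apply, LinearMap.add_apply, LinearMap.smul_apply, LinearMap.smul_apply,
    H.φ_coord hT a b hy, H.χ_coord hT a b hy, lam_coord hT hl a b y, smul_eq_mul, smul_eq_mul]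

theorem plane_mem (H : Hyp T c e φ χ) (hT : TSys T) (a b : ZMod p) (hab : ¬ (a = 0 ∧ b = 0)) :
    (a • c + b • e, a • φ - b • χ) ∈ T := by
  by_cases hb : b = 0
  · have ha : a ≠ 0 := fun h => hab ⟨h, hb⟩
    have := hT.smul_right _ _ (hT.smul_left c φ H.h1 a ha) a ha
    simpa [hb] using this
  by_cases ha : a = 0
  · have := hT.smul_right _ _ (hT.smul_left e χ H.h2 b hb) (-b) (neg_ne_zero.2 hb)
    have e2 : (-b) • χ = a • φ - b • χ := by
      ext x
      simp [ha]
    have e1 : b • e = a • c + b • e := by simp [ha]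
    rwa [e1, e2] at this
  · have hs : a / b ≠ 0 := div_ne_zero ha hb
    have h3 := hT.conj _ φ e χ (hT.smul_left c φ H.h1 (a / b) hs) H.h2
    have h4 := hT.smul_right _ _ (hT.smul_left _ _ h3 b hb) (-b) (neg_ne_zero.2 hb)
    have hba : b * (a / b) = a := by field_simp
    have e1 : b • (e + φ e • (a / b) • c) = a • c + b • e := by
      rw [H.hα, one_smul, smul_add, smul_smul, hba, add_comm]
    have e2 : (-b) • (χ - χ ((a / b) • c) • φ) = a • φ - b • χ := by
      ext x
      simp only [map_smul, H.hβ, smul_eq_mul, mul_one, LinearMap.smul_apply, LinearMap.sub_apply]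
      linear_combination (φ x) * hba
    rwa [e1, e2] at h4

theorem plane_mem' (H : Hyp T c e φ χ) (hT : TSys T) (a b s t : ZMod p)
    (hab : ¬ (a = 0 ∧ b = 0)) (hst : ¬ (s = 0 ∧ t = 0)) (h0 : s * b + t * a = 0) :
    (a • c + b • e, s • φ + t • χ) ∈ T := by
  have h4 := H.plane_mem hT a b hab
  by_cases ha : a = 0
  · have hb : b ≠ 0 := fun h => hab ⟨ha, h⟩
    have hs : s = 0 := by
      rw [ha, mul_zero, add_zero] at h0
      exact (mul_eq_zero.1 h0).resolve_right hb
    have ht : t ≠ 0 := fun h => hst ⟨hs, h⟩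
    have h5 := hT.smul_right _ _ h4 (-t / b) (div_ne_zero (neg_ne_zero.2 ht) hb)
    have hr : (-t / b) * b = -t := by field_simp
    have e : (-t / b) • (a • φ - b • χ) = s • φ + t • χ := by
      ext x
      simp only [ha, hs, zero_smul, zero_sub, zero_add, LinearMap.smul_apply,
        LinearMap.neg_apply, smul_eq_mul]
      linear_combination (-(χ x)) * hr
    rwa [e] at h5
  · have hs : s ≠ 0 := by
      intro hs
      rw [hs, zero_mul, zero_add] at h0
      exact hst ⟨hs, (mul_eq_zero.1 h0).resolve_right ha⟩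
    have h5 := hT.smul_right _ _ h4 (s / a) (div_ne_zero hs ha)
    have hr : (s / a) * a = s := by field_simp
    have e : (s / a) • (a • φ - b • χ) = s • φ + t • χ := by
      ext x
      simp only [LinearMap.smul_apply, LinearMap.sub_apply, LinearMap.add_apply, smul_eq_mul]
      have h6 : t = -(s / a) * b := by
        have : t * a = -(s / a) * b * a := by linear_combination h0 + b * hr
        exact mul_right_cancel₀ ha this
      rw [h6]
      linear_combination (φ x) * hr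
    rwa [e] at h5

theorem mem_A (H : Hyp T c e φ χ) (hT : TSys T) (a b : ZMod p) {y : V}
    (hy : y ∈ sysGam hT φ χ) {l : Module.Dual (ZMod p) V} (hl : l ∈ sysLam hT c e)
    (hl0 : l ≠ 0) (hv : a • c + b • e + y ≠ 0) (hly : l y = 0) :
    (a • c + b • e + y, l) ∈ T := by
  have hc : c ∈ hT.ceS l := Or.inr (lam_mem_c hT hl hl0)
  have he : e ∈ hT.ceS l := Or.inr (H.lam_mem_e hT hl hl0)
  have hy' : y ∈ hT.ceS l := by
    by_cases hy0 : y = 0
    · exact Or.inl hy0
    · exact Or.inr (H.gam_lam_mem hT hy hy0 hl hl0 hly)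
  have := (hT.ceS l).add_mem
    ((hT.ceS l).add_mem ((hT.ceS l).smul_mem a hc) ((hT.ceS l).smul_mem b he)) hy'
  exact hT.mem_of_mem_ceS this hv

theorem plane_ne (H : Hyp T c e φ χ) (hT : TSys T) (s t : ZMod p) (hst : ¬ (s = 0 ∧ t = 0)) :
    s • φ + t • χ ≠ 0 := by
  intro h
  apply hst
  have h1 : (s • φ + t • χ) c = 0 := by rw [h]; rfl
  have h2 : (s • φ + t • χ) e = 0 := by rw [h]; rfl
  rw [LinearMap.add_apply, LinearMap.smul_apply, LinearMap.smul_apply, H.φc hT, H.hβ,
    smul_eq_mul, smul_eq_mul, mul_zero, zero_add, mul_one] at h1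
  rw [LinearMap.add_apply, LinearMap.smul_apply, LinearMap.smul_apply, H.χe hT, H.hα,
    smul_eq_mul, smul_eq_mul, mul_zero, add_zero, mul_one] at h2
  exact ⟨h2, h1⟩

theorem mem_B (H : Hyp T c e φ χ) (hT : TSys T) (a b s t : ZMod p) {y : V}
    (hy : y ∈ sysGam hT φ χ) (hst : ¬ (s = 0 ∧ t = 0)) (hv : a • c + b • e + y ≠ 0)
    (h0 : s * b + t * a = 0) : (a • c + b • e + y, s • φ + t • χ) ∈ T := by
  have hu : a • c + b • e ∈ hT.ceS (s • φ + t • χ) := by
    by_cases hab : a = 0 ∧ b = 0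
    · left
      rw [hab.1, hab.2, zero_smul, zero_smul, add_zero]
    · exact Or.inr (H.plane_mem' hT a b s t hab hst h0)
  have hξ0 : s • φ + t • χ ≠ 0 := H.plane_ne hT s t hst
  have hy' : y ∈ hT.ceS (s • φ + t • χ) := by
    by_cases hy0 : y = 0
    · exact Or.inl hy0
    · have h1 : φ ∈ hT.axS y := Or.inr (gam_mem_φ hT hy hy0)
      have h2 : χ ∈ hT.axS y := Or.inr (H.gam_mem_χ hT hy hy0)
      have := (hT.axS y).add_mem ((hT.axS y).smul_mem s h1) ((hT.axS y).smul_mem t h2)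
      exact Or.inr (hT.mem_of_mem_axS this hξ0)
  exact hT.mem_of_mem_ceS ((hT.ceS _).add_mem hu hy') hv

theorem coord_zero (H : Hyp T c e φ χ) (hT : TSys T) (a b : ZMod p) {y : V}
    (hy : y ∈ sysGam hT φ χ) (h : a • c + b • e + y = 0) : a = 0 ∧ b = 0 ∧ y = 0 := by
  have h1 := congrArg φ h
  have h2 := congrArg χ h
  rw [H.φ_coord hT _ _ hy, map_zero] at h1
  rw [H.χ_coord hT _ _ hy, map_zero] at h2
  refine ⟨h2, h1, ?_⟩
  rw [h1, h2, zero_smul, zero_smul, zero_add, zero_add] at h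
  exact h

/-- every incident pair of `V₁ × V₁*` is in `T`. -/
theorem mem_main (H : Hyp T c e φ χ) (hT : TSys T) (a b s t : ZMod p) {y : V}
    (hy : y ∈ sysGam hT φ χ) {l : Module.Dual (ZMod p) V} (hl : l ∈ sysLam hT c e)
    (hv : a • c + b • e + y ≠ 0) (hξ : s • φ + t • χ + l ≠ 0)
    (h0 : s * b + t * a + l y = 0) : (a • c + b • e + y, s • φ + t • χ + l) ∈ T := by
  by_cases hst : s = 0 ∧ t = 0
  · have hl0 : l ≠ 0 := by
      intro h
      apply hξ
      rw [hst.1, hst.2, h, zero_smul, zero_smul, add_zero, add_zero]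
    have hly : l y = 0 := by
      rw [hst.1, hst.2, zero_mul, zero_mul, zero_add, zero_add] at h0
      exact h0
    have := H.mem_A hT a b hy hl hl0 hv hly
    rw [hst.1, hst.2, zero_smul, zero_smul, zero_add, zero_add]
    exact this
  by_cases hl0 : l = 0
  · have h0' : s * b + t * a = 0 := by
      rw [hl0, LinearMap.zero_apply, add_zero] at h0
      exact h0
    have := H.mem_B hT a b s t hy hst hv h0'
    rw [hl0, add_zero]
    exact this
  obtain ⟨a₀, b₀, hx0⟩ : ∃ a₀ b₀ : ZMod p, s * b₀ + t * a₀ = 1 := by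
    by_cases hs : s = 0
    · have ht : t ≠ 0 := fun h => hst ⟨hs, h⟩
      exact ⟨t⁻¹, 0, by rw [mul_zero, zero_add, mul_inv_cancel₀ ht]⟩
    · exact ⟨0, s⁻¹, by rw [mul_zero, add_zero, mul_inv_cancel₀ hs]⟩
  have hab0 : ¬ (a₀ = 0 ∧ b₀ = 0) := by
    rintro ⟨h1, h2⟩
    rw [h1, h2, mul_zero, mul_zero, add_zero] at hx0
    exact zero_ne_one hx0
  have hnl : -l ∈ sysLam hT c e := (sysLam hT c e).neg_mem hl
  have hnl0 : -l ≠ 0 := neg_ne_zero.2 hl0
  have hzero : (0 : V) ∈ sysGam hT φ χ := (sysGam hT φ χ).zero_mem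
  have hx₀T : (a₀ • c + b₀ • e + 0, -l) ∈ T := by
    refine H.mem_A hT a₀ b₀ hzero hnl hnl0 ?_ (map_zero _)
    intro h
    have := H.coord_zero hT a₀ b₀ hzero h
    exact hab0 ⟨this.1, this.2.1⟩
  have hdT : ((a + l y * a₀) • c + (b + l y * b₀) • e + y, s • φ + t • χ) ∈ T := by
    apply H.mem_B hT _ _ s t hy hst
    · intro h
      obtain ⟨h2, h1, hy0⟩ := H.coord_zero hT _ _ hy h
      have hly : l y = 0 := by rw [hy0, map_zero]
      rw [hly, zero_mul, add_zero] at h1 h2
      apply hv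
      rw [h1, h2, hy0, zero_smul, zero_smul, add_zero, add_zero]
    · linear_combination h0 + l y * hx0
  have h5 := hT.conj _ _ _ _ hx₀T hdT
  have e1 : ((a + l y * a₀) • c + (b + l y * b₀) • e + y) +
      (-l) ((a + l y * a₀) • c + (b + l y * b₀) • e + y) • (a₀ • c + b₀ • e + 0) =
      a • c + b • e + y := by
    rw [LinearMap.neg_apply, lam_coord hT hl _ _]
    module
  have e2 : (s • φ + t • χ) - (s • φ + t • χ) (a₀ • c + b₀ • e + 0) • (-l) =
      s • φ + t • χ + l := by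
    have h6 := H.eval_coord hT a₀ b₀ s t hzero (sysLam hT c e).zero_mem
    rw [LinearMap.zero_apply, hx0, add_zero (1 : ZMod p)] at h6
    have h8 : s • φ + t • χ + 0 = s • φ + t • χ := add_zero _
    rw [h8] at h6
    rw [h6, one_smul, sub_neg_eq_add]
  rw [e1, e2] at h5
  exact h5

variable [Finite V]

theorem finrank_sysV1 (H : Hyp T c e φ χ) (hT : TSys T) :
    finrank (ZMod p) (sysV1 hT c e φ χ) = finrank (ZMod p) (sysGam hT φ χ) + 2 := by
  have he : e ∉ sysGam hT φ χ := by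
    intro h
    have := gam_φ hT h
    rw [H.hα] at this
    exact one_ne_zero this
  have hc : c ∉ sysGam hT φ χ ⊔ Submodule.span (ZMod p) {e} := by
    intro h
    obtain ⟨y, hy, z, hz, hsum⟩ := Submodule.mem_sup.1 h
    obtain ⟨b, rfl⟩ := Submodule.mem_span_singleton.1 hz
    have := congrArg χ hsum
    rw [map_add, gam_χ hT hy, map_smul, H.χe hT, H.hβ, smul_zero, add_zero] at this
    exact zero_ne_one this
  unfold sysV1
  rw [Submodule.finrank_sup_span_singleton hc, Submodule.finrank_sup_span_singleton he]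

theorem finrank_sysV1s (H : Hyp T c e φ χ) (hT : TSys T) :
    finrank (ZMod p) (sysV1s hT c e φ χ) = finrank (ZMod p) (sysLam hT c e) + 2 := by
  have he : χ ∉ sysLam hT c e := by
    intro h
    have := lam_c hT h
    rw [H.hβ] at this
    exact one_ne_zero this
  have hc : φ ∉ sysLam hT c e ⊔ Submodule.span (ZMod p) {χ} := by
    intro h
    obtain ⟨y, hy, z, hz, hsum⟩ := Submodule.mem_sup.1 h
    obtain ⟨b, rfl⟩ := Submodule.mem_span_singleton.1 hz
    have := congrArg (fun f : Module.Dual (ZMod p) V => f e) hsum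
    simp only [LinearMap.add_apply, LinearMap.smul_apply] at this
    rw [lam_e hT hy, H.χe hT, H.hα, smul_zero, add_zero] at this
    exact zero_ne_one this
  unfold sysV1s
  rw [Submodule.finrank_sup_span_singleton hc, Submodule.finrank_sup_span_singleton he]

theorem finrank_sysLam (H : Hyp T c e φ χ) (hT : TSys T) :
    finrank (ZMod p) (sysLam hT c e) + 1 = finrank (ZMod p) (hT.axS c) := by
  have h1 : finrank (ZMod p) (hT.axS c) ≤ finrank (ZMod p) (sysLam hT c e) + 1 :=
    sysA_finrank_le_inf_ker (hT.axS c) (Module.Dual.eval (ZMod p) V e)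
  have hφ : φ ∉ sysLam hT c e := by
    intro h
    have := lam_e hT h
    rw [H.hα] at this
    exact one_ne_zero this
  have h2 := Submodule.finrank_sup_span_singleton hφ
  have h3 : sysLam hT c e ⊔ Submodule.span (ZMod p) {φ} ≤ hT.axS c := by
    apply sup_le
    · exact inf_le_left
    · rw [Submodule.span_le, Set.singleton_subset_iff]
      exact Or.inr H.h1
  have h4 := Submodule.finrank_mono h3
  omega

theorem finrank_sysGam (H : Hyp T c e φ χ) (hT : TSys T) :
    finrank (ZMod p) (sysGam hT φ χ) + 1 = finrank (ZMod p) (hT.ceS φ) := by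
  have h1 : finrank (ZMod p) (hT.ceS φ) ≤ finrank (ZMod p) (sysGam hT φ χ) + 1 :=
    sysA_finrank_le_inf_ker (hT.ceS φ) χ
  have hc : c ∉ sysGam hT φ χ := by
    intro h
    have := gam_χ hT h
    rw [H.hβ] at this
    exact one_ne_zero this
  have h2 := Submodule.finrank_sup_span_singleton hc
  have h3 : sysGam hT φ χ ⊔ Submodule.span (ZMod p) {c} ≤ hT.ceS φ := by
    apply sup_le
    · exact inf_le_left
    · rw [Submodule.span_le, Set.singleton_subset_iff]
      exact Or.inr H.h1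
  have h4 := Submodule.finrank_mono h3
  omega

theorem lam_sep (H : Hyp T c e φ χ) (hT : TSys T) (hirr : TIrr T)
    {l : Module.Dual (ZMod p) V} (hl : l ∈ sysLam hT c e) (hl0 : l ≠ 0) :
    ∃ y ∈ sysGam hT φ χ, l y ≠ 0 := by
  by_contra hcon
  simp only [not_exists, not_and, not_not] at hcon
  have hle : sysV1 hT c e φ χ ≤ hT.ceS l := by
    intro v hv
    obtain ⟨a, b, y, hy, rfl⟩ := (mem_sysV1 hT).1 hv
    by_cases hv0 : a • c + b • e + y = 0
    · exact Or.inl hv0
    · exact Or.inr (H.mem_A hT a b hy hl hl0 hv0 (hcon y hy))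
  have h1 := Submodule.finrank_mono hle
  have h2 := H.finrank_sysV1 hT
  have h3 := H.finrank_sysGam hT
  have h4 := hT.ceS_const hirr H.h1 (lam_mem_c hT hl hl0)
  omega

theorem gam_sep (H : Hyp T c e φ χ) (hT : TSys T) (hirr : TIrr T)
    {y : V} (hy : y ∈ sysGam hT φ χ) (hy0 : y ≠ 0) :
    ∃ l ∈ sysLam hT c e, l y ≠ 0 := by
  by_contra hcon
  simp only [not_exists, not_and, not_not] at hcon
  have hle : sysV1s hT c e φ χ ≤ hT.axS y := by
    intro ξ hξ
    obtain ⟨s, t, l, hl, rfl⟩ := (mem_sysV1s hT).1 hξ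
    have h1 : φ ∈ hT.axS y := Or.inr (gam_mem_φ hT hy hy0)
    have h2 : χ ∈ hT.axS y := Or.inr (H.gam_mem_χ hT hy hy0)
    have h3 : l ∈ hT.axS y := by
      by_cases hl0 : l = 0
      · exact Or.inl hl0
      · exact Or.inr (H.gam_lam_mem hT hy hy0 hl hl0 (hcon l hl))
    exact (hT.axS y).add_mem
      ((hT.axS y).add_mem ((hT.axS y).smul_mem s h1) ((hT.axS y).smul_mem t h2)) h3
  have h1 := Submodule.finrank_mono hle
  have h2 := H.finrank_sysV1s hT
  have h3 := H.finrank_sysLam hT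
  have h4 := hT.axS_const hirr H.h1 (gam_mem_φ hT hy hy0)
  omega

theorem finrank_lam_eq_gam (H : Hyp T c e φ χ) (hT : TSys T) (hirr : TIrr T) :
    finrank (ZMod p) (sysLam hT c e) = finrank (ZMod p) (sysGam hT φ χ) := by
  apply le_antisymm
  · let f : sysLam hT c e →ₗ[ZMod p] Module.Dual (ZMod p) (sysGam hT φ χ) :=
      ((sysGam hT φ χ).subtype.dualMap).comp (sysLam hT c e).subtype
    have hf : Function.Injective f := by
      rw [← LinearMap.ker_eq_bot, LinearMap.ker_eq_bot']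
      intro l hl
      by_contra hl0
      have hl0' : (l : Module.Dual (ZMod p) V) ≠ 0 := fun h => hl0 (Subtype.ext h)
      obtain ⟨y, hy, hly⟩ := H.lam_sep hT hirr l.2 hl0'
      apply hly
      have := congrArg (fun g : Module.Dual (ZMod p) (sysGam hT φ χ) => g ⟨y, hy⟩) hl
      simpa [f] using this
    have := LinearMap.finrank_le_finrank_of_injective hf
    rwa [Subspace.dual_finrank_eq] at this
  · let g : sysGam hT φ χ →ₗ[ZMod p] Module.Dual (ZMod p) (sysLam hT c e) :=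
      ((sysLam hT c e).subtype.dualMap).comp
        ((Module.Dual.eval (ZMod p) V).comp (sysGam hT φ χ).subtype)
    have hg : Function.Injective g := by
      rw [← LinearMap.ker_eq_bot, LinearMap.ker_eq_bot']
      intro y hy
      by_contra hy0
      have hy0' : (y : V) ≠ 0 := fun h => hy0 (Subtype.ext h)
      obtain ⟨l, hl, hly⟩ := H.gam_sep hT hirr y.2 hy0'
      apply hly
      have := congrArg (fun g : Module.Dual (ZMod p) (sysLam hT c e) => g ⟨l, hl⟩) hy
      simpa [g] using this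
    have := LinearMap.finrank_le_finrank_of_injective hg
    rwa [Subspace.dual_finrank_eq] at this

theorem centre_mem (H : Hyp T c e φ χ) (hT : TSys T) (hirr : TIrr T) {d : V}
    {ζ : Module.Dual (ZMod p) V} (hζ : ζ ∈ sysV1s hT c e φ χ) (hd : (d, ζ) ∈ T) :
    d ∈ sysV1 hT c e φ χ := by
  have hζ0 := (hT.ne d ζ hd).2.1
  have hle : sysV1 hT c e φ χ ⊓ LinearMap.ker ζ ≤ hT.ceS ζ := by
    intro v hv
    obtain ⟨a, b, y, hy, rfl⟩ := (mem_sysV1 hT).1 hv.1
    obtain ⟨s, t, l, hl, rfl⟩ := (mem_sysV1s hT).1 hζ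
    by_cases hv0 : a • c + b • e + y = 0
    · exact Or.inl hv0
    · refine Or.inr (H.mem_main hT a b s t hy hl hv0 hζ0 ?_)
      have := hv.2
      rw [SetLike.mem_coe, LinearMap.mem_ker, H.eval_coord hT a b s t hy hl] at this
      exact this
  have h1 := sysA_finrank_le_inf_ker (sysV1 hT c e φ χ) ζ
  have h2 := H.finrank_sysV1 hT
  have h3 := H.finrank_sysGam hT
  have h4 := hT.ceS_const hirr H.h1 hd
  have heq := Submodule.eq_of_le_of_finrank_le hle (by omega)
  have : d ∈ hT.ceS ζ := Or.inr hd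
  rw [← heq] at this
  exact this.1

theorem sysV1_top (H : Hyp T c e φ χ) (hT : TSys T) (hirr : TIrr T)
    (hℓ : 2 ≤ finrank (ZMod p) (hT.axS c)) : sysV1 hT c e φ χ = ⊤ := by
  have hinv : TInv T (sysV1 hT c e φ χ) := by
    intro d ψ hd
    by_cases hdV : d ∈ sysV1 hT c e φ χ
    · exact Or.inl hdV
    right
    intro v₀ hv₀
    rw [LinearMap.mem_ker]
    by_contra hψ
    have hv₀0 : v₀ ≠ 0 := by
      rintro rfl
      exact hψ (map_zero ψ)
    have h1 := sysA_finrank_le_inf_ker (sysV1s hT c e φ χ) (Module.Dual.eval (ZMod p) V d)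
    have h2 := sysA_finrank_le_inf_ker
      (sysV1s hT c e φ χ ⊓ LinearMap.ker (Module.Dual.eval (ZMod p) V d))
      (Module.Dual.eval (ZMod p) V v₀)
    have h3 := H.finrank_sysV1s hT
    have h4 := H.finrank_sysLam hT
    have hne : sysV1s hT c e φ χ ⊓ LinearMap.ker (Module.Dual.eval (ZMod p) V d) ⊓
        LinearMap.ker (Module.Dual.eval (ZMod p) V v₀) ≠ ⊥ := by
      intro hb
      rw [hb, finrank_bot] at h2
      omega
    obtain ⟨ζ, hζ, hζ0⟩ := Submodule.exists_mem_ne_zero_of_ne_bot hne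
    have hζV : ζ ∈ sysV1s hT c e φ χ := hζ.1.1
    have hζd : ζ d = 0 := by
      have := hζ.1.2
      simp only [SetLike.mem_coe, LinearMap.mem_ker, Module.Dual.eval_apply] at this
      exact this
    have hζv : ζ v₀ = 0 := by
      have := hζ.2
      simp only [SetLike.mem_coe, LinearMap.mem_ker, Module.Dual.eval_apply] at this
      exact this
    have hv₀T : (v₀, ζ) ∈ T := by
      obtain ⟨a, b, y, hy, rfl⟩ := (mem_sysV1 hT).1 hv₀
      obtain ⟨s, t, l, hl, rfl⟩ := (mem_sysV1s hT).1 hζV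
      refine H.mem_main hT a b s t hy hl hv₀0 hζ0 ?_
      rw [H.eval_coord hT a b s t hy hl] at hζv
      exact hζv
    have := hT.swap_mem hd hv₀T hψ hζd
    exact hdV (H.centre_mem hT hirr hζV this)
  rcases hirr _ hinv with hb | ht
  · exfalso
    have : c ∈ sysV1 hT c e φ χ :=
      (mem_sysV1 hT).2 ⟨1, 0, 0, Submodule.zero_mem _, by simp⟩
    rw [hb, Submodule.mem_bot] at this
    exact (hT.ne c φ H.h1).1 this
  · exact ht

end Hyp

/-- PIECE SYSA. -/
theorem sys_caseA [Finite V] {T : Set (V × Module.Dual (ZMod p) V)}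
    (hT : TSys T) (hirr : TIrr T)
    (hA : (∃ c φ ψ, (c, φ) ∈ T ∧ (c, ψ) ∈ T ∧ ∀ a : ZMod p, ψ ≠ a • φ) ∨
          (∃ c d φ, (c, φ) ∈ T ∧ (d, φ) ∈ T ∧ ∀ a : ZMod p, d ≠ a • c)) :
    ∀ c φ, c ≠ 0 → φ ≠ 0 → φ c = 0 → (c, φ) ∈ T := by
  have hne : T.Nonempty := by
    rcases hA with ⟨c, φ, ψ, h, _⟩ | ⟨c, d, φ, h, _⟩
    · exact ⟨_, h⟩
    · exact ⟨_, h⟩
  obtain ⟨c, e, φ, χ, h1, h2, hα, hβ⟩ := hT.exists_hyp hirr hne
  have H : Hyp T c e φ χ := ⟨h1, h2, hα, hβ⟩
  have hLG := H.finrank_lam_eq_gam hT hirr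
  have hL := H.finrank_sysLam hT
  have hG := H.finrank_sysGam hT
  have hℓ : 2 ≤ finrank (ZMod p) (hT.axS c) := by
    rcases hA with ⟨c', φ', ψ', hc1, hc2, hind⟩ | ⟨c', d', φ', hc1, hc2, hind⟩
    · have hmem : ψ' ∉ Submodule.span (ZMod p) {φ'} := by
        intro h
        obtain ⟨a, ha⟩ := Submodule.mem_span_singleton.1 h
        exact hind a ha.symm
      have h3 := Submodule.finrank_sup_span_singleton hmem
      rw [finrank_span_singleton (hT.ne c' φ' hc1).2.1] at h3
      have hle : Submodule.span (ZMod p) {φ'} ⊔ Submodule.span (ZMod p) {ψ'} ≤ hT.axS c' := by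
        apply sup_le <;> rw [Submodule.span_le, Set.singleton_subset_iff]
        · exact Or.inr hc1
        · exact Or.inr hc2
      have h4 := Submodule.finrank_mono hle
      have h5 := hT.axS_const hirr h1 hc1
      omega
    · have hmem : d' ∉ Submodule.span (ZMod p) {c'} := by
        intro h
        obtain ⟨a, ha⟩ := Submodule.mem_span_singleton.1 h
        exact hind a ha.symm
      have h3 := Submodule.finrank_sup_span_singleton hmem
      rw [finrank_span_singleton (hT.ne c' φ' hc1).1] at h3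
      have hle : Submodule.span (ZMod p) {c'} ⊔ Submodule.span (ZMod p) {d'} ≤ hT.ceS φ' := by
        apply sup_le <;> rw [Submodule.span_le, Set.singleton_subset_iff]
        · exact Or.inr hc1
        · exact Or.inr hc2
      have h4 := Submodule.finrank_mono hle
      have h5 := hT.ceS_const hirr h1 hc1
      omega
  have hV1 := H.sysV1_top hT hirr hℓ
  have hV1s : sysV1s hT c e φ χ = ⊤ := by
    apply Submodule.eq_top_of_finrank_eq
    have h5 := H.finrank_sysV1s hT
    have h6 := H.finrank_sysV1 hT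
    rw [hV1, finrank_top] at h6
    rw [Subspace.dual_finrank_eq]
    omega
  intro c' φ' hc' hφ' h0
  have m1 : c' ∈ sysV1 hT c e φ χ := by rw [hV1]; exact Submodule.mem_top
  have m2 : φ' ∈ sysV1s hT c e φ χ := by rw [hV1s]; exact Submodule.mem_top
  obtain ⟨a, b, y, hy, rfl⟩ := (mem_sysV1 hT).1 m1
  obtain ⟨s, t, l, hl, rfl⟩ := (mem_sysV1s hT).1 m2
  refine H.mem_main hT a b s t hy hl hc' hφ' ?_
  rw [H.eval_coord hT a b s t hy hl] at h0
  exact h0

end Cfsg.Agent.Lib.helper85.McL
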