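import Mathlib
import Cfsg.Prelude.Def_RootSubgroups
import Cfsg.Agent.Lib.helper85.McLDefs
import Cfsg.Agent.Lib.helper85.McLSYSA
import Cfsg.Agent.Lib.helper27.McLNEG
import Cfsg.Agent.Lib.helper27.McLTORD
import Cfsg.Agent.Lib.helper72.McLUNIP
import Cfsg.Agent.Lib.helper18.McLSLGEN
import Cfsg.Agent.Lib.helper92.McLSPGEN
import Cfsg.Agent.Lib.helper70.McLSYSB1
import Cfsg.Agent.Lib.helper45.McLSYSB2
import Cfsg.Agent.Lib.helper56.McLIRR
import Cfsg.Agent.Lib.helper56.McLFINAL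
import Cfsg.Agent.Lib.helper61.McLCOMPS
import Cfsg.Agent.Lib.helper61.McLCFIN
import Cfsg.Agent.Lib.helper53.McLLIFT

/-!
# McLaughlin over `ZMod p` (S5075): assembly of the pieces, with the quotient piece as a hypothesis
-/

set_option autoImplicit false

namespace Cfsg.Agent.Lib.helper85.McL

universe u

variable {p : ℕ} [Fact p.Prime] {V : Type u} [AddCommGroup V] [Module (ZMod p) V]

/-- the symplectic case of the system theorem. -/
theorem sys_caseB (hp : p ≠ 2) [Finite V] {T : Set (V × Module.Dual (ZMod p) V)}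
    (hT : TSys T) (hne : T.Nonempty) (hirr : TIrr T)
    (hB1 : ∀ c φ ψ, (c, φ) ∈ T → (c, ψ) ∈ T → ∃ a : ZMod p, ψ = a • φ)
    (hB2 : ∀ c d φ, (c, φ) ∈ T → (d, φ) ∈ T → ∃ a : ZMod p, d = a • c) :
    ∃ B : LinearMap.BilinForm (ZMod p) V, B.IsAlt ∧ B.Nondegenerate ∧
      ∀ c φ, (c, φ) ∈ T ↔ c ≠ 0 ∧ ∃ a : ZMod p, a ≠ 0 ∧ φ = a • B c :=
  Cfsg.Agent.Lib.helper45.McL.sysB_form hp hT hB1 hB2
    (Cfsg.Agent.Lib.helper70.McL.sysB_add hp hT hne hirr hB1 hB2).1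
    (Cfsg.Agent.Lib.helper70.McL.sysB_add hp hT hne hirr hB1 hB2).2

/-- the abstract system theorem. -/
theorem sys_main (hp : p ≠ 2) [Finite V] {T : Set (V × Module.Dual (ZMod p) V)}
    (hT : TSys T) (hne : T.Nonempty) (hirr : TIrr T) :
    (∀ c φ, c ≠ 0 → φ ≠ 0 → φ c = 0 → (c, φ) ∈ T) ∨
    ∃ B : LinearMap.BilinForm (ZMod p) V, B.IsAlt ∧ B.Nondegenerate ∧
      ∀ c φ, (c, φ) ∈ T ↔ c ≠ 0 ∧ ∃ a : ZMod p, a ≠ 0 ∧ φ = a • B c := by
  by_cases h1 : ∀ c φ ψ, (c, φ) ∈ T → (c, ψ) ∈ T → ∃ a : ZMod p, ψ = a • φ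
  · by_cases h2 : ∀ c d φ, (c, φ) ∈ T → (d, φ) ∈ T → ∃ a : ZMod p, d = a • c
    · exact Or.inr (sys_caseB hp hT hne hirr h1 h2)
    · left
      simp only [not_forall, not_exists] at h2
      obtain ⟨c, d, φ, hc, hd, h⟩ := h2
      exact sys_caseA hT hirr (Or.inr ⟨c, d, φ, hc, hd, h⟩)
  · left
    simp only [not_forall, not_exists] at h1
    obtain ⟨c, φ, ψ, hc, hd, h⟩ := h1
    exact sys_caseA hT hirr (Or.inl ⟨c, φ, ψ, hc, hd, h⟩)

/-- the irreducible theorem. -/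
theorem irr_main (hp : p ≠ 2) : IrrThm.{u} p :=
  Cfsg.Agent.Lib.helper56.McL.irr_of (fun X _ _ _ T hT hne hirr => sys_main hp hT hne hirr)
    (fun X _ _ _ g hg => Cfsg.Agent.Lib.helper18.McL.sl_gen g hg)
    (fun X _ _ _ B hA hN g hg => Cfsg.Agent.Lib.helper92.McL.sp_gen B hA hN g hg)

/-- a component, given the structure of the quotient. -/
theorem comp_main_of_quot (hp : p ≠ 2) [Finite V] (H : Subgroup (V ≃ₗ[ZMod p] V))
    (hOp : Cfsg.pCore p ↥H = ⊥) (C : Set (V ≃ₗ[ZMod p] V)) (hC : Comp H C)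
    (hq : Faithful (Subgroup.closure C) ∧
      (HasNeg (Subgroup.closure C) ∨ HasLift (Subgroup.closure C))) : CompConcl C := by
  have hU := Cfsg.Agent.Lib.helper72.McL.unip_trivial hp H hOp
  obtain ⟨hf, h | h⟩ := hq
  · obtain ⟨h1, h2⟩ := Cfsg.Agent.Lib.helper27.McL.split_of_neg hp C hC.tv hf h
    exact Cfsg.Agent.Lib.helper61.McL.comp_final hp (irr_main hp) H hU C hC h1 h2
  · obtain ⟨h1, h2⟩ := Cfsg.Agent.Lib.helper53.McL.split_of_lift C hC.tv hf h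
    exact Cfsg.Agent.Lib.helper61.McL.comp_final hp (irr_main hp) H hU C hC h1 h2

/-- McLaughlin's theorem, given the structure of the quotients of the components. -/
theorem mcl_of_quot (hp : p ≠ 2) [Finite V] (H : Subgroup (V ≃ₗ[ZMod p] V))
    (T : Set (V ≃ₗ[ZMod p] V)) (hHT : H = Subgroup.closure T)
    (hT : ∀ t ∈ T, orderOf t = p ∧
      Module.finrank (ZMod p) ↥(LinearMap.ker ((t : V →ₗ[ZMod p] V) - LinearMap.id)) + 1 =
        Module.finrank (ZMod p) V)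
    (hOp : Cfsg.pCore p ↥H = ⊥)
    (hq : ∀ C : Set (V ≃ₗ[ZMod p] V), Comp H C → Faithful (Subgroup.closure C) ∧
      (HasNeg (Subgroup.closure C) ∨ HasLift (Subgroup.closure C))) : McLConcl H := by
  have hT' : ∀ t ∈ T, IsTv t := fun t ht =>
    Cfsg.Agent.Lib.helper27.McL.tv_of_order t (hT t ht).1 (hT t ht).2
  obtain ⟨n, C, hC, hcomm, hsup⟩ := Cfsg.Agent.Lib.helper61.McL.comps_exist H T hHT hT'
  exact Cfsg.Agent.Lib.helper56.McL.final_asm H n C hC hcomm hsup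
    (fun i => comp_main_of_quot hp H hOp (C i) (hC i) (hq (C i) (hC i)))

end Cfsg.Agent.Lib.helper85.McL
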