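import Mathlib
import Cfsg.Prelude.Def_RootSubgroups
import Cfsg.Prelude.Def_Classical
import Cfsg.Agent.Lib.helper85.MatRoot2
import Cfsg.Agent.Lib.helper85.SubTransfer

set_option autoImplicit false
set_option linter.unusedSimpArgs false
set_option linter.unusedSectionVars false

namespace Cfsg.Agent.Lib.helper85

open Matrix Cfsg

section OrthRoot

variable {n : ℕ} {F : Type*} [Field F]

/-- Swapping the two halves of the coordinates. -/
def osw (v : Fin n ⊕ Fin n → F) : Fin n ⊕ Fin n → F := fun k => v k.swap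

/-- The polar form of the hyperbolic quadratic form. -/
def ob (u v : Fin n ⊕ Fin n → F) : F := u ⬝ᵥ osw v

theorem osw_apply (v : Fin n ⊕ Fin n → F) (k : Fin n ⊕ Fin n) : osw v k = v k.swap := rfl

theorem osw_osw (v : Fin n ⊕ Fin n → F) : osw (osw v) = v := by
  funext k
  simp [osw]

theorem osw_add (u v : Fin n ⊕ Fin n → F) : osw (u + v) = osw u + osw v := rfl

theorem osw_sub (u v : Fin n ⊕ Fin n → F) : osw (u - v) = osw u - osw v := rfl

theorem osw_smul (c : F) (v : Fin n ⊕ Fin n → F) : osw (c • v) = c • osw v := rfl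

theorem osw_zero : osw (0 : Fin n ⊕ Fin n → F) = 0 := rfl

theorem osw_dot (u v : Fin n ⊕ Fin n → F) : osw u ⬝ᵥ v = u ⬝ᵥ osw v := by
  unfold dotProduct osw
  rw [← Equiv.sum_comp (Equiv.sumComm (Fin n) (Fin n))]
  simp

theorem ob_comm (u v : Fin n ⊕ Fin n → F) : ob u v = ob v u := by
  unfold ob
  rw [dotProduct_comm, osw_dot]

theorem ob_add_right (u v w : Fin n ⊕ Fin n → F) : ob u (v + w) = ob u v + ob u w := by
  unfold ob
  rw [osw_add, dotProduct_add]

theorem ob_sub_right (u v w : Fin n ⊕ Fin n → F) : ob u (v - w) = ob u v - ob u w := by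
  unfold ob
  rw [osw_sub, dotProduct_sub]

theorem ob_smul_right (u v : Fin n ⊕ Fin n → F) (c : F) : ob u (c • v) = c * ob u v := by
  unfold ob
  rw [osw_smul, dotProduct_smul, smul_eq_mul]

theorem ob_add_left (u v w : Fin n ⊕ Fin n → F) : ob (u + v) w = ob u w + ob v w := by
  unfold ob
  rw [add_dotProduct]

theorem ob_sub_left (u v w : Fin n ⊕ Fin n → F) : ob (u - v) w = ob u w - ob v w := by
  unfold ob
  rw [sub_dotProduct]

theorem ob_smul_left (u v : Fin n ⊕ Fin n → F) (c : F) : ob (c • u) v = c * ob u v := by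
  unfold ob
  rw [smul_dotProduct, smul_eq_mul]

theorem ob_zero_left (v : Fin n ⊕ Fin n → F) : ob 0 v = 0 := by
  unfold ob
  rw [zero_dotProduct]

theorem ob_zero_right (v : Fin n ⊕ Fin n → F) : ob v 0 = 0 := by
  rw [ob_comm, ob_zero_left]

theorem ob_single (a : Fin n ⊕ Fin n → F) (k : Fin n ⊕ Fin n) :
    ob a (Pi.single k 1) = a k.swap := by
  unfold ob
  have h : osw (Pi.single k (1 : F)) = Pi.single k.swap 1 := by
    funext j
    rw [osw_apply]
    by_cases hj : j = k.swap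
    · subst hj
      simp
    · have : j.swap ≠ k := by
        intro h
        apply hj
        rw [← h, Sum.swap_swap]
      simp [hj, this]
  rw [h, dotProduct_single_one]

theorem ob_nondeg {a : Fin n ⊕ Fin n → F} (h : ∀ v, ob a v = 0) : a = 0 := by
  funext k
  have h1 := h (Pi.single k.swap 1)
  rw [ob_single, Sum.swap_swap] at h1
  exact h1

theorem oQ_add (u v : Fin n ⊕ Fin n → F) :
    quadFormPlus n F (u + v) = quadFormPlus n F u + quadFormPlus n F v + ob u v := by
  unfold quadFormPlus ob dotProduct osw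
  rw [Fintype.sum_sum_type, ← Finset.sum_add_distrib, ← Finset.sum_add_distrib,
    ← Finset.sum_add_distrib]
  apply Finset.sum_congr rfl
  intro i _
  simp only [Pi.add_apply, Sum.swap_inl, Sum.swap_inr]
  ring

theorem oQ_smul (c : F) (v : Fin n ⊕ Fin n → F) :
    quadFormPlus n F (c • v) = c * c * quadFormPlus n F v := by
  unfold quadFormPlus
  rw [Finset.mul_sum]
  apply Finset.sum_congr rfl
  intro i _
  simp only [Pi.smul_apply, smul_eq_mul]
  ring

theorem oQ_zero : quadFormPlus n F (0 : Fin n ⊕ Fin n → F) = 0 := by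
  unfold quadFormPlus
  simp

theorem oQ_single (k : Fin n ⊕ Fin n) : quadFormPlus n F (Pi.single k (1 : F)) = 0 := by
  unfold quadFormPlus
  apply Finset.sum_eq_zero
  intro i _
  rcases k with k | k <;> simp

theorem ob_eq (v p : Fin n ⊕ Fin n → F) :
    quadFormPlus n F (v + p) - quadFormPlus n F v - quadFormPlus n F p = ob v p := by
  rw [oQ_add]
  ring

theorem oQ_line {p r : Fin n ⊕ Fin n → F} (hp : quadFormPlus n F p = 0) (hr : quadFormPlus n F r = 0)
    (hpr : ob p r = 0) (α β : F) : quadFormPlus n F (α • p + β • r) = 0 := by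
  rw [oQ_add, oQ_smul, oQ_smul, hp, hr, ob_smul_left, ob_smul_right, hpr]
  ring

/-- The inclusion of the isometry group in the matrices. -/
def oρ (n : ℕ) (F : Type*) [Field F] :
    ↥(isometryGroup F (quadFormPlus n F)) →* Matrix (Fin n ⊕ Fin n) (Fin n ⊕ Fin n) F :=
  (Units.coeHom (Matrix (Fin n ⊕ Fin n) (Fin n ⊕ Fin n) F)).comp (Subgroup.subtype _)

theorem oρ_apply (g : ↥(isometryGroup F (quadFormPlus n F))) :
    oρ n F g = ((g : Matrix.GeneralLinearGroup (Fin n ⊕ Fin n) F) :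
      Matrix (Fin n ⊕ Fin n) (Fin n ⊕ Fin n) F) := rfl

theorem oρ_injective : Function.Injective (oρ n F) := by
  intro g h hgh
  apply Subtype.ext
  apply Units.ext
  exact hgh

theorem oρ_Q (g : ↥(isometryGroup F (quadFormPlus n F))) (u : Fin n ⊕ Fin n → F) :
    quadFormPlus n F (oρ n F g *ᵥ u) = quadFormPlus n F u := g.2 u u

theorem oρ_ob (g : ↥(isometryGroup F (quadFormPlus n F))) (u v : Fin n ⊕ Fin n → F) :
    ob (oρ n F g *ᵥ u) (oρ n F g *ᵥ v) = ob u v := by
  rw [← ob_eq, ← ob_eq, ← mulVec_add, oρ_Q, oρ_Q, oρ_Q]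

theorem oρ_mulVec_inv (g : ↥(isometryGroup F (quadFormPlus n F))) (u : Fin n ⊕ Fin n → F) :
    oρ n F g⁻¹ *ᵥ (oρ n F g *ᵥ u) = u := by
  rw [mulVec_mulVec, mr_inv_mul, one_mulVec]

/-- The nilpotent matrix of the Siegel transvections of the line `⟨p, r⟩`. -/
def oN (p r : Fin n ⊕ Fin n → F) : Matrix (Fin n ⊕ Fin n) (Fin n ⊕ Fin n) F :=
  vecMulVec p (osw r) - vecMulVec r (osw p)

theorem oN_mulVec (p r v : Fin n ⊕ Fin n → F) : oN p r *ᵥ v = ob r v • p - ob p v • r := by
  unfold oN ob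
  rw [sub_mulVec, tv_mulVec, tv_mulVec, osw_dot, osw_dot]

theorem oN_swap (p r : Fin n ⊕ Fin n → F) : oN r p = - oN p r := by
  unfold oN
  rw [neg_sub]

theorem oN_self (p : Fin n ⊕ Fin n → F) : oN p p = 0 := by
  unfold oN
  rw [sub_self]

theorem oN_add_left (p p' r : Fin n ⊕ Fin n → F) : oN (p + p') r = oN p r + oN p' r := by
  unfold oN
  rw [add_vecMulVec, osw_add, vecMulVec_add]
  abel

theorem oN_smul_left (c : F) (p r : Fin n ⊕ Fin n → F) : oN (c • p) r = c • oN p r := by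
  unfold oN
  rw [smul_vecMulVec, osw_smul, vecMulVec_smul, smul_sub]

theorem oN_add_right (p r r' : Fin n ⊕ Fin n → F) : oN p (r + r') = oN p r + oN p r' := by
  unfold oN
  rw [add_vecMulVec, osw_add, vecMulVec_add]
  abel

theorem oN_smul_right (c : F) (p r : Fin n ⊕ Fin n → F) : oN p (c • r) = c • oN p r := by
  unfold oN
  rw [smul_vecMulVec, osw_smul, vecMulVec_smul, smul_sub]

theorem oP_mul (x y x' y' : Fin n ⊕ Fin n → F) :
    vecMulVec x (osw y) * vecMulVec x' (osw y') = ob y x' • vecMulVec x (osw y') := by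
  rw [vecMulVec_mul_vecMulVec, osw_dot, vecMulVec_smul]
  rfl

theorem oN_mul (p r p' r' : Fin n ⊕ Fin n → F) :
    oN p r * oN p' r' = ob r p' • vecMulVec p (osw r') - ob r r' • vecMulVec p (osw p') -
      ob p p' • vecMulVec r (osw r') + ob p r' • vecMulVec r (osw p') := by
  unfold oN
  rw [mul_sub, sub_mul, sub_mul, oP_mul, oP_mul, oP_mul, oP_mul]
  abel

theorem oN_sq {p r : Fin n ⊕ Fin n → F} (hpp : ob p p = 0) (hrr : ob r r = 0) (hpr : ob p r = 0) :
    oN p r * oN p r = 0 := by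
  rw [oN_mul, hpp, hrr, hpr, ob_comm r p, hpr]
  simp

theorem oN_triple (p r p' r' : Fin n ⊕ Fin n → F) :
    oN p r * oN p' r' * oN p r =
      -(ob p p' * ob r r' - ob p r' * ob r p') • oN p r := by
  rw [oN_mul]
  unfold oN
  simp only [mul_sub, sub_mul, add_mul, Matrix.smul_mul, oP_mul, ob_comm r' p, ob_comm r' r,
    ob_comm p' p, ob_comm p' r]
  module

theorem ob_self (p : Fin n ⊕ Fin n → F) : ob p p = 2 * quadFormPlus n F p := by
  have h1 := oQ_add p p
  have h2 : p + p = (2 : F) • p := (two_smul F p).symm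
  rw [h2, oQ_smul] at h1
  linear_combination -h1

/-- `⟨p, r⟩` is a singular line. -/
def OLine (p r : Fin n ⊕ Fin n → F) : Prop :=
  LinearIndependent F ![p, r] ∧ quadFormPlus n F p = 0 ∧ quadFormPlus n F r = 0 ∧
    quadFormPlus n F (p + r) = 0

theorem OLine.ob_pr {p r : Fin n ⊕ Fin n → F} (h : OLine p r) : ob p r = 0 := by
  have h1 := oQ_add p r
  rw [h.2.1, h.2.2.1, h.2.2.2] at h1
  linear_combination -h1

theorem OLine.ob_pp {p r : Fin n ⊕ Fin n → F} (h : OLine p r) : ob p p = 0 := by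
  rw [ob_self, h.2.1, mul_zero]

theorem OLine.ob_rr {p r : Fin n ⊕ Fin n → F} (h : OLine p r) : ob r r = 0 := by
  rw [ob_self, h.2.2.1, mul_zero]

theorem OLine.sq {p r : Fin n ⊕ Fin n → F} (h : OLine p r) : oN p r * oN p r = 0 :=
  oN_sq h.ob_pp h.ob_rr h.ob_pr

theorem OLine.symm {p r : Fin n ⊕ Fin n → F} (h : OLine p r) : OLine r p := by
  refine ⟨?_, h.2.2.1, h.2.1, by rw [add_comm]; exact h.2.2.2⟩
  have h1 := h.1
  rw [LinearIndependent.pair_iff] at h1 ⊢
  intro s t hst
  have := h1 t s (by rw [add_comm]; exact hst)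
  exact ⟨this.2, this.1⟩

theorem oN_mem {p r : Fin n ⊕ Fin n → F} (hp : quadFormPlus n F p = 0) (hr : quadFormPlus n F r = 0)
    (hpr : ob p r = 0) (c : F) (u : Fin n ⊕ Fin n → F) :
    quadFormPlus n F ((1 + c • oN p r) *ᵥ u) = quadFormPlus n F u := by
  rw [add_mulVec, one_mulVec, smul_mulVec, oN_mulVec, oQ_add, oQ_smul, sub_eq_add_neg, ← neg_smul,
    oQ_line hp hr hpr, ob_smul_right, ob_add_right, ob_smul_right, ob_smul_right, ob_comm u p,
    ob_comm u r]
  ring

/-- The Siegel transvection `1 + c N_{p,r}` as an element of the isometry group. -/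
def oT {p r : Fin n ⊕ Fin n → F} (hp : quadFormPlus n F p = 0) (hr : quadFormPlus n F r = 0)
    (hpr : ob p r = 0) (c : F) : ↥(isometryGroup F (quadFormPlus n F)) :=
  ⟨⟨1 + c • oN p r, 1 + (-c) • oN p r, by
      have hsq := oN_sq (by rw [ob_self, hp, mul_zero]) (by rw [ob_self, hr, mul_zero]) hpr
      simp only [mul_add, add_mul, mul_one, one_mul, Matrix.smul_mul, Matrix.mul_smul, hsq, smul_zero,
        add_zero]
      module, by
      have hsq := oN_sq (by rw [ob_self, hp, mul_zero]) (by rw [ob_self, hr, mul_zero]) hpr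
      simp only [mul_add, add_mul, mul_one, one_mul, Matrix.smul_mul, Matrix.mul_smul, hsq, smul_zero,
        add_zero]
      module⟩, fun u _ => oN_mem hp hr hpr c u⟩

theorem oT_coe {p r : Fin n ⊕ Fin n → F} (hp : quadFormPlus n F p = 0) (hr : quadFormPlus n F r = 0)
    (hpr : ob p r = 0) (c : F) : oρ n F (oT hp hr hpr c) = 1 + c • oN p r := rfl

theorem OLine.full {p r : Fin n ⊕ Fin n → F} (h : OLine p r) (c : F) :
    ∃ g : ↥(isometryGroup F (quadFormPlus n F)), oρ n F g = 1 + c • oN p r :=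
  ⟨oT h.2.1 h.2.2.1 h.ob_pr c, rfl⟩

theorem exists_minor_ne {p r : Fin n ⊕ Fin n → F} (h : LinearIndependent F ![p, r]) :
    ∃ i j, p i * r j - p j * r i ≠ 0 := by
  have hp : p ≠ 0 := h.ne_zero 0
  obtain ⟨i, hi⟩ : ∃ i, p i ≠ 0 := by
    by_contra hcon
    exact hp (funext fun i => by_contra fun hi => hcon ⟨i, hi⟩)
  by_contra hcon
  have hall : ∀ j, p i * r j = p j * r i := by
    intro j
    by_contra hj
    exact hcon ⟨i, j, sub_ne_zero.mpr hj⟩
  rw [LinearIndependent.pair_iff] at h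
  have h1 : (-(r i / p i)) • p + (1 : F) • r = 0 := by
    funext j
    simp only [Pi.add_apply, Pi.smul_apply, smul_eq_mul, Pi.zero_apply]
    have := hall j
    field_simp
    linear_combination this
  exact one_ne_zero (h _ _ h1).2

theorem OLine.exists_dual {p r : Fin n ⊕ Fin n → F} (h : OLine p r) :
    ∃ ps rs : Fin n ⊕ Fin n → F, ob ps p = 1 ∧ ob ps r = 0 ∧ ob rs p = 0 ∧ ob rs r = 1 := by
  obtain ⟨i, j, hD⟩ := exists_minor_ne h.1
  have key : ∀ y x : Fin n ⊕ Fin n → F, ob (osw y) x = y ⬝ᵥ x := by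
    intro y x
    unfold ob
    rw [osw_dot, osw_osw]
  refine ⟨osw ((p i * r j - p j * r i)⁻¹ • (r j • Pi.single i 1 - r i • Pi.single j 1)),
    osw ((p i * r j - p j * r i)⁻¹ • (p i • Pi.single j 1 - p j • Pi.single i 1)), ?_, ?_, ?_, ?_⟩
  · rw [key, smul_dotProduct, sub_dotProduct, smul_dotProduct, smul_dotProduct,
      single_one_dotProduct, single_one_dotProduct]
    simp only [smul_eq_mul]
    field_simp
  · rw [key, smul_dotProduct, sub_dotProduct, smul_dotProduct, smul_dotProduct,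
      single_one_dotProduct, single_one_dotProduct]
    simp only [smul_eq_mul]
    ring
  · rw [key, smul_dotProduct, sub_dotProduct, smul_dotProduct, smul_dotProduct,
      single_one_dotProduct, single_one_dotProduct]
    simp only [smul_eq_mul]
    ring
  · rw [key, smul_dotProduct, sub_dotProduct, smul_dotProduct, smul_dotProduct,
      single_one_dotProduct, single_one_dotProduct]
    simp only [smul_eq_mul]
    field_simp

/-- Isometries fixing `ℓ^⊥` pointwise are Siegel transvections. -/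
theorem OLine.char {p r : Fin n ⊕ Fin n → F} (h : OLine p r)
    (σ : ↥(isometryGroup F (quadFormPlus n F)))
    (hσ : ∀ v : Fin n ⊕ Fin n → F, ob v p = 0 → ob v r = 0 → oρ n F σ *ᵥ v = v) :
    ∃ c : F, oρ n F σ = 1 + c • oN p r := by
  obtain ⟨ps, rs, h1, h2, h3, h4⟩ := h.exists_dual
  have hpr := h.ob_pr
  obtain ⟨A, hA⟩ : ∃ A, A = oρ n F σ *ᵥ ps - ps := ⟨_, rfl⟩
  obtain ⟨C, hC⟩ : ∃ C, C = oρ n F σ *ᵥ rs - rs := ⟨_, rfl⟩
  -- decomposition of an arbitrary vector
  have hdec : ∀ v : Fin n ⊕ Fin n → F, ∃ w, ob w p = 0 ∧ ob w r = 0 ∧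
      v = w + ob v p • ps + ob v r • rs := by
    intro v
    refine ⟨v - ob v p • ps - ob v r • rs, ?_, ?_, by abel⟩
    · rw [ob_sub_left, ob_sub_left, ob_smul_left, ob_smul_left, h1, h3]; ring
    · rw [ob_sub_left, ob_sub_left, ob_smul_left, ob_smul_left, h2, h4]; ring
  have hact : ∀ v : Fin n ⊕ Fin n → F, oρ n F σ *ᵥ v = v + ob v p • A + ob v r • C := by
    intro v
    obtain ⟨w, hw1, hw2, hv⟩ := hdec v
    have hw := hσ w hw1 hw2
    conv_lhs => rw [hv]
    rw [mulVec_add, mulVec_add, mulVec_smul, mulVec_smul, hw, hA, hC]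
    conv_rhs => rw [hv]
    have e1 : ob (w + ob v p • ps + ob v r • rs) p = ob v p := by rw [← hv]
    have e2 : ob (w + ob v p • ps + ob v r • rs) r = ob v r := by rw [← hv]
    rw [e1, e2]
    module
  -- vectors perpendicular to `ℓ^⊥` lie in `ℓ`
  have hperp : ∀ a : Fin n ⊕ Fin n → F, (∀ y, ob y p = 0 → ob y r = 0 → ob a y = 0) →
      a = ob a ps • p + ob a rs • r := by
    intro a ha
    have h0 : a - (ob a ps • p + ob a rs • r) = 0 := by
      apply ob_nondeg
      intro v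
      obtain ⟨w, hw1, hw2, hv⟩ := hdec v
      rw [ob_sub_left, ob_add_left, ob_smul_left, ob_smul_left]
      have e1 : ob a v = ob v p * ob a ps + ob v r * ob a rs := by
        conv_lhs => rw [hv]
        rw [ob_add_right, ob_add_right, ob_smul_right, ob_smul_right, ha w hw1 hw2]
        ring
      rw [e1, ob_comm p v, ob_comm r v]
      ring
    exact sub_eq_zero.mp h0
  have hAperp : ∀ y, ob y p = 0 → ob y r = 0 → ob A y = 0 := by
    intro y hy1 hy2
    have hy := hσ y hy1 hy2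
    rw [hA, ob_sub_left]
    have e := oρ_ob σ ps y
    rw [hy] at e
    rw [e, sub_self]
  have hCperp : ∀ y, ob y p = 0 → ob y r = 0 → ob C y = 0 := by
    intro y hy1 hy2
    have hy := hσ y hy1 hy2
    rw [hC, ob_sub_left]
    have e := oρ_ob σ rs y
    rw [hy] at e
    rw [e, sub_self]
  have hA2 := hperp A hAperp
  have hC2 := hperp C hCperp
  obtain ⟨α₁, hα₁⟩ : ∃ x, x = ob A ps := ⟨_, rfl⟩
  obtain ⟨β₁, hβ₁⟩ : ∃ x, x = ob A rs := ⟨_, rfl⟩
  obtain ⟨α₂, hα₂⟩ : ∃ x, x = ob C ps := ⟨_, rfl⟩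
  obtain ⟨β₂, hβ₂⟩ : ∃ x, x = ob C rs := ⟨_, rfl⟩
  rw [← hα₁, ← hβ₁] at hA2
  rw [← hα₂, ← hβ₂] at hC2
  -- the isometry condition
  have hiso : ∀ v : Fin n ⊕ Fin n → F,
      α₁ * (ob v p * ob v p) + (β₁ + α₂) * (ob v p * ob v r) + β₂ * (ob v r * ob v r) = 0 := by
    intro v
    have e := oρ_Q σ v
    rw [hact v] at e
    have e2 : v + ob v p • A + ob v r • C =
        v + ((ob v p * α₁ + ob v r * α₂) • p + (ob v p * β₁ + ob v r * β₂) • r) := by
      rw [hA2, hC2]
      module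
    rw [e2, oQ_add, oQ_line h.2.1 h.2.2.1 hpr, ob_add_right, ob_smul_right, ob_smul_right] at e
    linear_combination e
  have e1 := hiso ps
  rw [h1, h2] at e1
  have e2 := hiso rs
  rw [h3, h4] at e2
  have e3 := hiso (ps + rs)
  rw [ob_add_left, ob_add_left, h1, h2, h3, h4] at e3
  have hα₁0 : α₁ = 0 := by linear_combination e1
  have hβ₂0 : β₂ = 0 := by linear_combination e2
  have hα₂ : α₂ = -β₁ := by linear_combination e3 - e1 - e2
  refine ⟨-β₁, ?_⟩
  apply Matrix.mulVec_injective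
  funext v
  rw [hact v, add_mulVec, one_mulVec, smul_mulVec, oN_mulVec, hA2, hC2, hα₁0, hβ₂0, hα₂,
    ob_comm r v, ob_comm p v]
  module

/-- The Siegel transvection group of the line `⟨p, r⟩`, as in the statement. -/
def oTsub (p r : Fin n ⊕ Fin n → F) : Subgroup ↥(isometryGroup F (quadFormPlus n F)) :=
  Subgroup.closure {σ : ↥(isometryGroup F (quadFormPlus n F)) | ∀ v : Fin n ⊕ Fin n → F,
    quadFormPlus n F (v + p) - quadFormPlus n F v - quadFormPlus n F p = 0 →
    quadFormPlus n F (v + r) - quadFormPlus n F v - quadFormPlus n F r = 0 →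
      ((σ : Matrix.GeneralLinearGroup (Fin n ⊕ Fin n) F) :
        Matrix (Fin n ⊕ Fin n) (Fin n ⊕ Fin n) F) *ᵥ v = v}

theorem oTsub_eq {p r : Fin n ⊕ Fin n → F} (h : OLine p r) :
    oTsub p r = mrSub (oρ n F) (oN p r) := by
  unfold oTsub mrSub
  congr 1
  ext σ
  constructor
  · intro hσ
    apply h.char σ
    intro v hv1 hv2
    exact hσ v (by rw [ob_eq]; exact hv1) (by rw [ob_eq]; exact hv2)
  · rintro ⟨c, hc⟩ v hv1 hv2
    rw [ob_eq] at hv1 hv2
    show oρ n F σ *ᵥ v = v
    rw [hc, add_mulVec, one_mulVec, smul_mulVec, oN_mulVec, ob_comm r v, ob_comm p v, hv1, hv2]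
    simp

theorem o_vecMul (g : ↥(isometryGroup F (quadFormPlus n F))) (w : Fin n ⊕ Fin n → F) :
    osw w ᵥ* oρ n F g⁻¹ = osw (oρ n F g *ᵥ w) := by
  have key : ∀ x y : Fin n ⊕ Fin n → F, (∀ v, x ⬝ᵥ v = y ⬝ᵥ v) → x = y := by
    intro x y hxy
    funext k
    have := hxy (Pi.single k 1)
    rwa [dotProduct_single_one, dotProduct_single_one] at this
  apply key
  intro v
  rw [← dotProduct_mulVec, osw_dot, osw_dot]
  have e := oρ_ob g w (oρ n F g⁻¹ *ᵥ v)
  rw [mulVec_mulVec, mr_mul_inv, one_mulVec] at e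
  show ob w (oρ n F g⁻¹ *ᵥ v) = ob (oρ n F g *ᵥ w) v
  exact e.symm

theorem o_conj_N (g : ↥(isometryGroup F (quadFormPlus n F))) (p r : Fin n ⊕ Fin n → F) :
    oρ n F g * oN p r * oρ n F g⁻¹ = oN (oρ n F g *ᵥ p) (oρ n F g *ᵥ r) := by
  unfold oN
  rw [mul_sub, sub_mul, mul_vecMulVec, mul_vecMulVec, vecMulVec_mul, vecMulVec_mul, o_vecMul,
    o_vecMul]

theorem OLine.conj {p r : Fin n ⊕ Fin n → F} (h : OLine p r)
    (g : ↥(isometryGroup F (quadFormPlus n F))) : OLine (oρ n F g *ᵥ p) (oρ n F g *ᵥ r) := by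
  refine ⟨?_, by rw [oρ_Q]; exact h.2.1, by rw [oρ_Q]; exact h.2.2.1,
    by rw [← mulVec_add, oρ_Q]; exact h.2.2.2⟩
  have h1 := h.1
  rw [LinearIndependent.pair_iff] at h1 ⊢
  intro s t hst
  apply h1 s t
  have e := congrArg (fun w => oρ n F g⁻¹ *ᵥ w) hst
  simp only [mulVec_add, mulVec_smul, oρ_mulVec_inv, mulVec_zero] at e
  exact e

theorem mr_commute' {G : Type*} [Group G] {ι : Type*} [Fintype ι] [DecidableEq ι]
    (ρ : G →* Matrix ι ι F) (hρ : Function.Injective ρ) {P Q : Matrix ι ι F}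
    (hP : P * P = 0) (hQ : Q * Q = 0) (hPQ : P * Q = Q * P) :
    ∀ a ∈ mrSub ρ P, ∀ b ∈ mrSub ρ Q, a * b = b * a := by
  intro a ha b hb
  obtain ⟨c, hc⟩ := (mem_mrSub ρ hP).mp ha
  obtain ⟨d, hd⟩ := (mem_mrSub ρ hQ).mp hb
  apply hρ
  rw [map_mul, map_mul, hc, hd]
  simp only [mul_add, add_mul, mul_one, one_mul, Matrix.smul_mul, Matrix.mul_smul, hPQ]
  module

theorem OLine.ne_zero {p r : Fin n ⊕ Fin n → F} (h : OLine p r) : oN p r ≠ 0 := by
  intro h0
  obtain ⟨ps, rs, h1, h2, h3, h4⟩ := h.exists_dual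
  have e := oN_mulVec p r ps
  rw [h0, zero_mulVec, ob_comm r ps, ob_comm p ps, h1, h2, zero_smul, one_smul, zero_sub] at e
  have hr : r = 0 := by
    have := e.symm
    simpa using this
  exact (h.1.ne_zero 1) hr

theorem oN_indep {x y : Fin n ⊕ Fin n → F} (h : oN x y ≠ 0) : LinearIndependent F ![x, y] := by
  rw [LinearIndependent.pair_iff]
  intro s t hst
  have hs : s = 0 := by
    by_contra hs
    apply h
    have hx : x = (-(t / s)) • y := by
      have e : s • x = -(t • y) := eq_neg_of_add_eq_zero_left hst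
      have e2 : x = s⁻¹ • (s • x) := by rw [smul_smul, inv_mul_cancel₀ hs, one_smul]
      rw [e2, e]
      module
    rw [hx, oN_smul_left, oN_self, smul_zero]
  refine ⟨hs, ?_⟩
  by_contra ht
  apply h
  rw [hs, zero_smul, zero_add] at hst
  have hy : y = 0 := by
    rcases smul_eq_zero.mp hst with h1 | h1
    · exact absurd h1 ht
    · exact h1
  rw [hy]
  unfold oN
  simp [osw_zero]

theorem o_cc_identity (p r p' r' : Fin n ⊕ Fin n → F) :
    ob r r' • (oN p r * oN p' r' - oN p' r' * oN p r) +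
      oN (ob r r' • p - ob p r' • r) (ob r r' • p' - ob r p' • r') =
      -(ob p p' * ob r r' - ob p r' * ob r p') • oN r r' := by
  rw [oN_mul p r p' r', oN_mul p' r' p r]
  unfold oN
  simp only [sub_vecMulVec, vecMulVec_sub, smul_vecMulVec, vecMulVec_smul, osw_sub, osw_smul,
    ob_comm r' p, ob_comm r' r, ob_comm p' p, ob_comm p' r]
  module

theorem o_cc_core {p r p' r' : Fin n ⊕ Fin n → F} (hp : quadFormPlus n F p = 0)
    (hr : quadFormPlus n F r = 0) (hpr : ob p r = 0) (hp' : quadFormPlus n F p' = 0)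
    (hr' : quadFormPlus n F r' = 0) (hpr' : ob p' r' = 0)
    (hδ : ob p p' * ob r r' - ob p r' * ob r p' = 0) (hd : ob r r' ≠ 0) :
    ∃ x y : Fin n ⊕ Fin n → F, quadFormPlus n F x = 0 ∧ quadFormPlus n F y = 0 ∧
      quadFormPlus n F (x + y) = 0 ∧ ∃ c : F, c ≠ 0 ∧
      oN p r * oN p' r' - oN p' r' * oN p r = c • oN x y := by
  have hx : quadFormPlus n F (ob r r' • p - ob p r' • r) = 0 := by
    rw [sub_eq_add_neg, ← neg_smul]
    exact oQ_line hp hr hpr _ _
  have hy : quadFormPlus n F (ob r r' • p' - ob r p' • r') = 0 := by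
    rw [sub_eq_add_neg, ← neg_smul]
    exact oQ_line hp' hr' hpr' _ _
  refine ⟨ob r r' • p - ob p r' • r, ob r r' • p' - ob r p' • r', hx, hy, ?_,
    -(ob r r')⁻¹, neg_ne_zero.mpr (inv_ne_zero hd), ?_⟩
  · rw [oQ_add, hx, hy]
    simp only [ob_sub_left, ob_sub_right, ob_smul_left, ob_smul_right]
    linear_combination (ob r r') * hδ
  · have e := o_cc_identity p r p' r'
    rw [hδ, neg_zero, zero_smul] at e
    have e2 : ob r r' • (oN p r * oN p' r' - oN p' r' * oN p r) =
        -oN (ob r r' • p - ob p r' • r) (ob r r' • p' - ob r p' • r') := eq_neg_of_add_eq_zero_left e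
    have e3 : oN p r * oN p' r' - oN p' r' * oN p r =
        (ob r r')⁻¹ • (ob r r' • (oN p r * oN p' r' - oN p' r' * oN p r)) := by
      rw [smul_smul, inv_mul_cancel₀ hd, one_smul]
    rw [e3, e2]
    module

/-- In the unipotent case with non-commuting groups, the commutator is again a Siegel
transvection group. -/
theorem o_cc_line {p r p' r' : Fin n ⊕ Fin n → F} (h : OLine p r) (h' : OLine p' r')
    (hδ : ob p p' * ob r r' - ob p r' * ob r p' = 0)
    (hR : oN p r * oN p' r' - oN p' r' * oN p r ≠ 0) :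
    ∃ x y : Fin n ⊕ Fin n → F, OLine x y ∧ ∃ c : F, c ≠ 0 ∧
      oN p r * oN p' r' - oN p' r' * oN p r = c • oN x y := by
  have key : ∃ x y : Fin n ⊕ Fin n → F, quadFormPlus n F x = 0 ∧ quadFormPlus n F y = 0 ∧
      quadFormPlus n F (x + y) = 0 ∧ ∃ c : F, c ≠ 0 ∧
      oN p r * oN p' r' - oN p' r' * oN p r = c • oN x y := by
    by_cases hd : ob r r' = 0
    · by_cases hc : ob r p' = 0
      · by_cases hb : ob p r' = 0
        · by_cases ha : ob p p' = 0
          · exfalso
            apply hR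
            rw [oN_mul p r p' r', oN_mul p' r' p r, ob_comm r' p, ob_comm r' r, ob_comm p' p,
              ob_comm p' r, ha, hb, hc, hd]
            simp
          · -- swap both
            have hδ' : ob r r' * ob p p' - ob r p' * ob p r' = 0 := by linear_combination hδ
            obtain ⟨x, y, hx, hy, hxy, c, hc0, e⟩ := o_cc_core h.2.2.1 h.2.1
              (by rw [ob_comm]; exact h.ob_pr) h'.2.2.1 h'.2.1 (by rw [ob_comm]; exact h'.ob_pr)
              hδ' ha
            refine ⟨x, y, hx, hy, hxy, c, hc0, ?_⟩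
            rw [← e, oN_swap p r, oN_swap p' r', neg_mul_neg, neg_mul_neg]
        · -- swap `p`, `r`
          have hδ' : ob r p' * ob p r' - ob r r' * ob p p' = 0 := by linear_combination -hδ
          obtain ⟨x, y, hx, hy, hxy, c, hc0, e⟩ := o_cc_core h.2.2.1 h.2.1
            (by rw [ob_comm]; exact h.ob_pr) h'.2.1 h'.2.2.1 h'.ob_pr hδ' hb
          refine ⟨x, y, hx, hy, hxy, -c, neg_ne_zero.mpr hc0, ?_⟩
          rw [neg_smul, ← e, oN_swap p r, neg_mul, mul_neg]
          abel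
      · -- swap `p'`, `r'`
        have hδ' : ob p r' * ob r p' - ob p p' * ob r r' = 0 := by linear_combination -hδ
        obtain ⟨x, y, hx, hy, hxy, c, hc0, e⟩ := o_cc_core h.2.1 h.2.2.1 h.ob_pr h'.2.2.1 h'.2.1
          (by rw [ob_comm]; exact h'.ob_pr) hδ' hc
        refine ⟨x, y, hx, hy, hxy, -c, neg_ne_zero.mpr hc0, ?_⟩
        rw [neg_smul, ← e, oN_swap p' r', neg_mul, mul_neg]
        abel
    · exact o_cc_core h.2.1 h.2.2.1 h.ob_pr h'.2.1 h'.2.2.1 h'.ob_pr hδ hd
  obtain ⟨x, y, hx, hy, hxy, c, hc0, e⟩ := key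
  refine ⟨x, y, ⟨oN_indep ?_, hx, hy, hxy⟩, c, hc0, e⟩
  intro h0
  apply hR
  rw [e, h0, smul_zero]

open Cfsg.Agent.S5016 in
/-- The rank one case for two opposite singular lines. -/
theorem o_rop {p r p' r' : Fin n ⊕ Fin n → F} (h : OLine p r) (h' : OLine p' r')
    (hδ : ob p p' * ob r r' - ob p r' * ob r p' ≠ 0) :
    IsRankOnePair (mrSub (oρ n F) (oN p r)) (mrSub (oρ n F) (oN p' r')) ∧
      IsPSL2PairOver F (mrSub (oρ n F) (oN p r)) (mrSub (oρ n F) (oN p' r')) := by
  obtain ⟨δ, hδdef⟩ : ∃ δ, δ = ob p p' * ob r r' - ob p r' * ob r p' := ⟨_, rfl⟩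
  rw [← hδdef] at hδ
  have h1 : oN p r * oN p' r' * oN p r = -δ • oN p r := by rw [oN_triple, hδdef]
  have h2 : oN p' r' * oN p r * oN p' r' = -δ • oN p' r' := by
    rw [oN_triple, hδdef, ob_comm p' p, ob_comm r' r, ob_comm p' r, ob_comm r' p]
    congr 2
    ring
  obtain ⟨f, hf⟩ : ∃ f, f = (-δ⁻¹) • oN p' r' := ⟨_, rfl⟩
  have hff : f * f = 0 := by
    rw [hf, Matrix.smul_mul, Matrix.mul_smul, h'.sq, smul_zero, smul_zero]
  have hefe : oN p r * f * oN p r = oN p r := by
    rw [hf, Matrix.mul_smul, Matrix.smul_mul, h1, smul_smul]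
    have : -δ⁻¹ * -δ = 1 := by field_simp
    rw [this, one_smul]
  have hfef : f * oN p r * f = f := by
    rw [hf, Matrix.smul_mul, Matrix.smul_mul, Matrix.mul_smul, h2, smul_smul, smul_smul]
    congr 1
    field_simp
  obtain ⟨Ψ, hΨ, hU, hL⟩ := exists_sl2_hom_of_rel h.sq hff hefe hfef h.ne_zero
  exact mr_rop (oρ n F) oρ_injective Ψ hΨ h.sq h'.sq (a := 1) (b := -δ⁻¹) one_ne_zero
    (neg_ne_zero.mpr (inv_ne_zero hδ)) (fun x => by rw [hU, mul_one])
    (fun x => by rw [hL, hf, smul_smul]) h.full h'.full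

/-- The trichotomy for the Siegel transvection groups of two singular lines. -/
theorem o_pair {S : Set (Subgroup ↥(isometryGroup F (quadFormPlus n F)))}
    {p r p' r' : Fin n ⊕ Fin n → F} (h : OLine p r) (h' : OLine p' r')
    (hS : ∀ x y : Fin n ⊕ Fin n → F, OLine x y → mrSub (oρ n F) (oN x y) ∈ S) :
    ⁅mrSub (oρ n F) (oN p r), mrSub (oρ n F) (oN p' r')⁆ = ⊥ ∨
      (IsRankOnePair (mrSub (oρ n F) (oN p r)) (mrSub (oρ n F) (oN p' r')) ∧
        IsPSL2PairOver F (mrSub (oρ n F) (oN p r)) (mrSub (oρ n F) (oN p' r'))) ∨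
      RootCommutatorCase S (mrSub (oρ n F) (oN p r)) (mrSub (oρ n F) (oN p' r')) := by
  by_cases hδ : ob p p' * ob r r' - ob p r' * ob r p' = 0
  · have h1 : oN p r * oN p' r' * oN p r = 0 := by rw [oN_triple, hδ, neg_zero, zero_smul]
    have h2 : oN p' r' * oN p r * oN p' r' = 0 := by
      rw [oN_triple, ob_comm p' p, ob_comm r' r, ob_comm p' r, ob_comm r' p]
      have : ob p p' * ob r r' - ob r p' * ob p r' = 0 := by linear_combination hδ
      rw [this, neg_zero, zero_smul]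
    by_cases hR : oN p r * oN p' r' - oN p' r' * oN p r = 0
    · left
      exact comm_eq_bot_of_commute
        (mr_commute' (oρ n F) oρ_injective h.sq h'.sq (sub_eq_zero.mp hR))
    · right; right
      obtain ⟨x, y, hxy, c, hc0, e⟩ := o_cc_line h h' hδ hR
      apply mr_cc (oρ n F) h.sq h'.sq h1 h2 h.full h'.full oρ_injective
      rw [e, mrSub_smul _ _ hc0]
      exact hS x y hxy
  · right; left
    exact o_rop h h' hδ

/-- The class of Siegel transvection groups, as in the statement. -/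
def oClass (n : ℕ) (F : Type*) [Field F] : Set (Subgroup ↥(isometryGroup F (quadFormPlus n F))) :=
  {A : Subgroup ↥(isometryGroup F (quadFormPlus n F)) | ∃ p r : Fin n ⊕ Fin n → F,
    LinearIndependent F ![p, r] ∧ quadFormPlus n F p = 0 ∧ quadFormPlus n F r = 0 ∧
    quadFormPlus n F (p + r) = 0 ∧
    A = Subgroup.closure {σ : ↥(isometryGroup F (quadFormPlus n F)) | ∀ v : Fin n ⊕ Fin n → F,
      quadFormPlus n F (v + p) - quadFormPlus n F v - quadFormPlus n F p = 0 →
      quadFormPlus n F (v + r) - quadFormPlus n F v - quadFormPlus n F r = 0 →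
        ((σ : Matrix.GeneralLinearGroup (Fin n ⊕ Fin n) F) :
          Matrix (Fin n ⊕ Fin n) (Fin n ⊕ Fin n) F) *ᵥ v = v}}

theorem mem_oClass {A : Subgroup ↥(isometryGroup F (quadFormPlus n F))} :
    A ∈ oClass n F ↔ ∃ p r : Fin n ⊕ Fin n → F, OLine p r ∧ A = mrSub (oρ n F) (oN p r) := by
  constructor
  · rintro ⟨p, r, h1, h2, h3, h4, rfl⟩
    exact ⟨p, r, ⟨h1, h2, h3, h4⟩, oTsub_eq ⟨h1, h2, h3, h4⟩⟩
  · rintro ⟨p, r, h, rfl⟩
    exact ⟨p, r, h.1, h.2.1, h.2.2.1, h.2.2.2, (oTsub_eq h).symm⟩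

theorem oClass_mem {p r : Fin n ⊕ Fin n → F} (h : OLine p r) :
    mrSub (oρ n F) (oN p r) ∈ oClass n F := mem_oClass.mpr ⟨p, r, h, rfl⟩

theorem oClass_pair {A B : Subgroup ↥(isometryGroup F (quadFormPlus n F))} (hA : A ∈ oClass n F)
    (hB : B ∈ oClass n F) :
    ⁅A, B⁆ = ⊥ ∨ (IsRankOnePair A B ∧ IsPSL2PairOver F A B) ∨ RootCommutatorCase (oClass n F) A B := by
  obtain ⟨p, r, h, rfl⟩ := mem_oClass.mp hA
  obtain ⟨p', r', h', rfl⟩ := mem_oClass.mp hB
  exact o_pair h h' (fun x y hxy => oClass_mem hxy)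

theorem oClass_kroot :
    IsKRootSubgroupSet F ((fun A : Subgroup ↥(isometryGroup F (quadFormPlus n F)) =>
      A.subgroupOf (⨆ B ∈ oClass n F, B)) '' oClass n F) := by
  apply kroot_subgroupOf
  · intro A hA
    obtain ⟨p, r, h, rfl⟩ := mem_oClass.mp hA
    exact mr_comm_sub (oρ n F) oρ_injective h.sq
  · intro A hA
    obtain ⟨p, r, h, rfl⟩ := mem_oClass.mp hA
    exact mr_ne_bot (oρ n F) h.sq h.ne_zero (h.full 1)
  · intro A hA g _
    obtain ⟨p, r, h, rfl⟩ := mem_oClass.mp hA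
    rw [conjBy_mrSub (oρ n F) h.sq, o_conj_N]
    exact oClass_mem (h.conj g)
  · intro A hA B hB
    exact oClass_pair hA hB

/-- The underlying index of a coordinate. -/
def oix : Fin n ⊕ Fin n → Fin n := Sum.elim id id

theorem oix_swap (k : Fin n ⊕ Fin n) : oix k.swap = oix k := by
  rcases k with k | k <;> rfl

theorem ne_of_oix {k l : Fin n ⊕ Fin n} (h : oix k ≠ oix l) : k ≠ l := fun e => h (by rw [e])

theorem ne_swap_of_oix {k l : Fin n ⊕ Fin n} (h : oix k ≠ oix l) : k ≠ l.swap :=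
  fun e => h (by rw [e, oix_swap])

theorem swap_ne_of_oix {k l : Fin n ⊕ Fin n} (h : oix k ≠ oix l) : k.swap ≠ l :=
  fun e => h (by rw [← e, oix_swap])

theorem swap_ne_swap_of_oix {k l : Fin n ⊕ Fin n} (h : oix k ≠ oix l) : k.swap ≠ l.swap :=
  fun e => h (by rw [← oix_swap k, e, oix_swap])

theorem oLine_std {k l : Fin n ⊕ Fin n} (h : oix k ≠ oix l) :
    OLine (Pi.single k (1 : F)) (Pi.single l (1 : F)) := by
  have hkl := ne_of_oix h
  refine ⟨?_, oQ_single k, oQ_single l, ?_⟩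
  · rw [LinearIndependent.pair_iff]
    intro s t hst
    have e1 := congrFun hst k
    have e2 := congrFun hst l
    simp [hkl, hkl.symm] at e1 e2
    exact ⟨e1, e2⟩
  · rw [oQ_add, oQ_single, oQ_single, ob_single]
    simp [swap_ne_of_oix h.symm]

/-- Every singular line has a nonzero minor in two coordinates of different index. -/
theorem OLine.exists_adm_minor {p r : Fin n ⊕ Fin n → F} (h : OLine p r) :
    ∃ i j : Fin n ⊕ Fin n, oix i ≠ oix j ∧ p i * r j - p j * r i ≠ 0 := by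
  obtain ⟨i, j, hD⟩ := exists_minor_ne h.1
  by_cases hij : oix i = oix j
  · by_contra hcon
    have hall : ∀ i' j' : Fin n ⊕ Fin n, oix i' ≠ oix j' → p i' * r j' - p j' * r i' = 0 := by
      intro i' j' hne
      by_contra hne2
      exact hcon ⟨i', j', hne, hne2⟩
    obtain ⟨a, ha⟩ : ∃ a, a = oix i := ⟨_, rfl⟩
    obtain ⟨u₁, hu₁⟩ : ∃ x, x = p (Sum.inl a) := ⟨_, rfl⟩
    obtain ⟨u₂, hu₂⟩ : ∃ x, x = p (Sum.inr a) := ⟨_, rfl⟩
    obtain ⟨w₁, hw₁⟩ : ∃ x, x = r (Sum.inl a) := ⟨_, rfl⟩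
    obtain ⟨w₂, hw₂⟩ : ∃ x, x = r (Sum.inr a) := ⟨_, rfl⟩
    have hD' : u₁ * w₂ - u₂ * w₁ ≠ 0 := by
      rcases i with i | i <;> rcases j with j | j
      · have e : i = j := hij
        subst e
        exact absurd (sub_self _) hD
      · have e1 : a = i := ha
        have e2 : i = j := hij
        rw [hu₁, hu₂, hw₁, hw₂, e1]
        rw [← e2] at hD
        exact hD
      · have e1 : a = i := ha
        have e2 : i = j := hij
        rw [hu₁, hu₂, hw₁, hw₂, e1]
        rw [← e2] at hD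
        intro h0
        apply hD
        linear_combination -h0
      · have e : i = j := hij
        subst e
        exact absurd (sub_self _) hD
    have hzero : ∀ k : Fin n ⊕ Fin n, oix k ≠ a → p k = 0 ∧ r k = 0 := by
      intro k hk
      have e1 := hall (Sum.inl a) k (fun e => hk e.symm)
      have e2 := hall (Sum.inr a) k (fun e => hk e.symm)
      rw [← hu₁, ← hw₁] at e1
      rw [← hu₂, ← hw₂] at e2
      constructor
      · have e3 : p k * (u₁ * w₂ - u₂ * w₁) = 0 := by linear_combination u₂ * e1 - u₁ * e2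
        exact (mul_eq_zero.mp e3).resolve_right hD'
      · have e3 : r k * (u₁ * w₂ - u₂ * w₁) = 0 := by linear_combination w₂ * e1 - w₁ * e2
        exact (mul_eq_zero.mp e3).resolve_right hD'
    have hQ : ∀ v : Fin n ⊕ Fin n → F, (∀ k : Fin n ⊕ Fin n, oix k ≠ a → v k = 0) →
        quadFormPlus n F v = v (Sum.inl a) * v (Sum.inr a) := by
      intro v hv
      unfold quadFormPlus
      apply Finset.sum_eq_single a
      · intro b _ hb
        rw [hv (Sum.inl b) hb, zero_mul]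
      · intro ha'
        exact absurd (Finset.mem_univ a) ha'
    have hQp := hQ p (fun k hk => (hzero k hk).1)
    have hQr := hQ r (fun k hk => (hzero k hk).2)
    have hQpr := hQ (p + r) (fun k hk => by
      rw [Pi.add_apply, (hzero k hk).1, (hzero k hk).2, add_zero])
    rw [h.2.1, ← hu₁, ← hu₂] at hQp
    rw [h.2.2.2, Pi.add_apply, Pi.add_apply, ← hu₁, ← hu₂, ← hw₁, ← hw₂] at hQpr
    rw [h.2.2.1, ← hw₁, ← hw₂] at hQr
    have hsum : u₁ * w₂ + w₁ * u₂ = 0 := by linear_combination -hQpr + hQp + hQr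
    rcases mul_eq_zero.mp hQp.symm with hu | hu
    · apply hD'
      rw [hu] at hsum ⊢
      linear_combination -hsum
    · apply hD'
      rw [hu] at hsum ⊢
      linear_combination hsum
  · exact ⟨i, j, hij, hD⟩

theorem rtg_symm {α : Type*} {rel : α → α → Prop} (hr : ∀ a b, rel a b → rel b a) {a b : α}
    (h : Relation.ReflTransGen rel a b) : Relation.ReflTransGen rel b a := by
  induction h with
  | refl => exact Relation.ReflTransGen.refl
  | tail _ hbc ih => exact Relation.ReflTransGen.head (hr _ _ hbc) ih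

theorem o_adj {p r p' r' : Fin n ⊕ Fin n → F} (h : OLine p r) (h' : OLine p' r')
    (hδ : ob p p' * ob r r' - ob p r' * ob r p' ≠ 0) :
    FAdj (oClass n F) (mrSub (oρ n F) (oN p r)) (mrSub (oρ n F) (oN p' r')) :=
  ⟨oClass_mem h, oClass_mem h', (o_rop h h' hδ).1⟩

theorem o_adj_symm {A B : Subgroup ↥(isometryGroup F (quadFormPlus n F))}
    (h : FAdj (oClass n F) A B) : FAdj (oClass n F) B A :=
  ⟨h.2.1, h.1, RankOnePair_symm h.2.2⟩

/-- The Siegel transvection group of a coordinate line. -/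
def oStd (F : Type*) [Field F] (k l : Fin n ⊕ Fin n) :
    Subgroup ↥(isometryGroup F (quadFormPlus n F)) :=
  mrSub (oρ n F) (oN (Pi.single k (1 : F)) (Pi.single l (1 : F)))

theorem oStd_swap (k l : Fin n ⊕ Fin n) : oStd F k l = oStd F l k := by
  unfold oStd
  rw [oN_swap, mrSub_neg]

/-- Every singular line is opposite to a coordinate line. -/
theorem OLine.adj_std {p r : Fin n ⊕ Fin n → F} (h : OLine p r) :
    ∃ k l : Fin n ⊕ Fin n, oix k ≠ oix l ∧
      FAdj (oClass n F) (mrSub (oρ n F) (oN p r)) (oStd F k l) := by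
  obtain ⟨i, j, hij, hD⟩ := h.exists_adm_minor
  have hij' : oix i.swap ≠ oix j.swap := by rw [oix_swap, oix_swap]; exact hij
  refine ⟨i.swap, j.swap, hij', o_adj h (oLine_std hij') ?_⟩
  rw [ob_single, ob_single, ob_single, ob_single, Sum.swap_swap, Sum.swap_swap]
  exact hD

theorem std_move {k l l' : Fin n ⊕ Fin n} (hkl : oix k ≠ oix l) (hkl' : oix k ≠ oix l')
    (hll' : oix l ≠ oix l') :
    Relation.ReflTransGen (FAdj (oClass n F)) (oStd F k l) (oStd F k l') := by
  obtain ⟨x, hx⟩ : ∃ x : Fin n ⊕ Fin n → F, x = Pi.single k.swap 1 := ⟨_, rfl⟩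
  obtain ⟨y, hy⟩ : ∃ y : Fin n ⊕ Fin n → F, y = Pi.single l.swap 1 + Pi.single l'.swap 1 :=
    ⟨_, rfl⟩
  have n1 := ne_of_oix hkl
  have n2 := ne_of_oix hkl'
  have n3 := ne_of_oix hll'
  have n4 := swap_ne_swap_of_oix hkl
  have n5 := swap_ne_swap_of_oix hkl'
  have n6 := swap_ne_swap_of_oix hll'
  have n7 := ne_swap_of_oix hll'
  have n8 := ne_swap_of_oix hkl
  have n9 := ne_swap_of_oix hkl'
  have n10 := swap_ne_of_oix hll'
  have n11 := swap_ne_of_oix hkl
  have n12 := swap_ne_of_oix hkl'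
  have hxy : OLine x y := by
    refine ⟨?_, ?_, ?_, ?_⟩
    · rw [LinearIndependent.pair_iff]
      intro s t hst
      have e1 := congrFun hst k.swap
      have e2 := congrFun hst l.swap
      rw [hx, hy] at e1 e2
      simp [n4, n5, n6, n4.symm, n5.symm, n6.symm] at e1 e2
      exact ⟨e1, e2⟩
    · rw [hx]; exact oQ_single _
    · rw [hy, oQ_add, oQ_single, oQ_single, ob_single, Sum.swap_swap]
      simp [n10.symm, n7.symm, n7, n10]
    · rw [hx, hy, oQ_add, oQ_single, oQ_add, oQ_single, oQ_single, ob_single, Sum.swap_swap,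
        ob_add_right, ob_single, ob_single, Sum.swap_swap, Sum.swap_swap]
      simp [n10.symm, n7.symm, n7, n10, n8, n9, n8.symm, n9.symm, n11, n12, n11.symm, n12.symm]
  have h1 : FAdj (oClass n F) (oStd F k l) (mrSub (oρ n F) (oN x y)) := by
    apply o_adj (oLine_std hkl) hxy
    rw [hx, hy]
    simp only [ob_add_right, ob_single, Sum.swap_swap]
    simp [n1, n2, n3, n1.symm, n2.symm, n3.symm]
  have h2 : FAdj (oClass n F) (oStd F k l') (mrSub (oρ n F) (oN x y)) := by
    apply o_adj (oLine_std hkl') hxy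
    rw [hx, hy]
    simp only [ob_add_right, ob_single, Sum.swap_swap]
    simp [n1, n2, n3, n1.symm, n2.symm, n3.symm]
  exact Relation.ReflTransGen.tail (Relation.ReflTransGen.single h1) (o_adj_symm h2)

theorem exists_third (hn : 3 ≤ n) (a b : Fin n) : ∃ c : Fin n, c ≠ a ∧ c ≠ b := by
  by_contra hcon
  have hall : ∀ c : Fin n, c = a ∨ c = b := by
    intro c
    by_contra h
    rw [not_or] at h
    exact hcon ⟨c, h.1, h.2⟩
  have h1 : (Finset.univ : Finset (Fin n)) ⊆ {a, b} := by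
    intro c _
    rcases hall c with h | h <;> simp [h]
  have h2 := Finset.card_le_card h1
  rw [Finset.card_univ, Fintype.card_fin] at h2
  have h3 : ({a, b} : Finset (Fin n)).card ≤ 2 := Finset.card_le_two
  omega

theorem std_reach2 (hn : 3 ≤ n) {k l l' : Fin n ⊕ Fin n} (hkl : oix k ≠ oix l)
    (hkl' : oix k ≠ oix l') :
    Relation.ReflTransGen (FAdj (oClass n F)) (oStd F k l) (oStd F k l') := by
  by_cases hll' : oix l = oix l'
  · obtain ⟨c, hc1, hc2⟩ := exists_third hn (oix k) (oix l)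
    have e1 : oix (Sum.inl c : Fin n ⊕ Fin n) = c := rfl
    have s1 : Relation.ReflTransGen (FAdj (oClass n F)) (oStd F k l) (oStd F k (Sum.inl c)) :=
      std_move hkl (by rw [e1]; exact fun e => hc1 e.symm) (by rw [e1]; exact fun e => hc2 e.symm)
    have s2 : Relation.ReflTransGen (FAdj (oClass n F)) (oStd F k (Sum.inl c)) (oStd F k l') :=
      std_move (by rw [e1]; exact fun e => hc1 e.symm) hkl' (by rw [e1, ← hll']; exact hc2)
    exact s1.trans s2
  · exact std_move hkl hkl' hll'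

theorem std_reach1 (hn : 3 ≤ n) {k k' l : Fin n ⊕ Fin n} (hkl : oix k ≠ oix l)
    (hk'l : oix k' ≠ oix l) :
    Relation.ReflTransGen (FAdj (oClass n F)) (oStd F k l) (oStd F k' l) := by
  rw [oStd_swap k l, oStd_swap k' l]
  exact std_reach2 hn hkl.symm hk'l.symm

theorem std_connected (hn : 3 ≤ n) {k l k' l' : Fin n ⊕ Fin n} (hkl : oix k ≠ oix l)
    (hk'l' : oix k' ≠ oix l') :
    Relation.ReflTransGen (FAdj (oClass n F)) (oStd F k l) (oStd F k' l') := by
  obtain ⟨c, hc1, hc2⟩ := exists_third hn (oix k) (oix k')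
  have e1 : oix (Sum.inl c : Fin n ⊕ Fin n) = c := rfl
  have s1 : Relation.ReflTransGen (FAdj (oClass n F)) (oStd F k l) (oStd F k (Sum.inl c)) :=
    std_reach2 hn hkl (by rw [e1]; exact fun e => hc1 e.symm)
  have s2 : Relation.ReflTransGen (FAdj (oClass n F)) (oStd F k (Sum.inl c))
      (oStd F k' (Sum.inl c)) :=
    std_reach1 hn (by rw [e1]; exact fun e => hc1 e.symm) (by rw [e1]; exact fun e => hc2 e.symm)
  have s3 : Relation.ReflTransGen (FAdj (oClass n F)) (oStd F k' (Sum.inl c)) (oStd F k' l') :=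
    std_reach2 hn (by rw [e1]; exact fun e => hc2 e.symm) hk'l'
  exact (s1.trans s2).trans s3

theorem oClass_connected (hn : 3 ≤ n) :
    IsConnectedFamily (FAdj (oClass n F)) (oClass n F) := by
  intro A hA B hB
  obtain ⟨p, r, h, rfl⟩ := mem_oClass.mp hA
  obtain ⟨p', r', h', rfl⟩ := mem_oClass.mp hB
  obtain ⟨k, l, hkl, h1⟩ := h.adj_std
  obtain ⟨k', l', hkl', h2⟩ := h'.adj_std
  exact ((Relation.ReflTransGen.single h1).trans (std_connected hn hkl hkl')).trans
    (Relation.ReflTransGen.single (o_adj_symm h2))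

/-- The Siegel transvection groups of the hyperbolic quadric of Witt index `n ≥ 3`. -/
theorem oClass_main (hn : 3 ≤ n) :
    IsKRootSubgroupSet F ((fun A : Subgroup ↥(isometryGroup F (quadFormPlus n F)) =>
      A.subgroupOf (⨆ B ∈ oClass n F, B)) '' oClass n F) ∧
    IsConnectedFamily (FAdj (oClass n F)) (oClass n F) :=
  ⟨oClass_kroot, oClass_connected hn⟩

end OrthRoot

end Cfsg.Agent.Lib.helper85
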