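import Mathlib

/-!
S5239 (moonshot split of helper79), leaves NA and ZC (racer copies, helper85).
-/

set_option autoImplicit false

namespace Cfsg.Agent.Lib.helper79.P3

/-- NA (S). `G` is not abelian. -/
theorem h85_p3_nonab {G : Type*} [Group G] [Finite G] (n : ℕ) (hn : 3 ≤ n) (hG : Nat.card G = 3 ^ n) (x : G)
    (hC : Nat.card (Subgroup.centralizer ({x} : Set G)) = 3 ^ 2) : ∃ a b : G, a * b ≠ b * a := by
  by_contra hcon
  have hcomm : ∀ a b : G, a * b = b * a := by
    intro a b
    by_contra h
    exact hcon ⟨a, b, h⟩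
  have htop : Subgroup.centralizer ({x} : Set G) = ⊤ := by
    rw [eq_top_iff]
    intro g _
    rw [Subgroup.mem_centralizer_singleton_iff]
    exact hcomm g x
  rw [htop, Subgroup.card_top, hG] at hC
  have h2 : n = 2 := Nat.pow_right_injective (by norm_num : 2 ≤ 3) hC
  omega

/-- ZC (S). The centre has order 3. -/
theorem h85_p3_center_card {G : Type*} [Group G] [Finite G] (n : ℕ) (hn : 3 ≤ n) (hG : Nat.card G = 3 ^ n) (x : G)
    (hC : Nat.card (Subgroup.centralizer ({x} : Set G)) = 3 ^ 2) : Nat.card (Subgroup.center G) = 3 := by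
  classical
  haveI : Fact (Nat.Prime 3) := ⟨by norm_num⟩
  have hGp : IsPGroup 3 G := IsPGroup.of_card hG
  have hle : Subgroup.center G ≤ Subgroup.centralizer ({x} : Set G) := Subgroup.center_le_centralizer _
  have hdvd : Nat.card (Subgroup.center G) ∣ 3 ^ 2 := by
    rw [← hC]
    exact Subgroup.card_dvd_of_le hle
  obtain ⟨j, hj, hcj⟩ := (Nat.dvd_prime_pow (by norm_num : Nat.Prime 3)).mp hdvd
  -- nontrivial centre
  haveI : Nontrivial G := by
    rw [← Finite.one_lt_card_iff_nontrivial, hG]
    exact Nat.one_lt_pow (by omega) (by norm_num)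
  have hnt : Nontrivial (Subgroup.center G) := hGp.center_nontrivial
  have h1 : 1 < Nat.card (Subgroup.center G) := Finite.one_lt_card_iff_nontrivial.mpr hnt
  -- x is not central
  have hxc : x ∉ Subgroup.center G := by
    intro hx
    have htop : Subgroup.centralizer ({x} : Set G) = ⊤ := by
      rw [eq_top_iff]
      intro g _
      rw [Subgroup.mem_centralizer_singleton_iff]
      exact (Subgroup.mem_center_iff.mp hx) g
    rw [htop, Subgroup.card_top, hG] at hC
    have h2 : n = 2 := Nat.pow_right_injective (by norm_num : 2 ≤ 3) hC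
    omega
  have hj2 : j ≠ 2 := by
    intro hj2
    apply hxc
    have heq : Subgroup.center G = Subgroup.centralizer ({x} : Set G) := by
      apply Subgroup.eq_of_le_of_card_ge hle
      rw [hC, hcj, hj2]
    rw [heq, Subgroup.mem_centralizer_singleton_iff]
  have hj0 : j ≠ 0 := by
    intro hj0
    rw [hcj, hj0, pow_zero] at h1
    exact lt_irrefl _ h1
  have hj1 : j = 1 := by omega
  rw [hcj, hj1, pow_one]

end Cfsg.Agent.Lib.helper79.P3
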