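import Mathlib
import Cfsg.Agent.Lib.helper68.HallPet
import Cfsg.Agent.Lib.helper65.PearlPow
import Cfsg.Agent.Lib.helper6.PearlGK0

/-!
S5238 BLOCK G, piece K3 (racer core, helper85): `g ↦ com x g` maps `gam G w` onto `gam G (w + 1)`,
from the chain cards (K1) and `x ∉ gam G 2` (K2) as hypotheses, using the landed count K0.
-/

set_option autoImplicit false

namespace Cfsg.Agent.Lib.helper65.PearlG

open Cfsg.Agent.Lib.helper68 Cfsg.Agent.Lib.helper65.PearlPow

variable {G : Type*} [Group G] [Finite G]

theorem h85_pg_com_surj_core (p : ℕ) [Fact p.Prime] (n : ℕ) (hG : Nat.card G = p ^ n) (x : G)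
    (hC : Nat.card (Subgroup.centralizer ({x} : Set G)) = p ^ 2)
    (hcard : ∀ i, 2 ≤ i → i ≤ n → Nat.card (gam G i) = p ^ (n - i))
    (hxn : 3 ≤ n → x ∉ gam G 2)
    (w : ℕ) (hw : 1 ≤ w) (hwn : w + 1 ≤ n) (m : G) (hm : m ∈ gam G (w + 1)) :
    ∃ g ∈ gam G w, m = com x g := by
  classical
  have hp : p.Prime := Fact.out
  have hsub : {m : G | ∃ g ∈ gam G w, m = com x g} ⊆ (gam G (w + 1) : Set G) := by
    rintro m' ⟨g, hg, rfl⟩
    have hx1 : x ∈ gam G 1 := by
      unfold gam
      simp
    have h1 := com_mem hx1 hg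
    rw [add_comm] at h1
    exact h1
  have hcount := pg_count x (gam G w)
  have hcw1 : Nat.card (gam G (w + 1)) = p ^ (n - (w + 1)) := hcard (w + 1) (by omega) hwn
  have hge : Nat.card (gam G (w + 1)) ≤ Nat.card {m : G | ∃ g ∈ gam G w, m = com x g} := by
    rcases Nat.lt_or_ge w 2 with hw1 | hw2
    · have hw1' : w = 1 := by omega
      subst hw1'
      have htop : gam G 1 = ⊤ := by
        unfold gam
        simp
      rw [htop] at hcount
      have hinf : ((⊤ : Subgroup G) ⊓ Subgroup.centralizer ({x} : Set G)) =
          Subgroup.centralizer ({x} : Set G) := top_inf_eq _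
      rw [hinf, hC, Subgroup.card_top, hG] at hcount
      rw [hcw1]
      have h3 : p ^ n = p ^ (n - (1 + 1)) * p ^ 2 := by
        rw [← pow_add]
        congr 1
        omega
      rw [h3] at hcount
      have h4 := Nat.eq_of_mul_eq_mul_right (pow_pos hp.pos 2) hcount
      rw [htop]
      omega
    · have hcw : Nat.card (gam G w) = p ^ (n - w) := hcard w hw2 (by omega)
      have hxw : x ∉ gam G w := fun h => hxn (by omega) (gam_antitone hw2 h)
      have hDle : Nat.card (gam G w ⊓ Subgroup.centralizer ({x} : Set G) : Subgroup G) ≤ p := by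
        have hDC : (gam G w ⊓ Subgroup.centralizer ({x} : Set G) : Subgroup G) ≤
            Subgroup.centralizer ({x} : Set G) := inf_le_right
        have hdvd : Nat.card (gam G w ⊓ Subgroup.centralizer ({x} : Set G) : Subgroup G) ∣ p ^ 2 := by
          rw [← hC]
          exact Subgroup.card_dvd_of_le hDC
        obtain ⟨j, hj, hDj⟩ := (Nat.dvd_prime_pow hp).mp hdvd
        have hne : (gam G w ⊓ Subgroup.centralizer ({x} : Set G) : Subgroup G) ≠
            Subgroup.centralizer ({x} : Set G) := by
          intro h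
          apply hxw
          have hxC : x ∈ Subgroup.centralizer ({x} : Set G) := by
            rw [Subgroup.mem_centralizer_singleton_iff]
          rw [← h] at hxC
          exact hxC.1
        have hj2 : j ≠ 2 := by
          intro hj2
          apply hne
          apply Subgroup.eq_of_le_of_card_ge hDC
          rw [hC, hDj, hj2]
        have hj1 : j ≤ 1 := by omega
        rw [hDj]
        calc p ^ j ≤ p ^ 1 := Nat.pow_le_pow_right hp.pos hj1
          _ = p := pow_one p
      rw [hcw] at hcount
      rw [hcw1]
      have h3 : p ^ (n - w) = p ^ (n - (w + 1)) * p := by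
        rw [← pow_succ]
        congr 1
        omega
      by_contra hlt
      rw [not_le] at hlt
      have h5 : Nat.card {m : G | ∃ g ∈ gam G w, m = com x g} *
          Nat.card (gam G w ⊓ Subgroup.centralizer ({x} : Set G) : Subgroup G) <
            p ^ (n - (w + 1)) * p := by
        calc Nat.card {m : G | ∃ g ∈ gam G w, m = com x g} *
              Nat.card (gam G w ⊓ Subgroup.centralizer ({x} : Set G) : Subgroup G)
            ≤ Nat.card {m : G | ∃ g ∈ gam G w, m = com x g} * p := Nat.mul_le_mul_left _ hDle
          _ < p ^ (n - (w + 1)) * p := Nat.mul_lt_mul_of_pos_right hlt hp.pos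
      rw [hcount, h3] at h5
      exact lt_irrefl _ h5
  have hIeq : {m : G | ∃ g ∈ gam G w, m = com x g} = (gam G (w + 1) : Set G) := by
    apply Set.eq_of_subset_of_ncard_le hsub
    · have e1 : ((gam G (w + 1) : Subgroup G) : Set G).ncard = Nat.card (gam G (w + 1)) :=
        (Nat.card_coe_set_eq _).symm
      rw [e1, ← Nat.card_coe_set_eq]
      exact hge
  have hmI : m ∈ {m : G | ∃ g ∈ gam G w, m = com x g} := by
    rw [hIeq]
    exact hm
  exact hmI

end Cfsg.Agent.Lib.helper65.PearlG
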