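import Mathlib

set_option autoImplicit false

namespace Cfsg.Agent.Lib.helper85

open Polynomial

section qp1
variable {k : Type*} [Field k] {M : Type*} [AddCommGroup M] [Module k M]

/-- the central element `z = A B + B A` -/
def qpZ (A B : Module.End k M) : Module.End k M := A * B + B * A

theorem qp_comm_aeval {E : Type*} [Ring E] [Algebra k E] {z W : E} (h : Commute z W) (p : k[X]) :
    Commute (aeval z p) W := by
  induction p using Polynomial.induction_on' with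
  | add p q hp hq => rw [map_add]; exact hp.add_left hq
  | monomial n a =>
    rw [aeval_monomial]
    exact (Algebra.commute_algebraMap_left a W).mul_left (h.pow_left n)

theorem qpZ_comm_A {A B : Module.End k M} (hA : A * A = 0) : Commute (qpZ A B) A := by
  unfold qpZ Commute SemiconjBy
  rw [add_mul, mul_add, mul_assoc B A A, hA, mul_zero, add_zero, ← mul_assoc A A B, hA, zero_mul, zero_add,
    mul_assoc]

theorem qpZ_comm_B {A B : Module.End k M} (hB : B * B = 0) : Commute (qpZ A B) B := by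
  unfold qpZ Commute SemiconjBy
  rw [add_mul, mul_add, mul_assoc A B B, hB, mul_zero, zero_add, ← mul_assoc B B A, hB, zero_mul, add_zero,
    mul_assoc]

/-- evaluation of a polynomial at `z` -/
noncomputable def qpEv (A B : Module.End k M) : k[X] →ₐ[k] Module.End k M := aeval (qpZ A B)

theorem qpEv_X (A B : Module.End k M) : qpEv A B X = A * B + B * A := by
  unfold qpEv; rw [aeval_X]; rfl

theorem qpEv_comm_A {A B : Module.End k M} (hA : A * A = 0) (p : k[X]) : A * qpEv A B p = qpEv A B p * A :=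
  ((qp_comm_aeval (qpZ_comm_A hA) p).eq).symm

theorem qpEv_comm_B {A B : Module.End k M} (hB : B * B = 0) (p : k[X]) : B * qpEv A B p = qpEv A B p * B :=
  ((qp_comm_aeval (qpZ_comm_B hB) p).eq).symm

/-- the element attached to four polynomials -/
noncomputable def qpT (A B : Module.End k M) (p1 p2 p3 p4 : k[X]) : Module.End k M :=
  qpEv A B p1 + qpEv A B p2 * A + qpEv A B p3 * B + qpEv A B p4 * (A * B)

theorem qpT_mul {A B : Module.End k M} (hA : A * A = 0) (hB : B * B = 0) (p1 p2 p3 p4 q1 q2 q3 q4 : k[X]) :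
    qpT A B p1 p2 p3 p4 * qpT A B q1 q2 q3 q4 =
      qpT A B (p1 * q1 + X * p3 * q2) ((p1 + X * p4) * q2 + p2 * q1) (p3 * q1 + X * p3 * q4 + p1 * q3)
        (p1 * q4 + p4 * q1 + X * p4 * q4 + p2 * q3 - p3 * q2) := by
  have cA : ∀ p, A * qpEv A B p = qpEv A B p * A := qpEv_comm_A hA
  have cB : ∀ p, B * qpEv A B p = qpEv A B p * B := qpEv_comm_B hB
  have cA' : ∀ p W, A * (qpEv A B p * W) = qpEv A B p * (A * W) := by
    intro p W; rw [← mul_assoc, cA, mul_assoc]
  have cB' : ∀ p W, B * (qpEv A B p * W) = qpEv A B p * (B * W) := by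
    intro p W; rw [← mul_assoc, cB, mul_assoc]
  have ee : ∀ p q W, qpEv A B p * (qpEv A B q * W) = qpEv A B (p * q) * W := by
    intro p q W; rw [← mul_assoc, ← map_mul]
  have ee0 : ∀ p q, qpEv A B p * qpEv A B q = qpEv A B (p * q) := by
    intro p q; rw [← map_mul]
  have hBA : B * A = qpEv A B X - A * B := by rw [qpEv_X]; abel
  have AA' : ∀ W, A * (A * W) = 0 := by intro W; rw [← mul_assoc, hA, zero_mul]
  have BB' : ∀ W, B * (B * W) = 0 := by intro W; rw [← mul_assoc, hB, zero_mul]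
  have BA' : ∀ W, B * (A * W) = qpEv A B X * W - A * (B * W) := by
    intro W; rw [← mul_assoc, hBA, sub_mul, mul_assoc]
  let _ : Module k[X] (Module.End k M) := Module.compHom _ (qpEv A B).toRingHom
  have hs : ∀ (p : k[X]) (W : Module.End k M), qpEv A B p * W = p • W := fun _ _ => rfl
  have hs1 : ∀ (p : k[X]), qpEv A B p = p • (1 : Module.End k M) := fun p => (mul_one _).symm
  unfold qpT
  simp only [mul_add, add_mul, mul_assoc, cA, cA', cB, cB', ee, ee0, AA', BA', hA, hB, hBA, mul_sub,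
    mul_zero, add_zero, sub_zero]
  simp only [hs]
  simp only [hs1]
  module

theorem qp_divX_X_mul (r : k[X]) : divX (X * r) = r := by
  ext n; rw [coeff_divX, coeff_X_mul]

/-- the map on polynomial matrices -/
noncomputable def qpPhi (A B : Module.End k M) (m : Matrix (Fin 2) (Fin 2) k[X]) : Module.End k M :=
  qpT A B (m 1 1) (m 0 1) (divX (m 1 0)) (divX (m 0 0 - m 1 1))

/-- the order of matrices which are "unitriangular mod X" -/
def qpOrd (m : Matrix (Fin 2) (Fin 2) k[X]) : Prop := X ∣ m 1 0 ∧ X ∣ m 0 0 - m 1 1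

theorem qpOrd_one : qpOrd (1 : Matrix (Fin 2) (Fin 2) k[X]) := by
  constructor <;> simp

theorem qpPhi_one (A B : Module.End k M) : qpPhi A B 1 = 1 := by
  simp [qpPhi, qpT]

theorem qpPhi_mul' {A B : Module.End k M} (hA : A * A = 0) (hB : B * B = 0)
    {m m' : Matrix (Fin 2) (Fin 2) k[X]} (hm : qpOrd m) (hm' : qpOrd m') :
    qpOrd (m * m') ∧ qpPhi A B (m * m') = qpPhi A B m * qpPhi A B m' := by
  obtain ⟨⟨p3, h3⟩, ⟨p4, h4⟩⟩ := hm
  obtain ⟨⟨q3, k3⟩, ⟨q4, k4⟩⟩ := hm'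
  have h00 : m 0 0 = m 1 1 + X * p4 := by rw [← h4]; ring
  have k00 : m' 0 0 = m' 1 1 + X * q4 := by rw [← k4]; ring
  have e11 : (m * m') 1 1 = m 1 1 * m' 1 1 + X * p3 * m' 0 1 := by
    rw [Matrix.mul_apply, Fin.sum_univ_two, h3]; ring
  have e01 : (m * m') 0 1 = (m 1 1 + X * p4) * m' 0 1 + m 0 1 * m' 1 1 := by
    rw [Matrix.mul_apply, Fin.sum_univ_two, h00]
  have e10 : (m * m') 1 0 = X * (p3 * m' 1 1 + X * p3 * q4 + m 1 1 * q3) := by
    rw [Matrix.mul_apply, Fin.sum_univ_two, h3, k00, k3]; ring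
  have e00 : (m * m') 0 0 - (m * m') 1 1 =
      X * (m 1 1 * q4 + p4 * m' 1 1 + X * p4 * q4 + m 0 1 * q3 - p3 * m' 0 1) := by
    rw [e11, Matrix.mul_apply, Fin.sum_univ_two, h00, k00, k3]; ring
  refine ⟨⟨⟨_, e10⟩, ⟨_, e00⟩⟩, ?_⟩
  have d3 : divX (m 1 0) = p3 := by rw [h3, qp_divX_X_mul]
  have d4 : divX (m 0 0 - m 1 1) = p4 := by rw [h4, qp_divX_X_mul]
  have d3' : divX (m' 1 0) = q3 := by rw [k3, qp_divX_X_mul]
  have d4' : divX (m' 0 0 - m' 1 1) = q4 := by rw [k4, qp_divX_X_mul]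
  unfold qpPhi
  rw [qpT_mul hA hB, d3, d4, d3', d4', e00, e11, e01, e10, qp_divX_X_mul, qp_divX_X_mul]

theorem qpPhi_mul {A B : Module.End k M} (hA : A * A = 0) (hB : B * B = 0)
    {m m' : Matrix (Fin 2) (Fin 2) k[X]} (hm : qpOrd m) (hm' : qpOrd m') :
    qpPhi A B (m * m') = qpPhi A B m * qpPhi A B m' := (qpPhi_mul' hA hB hm hm').2

theorem qpOrd_mul {m m' : Matrix (Fin 2) (Fin 2) k[X]} (hm : qpOrd m) (hm' : qpOrd m') : qpOrd (m * m') := by
  obtain ⟨⟨p3, h3⟩, ⟨p4, h4⟩⟩ := hm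
  obtain ⟨⟨q3, k3⟩, ⟨q4, k4⟩⟩ := hm'
  have h00 : m 0 0 = m 1 1 + X * p4 := by rw [← h4]; ring
  have k00 : m' 0 0 = m' 1 1 + X * q4 := by rw [← k4]; ring
  constructor
  · refine ⟨p3 * m' 1 1 + X * p3 * q4 + m 1 1 * q3, ?_⟩
    rw [Matrix.mul_apply, Fin.sum_univ_two, h3, k00, k3]; ring
  · refine ⟨m 1 1 * q4 + p4 * m' 1 1 + X * p4 * q4 + m 0 1 * q3 - p3 * m' 0 1, ?_⟩
    rw [Matrix.mul_apply, Matrix.mul_apply, Fin.sum_univ_two, Fin.sum_univ_two, h00, k00, k3, h3]; ring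

/-- entries of an element of the order, as a matrix literal -/
theorem qpPhi_of (A B : Module.End k M) (a b c' d p4 : k[X]) (h : a = d + X * p4) :
    qpPhi A B !![a, b; X * c', d] = qpT A B d b c' p4 := by
  unfold qpPhi
  have e1 : (!![a, b; X * c', d] : Matrix (Fin 2) (Fin 2) k[X]) 1 1 = d := rfl
  have e2 : (!![a, b; X * c', d] : Matrix (Fin 2) (Fin 2) k[X]) 0 1 = b := rfl
  have e3 : (!![a, b; X * c', d] : Matrix (Fin 2) (Fin 2) k[X]) 1 0 = X * c' := rfl
  have e4 : (!![a, b; X * c', d] : Matrix (Fin 2) (Fin 2) k[X]) 0 0 = a := rfl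
  rw [e1, e2, e3, e4, qp_divX_X_mul, h, add_sub_cancel_left, qp_divX_X_mul]

theorem qpOrd_of (a b c' d p4 : k[X]) (h : a = d + X * p4) :
    qpOrd (!![a, b; X * c', d] : Matrix (Fin 2) (Fin 2) k[X]) := by
  refine ⟨⟨c', rfl⟩, ⟨p4, ?_⟩⟩
  show a - d = X * p4
  rw [h]; ring

end qp1

end Cfsg.Agent.Lib.helper85
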