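import Cfsg.Agent.Lib.helper85.QP9

set_option autoImplicit false
set_option linter.unusedSimpArgs false

namespace Cfsg.Agent.Lib.helper85

open Polynomial

section qp10a
variable {k : Type*} [Field k] {M : Type*} [AddCommGroup M] [Module k M]
variable {G : Subgroup (LinearMap.GeneralLinearGroup k M)}

theorem qp_class_elim {σ e : LinearMap.GeneralLinearGroup k M} (he : e ∈ Cfsg.sameActionClass G σ) :
    qpN G (((e : LinearMap.GeneralLinearGroup k M) : Module.End k M) - 1) ∧
      LinearMap.ker (((e : LinearMap.GeneralLinearGroup k M) : Module.End k M) - 1) =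
        LinearMap.ker (((σ : LinearMap.GeneralLinearGroup k M) : Module.End k M) - 1) ∧
      LinearMap.range (((e : LinearMap.GeneralLinearGroup k M) : Module.End k M) - 1) =
        LinearMap.range (((σ : LinearMap.GeneralLinearGroup k M) : Module.End k M) - 1) :=
  ⟨qpN_of_quad he.1.1, he.2.1, he.2.2⟩

theorem qp_val_of_sub {e : LinearMap.GeneralLinearGroup k M} :
    ((e : LinearMap.GeneralLinearGroup k M) : Module.End k M) =
      1 + (((e : LinearMap.GeneralLinearGroup k M) : Module.End k M) - 1) := by
  abel

theorem qp_inv_val {e : LinearMap.GeneralLinearGroup k M} {N : Module.End k M}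
    (he : ((e : LinearMap.GeneralLinearGroup k M) : Module.End k M) = 1 + N) (hN : N * N = 0) :
    ((e⁻¹ : LinearMap.GeneralLinearGroup k M) : Module.End k M) = 1 - N := by
  have h : (e : Module.End k M) * (1 - N) = 1 := by
    rw [he]
    have : (1 + N) * (1 - N) = 1 - N * N := by noncomm_ring
    rw [this, hN, sub_zero]
  calc ((e⁻¹ : LinearMap.GeneralLinearGroup k M) : Module.End k M)
      = ((e⁻¹ : LinearMap.GeneralLinearGroup k M) : Module.End k M) * ((e : Module.End k M) * (1 - N)) := by
        rw [h, mul_one]
    _ = 1 - N := by rw [← mul_assoc, Units.inv_mul, one_mul]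

theorem qp_mem_class {τ : LinearMap.GeneralLinearGroup k M} (hτ : τ ∈ Cfsg.minimalQuadraticElements G)
    {N : Module.End k M} (hN : qpN G N)
    (hker : LinearMap.ker N = LinearMap.ker (((τ : LinearMap.GeneralLinearGroup k M) : Module.End k M) - 1))
    (hrange : LinearMap.range N =
      LinearMap.range (((τ : LinearMap.GeneralLinearGroup k M) : Module.End k M) - 1))
    {b : LinearMap.GeneralLinearGroup k M}
    (hb : ((b : LinearMap.GeneralLinearGroup k M) : Module.End k M) = 1 + N) :
    b ∈ Cfsg.sameActionClass G τ := by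
  have e' : ((b : LinearMap.GeneralLinearGroup k M) : M →ₗ[k] M) - 1 = N := by
    rw [show ((b : LinearMap.GeneralLinearGroup k M) : M →ₗ[k] M) = 1 + N from hb]
    exact add_sub_cancel_left 1 N
  have hN0 : N ≠ 0 := by
    rintro rfl
    have h0 : LinearMap.range (((τ : LinearMap.GeneralLinearGroup k M) : Module.End k M) - 1) = ⊥ := by
      rw [← hrange, LinearMap.range_zero]
    exact hτ.1.2.1.2 (LinearMap.range_eq_bot.mp h0)
  have hbG : b ∈ G := by
    obtain ⟨g, hg, e⟩ := hN.2 1
    have : b = g := Units.ext (by rw [hb, e, one_smul])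
    rw [this]
    exact hg
  refine ⟨⟨⟨hbG, ⟨?_, ?_⟩, ?_⟩, ?_⟩, ?_, ?_⟩
  · rw [e']; exact hN.1
  · rw [e']; exact hN0
  · rintro x ⟨c, hc⟩
    rw [e'] at hc
    obtain ⟨g', hg', e2⟩ := hN.2 c
    have : x = g' := Units.ext (hc.trans e2.symm)
    rw [this]
    exact hg'
  · intro τ' hτ'
    calc Cfsg.commutatorRank b
        = Module.finrank k (LinearMap.range (((τ : LinearMap.GeneralLinearGroup k M) : Module.End k M) - 1)) := by
          show Module.finrank k (LinearMap.range (((b : LinearMap.GeneralLinearGroup k M) : M →ₗ[k] M) - 1)) = _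
          rw [e', hrange]
      _ ≤ Cfsg.commutatorRank τ' := hτ.2 τ' hτ'
  · rw [e']; exact hker
  · rw [e']; exact hrange

end qp10a

section qp10b
variable {k : Type*} [Field k] {M : Type*} [AddCommGroup M] [Module k M]
variable {G : Subgroup (LinearMap.GeneralLinearGroup k M)}

theorem qp_conj_class [FiniteDimensional k M] {σ τ : LinearMap.GeneralLinearGroup k M}
    (hσ : σ ∈ Cfsg.minimalQuadraticElements G) (hτ : τ ∈ Cfsg.minimalQuadraticElements G)
    {u : LinearMap.GeneralLinearGroup k M} (hu : u ∈ G)
    (hK : ∀ m : M, m ∈ LinearMap.ker (((σ : LinearMap.GeneralLinearGroup k M) : Module.End k M) - 1) →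
      ((u : LinearMap.GeneralLinearGroup k M) : Module.End k M) m ∈
        LinearMap.ker (((τ : LinearMap.GeneralLinearGroup k M) : Module.End k M) - 1))
    (hV : ∀ m : M, m ∈ LinearMap.range (((σ : LinearMap.GeneralLinearGroup k M) : Module.End k M) - 1) →
      ((u : LinearMap.GeneralLinearGroup k M) : Module.End k M) m ∈
        LinearMap.range (((τ : LinearMap.GeneralLinearGroup k M) : Module.End k M) - 1))
    {y : LinearMap.GeneralLinearGroup k M} (hy : y ∈ Cfsg.sameActionClass G σ) :
    u * y * u⁻¹ ∈ Cfsg.sameActionClass G τ := by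
  obtain ⟨hN, hk, hr⟩ := qp_class_elim hy
  have hN' := qpN_conjG hN hu
  have hval : ((u * y * u⁻¹ : LinearMap.GeneralLinearGroup k M) : Module.End k M) =
      1 + (u : Module.End k M) * (((y : LinearMap.GeneralLinearGroup k M) : Module.End k M) - 1) *
        ((u⁻¹ : LinearMap.GeneralLinearGroup k M) : Module.End k M) := by
    rw [Units.val_mul, Units.val_mul, mul_sub, sub_mul, mul_one, Units.mul_inv]
    abel
  have hd : Module.finrank k (LinearMap.range (((σ : LinearMap.GeneralLinearGroup k M) : Module.End k M) - 1)) =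
      Module.finrank k (LinearMap.range (((τ : LinearMap.GeneralLinearGroup k M) : Module.End k M) - 1)) :=
    le_antisymm (hσ.2 τ hτ.1) (hτ.2 σ hσ.1)
  have huinv : ∀ m : M, ((u⁻¹ : LinearMap.GeneralLinearGroup k M) : Module.End k M)
      (((u : LinearMap.GeneralLinearGroup k M) : Module.End k M) m) = m := fun m =>
    congrArg (fun f : Module.End k M => f m) (Units.inv_mul u)
  have huinv' : ∀ m : M, ((u : LinearMap.GeneralLinearGroup k M) : Module.End k M)
      (((u⁻¹ : LinearMap.GeneralLinearGroup k M) : Module.End k M) m) = m := fun m =>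
    congrArg (fun f : Module.End k M => f m) (Units.mul_inv u)
  have hrk := qp_rank_conj (Units.mul_inv u) (Units.inv_mul u)
    (((y : LinearMap.GeneralLinearGroup k M) : Module.End k M) - 1)
  have hle : LinearMap.range ((u : Module.End k M) *
      (((y : LinearMap.GeneralLinearGroup k M) : Module.End k M) - 1) *
      ((u⁻¹ : LinearMap.GeneralLinearGroup k M) : Module.End k M)) ≤
      LinearMap.range (((τ : LinearMap.GeneralLinearGroup k M) : Module.End k M) - 1) := by
    rintro x ⟨m, rfl⟩
    apply hV
    rw [← hr]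
    exact ⟨_, rfl⟩
  have hrange := Submodule.eq_of_le_of_finrank_le hle (by rw [hrk, hr, hd])
  have hle2 : LinearMap.ker ((u : Module.End k M) *
      (((y : LinearMap.GeneralLinearGroup k M) : Module.End k M) - 1) *
      ((u⁻¹ : LinearMap.GeneralLinearGroup k M) : Module.End k M)) ≤
      LinearMap.ker (((τ : LinearMap.GeneralLinearGroup k M) : Module.End k M) - 1) := by
    intro m hm
    rw [LinearMap.mem_ker, Module.End.mul_apply, Module.End.mul_apply] at hm
    have h0 := congrArg (fun x => ((u⁻¹ : LinearMap.GeneralLinearGroup k M) : Module.End k M) x) hm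
    simp only [huinv, map_zero] at h0
    have h1 : ((u⁻¹ : LinearMap.GeneralLinearGroup k M) : Module.End k M) m ∈
        LinearMap.ker (((σ : LinearMap.GeneralLinearGroup k M) : Module.End k M) - 1) := by
      rw [← hk, LinearMap.mem_ker]
      exact h0
    have := hK _ h1
    rwa [huinv'] at this
  have hker := Submodule.eq_of_le_of_finrank_le hle2 (by
    have e1 := LinearMap.finrank_range_add_finrank_ker ((u : Module.End k M) *
      (((y : LinearMap.GeneralLinearGroup k M) : Module.End k M) - 1) *
      ((u⁻¹ : LinearMap.GeneralLinearGroup k M) : Module.End k M))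
    have e2 := LinearMap.finrank_range_add_finrank_ker
      (((τ : LinearMap.GeneralLinearGroup k M) : Module.End k M) - 1)
    rw [hrange] at e1
    omega)
  exact qp_mem_class hτ hN' hker hrange hval

theorem qp_ip_maps {A' B' : Module.End k M} (hA : A' * A' = 0) (hB : B' * B' = 0)
    (h1 : A' * B' * A' = A') (h2 : B' * A' * B' = B') :
    (∀ m : M, A' m = 0 → B' ((1 + A') ((1 - B') m)) = 0) ∧
      (∀ x : M, (1 + A') ((1 - B') (A' x)) = B' (-(A' x))) := by
  have hA' : ∀ x : M, A' (A' x) = 0 := fun x => congrArg (fun f : Module.End k M => f x) hA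
  have hB' : ∀ x : M, B' (B' x) = 0 := fun x => congrArg (fun f : Module.End k M => f x) hB
  have h1' : ∀ x : M, A' (B' (A' x)) = A' x := fun x => congrArg (fun f : Module.End k M => f x) h1
  have h2' : ∀ x : M, B' (A' (B' x)) = B' x := fun x => congrArg (fun f : Module.End k M => f x) h2
  constructor
  · intro m hm
    simp only [LinearMap.add_apply, LinearMap.sub_apply, Module.End.one_apply, map_add, map_sub, hm, hA', hB',
      h1', h2', sub_zero, add_zero, sub_self, zero_sub, map_zero, zero_add]
  · intro x
    simp only [LinearMap.add_apply, LinearMap.sub_apply, Module.End.one_apply, map_add, map_sub, map_neg, hA',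
      hB', h1', h2', sub_zero, add_zero]
    abel

end qp10b

end Cfsg.Agent.Lib.helper85
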