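import Cfsg.Agent.Lib.helper85.QP10

set_option autoImplicit false
set_option linter.unusedSimpArgs false

namespace Cfsg.Agent.Lib.helper85

section qp11a
variable {k : Type*} [Field k] {M : Type*} [AddCommGroup M] [Module k M]
variable {G : Subgroup (LinearMap.GeneralLinearGroup k M)}

/-- the product `a * b⁻¹` has value `(1 + A')(1 - B')` -/
theorem qp_u_val {a b : LinearMap.GeneralLinearGroup k M} {A' B' : Module.End k M}
    (ha : ((a : LinearMap.GeneralLinearGroup k M) : Module.End k M) = 1 + A')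
    (hb : ((b : LinearMap.GeneralLinearGroup k M) : Module.End k M) = 1 + B') (hB : B' * B' = 0) :
    ((a * b⁻¹ : LinearMap.GeneralLinearGroup k M) : Module.End k M) = (1 + A') * (1 - B') := by
  rw [Units.val_mul, ha, qp_inv_val hb hB]

theorem qp_conj_half [FiniteDimensional k M] {σ τ : LinearMap.GeneralLinearGroup k M}
    (hσ : σ ∈ Cfsg.minimalQuadraticElements G) (hτ : τ ∈ Cfsg.minimalQuadraticElements G)
    {a b : LinearMap.GeneralLinearGroup k M} (ha : a ∈ Cfsg.sameActionClass G σ)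
    (hb : b ∈ Cfsg.sameActionClass G τ)
    (h1 : (((a : LinearMap.GeneralLinearGroup k M) : Module.End k M) - 1) *
      (((b : LinearMap.GeneralLinearGroup k M) : Module.End k M) - 1) *
      (((a : LinearMap.GeneralLinearGroup k M) : Module.End k M) - 1) =
      ((a : LinearMap.GeneralLinearGroup k M) : Module.End k M) - 1)
    (h2 : (((b : LinearMap.GeneralLinearGroup k M) : Module.End k M) - 1) *
      (((a : LinearMap.GeneralLinearGroup k M) : Module.End k M) - 1) *
      (((b : LinearMap.GeneralLinearGroup k M) : Module.End k M) - 1) =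
      ((b : LinearMap.GeneralLinearGroup k M) : Module.End k M) - 1)
    {y : LinearMap.GeneralLinearGroup k M} (hy : y ∈ Cfsg.sameActionClass G σ) :
    (a * b⁻¹) * y * (a * b⁻¹)⁻¹ ∈ Cfsg.sameActionClass G τ := by
  obtain ⟨hNa, hka, hra⟩ := qp_class_elim ha
  obtain ⟨hNb, hkb, hrb⟩ := qp_class_elim hb
  have hu : a * b⁻¹ ∈ G := G.mul_mem ha.1.1.1 (G.inv_mem hb.1.1.1)
  have hval := qp_u_val (qp_val_of_sub (e := a)) (qp_val_of_sub (e := b)) hNb.1
  obtain ⟨m1, m2⟩ := qp_ip_maps hNa.1 hNb.1 h1 h2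
  refine qp_conj_class hσ hτ hu ?_ ?_ hy
  · intro m hm
    rw [← hka] at hm
    rw [← hkb, LinearMap.mem_ker, hval]
    exact m1 m (LinearMap.mem_ker.mp hm)
  · intro m hm
    rw [← hra] at hm
    obtain ⟨x, rfl⟩ := hm
    rw [← hrb, hval, Module.End.mul_apply, m2 x]
    exact ⟨_, rfl⟩

theorem qp_conj_eq [FiniteDimensional k M] {σ τ : LinearMap.GeneralLinearGroup k M}
    (hσ : σ ∈ Cfsg.minimalQuadraticElements G) (hτ : τ ∈ Cfsg.minimalQuadraticElements G)
    {E F : Subgroup (LinearMap.GeneralLinearGroup k M)}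
    (hE : ∀ x, x ∈ E ↔ x ∈ Cfsg.sameActionClass G σ ∨ x = 1)
    (hF : ∀ x, x ∈ F ↔ x ∈ Cfsg.sameActionClass G τ ∨ x = 1)
    {a b : LinearMap.GeneralLinearGroup k M} (ha : a ∈ Cfsg.sameActionClass G σ)
    (hb : b ∈ Cfsg.sameActionClass G τ)
    (h1 : (((a : LinearMap.GeneralLinearGroup k M) : Module.End k M) - 1) *
      (((b : LinearMap.GeneralLinearGroup k M) : Module.End k M) - 1) *
      (((a : LinearMap.GeneralLinearGroup k M) : Module.End k M) - 1) =
      ((a : LinearMap.GeneralLinearGroup k M) : Module.End k M) - 1)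
    (h2 : (((b : LinearMap.GeneralLinearGroup k M) : Module.End k M) - 1) *
      (((a : LinearMap.GeneralLinearGroup k M) : Module.End k M) - 1) *
      (((b : LinearMap.GeneralLinearGroup k M) : Module.End k M) - 1) =
      ((b : LinearMap.GeneralLinearGroup k M) : Module.End k M) - 1) :
    Cfsg.conjBy E b⁻¹ = Cfsg.conjBy F a⁻¹ := by
  have key1 : ∀ y ∈ E, (a * b⁻¹) * y * (a * b⁻¹)⁻¹ ∈ F := by
    intro y hy
    rcases (hE y).mp hy with hy | rfl
    · exact (hF _).mpr (Or.inl (qp_conj_half hσ hτ ha hb h1 h2 hy))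
    · rw [mul_one, mul_inv_cancel]; exact F.one_mem
  have key2 : ∀ y ∈ F, (b * a⁻¹) * y * (b * a⁻¹)⁻¹ ∈ E := by
    intro y hy
    rcases (hF y).mp hy with hy | rfl
    · exact (hE _).mpr (Or.inl (qp_conj_half hτ hσ hb ha h2 h1 hy))
    · rw [mul_one, mul_inv_cancel]; exact E.one_mem
  ext x
  simp only [Subgroup.mem_map, MulEquiv.coe_toMonoidHom, MulAut.conj_apply, inv_inv]
  constructor
  · rintro ⟨y, hy, rfl⟩
    exact ⟨_, key1 y hy, by group⟩
  · rintro ⟨y, hy, rfl⟩
    exact ⟨_, key2 y hy, by group⟩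

theorem qp_ip_half {σ τ : LinearMap.GeneralLinearGroup k M}
    {a b : LinearMap.GeneralLinearGroup k M} (ha : a ∈ Cfsg.sameActionClass G σ)
    (hb : b ∈ Cfsg.sameActionClass G τ)
    (hWK : LinearMap.range (((τ : LinearMap.GeneralLinearGroup k M) : Module.End k M) - 1) ⊓
      LinearMap.ker (((σ : LinearMap.GeneralLinearGroup k M) : Module.End k M) - 1) = ⊥)
    (hc : (a * b⁻¹) * a * (a * b⁻¹)⁻¹ ∈ Cfsg.sameActionClass G τ) :
    (((a : LinearMap.GeneralLinearGroup k M) : Module.End k M) - 1) *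
      (((b : LinearMap.GeneralLinearGroup k M) : Module.End k M) - 1) *
      (((a : LinearMap.GeneralLinearGroup k M) : Module.End k M) - 1) =
      ((a : LinearMap.GeneralLinearGroup k M) : Module.End k M) - 1 := by
  obtain ⟨hNa, hka, hra⟩ := qp_class_elim ha
  obtain ⟨hNb, hkb, hrb⟩ := qp_class_elim hb
  obtain ⟨-, -, hrc⟩ := qp_class_elim hc
  have hval := qp_u_val (qp_val_of_sub (e := a)) (qp_val_of_sub (e := b)) hNb.1
  obtain ⟨A', hA'⟩ : ∃ A', A' = ((a : LinearMap.GeneralLinearGroup k M) : Module.End k M) - 1 := ⟨_, rfl⟩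
  obtain ⟨B', hB'⟩ : ∃ B', B' = ((b : LinearMap.GeneralLinearGroup k M) : Module.End k M) - 1 := ⟨_, rfl⟩
  obtain ⟨u, hu⟩ : ∃ u, u = a * b⁻¹ := ⟨_, rfl⟩
  rw [← hA', ← hB', ← hu] at hval
  rw [← hu] at hrc
  rw [← hA'] at hNa hka hra ⊢
  rw [← hB'] at hNb hkb hrb ⊢
  have hAA : ∀ x : M, A' (A' x) = 0 := fun x => congrArg (fun f : Module.End k M => f x) hNa.1
  have huinv : ∀ m : M, ((u⁻¹ : LinearMap.GeneralLinearGroup k M) : Module.End k M)
      (((u : LinearMap.GeneralLinearGroup k M) : Module.End k M) m) = m := fun m =>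
    congrArg (fun f : Module.End k M => f m) (Units.inv_mul u)
  apply LinearMap.ext
  intro x
  have h1 : ((u : LinearMap.GeneralLinearGroup k M) : Module.End k M) (A' x) ∈
      LinearMap.range (((τ : LinearMap.GeneralLinearGroup k M) : Module.End k M) - 1) := by
    rw [← hrc]
    refine ⟨((u : LinearMap.GeneralLinearGroup k M) : Module.End k M) x, ?_⟩
    rw [LinearMap.sub_apply, Units.val_mul, Units.val_mul, Module.End.mul_apply, Module.End.mul_apply, huinv,
      Module.End.one_apply, ← map_sub, hA', LinearMap.sub_apply, Module.End.one_apply]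
  have h2 : A' x - A' (B' (A' x)) ∈
      LinearMap.range (((τ : LinearMap.GeneralLinearGroup k M) : Module.End k M) - 1) := by
    have e : A' x - A' (B' (A' x)) =
        ((u : LinearMap.GeneralLinearGroup k M) : Module.End k M) (A' x) + B' (A' x) := by
      rw [hval]
      simp only [Module.End.mul_apply, LinearMap.add_apply, LinearMap.sub_apply, Module.End.one_apply, map_sub,
        hAA, sub_zero]
      abel
    rw [e]
    refine Submodule.add_mem _ h1 ?_
    rw [← hrb]
    exact ⟨_, rfl⟩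
  have h3 : A' x - A' (B' (A' x)) ∈
      LinearMap.ker (((σ : LinearMap.GeneralLinearGroup k M) : Module.End k M) - 1) := by
    rw [← hka, LinearMap.mem_ker, map_sub, hAA, hAA, sub_zero]
  have h4 : A' x - A' (B' (A' x)) ∈ (⊥ : Submodule k M) := by
    rw [← hWK]
    exact ⟨h2, h3⟩
  rw [Submodule.mem_bot, sub_eq_zero] at h4
  rw [Module.End.mul_apply, Module.End.mul_apply]
  exact h4.symm

theorem qp_ip_of_conj {σ τ : LinearMap.GeneralLinearGroup k M}
    {E F : Subgroup (LinearMap.GeneralLinearGroup k M)}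
    (hE : ∀ x, x ∈ E ↔ x ∈ Cfsg.sameActionClass G σ ∨ x = 1)
    (hF : ∀ x, x ∈ F ↔ x ∈ Cfsg.sameActionClass G τ ∨ x = 1)
    {a b : LinearMap.GeneralLinearGroup k M} (ha : a ∈ Cfsg.sameActionClass G σ)
    (hb : b ∈ Cfsg.sameActionClass G τ)
    (hVK : LinearMap.range (((σ : LinearMap.GeneralLinearGroup k M) : Module.End k M) - 1) ⊓
      LinearMap.ker (((τ : LinearMap.GeneralLinearGroup k M) : Module.End k M) - 1) = ⊥)
    (hWK : LinearMap.range (((τ : LinearMap.GeneralLinearGroup k M) : Module.End k M) - 1) ⊓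
      LinearMap.ker (((σ : LinearMap.GeneralLinearGroup k M) : Module.End k M) - 1) = ⊥)
    (hc : Cfsg.conjBy E b⁻¹ = Cfsg.conjBy F a⁻¹) :
    (((a : LinearMap.GeneralLinearGroup k M) : Module.End k M) - 1) *
      (((b : LinearMap.GeneralLinearGroup k M) : Module.End k M) - 1) *
      (((a : LinearMap.GeneralLinearGroup k M) : Module.End k M) - 1) =
      ((a : LinearMap.GeneralLinearGroup k M) : Module.End k M) - 1 ∧
    (((b : LinearMap.GeneralLinearGroup k M) : Module.End k M) - 1) *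
      (((a : LinearMap.GeneralLinearGroup k M) : Module.End k M) - 1) *
      (((b : LinearMap.GeneralLinearGroup k M) : Module.End k M) - 1) =
      ((b : LinearMap.GeneralLinearGroup k M) : Module.End k M) - 1 := by
  have ha1 : a ≠ 1 := by
    rintro rfl
    exact ha.1.1.2.1.2 (by rw [Units.val_one, sub_self])
  have hb1 : b ≠ 1 := by
    rintro rfl
    exact hb.1.1.2.1.2 (by rw [Units.val_one, sub_self])
  have haE : a ∈ E := (hE a).mpr (Or.inl ha)
  have hbF : b ∈ F := (hF b).mpr (Or.inl hb)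
  constructor
  · have h1 : b⁻¹ * a * b ∈ Cfsg.conjBy E b⁻¹ := by
      refine Subgroup.mem_map.mpr ⟨a, haE, ?_⟩
      simp only [MulEquiv.coe_toMonoidHom, MulAut.conj_apply, inv_inv]
    rw [hc] at h1
    obtain ⟨y, hy, e⟩ := Subgroup.mem_map.mp h1
    simp only [MulEquiv.coe_toMonoidHom, MulAut.conj_apply, inv_inv] at e
    have hy' : y = (a * b⁻¹) * a * (a * b⁻¹)⁻¹ := by
      have : y = a * (a⁻¹ * y * a) * a⁻¹ := by group
      rw [this, e]
      group
    have hy1 : y ≠ 1 := by
      rw [hy']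
      intro h
      exact ha1 (conj_eq_one_iff.mp h)
    have hyc : y ∈ Cfsg.sameActionClass G τ := ((hF y).mp hy).resolve_right hy1
    rw [hy'] at hyc
    exact qp_ip_half ha hb hWK hyc
  · have h1 : a⁻¹ * b * a ∈ Cfsg.conjBy F a⁻¹ := by
      refine Subgroup.mem_map.mpr ⟨b, hbF, ?_⟩
      simp only [MulEquiv.coe_toMonoidHom, MulAut.conj_apply, inv_inv]
    rw [← hc] at h1
    obtain ⟨y, hy, e⟩ := Subgroup.mem_map.mp h1
    simp only [MulEquiv.coe_toMonoidHom, MulAut.conj_apply, inv_inv] at e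
    have hy' : y = (b * a⁻¹) * b * (b * a⁻¹)⁻¹ := by
      have : y = b * (b⁻¹ * y * b) * b⁻¹ := by group
      rw [this, e]
      group
    have hy1 : y ≠ 1 := by
      rw [hy']
      intro h
      exact hb1 (conj_eq_one_iff.mp h)
    have hyc : y ∈ Cfsg.sameActionClass G σ := ((hE y).mp hy).resolve_right hy1
    rw [hy'] at hyc
    exact qp_ip_half hb ha hVK hyc

theorem qp_special_rel {a b : LinearMap.GeneralLinearGroup k M} {A' B' : Module.End k M}
    (ha : ((a : LinearMap.GeneralLinearGroup k M) : Module.End k M) = 1 + A')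
    (hb : ((b : LinearMap.GeneralLinearGroup k M) : Module.End k M) = 1 + B')
    (hA : A' * A' = 0) (hB : B' * B' = 0)
    (h1 : A' * B' * A' = A') (h2 : B' * A' * B' = B') : b⁻¹ * a * b = a⁻¹ * b⁻¹ * a := by
  apply Units.ext
  rw [Units.val_mul, Units.val_mul, Units.val_mul, Units.val_mul, ha, hb, qp_inv_val ha hA, qp_inv_val hb hB]
  have e1 : (1 - B') * (1 + A') * (1 + B') =
      1 + A' - B' * A' + A' * B' - B' * A' * B' - B' * B' := by noncomm_ring
  have e2 : (1 - A') * (1 - B') * (1 + A') =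
      1 - B' + A' * B' - B' * A' + A' * B' * A' - A' * A' := by noncomm_ring
  rw [e1, e2, hA, hB, h1, h2]
  abel

/-- the anticommutator of a non-degenerate pair is not nilpotent -/
theorem qp_nonnil {A' B : Module.End k M} (hA : A' * A' = 0)
    (hVK : LinearMap.range A' ⊓ LinearMap.ker B = ⊥) (hWK : LinearMap.range B ⊓ LinearMap.ker A' = ⊥)
    (hA0 : A' ≠ 0) : ¬ ∃ n : ℕ, (A' * B + B * A') ^ n = 0 := by
  rintro ⟨n, hn⟩
  have hAA : ∀ x : M, A' (A' x) = 0 := fun x => congrArg (fun f : Module.End k M => f x) hA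
  have key : ∀ n : ℕ, ∀ v : M, v ∈ LinearMap.range A' → v ≠ 0 → ((A' * B + B * A') ^ n) v ≠ 0 := by
    intro n
    induction n with
    | zero => intro v _ hv; simpa using hv
    | succ n ih =>
      intro v hv hv0
      rw [pow_succ, Module.End.mul_apply]
      obtain ⟨y, rfl⟩ := hv
      have e : (A' * B + B * A') (A' y) = A' (B (A' y)) := by
        simp only [LinearMap.add_apply, Module.End.mul_apply, hAA, map_zero, add_zero]
      rw [e]
      refine ih _ ⟨_, rfl⟩ ?_
      intro h0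
      have h1 : B (A' y) ∈ (⊥ : Submodule k M) := by
        rw [← hWK]
        exact ⟨⟨_, rfl⟩, LinearMap.mem_ker.mpr h0⟩
      rw [Submodule.mem_bot] at h1
      have h2 : A' y ∈ (⊥ : Submodule k M) := by
        rw [← hVK]
        exact ⟨⟨_, rfl⟩, LinearMap.mem_ker.mpr h1⟩
      rw [Submodule.mem_bot] at h2
      exact hv0 h2
  have hex : ∃ x : M, A' x ≠ 0 := by
    by_contra hcon
    apply hA0
    apply LinearMap.ext
    intro x
    by_contra hx
    exact hcon ⟨x, hx⟩
  obtain ⟨x, hx⟩ := hex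
  exact key n (A' x) ⟨x, rfl⟩ hx (by rw [hn]; rfl)

end qp11a

end Cfsg.Agent.Lib.helper85
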