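import Cfsg.Agent.Lib.helper85.QP11

set_option autoImplicit false
set_option linter.unusedSimpArgs false

namespace Cfsg.Agent.Lib.helper85

open Polynomial

section qp12a
variable {k : Type*} [Field k] {M : Type*} [AddCommGroup M] [Module k M]
variable {G : Subgroup (LinearMap.GeneralLinearGroup k M)}

/-- partner existence for a non-degenerate pair of classes -/
theorem qp_partner [FiniteDimensional k M] (hk2 : ringChar k ≠ 2) (hk3 : Nat.card k ≠ 3)
    {σ τ : LinearMap.GeneralLinearGroup k M}
    (hσ : σ ∈ Cfsg.minimalQuadraticElements G) (hτ : τ ∈ Cfsg.minimalQuadraticElements G)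
    (hVK : LinearMap.range (((σ : LinearMap.GeneralLinearGroup k M) : Module.End k M) - 1) ⊓
      LinearMap.ker (((τ : LinearMap.GeneralLinearGroup k M) : Module.End k M) - 1) = ⊥)
    (hWK : LinearMap.range (((τ : LinearMap.GeneralLinearGroup k M) : Module.End k M) - 1) ⊓
      LinearMap.ker (((σ : LinearMap.GeneralLinearGroup k M) : Module.End k M) - 1) = ⊥)
    {a : LinearMap.GeneralLinearGroup k M} (ha : a ∈ Cfsg.sameActionClass G σ) :
    ∃ b ∈ Cfsg.sameActionClass G τ,
      (((a : LinearMap.GeneralLinearGroup k M) : Module.End k M) - 1) *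
        (((b : LinearMap.GeneralLinearGroup k M) : Module.End k M) - 1) *
        (((a : LinearMap.GeneralLinearGroup k M) : Module.End k M) - 1) =
        ((a : LinearMap.GeneralLinearGroup k M) : Module.End k M) - 1 ∧
      (((b : LinearMap.GeneralLinearGroup k M) : Module.End k M) - 1) *
        (((a : LinearMap.GeneralLinearGroup k M) : Module.End k M) - 1) *
        (((b : LinearMap.GeneralLinearGroup k M) : Module.End k M) - 1) =
        ((b : LinearMap.GeneralLinearGroup k M) : Module.End k M) - 1 := by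
  obtain ⟨hNa, hka, hra⟩ := qp_class_elim ha
  have hNτ := qpN_of_quad hτ.1
  have hmin := qp_hmin_of_min hσ
  have rA : Module.finrank k (LinearMap.range (((a : LinearMap.GeneralLinearGroup k M) : Module.End k M) - 1)) =
      Cfsg.commutatorRank σ := by
    rw [hra]; rfl
  have rB : Module.finrank k (LinearMap.range (((τ : LinearMap.GeneralLinearGroup k M) : Module.End k M) - 1)) =
      Cfsg.commutatorRank σ :=
    le_antisymm (hτ.2 σ hσ.1) (hσ.2 τ hτ.1)
  have hnil := qp_nonnil hNa.1 (by rw [hra]; exact hVK) (by rw [hka]; exact hWK) ha.1.1.2.1.2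
  obtain ⟨q, S⟩ := qp_setup_exists hk2 hk3 hmin hNa hNτ rA rB hnil
  obtain ⟨B', hNB', i1, i2, hr, hkk⟩ := qp_inv_partner S
  have hB'0 : B' ≠ 0 := by
    rintro rfl
    apply ha.1.1.2.1.2
    rw [← i1]
    simp
  have hrange : LinearMap.range B' =
      LinearMap.range (((τ : LinearMap.GeneralLinearGroup k M) : Module.End k M) - 1) :=
    Submodule.eq_of_le_of_finrank_le hr (by rw [rB]; exact hmin B' hNB' hB'0)
  have hker : LinearMap.ker B' =
      LinearMap.ker (((τ : LinearMap.GeneralLinearGroup k M) : Module.End k M) - 1) := by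
    refine (Submodule.eq_of_le_of_finrank_le hkk ?_).symm
    have e1 := LinearMap.finrank_range_add_finrank_ker B'
    have e2 := LinearMap.finrank_range_add_finrank_ker
      (((τ : LinearMap.GeneralLinearGroup k M) : Module.End k M) - 1)
    rw [hrange] at e1
    omega
  obtain ⟨b, hbG, hbv⟩ := hNB'.2 1
  rw [one_smul] at hbv
  have hb : b ∈ Cfsg.sameActionClass G τ := qp_mem_class hτ hNB' hker hrange hbv
  have e' : ((b : LinearMap.GeneralLinearGroup k M) : Module.End k M) - 1 = B' := by
    rw [hbv]; exact add_sub_cancel_left 1 B'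
  exact ⟨b, hb, by rw [e']; exact i1, by rw [e']; exact i2⟩

theorem qp_z_facts {A B : Module.End k M} (hA : A * A = 0) (hB : B * B = 0) (h1 : A * B * A = A)
    (h2 : B * A * B = B) :
    (A * B + B * A) * A = A ∧ A * (A * B + B * A) = A ∧ (A * B + B * A) * B = B ∧
      B * (A * B + B * A) = B ∧ (A * B + B * A) * (A * B + B * A) = A * B + B * A := by
  have zA : (A * B + B * A) * A = A := by rw [add_mul, h1, mul_assoc, hA, mul_zero, add_zero]
  have Az : A * (A * B + B * A) = A := by
    rw [mul_add, ← mul_assoc, hA, zero_mul, zero_add, ← mul_assoc, h1]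
  have zB : (A * B + B * A) * B = B := by rw [add_mul, mul_assoc, hB, mul_zero, zero_add, h2]
  have Bz : B * (A * B + B * A) = B := by
    rw [mul_add, ← mul_assoc, h2, ← mul_assoc, hB, zero_mul, add_zero]
  refine ⟨zA, Az, zB, Bz, ?_⟩
  calc (A * B + B * A) * (A * B + B * A) = (A * B + B * A) * A * B + (A * B + B * A) * B * A := by
        noncomm_ring
    _ = A * B + B * A := by rw [zA, zB]

theorem qp_n_val {a b : LinearMap.GeneralLinearGroup k M} {A B : Module.End k M}
    (ha : ((a : LinearMap.GeneralLinearGroup k M) : Module.End k M) = 1 + A)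
    (hb : ((b : LinearMap.GeneralLinearGroup k M) : Module.End k M) = 1 + B)
    (hA : A * A = 0) (hB : B * B = 0) (h1 : A * B * A = A) (h2 : B * A * B = B) :
    ((a * b⁻¹ * a * (a * b⁻¹ * a) : LinearMap.GeneralLinearGroup k M) : Module.End k M) =
      1 - (A * B + B * A) - (A * B + B * A) := by
  obtain ⟨zA, Az, zB, Bz, zz⟩ := qp_z_facts hA hB h1 h2
  have hn : ((a * b⁻¹ * a : LinearMap.GeneralLinearGroup k M) : Module.End k M) =
      1 + A - B - (A * B + B * A) := by
    rw [Units.val_mul, qp_u_val ha hb hB, ha]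
    have e : (1 + A) * (1 - B) * (1 + A) = 1 + A - B - (A * B + B * A) + (A - A * B * A) + A * A := by
      noncomm_ring
    rw [e, h1, hA, sub_self, add_zero, add_zero]
  rw [Units.val_mul, hn]
  obtain ⟨z, hz⟩ : ∃ z, z = A * B + B * A := ⟨_, rfl⟩
  rw [← hz] at zA Az zB Bz zz ⊢
  have e2 : (1 + A - B - z) * (1 + A - B - z) =
      1 - z - z + (A * A) + (B * B) + (A - A * z) + (A - z * A) - (B - B * z) - (B - z * B) - (z - z * z)
        + (z - (A * B + B * A)) := by
    noncomm_ring
  rw [e2, hA, hB, Az, zA, Bz, zB, zz, ← hz]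
  simp

theorem qp_invol_props (h2k : (2 : k) ≠ 0) {A B : Module.End k M} (hA : A * A = 0) (hB : B * B = 0)
    (h1 : A * B * A = A) (h2 : B * A * B = B) (hA0 : A ≠ 0) {i : LinearMap.GeneralLinearGroup k M}
    (hi : ((i : LinearMap.GeneralLinearGroup k M) : Module.End k M) = 1 - (A * B + B * A) - (A * B + B * A)) :
    i ≠ 1 ∧ i * i = 1 ∧
      (∀ v : M, ((i : LinearMap.GeneralLinearGroup k M) : Module.End k M) (A v) = -(A v)) ∧
      (∀ v : M, ((i : LinearMap.GeneralLinearGroup k M) : Module.End k M) (B v) = -(B v)) ∧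
      (∀ m : M, A m = 0 → B m = 0 → ((i : LinearMap.GeneralLinearGroup k M) : Module.End k M) m = m) := by
  obtain ⟨zA, Az, zB, Bz, zz⟩ := qp_z_facts hA hB h1 h2
  have zA' : ∀ v : M, (A * B + B * A) (A v) = A v := fun v => congrArg (fun f : Module.End k M => f v) zA
  have zB' : ∀ v : M, (A * B + B * A) (B v) = B v := fun v => congrArg (fun f : Module.End k M => f v) zB
  have hAv : ∀ v : M, ((i : LinearMap.GeneralLinearGroup k M) : Module.End k M) (A v) = -(A v) := by
    intro v
    rw [hi, LinearMap.sub_apply, LinearMap.sub_apply, Module.End.one_apply, zA']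
    abel
  have hBv : ∀ v : M, ((i : LinearMap.GeneralLinearGroup k M) : Module.End k M) (B v) = -(B v) := by
    intro v
    rw [hi, LinearMap.sub_apply, LinearMap.sub_apply, Module.End.one_apply, zB']
    abel
  refine ⟨?_, ?_, hAv, hBv, ?_⟩
  · rintro rfl
    apply hA0
    apply LinearMap.ext
    intro v
    have h3 := hAv v
    rw [Units.val_one, Module.End.one_apply] at h3
    have h4 : (2 : k) • A v = 0 := by
      rw [two_smul]
      calc A v + A v = A v + -(A v) := by rw [← h3]
        _ = 0 := add_neg_cancel _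
    exact (smul_eq_zero.mp h4).resolve_left h2k
  · apply Units.ext
    rw [Units.val_mul, hi, Units.val_one]
    obtain ⟨z, hz⟩ : ∃ z, z = A * B + B * A := ⟨_, rfl⟩
    rw [← hz] at zz ⊢
    have e : (1 - z - z) * (1 - z - z) = 1 - (z - z * z) - (z - z * z) - (z - z * z) - (z - z * z) := by
      noncomm_ring
    rw [e, zz, sub_self, sub_zero, sub_zero, sub_zero, sub_zero]
  · intro m hAm hBm
    rw [hi, LinearMap.sub_apply, LinearMap.sub_apply, Module.End.one_apply, LinearMap.add_apply,
      Module.End.mul_apply, Module.End.mul_apply, hAm, hBm, map_zero, map_zero, add_zero, sub_zero, sub_zero]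

theorem qp_z_comm {A B A'' : Module.End k M} (hA : A * A = 0) (h1 : A * B * A = A)
    (hr : LinearMap.range A'' = LinearMap.range A) (hk : LinearMap.ker A'' = LinearMap.ker A) :
    (A * B + B * A) * A'' = A'' ∧ A'' * (A * B + B * A) = A'' := by
  have hAA : ∀ x : M, A (A x) = 0 := fun x => congrArg (fun f : Module.End k M => f x) hA
  have h1' : ∀ x : M, A (B (A x)) = A x := fun x => congrArg (fun f : Module.End k M => f x) h1
  constructor
  · apply LinearMap.ext
    intro m
    have hm : A'' m ∈ LinearMap.range A := by rw [← hr]; exact ⟨m, rfl⟩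
    obtain ⟨y, hy⟩ := hm
    rw [Module.End.mul_apply, ← hy, LinearMap.add_apply, Module.End.mul_apply, Module.End.mul_apply, hAA,
      map_zero, add_zero, h1']
  · apply LinearMap.ext
    intro m
    have e1 : A'' (A (B m)) = 0 := by
      have : A (B m) ∈ LinearMap.ker A'' := by rw [hk, LinearMap.mem_ker, hAA]
      exact this
    have e2 : A'' (B (A m) - m) = 0 := by
      have : B (A m) - m ∈ LinearMap.ker A'' := by rw [hk, LinearMap.mem_ker, map_sub, h1', sub_self]
      exact this
    rw [Module.End.mul_apply, LinearMap.add_apply, Module.End.mul_apply, Module.End.mul_apply, map_add, e1,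
      zero_add]
    rw [map_sub, sub_eq_zero] at e2
    exact e2

theorem qp_comm_i {A B A'' : Module.End k M} (hz1 : (A * B + B * A) * A'' = A'')
    (hz2 : A'' * (A * B + B * A) = A'') {i e : LinearMap.GeneralLinearGroup k M}
    (hi : ((i : LinearMap.GeneralLinearGroup k M) : Module.End k M) = 1 - (A * B + B * A) - (A * B + B * A))
    (he : ((e : LinearMap.GeneralLinearGroup k M) : Module.End k M) = 1 + A'') : i * e = e * i := by
  apply Units.ext
  rw [Units.val_mul, Units.val_mul, hi, he]
  obtain ⟨z, hz⟩ : ∃ z, z = A * B + B * A := ⟨_, rfl⟩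
  rw [← hz] at hz1 hz2 ⊢
  have e1 : (1 - z - z) * (1 + A'') = 1 - z - z + A'' - z * A'' - z * A'' := by noncomm_ring
  have e2 : (1 + A'') * (1 - z - z) = 1 - z - z + A'' - A'' * z - A'' * z := by noncomm_ring
  rw [e1, e2, hz1, hz2]

/-- the pointwise fixer of a subspace -/
def qpFix (C : Submodule k M) : Subgroup (LinearMap.GeneralLinearGroup k M) where
  carrier := {g | ∀ m ∈ C, ((g : LinearMap.GeneralLinearGroup k M) : Module.End k M) m = m}
  mul_mem' := by
    intro g h hg hh m hm
    rw [Units.val_mul, Module.End.mul_apply, hh m hm, hg m hm]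
  one_mem' := by intro m _; rfl
  inv_mem' := by
    intro g hg m hm
    have h0 := congrArg (fun f : Module.End k M => f m) (Units.inv_mul g)
    simp only [Module.End.mul_apply, Module.End.one_apply] at h0
    rw [hg m hm] at h0
    exact h0

theorem qpFix_mem {C : Submodule k M} {g : LinearMap.GeneralLinearGroup k M} :
    g ∈ qpFix C ↔ ∀ m ∈ C, ((g : LinearMap.GeneralLinearGroup k M) : Module.End k M) m = m := Iff.rfl

/-- the elements moving every vector inside a subspace -/
def qpMov (U : Submodule k M) : Subgroup (LinearMap.GeneralLinearGroup k M) where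
  carrier := {g | ∀ m : M, ((g : LinearMap.GeneralLinearGroup k M) : Module.End k M) m - m ∈ U}
  mul_mem' := by
    intro g h hg hh m
    have e : ((g * h : LinearMap.GeneralLinearGroup k M) : Module.End k M) m - m =
        (((g : LinearMap.GeneralLinearGroup k M) : Module.End k M)
          (((h : LinearMap.GeneralLinearGroup k M) : Module.End k M) m) -
          ((h : LinearMap.GeneralLinearGroup k M) : Module.End k M) m) +
        (((h : LinearMap.GeneralLinearGroup k M) : Module.End k M) m - m) := by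
      rw [Units.val_mul, Module.End.mul_apply]; abel
    rw [e]
    exact U.add_mem (hg _) (hh m)
  one_mem' := by
    intro m
    rw [Units.val_one, Module.End.one_apply, sub_self]
    exact U.zero_mem
  inv_mem' := by
    intro g hg m
    have h0 := congrArg (fun f : Module.End k M => f m) (Units.mul_inv g)
    simp only [Module.End.mul_apply, Module.End.one_apply] at h0
    have e : ((g⁻¹ : LinearMap.GeneralLinearGroup k M) : Module.End k M) m - m =
        -(((g : LinearMap.GeneralLinearGroup k M) : Module.End k M)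
          (((g⁻¹ : LinearMap.GeneralLinearGroup k M) : Module.End k M) m) -
          ((g⁻¹ : LinearMap.GeneralLinearGroup k M) : Module.End k M) m) := by
      rw [h0]; abel
    rw [e]
    exact U.neg_mem (hg _)

theorem qpMov_mem {U : Submodule k M} {g : LinearMap.GeneralLinearGroup k M} :
    g ∈ qpMov U ↔ ∀ m : M, ((g : LinearMap.GeneralLinearGroup k M) : Module.End k M) m - m ∈ U := Iff.rfl

/-- the stabilizer of a three-step flag acting trivially on the factors -/
def qpFlag (F₁ F₂ : Submodule k M) (h : F₂ ≤ F₁) : Subgroup (LinearMap.GeneralLinearGroup k M) where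
  carrier := {g | (∀ m : M, ((g : LinearMap.GeneralLinearGroup k M) : Module.End k M) m - m ∈ F₁) ∧
    (∀ m ∈ F₁, ((g : LinearMap.GeneralLinearGroup k M) : Module.End k M) m - m ∈ F₂) ∧
    (∀ m ∈ F₂, ((g : LinearMap.GeneralLinearGroup k M) : Module.End k M) m = m)}
  mul_mem' := by
    rintro g g' ⟨a1, a2, a3⟩ ⟨b1, b2, b3⟩
    have e : ∀ m : M, ((g * g' : LinearMap.GeneralLinearGroup k M) : Module.End k M) m - m =
        (((g : LinearMap.GeneralLinearGroup k M) : Module.End k M)
          (((g' : LinearMap.GeneralLinearGroup k M) : Module.End k M) m) -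
          ((g' : LinearMap.GeneralLinearGroup k M) : Module.End k M) m) +
        (((g' : LinearMap.GeneralLinearGroup k M) : Module.End k M) m - m) := fun m => by
      rw [Units.val_mul, Module.End.mul_apply]; abel
    refine ⟨fun m => ?_, fun m hm => ?_, fun m hm => ?_⟩
    · rw [e]; exact F₁.add_mem (a1 _) (b1 m)
    · rw [e]
      have h3 : ((g' : LinearMap.GeneralLinearGroup k M) : Module.End k M) m ∈ F₁ := by
        have h4 := F₁.add_mem (h (b2 m hm)) hm
        rwa [sub_add_cancel] at h4
      exact F₂.add_mem (a2 _ h3) (b2 m hm)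
    · rw [Units.val_mul, Module.End.mul_apply, b3 m hm, a3 m hm]
  one_mem' := by
    refine ⟨fun m => ?_, fun m _ => ?_, fun m _ => rfl⟩
    · rw [Units.val_one, Module.End.one_apply, sub_self]; exact F₁.zero_mem
    · rw [Units.val_one, Module.End.one_apply, sub_self]; exact F₂.zero_mem
  inv_mem' := by
    rintro g ⟨a1, a2, a3⟩
    have e0 : ∀ m : M, ((g : LinearMap.GeneralLinearGroup k M) : Module.End k M)
        (((g⁻¹ : LinearMap.GeneralLinearGroup k M) : Module.End k M) m) = m := fun m =>
      congrArg (fun f : Module.End k M => f m) (Units.mul_inv g)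
    have e1 : ∀ m : M, ((g⁻¹ : LinearMap.GeneralLinearGroup k M) : Module.End k M)
        (((g : LinearMap.GeneralLinearGroup k M) : Module.End k M) m) = m := fun m =>
      congrArg (fun f : Module.End k M => f m) (Units.inv_mul g)
    have e2 : ∀ m : M, ((g⁻¹ : LinearMap.GeneralLinearGroup k M) : Module.End k M) m - m =
        -(((g : LinearMap.GeneralLinearGroup k M) : Module.End k M)
          (((g⁻¹ : LinearMap.GeneralLinearGroup k M) : Module.End k M) m) -
          ((g⁻¹ : LinearMap.GeneralLinearGroup k M) : Module.End k M) m) := fun m => by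
      rw [e0]; abel
    have c1 : ∀ m : M, ((g⁻¹ : LinearMap.GeneralLinearGroup k M) : Module.End k M) m - m ∈ F₁ := fun m => by
      rw [e2]; exact F₁.neg_mem (a1 _)
    refine ⟨c1, fun m hm => ?_, fun m hm => ?_⟩
    · rw [e2]
      have h3 : ((g⁻¹ : LinearMap.GeneralLinearGroup k M) : Module.End k M) m ∈ F₁ := by
        have h4 := F₁.add_mem (c1 m) hm
        rwa [sub_add_cancel] at h4
      exact F₂.neg_mem (a2 _ h3)
    · have h5 := e1 m
      rw [a3 m hm] at h5
      exact h5

theorem qpFlag_mem {F₁ F₂ : Submodule k M} {h : F₂ ≤ F₁} {g : LinearMap.GeneralLinearGroup k M} :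
    g ∈ qpFlag F₁ F₂ h ↔
      (∀ m : M, ((g : LinearMap.GeneralLinearGroup k M) : Module.End k M) m - m ∈ F₁) ∧
      (∀ m ∈ F₁, ((g : LinearMap.GeneralLinearGroup k M) : Module.End k M) m - m ∈ F₂) ∧
      (∀ m ∈ F₂, ((g : LinearMap.GeneralLinearGroup k M) : Module.End k M) m = m) := Iff.rfl

theorem qp_flag_unip {F₁ F₂ : Submodule k M} (h : F₂ ≤ F₁) {H : Subgroup (LinearMap.GeneralLinearGroup k M)}
    (hH : H ≤ qpFlag F₁ F₂ h) : Cfsg.IsUnipotentOn H := by
  rw [qp_unipOn_iff]
  refine ⟨3, fun l hl hlen => ?_⟩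
  obtain ⟨g1, g2, g3, rfl⟩ := List.length_eq_three.mp hlen
  have h1 := qpFlag_mem.mp (hH (hl g1 (by simp)))
  have h2 := qpFlag_mem.mp (hH (hl g2 (by simp)))
  have h3 := qpFlag_mem.mp (hH (hl g3 (by simp)))
  simp only [List.map_cons, List.map_nil, List.prod_cons, List.prod_nil, mul_one]
  apply LinearMap.ext
  intro m
  rw [Module.End.mul_apply, Module.End.mul_apply, LinearMap.zero_apply]
  have s3 : (((g3 : LinearMap.GeneralLinearGroup k M) : Module.End k M) - 1) m ∈ F₁ := by
    rw [LinearMap.sub_apply, Module.End.one_apply]; exact h3.1 m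
  have s2 : (((g2 : LinearMap.GeneralLinearGroup k M) : Module.End k M) - 1)
      ((((g3 : LinearMap.GeneralLinearGroup k M) : Module.End k M) - 1) m) ∈ F₂ := by
    rw [LinearMap.sub_apply, Module.End.one_apply]; exact h2.2.1 _ s3
  rw [LinearMap.sub_apply, Module.End.one_apply, sub_eq_zero]
  exact h1.2.2 _ s2

end qp12a

section qp12b
variable {k : Type*} [Field k] {M : Type*} [AddCommGroup M] [Module k M]
variable {G : Subgroup (LinearMap.GeneralLinearGroup k M)}

theorem qp_fixed_eq {σ τ : LinearMap.GeneralLinearGroup k M}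
    (hσ : σ ∈ Cfsg.minimalQuadraticElements G) (hτ : τ ∈ Cfsg.minimalQuadraticElements G)
    {E F : Subgroup (LinearMap.GeneralLinearGroup k M)}
    (hE : ∀ x, x ∈ E ↔ x ∈ Cfsg.sameActionClass G σ ∨ x = 1)
    (hF : ∀ x, x ∈ F ↔ x ∈ Cfsg.sameActionClass G τ ∨ x = 1) :
    Cfsg.fixedSubmodule (E ⊔ F) =
      LinearMap.ker (((σ : LinearMap.GeneralLinearGroup k M) : Module.End k M) - 1) ⊓
        LinearMap.ker (((τ : LinearMap.GeneralLinearGroup k M) : Module.End k M) - 1) := by
  have hσE : σ ∈ E ⊔ F := Subgroup.mem_sup_left ((hE σ).mpr (Or.inl ⟨hσ, rfl, rfl⟩))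
  have hτF : τ ∈ E ⊔ F := Subgroup.mem_sup_right ((hF τ).mpr (Or.inl ⟨hτ, rfl, rfl⟩))
  have hle : E ⊔ F ≤ qpFix (LinearMap.ker (((σ : LinearMap.GeneralLinearGroup k M) : Module.End k M) - 1) ⊓
      LinearMap.ker (((τ : LinearMap.GeneralLinearGroup k M) : Module.End k M) - 1)) := by
    refine sup_le ?_ ?_
    · intro x hx
      refine qpFix_mem.mpr fun m hm => ?_
      rcases (hE x).mp hx with hx | rfl
      · have h0 : m ∈ LinearMap.ker (((x : LinearMap.GeneralLinearGroup k M) : Module.End k M) - 1) := by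
          rw [hx.2.1]; exact hm.1
        rw [LinearMap.mem_ker, LinearMap.sub_apply, Module.End.one_apply, sub_eq_zero] at h0
        exact h0
      · rfl
    · intro x hx
      refine qpFix_mem.mpr fun m hm => ?_
      rcases (hF x).mp hx with hx | rfl
      · have h0 : m ∈ LinearMap.ker (((x : LinearMap.GeneralLinearGroup k M) : Module.End k M) - 1) := by
          rw [hx.2.1]; exact hm.2
        rw [LinearMap.mem_ker, LinearMap.sub_apply, Module.End.one_apply, sub_eq_zero] at h0
        exact h0
      · rfl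
  apply le_antisymm
  · intro m hm
    have hm' : m ∈ ⨅ g ∈ E ⊔ F, LinearMap.ker ((g : M →ₗ[k] M) - 1) := hm
    simp only [Submodule.mem_iInf] at hm'
    exact ⟨hm' σ hσE, hm' τ hτF⟩
  · intro m hm
    show m ∈ ⨅ g ∈ E ⊔ F, LinearMap.ker ((g : M →ₗ[k] M) - 1)
    simp only [Submodule.mem_iInf]
    intro g hg
    rw [LinearMap.mem_ker, LinearMap.sub_apply, Module.End.one_apply, sub_eq_zero]
    exact qpFix_mem.mp (hle hg) m hm

theorem qp_comm_eq {σ τ : LinearMap.GeneralLinearGroup k M}
    (hσ : σ ∈ Cfsg.minimalQuadraticElements G) (hτ : τ ∈ Cfsg.minimalQuadraticElements G)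
    {E F : Subgroup (LinearMap.GeneralLinearGroup k M)}
    (hE : ∀ x, x ∈ E ↔ x ∈ Cfsg.sameActionClass G σ ∨ x = 1)
    (hF : ∀ x, x ∈ F ↔ x ∈ Cfsg.sameActionClass G τ ∨ x = 1) :
    Cfsg.commutatorSubmodule (E ⊔ F) =
      LinearMap.range (((σ : LinearMap.GeneralLinearGroup k M) : Module.End k M) - 1) ⊔
        LinearMap.range (((τ : LinearMap.GeneralLinearGroup k M) : Module.End k M) - 1) := by
  have hσE : σ ∈ E ⊔ F := Subgroup.mem_sup_left ((hE σ).mpr (Or.inl ⟨hσ, rfl, rfl⟩))
  have hτF : τ ∈ E ⊔ F := Subgroup.mem_sup_right ((hF τ).mpr (Or.inl ⟨hτ, rfl, rfl⟩))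
  have hle : E ⊔ F ≤ qpMov (LinearMap.range (((σ : LinearMap.GeneralLinearGroup k M) : Module.End k M) - 1) ⊔
      LinearMap.range (((τ : LinearMap.GeneralLinearGroup k M) : Module.End k M) - 1)) := by
    refine sup_le ?_ ?_
    · intro x hx
      refine qpMov_mem.mpr fun m => ?_
      rcases (hE x).mp hx with hx | rfl
      · have h0 : ((x : LinearMap.GeneralLinearGroup k M) : Module.End k M) m - m ∈
            LinearMap.range (((x : LinearMap.GeneralLinearGroup k M) : Module.End k M) - 1) :=
          ⟨m, by rw [LinearMap.sub_apply, Module.End.one_apply]⟩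
        rw [hx.2.2] at h0
        exact Submodule.mem_sup_left h0
      · rw [Units.val_one, Module.End.one_apply, sub_self]; exact Submodule.zero_mem _
    · intro x hx
      refine qpMov_mem.mpr fun m => ?_
      rcases (hF x).mp hx with hx | rfl
      · have h0 : ((x : LinearMap.GeneralLinearGroup k M) : Module.End k M) m - m ∈
            LinearMap.range (((x : LinearMap.GeneralLinearGroup k M) : Module.End k M) - 1) :=
          ⟨m, by rw [LinearMap.sub_apply, Module.End.one_apply]⟩
        rw [hx.2.2] at h0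
        exact Submodule.mem_sup_right h0
      · rw [Units.val_one, Module.End.one_apply, sub_self]; exact Submodule.zero_mem _
  apply le_antisymm
  · show (⨆ g ∈ E ⊔ F, LinearMap.range ((g : M →ₗ[k] M) - 1)) ≤ _
    refine iSup₂_le fun g hg => ?_
    rintro _ ⟨m, rfl⟩
    rw [LinearMap.sub_apply, Module.End.one_apply]
    exact qpMov_mem.mp (hle hg) m
  · show _ ≤ ⨆ g ∈ E ⊔ F, LinearMap.range ((g : M →ₗ[k] M) - 1)
    exact sup_le (le_iSup₂_of_le σ hσE le_rfl) (le_iSup₂_of_le τ hτF le_rfl)

end qp12b

end Cfsg.Agent.Lib.helper85
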