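import Cfsg.Agent.Lib.helper85.QP12

set_option autoImplicit false
set_option linter.unusedSimpArgs false

namespace Cfsg.Agent.Lib.helper85

open Polynomial

section qp13a
variable {k : Type*} [Field k] {M : Type*} [AddCommGroup M] [Module k M]
variable {G : Subgroup (LinearMap.GeneralLinearGroup k M)}

/-- in the nilpotent case all triple products vanish -/
theorem qp_triple_zero [FiniteDimensional k M] (hk2 : ringChar k ≠ 2) (hk3 : Nat.card k ≠ 3)
    {σ τ : LinearMap.GeneralLinearGroup k M}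
    (hσ : σ ∈ Cfsg.minimalQuadraticElements G) (hτ : τ ∈ Cfsg.minimalQuadraticElements G)
    (hz : ∃ n : ℕ, ((((σ : LinearMap.GeneralLinearGroup k M) : Module.End k M) - 1) *
      (((τ : LinearMap.GeneralLinearGroup k M) : Module.End k M) - 1) +
      (((τ : LinearMap.GeneralLinearGroup k M) : Module.End k M) - 1) *
      (((σ : LinearMap.GeneralLinearGroup k M) : Module.End k M) - 1)) ^ n = 0)
    {a b : LinearMap.GeneralLinearGroup k M} (ha : a ∈ Cfsg.sameActionClass G σ)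
    (hb : b ∈ Cfsg.sameActionClass G τ) :
    (((a : LinearMap.GeneralLinearGroup k M) : Module.End k M) - 1) *
        (((b : LinearMap.GeneralLinearGroup k M) : Module.End k M) - 1) *
        (((a : LinearMap.GeneralLinearGroup k M) : Module.End k M) - 1) = 0 ∧
      (((b : LinearMap.GeneralLinearGroup k M) : Module.End k M) - 1) *
        (((a : LinearMap.GeneralLinearGroup k M) : Module.End k M) - 1) *
        (((b : LinearMap.GeneralLinearGroup k M) : Module.End k M) - 1) = 0 := by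
  obtain ⟨hNa, hka, hra⟩ := qp_class_elim ha
  obtain ⟨hNb, hkb, hrb⟩ := qp_class_elim hb
  have hNσ := qpN_of_quad hσ.1
  have hNτ := qpN_of_quad hτ.1
  have hmin := qp_hmin_of_min hσ
  have h2k : (2 : k) ≠ 0 := Ring.two_ne_zero hk2
  have rσ : Module.finrank k (LinearMap.range (((σ : LinearMap.GeneralLinearGroup k M) : Module.End k M) - 1)) =
      Cfsg.commutatorRank σ := rfl
  have rτ : Module.finrank k (LinearMap.range (((τ : LinearMap.GeneralLinearGroup k M) : Module.End k M) - 1)) =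
      Cfsg.commutatorRank σ :=
    le_antisymm (hτ.2 σ hσ.1) (hσ.2 τ hτ.1)
  have rA : Module.finrank k (LinearMap.range (((a : LinearMap.GeneralLinearGroup k M) : Module.End k M) - 1)) =
      Cfsg.commutatorRank σ := by
    rw [hra]; rfl
  have rB : Module.finrank k (LinearMap.range (((b : LinearMap.GeneralLinearGroup k M) : Module.End k M) - 1)) =
      Cfsg.commutatorRank σ := by
    rw [hrb]; exact rτ
  obtain ⟨A₀, hA₀⟩ : ∃ A₀, A₀ = ((σ : LinearMap.GeneralLinearGroup k M) : Module.End k M) - 1 := ⟨_, rfl⟩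
  obtain ⟨B₀, hB₀⟩ : ∃ B₀, B₀ = ((τ : LinearMap.GeneralLinearGroup k M) : Module.End k M) - 1 := ⟨_, rfl⟩
  obtain ⟨A', hA'⟩ : ∃ A', A' = ((a : LinearMap.GeneralLinearGroup k M) : Module.End k M) - 1 := ⟨_, rfl⟩
  obtain ⟨B', hB'⟩ : ∃ B', B' = ((b : LinearMap.GeneralLinearGroup k M) : Module.End k M) - 1 := ⟨_, rfl⟩
  rw [← hA₀, ← hB₀] at hz
  rw [← hA₀] at hNσ rσ hka hra
  rw [← hB₀] at hNτ rτ hkb hrb
  rw [← hA'] at hNa rA hka hra ⊢
  rw [← hB'] at hNb rB hkb hrb ⊢
  have hA0 : A₀ ≠ 0 := by rw [hA₀]; exact hσ.1.2.1.2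
  have hAA : ∀ x : M, A' (A' x) = 0 := fun x => congrArg (fun f : Module.End k M => f x) hNa.1
  have hBB : ∀ x : M, B' (B' x) = 0 := fun x => congrArg (fun f : Module.End k M => f x) hNb.1
  have hAA₀ : ∀ x : M, A₀ (A₀ x) = 0 := fun x => congrArg (fun f : Module.End k M => f x) hNσ.1
  obtain ⟨n, hn⟩ := hz
  have h0 := (qp_unip h2k hmin hNσ hNτ rσ rτ hn).1
  have hABA₀ : ∀ x : M, A₀ (B₀ (A₀ x)) = 0 := by
    intro x
    have h1 := congrArg (fun f : Module.End k M => f x) h0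
    simp only [Module.End.mul_apply, LinearMap.add_apply, LinearMap.zero_apply, hAA₀, map_zero, add_zero] at h1
    exact h1
  have key : ∃ n' : ℕ, (A' * B' + B' * A') ^ n' = 0 := by
    by_contra hnil
    obtain ⟨q, S⟩ := qp_setup_exists hk2 hk3 hmin hNa hNb rA rB hnil
    have Z1 := qp_Z1 S
    have Z2 := qp_Z2 S
    rw [qpEv_X] at Z1 Z2
    apply hA0
    apply LinearMap.ext
    intro m
    rw [LinearMap.zero_apply]
    -- `B₀ (A₀ m) = 0`
    have s1 : B₀ (A₀ m) = 0 := by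
      have hr1 : B₀ (A₀ m) ∈ LinearMap.range B' := by rw [hrb]; exact ⟨_, rfl⟩
      obtain ⟨y, hy⟩ := hr1
      have hk1 : B' y ∈ LinearMap.ker A' := by
        rw [hka, LinearMap.mem_ker, hy]; exact hABA₀ m
      rw [LinearMap.mem_ker] at hk1
      rw [← hy]
      apply Z2
      rw [LinearMap.add_apply, Module.End.mul_apply, Module.End.mul_apply, hBB, map_zero, zero_add, hk1,
        map_zero]
    have hr2 : A₀ m ∈ LinearMap.range A' := by rw [hra]; exact ⟨_, rfl⟩
    obtain ⟨x, hx⟩ := hr2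
    have hk2' : A' x ∈ LinearMap.ker B' := by
      rw [hkb, LinearMap.mem_ker, hx]; exact s1
    rw [LinearMap.mem_ker] at hk2'
    rw [← hx]
    apply Z1
    rw [LinearMap.add_apply, Module.End.mul_apply, Module.End.mul_apply, hAA, map_zero, add_zero, hk2',
      map_zero]
  obtain ⟨n', hn'⟩ := key
  obtain ⟨u1, u2⟩ := qp_unip h2k hmin hNa hNb rA rB hn'
  constructor
  · rw [add_mul, mul_assoc B' A' A', hNa.1, mul_zero, add_zero] at u1
    exact u1
  · rw [add_mul, mul_assoc A' B' B', hNb.1, mul_zero, zero_add] at u2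
    exact u2

theorem qp_caseU [FiniteDimensional k M] (hk2 : ringChar k ≠ 2) (hk3 : Nat.card k ≠ 3)
    {σ τ : LinearMap.GeneralLinearGroup k M}
    (hσ : σ ∈ Cfsg.minimalQuadraticElements G) (hτ : τ ∈ Cfsg.minimalQuadraticElements G)
    {E F : Subgroup (LinearMap.GeneralLinearGroup k M)}
    (hE : ∀ x, x ∈ E ↔ x ∈ Cfsg.sameActionClass G σ ∨ x = 1)
    (hF : ∀ x, x ∈ F ↔ x ∈ Cfsg.sameActionClass G τ ∨ x = 1)
    (hz : ∃ n : ℕ, ((((σ : LinearMap.GeneralLinearGroup k M) : Module.End k M) - 1) *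
      (((τ : LinearMap.GeneralLinearGroup k M) : Module.End k M) - 1) +
      (((τ : LinearMap.GeneralLinearGroup k M) : Module.End k M) - 1) *
      (((σ : LinearMap.GeneralLinearGroup k M) : Module.End k M) - 1)) ^ n = 0) :
    Cfsg.IsUnipotentOn (E ⊔ F) := by
  have hσc : σ ∈ Cfsg.sameActionClass G σ := ⟨hσ, rfl, rfl⟩
  have hτc : τ ∈ Cfsg.sameActionClass G τ := ⟨hτ, rfl, rfl⟩
  obtain ⟨A₀, hA₀⟩ : ∃ A₀, A₀ = ((σ : LinearMap.GeneralLinearGroup k M) : Module.End k M) - 1 := ⟨_, rfl⟩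
  obtain ⟨B₀, hB₀⟩ : ∃ B₀, B₀ = ((τ : LinearMap.GeneralLinearGroup k M) : Module.End k M) - 1 := ⟨_, rfl⟩
  have hAA₀ : A₀ * A₀ = 0 := by rw [hA₀]; exact hσ.1.2.1.1
  have hBB₀ : B₀ * B₀ = 0 := by rw [hB₀]; exact hτ.1.2.1.1
  have hVK : LinearMap.range A₀ ≤ LinearMap.ker A₀ := LinearMap.range_le_ker_iff.mpr hAA₀
  have hWK : LinearMap.range B₀ ≤ LinearMap.ker B₀ := LinearMap.range_le_ker_iff.mpr hBB₀
  have hle : (LinearMap.range A₀ ⊓ LinearMap.ker B₀) ⊔ (LinearMap.range B₀ ⊓ LinearMap.ker A₀) ≤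
      LinearMap.range A₀ ⊔ LinearMap.range B₀ :=
    sup_le (le_sup_of_le_left inf_le_left) (le_sup_of_le_right inf_le_left)
  refine qp_flag_unip hle (sup_le ?_ ?_)
  · intro x hx
    rcases (hE x).mp hx with hx | rfl
    swap
    · exact Subgroup.one_mem _
    obtain ⟨hNx, hkx, hrx⟩ := qp_class_elim hx
    obtain ⟨-, t2⟩ := qp_triple_zero hk2 hk3 hσ hτ hz hx hτc
    obtain ⟨A', hA'⟩ : ∃ A', A' = ((x : LinearMap.GeneralLinearGroup k M) : Module.End k M) - 1 := ⟨_, rfl⟩
    rw [← hA'] at hkx hrx t2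
    rw [← hA₀] at hkx hrx
    rw [← hB₀] at t2
    have hxm : ∀ m : M, ((x : LinearMap.GeneralLinearGroup k M) : Module.End k M) m - m = A' m := fun m => by
      rw [hA', LinearMap.sub_apply, Module.End.one_apply]
    have hAk : ∀ m : M, m ∈ LinearMap.ker A₀ → A' m = 0 := fun m hm => by
      rw [← hkx] at hm; exact LinearMap.mem_ker.mp hm
    have hAr : ∀ m : M, A' m ∈ LinearMap.range A₀ := fun m => by rw [← hrx]; exact ⟨m, rfl⟩
    refine qpFlag_mem.mpr ⟨fun m => ?_, fun m hm => ?_, fun m hm => ?_⟩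
    · rw [hxm]; exact Submodule.mem_sup_left (hAr m)
    · rw [hxm]
      obtain ⟨v, hv, w, hw, rfl⟩ := Submodule.mem_sup.mp hm
      rw [map_add, hAk v (hVK hv), zero_add]
      refine Submodule.mem_sup_left ⟨hAr w, ?_⟩
      obtain ⟨y, rfl⟩ := hw
      exact LinearMap.mem_ker.mpr (congrArg (fun f : Module.End k M => f y) t2)
    · obtain ⟨p, hp, q, hq, rfl⟩ := Submodule.mem_sup.mp hm
      have e1 : A' p = 0 := hAk p (hVK hp.1)
      have e2 : A' q = 0 := hAk q hq.2
      have e3 := hxm (p + q)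
      rw [map_add A', e1, e2, add_zero, sub_eq_zero] at e3
      exact e3
  · intro x hx
    rcases (hF x).mp hx with hx | rfl
    swap
    · exact Subgroup.one_mem _
    obtain ⟨hNx, hkx, hrx⟩ := qp_class_elim hx
    obtain ⟨t1, -⟩ := qp_triple_zero hk2 hk3 hσ hτ hz hσc hx
    obtain ⟨B', hB'⟩ : ∃ B', B' = ((x : LinearMap.GeneralLinearGroup k M) : Module.End k M) - 1 := ⟨_, rfl⟩
    rw [← hB'] at hkx hrx t1
    rw [← hB₀] at hkx hrx
    rw [← hA₀] at t1
    have hxm : ∀ m : M, ((x : LinearMap.GeneralLinearGroup k M) : Module.End k M) m - m = B' m := fun m => by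
      rw [hB', LinearMap.sub_apply, Module.End.one_apply]
    have hBk : ∀ m : M, m ∈ LinearMap.ker B₀ → B' m = 0 := fun m hm => by
      rw [← hkx] at hm; exact LinearMap.mem_ker.mp hm
    have hBr : ∀ m : M, B' m ∈ LinearMap.range B₀ := fun m => by rw [← hrx]; exact ⟨m, rfl⟩
    refine qpFlag_mem.mpr ⟨fun m => ?_, fun m hm => ?_, fun m hm => ?_⟩
    · rw [hxm]; exact Submodule.mem_sup_right (hBr m)
    · rw [hxm]
      obtain ⟨v, hv, w, hw, rfl⟩ := Submodule.mem_sup.mp hm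
      rw [map_add, hBk w (hWK hw), add_zero]
      refine Submodule.mem_sup_right ⟨hBr v, ?_⟩
      obtain ⟨y, rfl⟩ := hv
      exact LinearMap.mem_ker.mpr (congrArg (fun f : Module.End k M => f y) t1)
    · obtain ⟨p, hp, q, hq, rfl⟩ := Submodule.mem_sup.mp hm
      have e1 : B' p = 0 := hBk p hp.2
      have e2 : B' q = 0 := hBk q (hWK hq.1)
      have e3 := hxm (p + q)
      rw [map_add B', e1, e2, add_zero, sub_eq_zero] at e3
      exact e3

end qp13a

end Cfsg.Agent.Lib.helper85
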