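import Cfsg.Agent.Lib.helper85.QP13

set_option autoImplicit false
set_option linter.unusedSimpArgs false

namespace Cfsg.Agent.Lib.helper85

open Polynomial

section qp14a
variable {k : Type*} [Field k] {M : Type*} [AddCommGroup M] [Module k M]
variable {G : Subgroup (LinearMap.GeneralLinearGroup k M)}

/-- non-degeneracy of the two classes in the non-nilpotent case -/
theorem qp_nondeg [FiniteDimensional k M] (hk2 : ringChar k ≠ 2) (hk3 : Nat.card k ≠ 3)
    {σ τ : LinearMap.GeneralLinearGroup k M}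
    (hσ : σ ∈ Cfsg.minimalQuadraticElements G) (hτ : τ ∈ Cfsg.minimalQuadraticElements G)
    (hz : ¬ ∃ n : ℕ, ((((σ : LinearMap.GeneralLinearGroup k M) : Module.End k M) - 1) *
      (((τ : LinearMap.GeneralLinearGroup k M) : Module.End k M) - 1) +
      (((τ : LinearMap.GeneralLinearGroup k M) : Module.End k M) - 1) *
      (((σ : LinearMap.GeneralLinearGroup k M) : Module.End k M) - 1)) ^ n = 0) :
    LinearMap.range (((σ : LinearMap.GeneralLinearGroup k M) : Module.End k M) - 1) ⊓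
        LinearMap.ker (((τ : LinearMap.GeneralLinearGroup k M) : Module.End k M) - 1) = ⊥ ∧
      LinearMap.range (((τ : LinearMap.GeneralLinearGroup k M) : Module.End k M) - 1) ⊓
        LinearMap.ker (((σ : LinearMap.GeneralLinearGroup k M) : Module.End k M) - 1) = ⊥ := by
  have hNσ := qpN_of_quad hσ.1
  have hNτ := qpN_of_quad hτ.1
  have hmin := qp_hmin_of_min hσ
  have rσ : Module.finrank k (LinearMap.range (((σ : LinearMap.GeneralLinearGroup k M) : Module.End k M) - 1)) =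
      Cfsg.commutatorRank σ := rfl
  have rτ : Module.finrank k (LinearMap.range (((τ : LinearMap.GeneralLinearGroup k M) : Module.End k M) - 1)) =
      Cfsg.commutatorRank σ :=
    le_antisymm (hτ.2 σ hσ.1) (hσ.2 τ hτ.1)
  obtain ⟨q, S⟩ := qp_setup_exists hk2 hk3 hmin hNσ hNτ rσ rτ hz
  have Z1 := qp_Z1 S
  have Z2 := qp_Z2 S
  rw [qpEv_X] at Z1 Z2
  obtain ⟨A₀, hA₀⟩ : ∃ A₀, A₀ = ((σ : LinearMap.GeneralLinearGroup k M) : Module.End k M) - 1 := ⟨_, rfl⟩
  obtain ⟨B₀, hB₀⟩ : ∃ B₀, B₀ = ((τ : LinearMap.GeneralLinearGroup k M) : Module.End k M) - 1 := ⟨_, rfl⟩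
  rw [← hA₀, ← hB₀] at Z1 Z2 ⊢
  rw [← hA₀] at hNσ
  rw [← hB₀] at hNτ
  have hAA : ∀ x : M, A₀ (A₀ x) = 0 := fun x => congrArg (fun f : Module.End k M => f x) hNσ.1
  have hBB : ∀ x : M, B₀ (B₀ x) = 0 := fun x => congrArg (fun f : Module.End k M => f x) hNτ.1
  constructor
  · rw [eq_bot_iff]
    rintro v ⟨⟨m, rfl⟩, hv⟩
    have hv' : B₀ (A₀ m) = 0 := LinearMap.mem_ker.mp hv
    rw [Submodule.mem_bot]
    apply Z1
    rw [LinearMap.add_apply, Module.End.mul_apply, Module.End.mul_apply, hAA, map_zero, add_zero, hv',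
      map_zero]
  · rw [eq_bot_iff]
    rintro v ⟨⟨m, rfl⟩, hv⟩
    have hv' : A₀ (B₀ m) = 0 := LinearMap.mem_ker.mp hv
    rw [Submodule.mem_bot]
    apply Z2
    rw [LinearMap.add_apply, Module.End.mul_apply, Module.End.mul_apply, hBB, map_zero, zero_add, hv',
      map_zero]

theorem qp_rank_one [FiniteDimensional k M] (hk2 : ringChar k ≠ 2) (hk3 : Nat.card k ≠ 3)
    {σ τ : LinearMap.GeneralLinearGroup k M}
    (hσ : σ ∈ Cfsg.minimalQuadraticElements G) (hτ : τ ∈ Cfsg.minimalQuadraticElements G)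
    {E F : Subgroup (LinearMap.GeneralLinearGroup k M)}
    (hE : ∀ x, x ∈ E ↔ x ∈ Cfsg.sameActionClass G σ ∨ x = 1)
    (hF : ∀ x, x ∈ F ↔ x ∈ Cfsg.sameActionClass G τ ∨ x = 1)
    (hcE : IsMulCommutative ↥E) (hcF : IsMulCommutative ↥F)
    (hVK : LinearMap.range (((σ : LinearMap.GeneralLinearGroup k M) : Module.End k M) - 1) ⊓
      LinearMap.ker (((τ : LinearMap.GeneralLinearGroup k M) : Module.End k M) - 1) = ⊥)
    (hWK : LinearMap.range (((τ : LinearMap.GeneralLinearGroup k M) : Module.End k M) - 1) ⊓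
      LinearMap.ker (((σ : LinearMap.GeneralLinearGroup k M) : Module.End k M) - 1) = ⊥) :
    Cfsg.IsSpecialRankOnePair E F := by
  have hσc : σ ∈ Cfsg.sameActionClass G σ := ⟨hσ, rfl, rfl⟩
  have hne1 : ∀ {ρ x : LinearMap.GeneralLinearGroup k M}, x ∈ Cfsg.sameActionClass G ρ → x ≠ 1 := by
    intro ρ x hx
    rintro rfl
    exact hx.1.1.2.1.2 (by rw [Units.val_one, sub_self])
  refine ⟨⟨?_, ⟨⟨1, Subgroup.upperCentralSeries_one_eq_top_iff.mpr hcE⟩⟩,
    ⟨⟨1, Subgroup.upperCentralSeries_one_eq_top_iff.mpr hcF⟩⟩, ?_, ?_⟩, ?_⟩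
  · intro hEF
    have h1 : σ ∈ F := by rw [← hEF]; exact (hE σ).mpr (Or.inl hσc)
    have h2 : σ ∈ Cfsg.sameActionClass G τ := ((hF σ).mp h1).resolve_right (hne1 hσc)
    apply hσ.1.2.1.2
    apply LinearMap.ext
    intro m
    have h3 : (((σ : LinearMap.GeneralLinearGroup k M) : Module.End k M) - 1) m ∈ (⊥ : Submodule k M) := by
      rw [← hVK]
      refine ⟨⟨m, rfl⟩, ?_⟩
      rw [← h2.2.1]
      exact LinearMap.mem_ker.mpr (congrArg (fun f : Module.End k M => f m) hσ.1.2.1.1)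
    exact (Submodule.mem_bot k).mp h3
  · intro a haE ha1
    have hac : a ∈ Cfsg.sameActionClass G σ := ((hE a).mp haE).resolve_right ha1
    obtain ⟨b, hb, i1, i2⟩ := qp_partner hk2 hk3 hσ hτ hVK hWK hac
    exact ⟨b, (hF b).mpr (Or.inl hb), hne1 hb, qp_conj_eq hσ hτ hE hF hac hb i1 i2⟩
  · intro b hbF hb1
    have hbc : b ∈ Cfsg.sameActionClass G τ := ((hF b).mp hbF).resolve_right hb1
    obtain ⟨a, ha, j1, j2⟩ := qp_partner hk2 hk3 hτ hσ hWK hVK hbc
    exact ⟨a, (hE a).mpr (Or.inl ha), hne1 ha, (qp_conj_eq hσ hτ hE hF ha hbc j2 j1).symm⟩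
  · intro a haE ha1 b hbF hb1 hc
    have hac : a ∈ Cfsg.sameActionClass G σ := ((hE a).mp haE).resolve_right ha1
    have hbc : b ∈ Cfsg.sameActionClass G τ := ((hF b).mp hbF).resolve_right hb1
    obtain ⟨i1, i2⟩ := qp_ip_of_conj hE hF hac hbc hVK hWK hc
    exact qp_special_rel qp_val_of_sub qp_val_of_sub (qp_class_elim hac).1.1 (qp_class_elim hbc).1.1 i1 i2

theorem qp_invol_exists [FiniteDimensional k M] (hk2 : ringChar k ≠ 2) (hk3 : Nat.card k ≠ 3)
    {σ τ : LinearMap.GeneralLinearGroup k M}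
    (hσ : σ ∈ Cfsg.minimalQuadraticElements G) (hτ : τ ∈ Cfsg.minimalQuadraticElements G)
    {E F : Subgroup (LinearMap.GeneralLinearGroup k M)}
    (hE : ∀ x, x ∈ E ↔ x ∈ Cfsg.sameActionClass G σ ∨ x = 1)
    (hF : ∀ x, x ∈ F ↔ x ∈ Cfsg.sameActionClass G τ ∨ x = 1)
    (hVK : LinearMap.range (((σ : LinearMap.GeneralLinearGroup k M) : Module.End k M) - 1) ⊓
      LinearMap.ker (((τ : LinearMap.GeneralLinearGroup k M) : Module.End k M) - 1) = ⊥)
    (hWK : LinearMap.range (((τ : LinearMap.GeneralLinearGroup k M) : Module.End k M) - 1) ⊓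
      LinearMap.ker (((σ : LinearMap.GeneralLinearGroup k M) : Module.End k M) - 1) = ⊥) :
    (∃! i : LinearMap.GeneralLinearGroup k M, i ∈ E ⊔ F ∧ i ≠ 1 ∧ i * i = 1 ∧
        (∀ x ∈ E ⊔ F, i * x = x * i) ∧
        (∀ m ∈ Cfsg.commutatorSubmodule (E ⊔ F), (i : M →ₗ[k] M) m = -m) ∧
        (∀ m ∈ Cfsg.fixedSubmodule (E ⊔ F), (i : M →ₗ[k] M) m = m)) ∧
      IsCompl (Cfsg.fixedSubmodule (E ⊔ F)) (Cfsg.commutatorSubmodule (E ⊔ F)) := by
  have hσc : σ ∈ Cfsg.sameActionClass G σ := ⟨hσ, rfl, rfl⟩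
  have h2k : (2 : k) ≠ 0 := Ring.two_ne_zero hk2
  obtain ⟨b, hb, i1, i2⟩ := qp_partner hk2 hk3 hσ hτ hVK hWK hσc
  have hfix := qp_fixed_eq hσ hτ hE hF
  have hcomm := qp_comm_eq hσ hτ hE hF
  have hσE : σ ∈ E ⊔ F := Subgroup.mem_sup_left ((hE σ).mpr (Or.inl hσc))
  have hbF : b ∈ E ⊔ F := Subgroup.mem_sup_right ((hF b).mpr (Or.inl hb))
  obtain ⟨hNb, hkb, hrb⟩ := qp_class_elim hb
  have hNσ := qpN_of_quad hσ.1
  obtain ⟨A, hAdef⟩ : ∃ A, A = ((σ : LinearMap.GeneralLinearGroup k M) : Module.End k M) - 1 := ⟨_, rfl⟩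
  obtain ⟨B, hBdef⟩ : ∃ B, B = ((b : LinearMap.GeneralLinearGroup k M) : Module.End k M) - 1 := ⟨_, rfl⟩
  have hσv : ((σ : LinearMap.GeneralLinearGroup k M) : Module.End k M) = 1 + A := by rw [hAdef]; abel
  have hbv : ((b : LinearMap.GeneralLinearGroup k M) : Module.End k M) = 1 + B := by rw [hBdef]; abel
  rw [← hAdef, ← hBdef] at i1 i2
  rw [← hBdef] at hNb hkb hrb
  rw [← hAdef] at hNσ hfix hcomm
  rw [← hkb] at hfix
  rw [← hrb] at hcomm
  have hA := hNσ.1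
  have hB := hNb.1
  have hA0 : A ≠ 0 := by rw [hAdef]; exact hσ.1.2.1.2
  obtain ⟨zA, Az, zB, Bz, zz⟩ := qp_z_facts hA hB i1 i2
  obtain ⟨i, hidef⟩ : ∃ i, i = σ * b⁻¹ * σ * (σ * b⁻¹ * σ) := ⟨_, rfl⟩
  have hi : ((i : LinearMap.GeneralLinearGroup k M) : Module.End k M) =
      1 - (A * B + B * A) - (A * B + B * A) := by
    rw [hidef]; exact qp_n_val hσv hbv hA hB i1 i2
  obtain ⟨p1, p2, p3, p4, p5⟩ := qp_invol_props h2k hA hB i1 i2 hA0 hi
  have hiEF : i ∈ E ⊔ F := by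
    rw [hidef]
    exact mul_mem (mul_mem (mul_mem hσE (inv_mem hbF)) hσE) (mul_mem (mul_mem hσE (inv_mem hbF)) hσE)
  have hcent : ∀ x ∈ E ⊔ F, i * x = x * i := by
    have hle : E ⊔ F ≤ Subgroup.centralizer {i} := by
      refine sup_le ?_ ?_
      · intro x hx
        refine Subgroup.mem_centralizer_iff.mpr ?_
        rintro h rfl
        rcases (hE x).mp hx with hx | rfl
        · obtain ⟨z1, z2⟩ := qp_z_comm (B := B) (A'' := ((x : LinearMap.GeneralLinearGroup k M) : Module.End k M) - 1)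
            hA i1 (by rw [hx.2.2, hAdef]) (by rw [hx.2.1, hAdef])
          exact qp_comm_i z1 z2 hi qp_val_of_sub
        · rw [mul_one, one_mul]
      · intro x hx
        refine Subgroup.mem_centralizer_iff.mpr ?_
        rintro h rfl
        rcases (hF x).mp hx with hx | rfl
        · obtain ⟨z1, z2⟩ := qp_z_comm (B := A) (A'' := ((x : LinearMap.GeneralLinearGroup k M) : Module.End k M) - 1)
            hB i2 (by rw [hx.2.2, hrb]) (by rw [hx.2.1, hkb])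
          rw [add_comm] at z1 z2
          exact qp_comm_i z1 z2 hi qp_val_of_sub
        · rw [mul_one, one_mul]
    intro x hx
    exact Subgroup.mem_centralizer_iff.mp (hle hx) i rfl
  have hneg : ∀ m ∈ Cfsg.commutatorSubmodule (E ⊔ F), (i : M →ₗ[k] M) m = -m := by
    intro m hm
    rw [hcomm] at hm
    obtain ⟨v, ⟨y, rfl⟩, w, ⟨y', rfl⟩, rfl⟩ := Submodule.mem_sup.mp hm
    rw [map_add, p3, p4, neg_add]
  have hpos : ∀ m ∈ Cfsg.fixedSubmodule (E ⊔ F), (i : M →ₗ[k] M) m = m := by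
    intro m hm
    rw [hfix] at hm
    exact p5 m (LinearMap.mem_ker.mp hm.1) (LinearMap.mem_ker.mp hm.2)
  have hdisj : Disjoint (Cfsg.fixedSubmodule (E ⊔ F)) (Cfsg.commutatorSubmodule (E ⊔ F)) := by
    rw [Submodule.disjoint_def]
    intro x hx1 hx2
    have e1 := hpos x hx1
    have e2 := hneg x hx2
    rw [e1] at e2
    have h4 : (2 : k) • x = 0 := by
      rw [two_smul]
      calc x + x = x + -x := by rw [← e2]
        _ = 0 := add_neg_cancel _
    exact (smul_eq_zero.mp h4).resolve_left h2k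
  have hdecomp : ∀ m : M, ∃ c w, c ∈ Cfsg.fixedSubmodule (E ⊔ F) ∧ w ∈ Cfsg.commutatorSubmodule (E ⊔ F) ∧
      c + w = m := by
    intro m
    refine ⟨m - (A * B + B * A) m, (A * B + B * A) m, ?_, ?_, by abel⟩
    · rw [hfix]
      constructor
      · refine LinearMap.mem_ker.mpr ?_
        rw [map_sub, ← Module.End.mul_apply A, Az, sub_self]
      · refine LinearMap.mem_ker.mpr ?_
        rw [map_sub, ← Module.End.mul_apply B, Bz, sub_self]
    · rw [hcomm, LinearMap.add_apply, Module.End.mul_apply, Module.End.mul_apply]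
      exact Submodule.add_mem _ (Submodule.mem_sup_left ⟨_, rfl⟩) (Submodule.mem_sup_right ⟨_, rfl⟩)
  have hcodisj : Codisjoint (Cfsg.fixedSubmodule (E ⊔ F)) (Cfsg.commutatorSubmodule (E ⊔ F)) :=
    Submodule.codisjoint_iff_exists_add_eq.mpr hdecomp
  refine ⟨⟨i, ⟨hiEF, p1, p2, hcent, hneg, hpos⟩, ?_⟩, ⟨hdisj, hcodisj⟩⟩
  rintro i' ⟨-, -, -, -, hneg', hpos'⟩
  apply Units.ext
  apply LinearMap.ext
  intro m
  obtain ⟨c, w, hc, hw, rfl⟩ := hdecomp m
  rw [map_add, map_add, hneg' w hw, hpos' c hc, hneg w hw, hpos c hc]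

/-- the dichotomy for the subgroups generated by two classes -/
theorem qp_pairs_final [FiniteDimensional k M] (hk2 : ringChar k ≠ 2) (hk3 : Nat.card k ≠ 3)
    {σ τ : LinearMap.GeneralLinearGroup k M}
    (hσ : σ ∈ Cfsg.minimalQuadraticElements G) (hτ : τ ∈ Cfsg.minimalQuadraticElements G)
    {E F : Subgroup (LinearMap.GeneralLinearGroup k M)}
    (hE : ∀ x, x ∈ E ↔ x ∈ Cfsg.sameActionClass G σ ∨ x = 1)
    (hF : ∀ x, x ∈ F ↔ x ∈ Cfsg.sameActionClass G τ ∨ x = 1)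
    (hcE : IsMulCommutative ↥E) (hcF : IsMulCommutative ↥F) :
    Cfsg.IsUnipotentOn (E ⊔ F) ∨
    (Cfsg.IsSpecialRankOnePair E F ∧
      (∃! i : LinearMap.GeneralLinearGroup k M, i ∈ E ⊔ F ∧ i ≠ 1 ∧ i * i = 1 ∧
        (∀ x ∈ E ⊔ F, i * x = x * i) ∧
        (∀ m ∈ Cfsg.commutatorSubmodule (E ⊔ F), (i : M →ₗ[k] M) m = -m) ∧
        (∀ m ∈ Cfsg.fixedSubmodule (E ⊔ F), (i : M →ₗ[k] M) m = m)) ∧
      IsCompl (Cfsg.fixedSubmodule (E ⊔ F)) (Cfsg.commutatorSubmodule (E ⊔ F))) := by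
  by_cases hz : ∃ n : ℕ, ((((σ : LinearMap.GeneralLinearGroup k M) : Module.End k M) - 1) *
      (((τ : LinearMap.GeneralLinearGroup k M) : Module.End k M) - 1) +
      (((τ : LinearMap.GeneralLinearGroup k M) : Module.End k M) - 1) *
      (((σ : LinearMap.GeneralLinearGroup k M) : Module.End k M) - 1)) ^ n = 0
  · exact Or.inl (qp_caseU hk2 hk3 hσ hτ hE hF hz)
  · obtain ⟨hVK, hWK⟩ := qp_nondeg hk2 hk3 hσ hτ hz
    obtain ⟨h1, h2⟩ := qp_invol_exists hk2 hk3 hσ hτ hE hF hVK hWK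
    exact Or.inr ⟨qp_rank_one hk2 hk3 hσ hτ hE hF hcE hcF hVK hWK, h1, h2⟩

end qp14a

end Cfsg.Agent.Lib.helper85
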