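import Cfsg.Agent.Lib.helper85.QP14

set_option autoImplicit false
set_option linter.unusedSimpArgs false

namespace Cfsg.Agent.Lib.helper85

open Polynomial

section qp15a
variable {k : Type*} [Field k] {M : Type*} [AddCommGroup M] [Module k M]
variable {G : Subgroup (LinearMap.GeneralLinearGroup k M)}

theorem qp_comm_val {a b : LinearMap.GeneralLinearGroup k M} {A B : Module.End k M}
    (ha : ((a : LinearMap.GeneralLinearGroup k M) : Module.End k M) = 1 + A)
    (hb : ((b : LinearMap.GeneralLinearGroup k M) : Module.End k M) = 1 + B)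
    (hA : A * A = 0) (hB : B * B = 0) (h1 : A * B * A = 0) (h2 : B * A * B = 0) :
    ((a * b * a⁻¹ * b⁻¹ : LinearMap.GeneralLinearGroup k M) : Module.End k M) = 1 + (A * B - B * A) := by
  rw [Units.val_mul, Units.val_mul, Units.val_mul, ha, hb, qp_inv_val ha hA, qp_inv_val hb hB]
  have e : (1 + A) * (1 + B) * (1 - A) * (1 - B) =
      1 + (A * B - B * A) - A * A + A * A * B - B * B + B * A * B - A * B * A - A * (B * B) + A * B * A * B := by
    noncomm_ring
  rw [e, hA, hB, h1, h2]
  simp

theorem qp_comm_N {A B : Module.End k M} (hNA : qpN G A) (hNB : qpN G B)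
    (h1 : A * B * A = 0) (h2 : B * A * B = 0) : qpN G (A * B - B * A) := by
  have hA := hNA.1
  have hB := hNB.1
  refine ⟨?_, fun c => ?_⟩
  · have e : (A * B - B * A) * (A * B - B * A) =
        A * B * A * B - A * (B * B) * A - B * (A * A) * B + B * A * B * A := by noncomm_ring
    rw [e, hA, hB, h1, h2]
    simp
  · obtain ⟨g, hg, hgv⟩ := hNA.2 c
    obtain ⟨b, hb, hbv⟩ := hNB.2 1
    rw [one_smul] at hbv
    refine ⟨g * b * g⁻¹ * b⁻¹, mul_mem (mul_mem (mul_mem hg hb) (inv_mem hg)) (inv_mem hb), ?_⟩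
    rw [qp_comm_val hgv hbv (by rw [smul_mul_assoc, mul_smul_comm, hA, smul_zero, smul_zero]) hB
      (by rw [smul_mul_assoc, smul_mul_assoc, mul_smul_comm, h1, smul_zero, smul_zero])
      (by rw [mul_smul_comm, smul_mul_assoc, h2, smul_zero])]
    rw [smul_sub, smul_mul_assoc, mul_smul_comm]

theorem qp_rank_restrict [FiniteDimensional k M] (A : Module.End k M) (W : Submodule k M) :
    Module.finrank k (W.map A) + Module.finrank k (W ⊓ LinearMap.ker A : Submodule k M) =
      Module.finrank k W := by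
  have h := LinearMap.finrank_range_add_finrank_ker (A.domRestrict W)
  rw [LinearMap.range_domRestrict, LinearMap.ker_domRestrict] at h
  rw [← h, ← Submodule.map_comap_subtype, Submodule.finrank_map_subtype_eq]

/-- if `A` commutes with one non-zero member of the class of `B₁` then it commutes with `B₁` -/
theorem qp_all_or_nothing [FiniteDimensional k M] {d : ℕ}
    (hmin : ∀ N : Module.End k M, qpN G N → N ≠ 0 → d ≤ Module.finrank k (LinearMap.range N))
    {A B₁ B₂ : Module.End k M} (hNA : qpN G A) (hNB₁ : qpN G B₁)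
    (rB : Module.finrank k (LinearMap.range B₁) = d)
    (h1 : A * B₁ * A = 0) (h2 : B₁ * A * B₁ = 0)
    (hr : LinearMap.range B₂ = LinearMap.range B₁) (hk : LinearMap.ker B₂ = LinearMap.ker B₁)
    (hc : A * B₂ = B₂ * A) : A * B₁ = B₁ * A := by
  by_contra hne
  have hC0 : A * B₁ - B₁ * A ≠ 0 := sub_ne_zero.mpr hne
  have hNC := qp_comm_N hNA hNB₁ h1 h2
  have hd := hmin _ hNC hC0
  have hAA : ∀ x : M, A (A x) = 0 := fun x => congrArg (fun f : Module.End k M => f x) hNA.1
  have h1' : ∀ x : M, A (B₁ (A x)) = 0 := fun x => congrArg (fun f : Module.End k M => f x) h1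
  have hc' : ∀ x : M, A (B₂ x) = B₂ (A x) := fun x => congrArg (fun f : Module.End k M => f x) hc
  -- the two pieces
  have hS : LinearMap.range (A * B₁) = (LinearMap.range B₁).map A := by
    rw [Module.End.mul_eq_comp, LinearMap.range_comp]
  have s1 : LinearMap.range (A * B₁ - B₁ * A) ≤ LinearMap.range (A * B₁) ⊔ LinearMap.range (B₁ * A) := by
    rintro _ ⟨m, rfl⟩
    rw [LinearMap.sub_apply]
    exact Submodule.sub_mem _ (Submodule.mem_sup_left ⟨m, rfl⟩) (Submodule.mem_sup_right ⟨m, rfl⟩)
  have s2 : LinearMap.range (B₁ * A) ≤ LinearMap.range B₁ ⊓ LinearMap.ker A := by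
    rintro _ ⟨m, rfl⟩
    exact ⟨⟨_, rfl⟩, LinearMap.mem_ker.mpr (h1' m)⟩
  have s3 := qp_rank_restrict A (LinearMap.range B₁)
  rw [← hS, rB] at s3
  have s4 := Submodule.finrank_sup_add_finrank_inf_eq (LinearMap.range (A * B₁)) (LinearMap.range (B₁ * A))
  have s5 := Submodule.finrank_mono s1
  have s6 := Submodule.finrank_mono s2
  have t1 : Module.finrank k (LinearMap.range (A * B₁) ⊓ LinearMap.range (B₁ * A) : Submodule k M) = 0 := by
    omega
  have t2 : LinearMap.range (B₁ * A) = LinearMap.range B₁ ⊓ LinearMap.ker A :=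
    Submodule.eq_of_le_of_finrank_le s2 (by omega)
  have t3 : LinearMap.range (A * B₁) ⊓ LinearMap.range (B₁ * A) = ⊥ := Submodule.finrank_eq_zero.mp t1
  have s7 : LinearMap.range (A * B₁) ≤ LinearMap.range B₁ ⊓ LinearMap.ker A := by
    rintro _ ⟨m, rfl⟩
    have hm : B₁ m ∈ LinearMap.range B₂ := by rw [hr]; exact ⟨m, rfl⟩
    obtain ⟨m', hm'⟩ := hm
    refine ⟨?_, LinearMap.mem_ker.mpr (hAA _)⟩
    rw [Module.End.mul_apply, ← hm', hc', ← hr]
    exact ⟨_, rfl⟩
  have t4 : LinearMap.range (A * B₁) = ⊥ := by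
    rw [eq_bot_iff, ← t3]
    exact le_inf le_rfl (by rw [t2]; exact s7)
  have t5 : A * B₁ = 0 := LinearMap.range_eq_bot.mp t4
  have t5' : ∀ x : M, A (B₁ x) = 0 := fun x => congrArg (fun f : Module.End k M => f x) t5
  have t6 : ∀ x : M, B₁ (A x) = 0 := by
    intro x
    have hx : A x ∈ LinearMap.ker B₂ := by
      rw [LinearMap.mem_ker, ← hc']
      have hm : B₂ x ∈ LinearMap.range B₁ := by rw [← hr]; exact ⟨x, rfl⟩
      obtain ⟨m', hm'⟩ := hm
      rw [← hm', t5']
    rw [hk] at hx
    exact LinearMap.mem_ker.mp hx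
  apply hne
  rw [t5]
  apply LinearMap.ext
  intro x
  rw [LinearMap.zero_apply, Module.End.mul_apply, t6]

/-- an element normalising the class of `B` commutes with `B` in the degenerate case -/
theorem qp_norm_comm [FiniteDimensional k M] {d : ℕ}
    (hmin : ∀ N : Module.End k M, qpN G N → N ≠ 0 → d ≤ Module.finrank k (LinearMap.range N))
    {A B : Module.End k M} (hNA : qpN G A) (hNB : qpN G B)
    (rB : Module.finrank k (LinearMap.range B) = d)
    (h1 : A * B * A = 0) (h2 : B * A * B = 0)
    (hr : LinearMap.range (B + (A * B - B * A)) = LinearMap.range B)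
    (hk : LinearMap.ker (B + (A * B - B * A)) = LinearMap.ker B) : A * B = B * A := by
  by_contra hne
  have hC0 : A * B - B * A ≠ 0 := sub_ne_zero.mpr hne
  have hNC := qp_comm_N hNA hNB h1 h2
  have hd := hmin _ hNC hC0
  obtain ⟨C, hC⟩ : ∃ C, C = A * B - B * A := ⟨_, rfl⟩
  rw [← hC] at hC0 hNC hd hr hk
  have c1 : LinearMap.range C ≤ LinearMap.range B := by
    rintro _ ⟨m, rfl⟩
    have e : C m = (B + C) m - B m := by rw [LinearMap.add_apply]; abel
    rw [e]
    refine Submodule.sub_mem _ ?_ ⟨m, rfl⟩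
    rw [← hr]
    exact ⟨m, rfl⟩
  have c2 : LinearMap.range C = LinearMap.range B := Submodule.eq_of_le_of_finrank_le c1 (by rw [rB]; exact hd)
  have c3 : LinearMap.ker B ≤ LinearMap.ker C := by
    intro m hm
    have hm' : m ∈ LinearMap.ker (B + C) := by rw [hk]; exact hm
    rw [LinearMap.mem_ker] at hm hm' ⊢
    rw [LinearMap.add_apply, hm, zero_add] at hm'
    exact hm'
  have c4 : LinearMap.ker C = LinearMap.ker B := by
    refine (Submodule.eq_of_le_of_finrank_le c3 ?_).symm
    have e1 := LinearMap.finrank_range_add_finrank_ker C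
    have e2 := LinearMap.finrank_range_add_finrank_ker B
    rw [c2] at e1
    omega
  have hAC : A * C = 0 := by
    have e : A * (A * B - B * A) = A * A * B - A * B * A := by noncomm_ring
    rw [hC, e, hNA.1, h1]
    simp
  have hCA : C * A = 0 := by
    have e : (A * B - B * A) * A = A * B * A - B * (A * A) := by noncomm_ring
    rw [hC, e, hNA.1, h1]
    simp
  have hAB : A * B = 0 := by
    apply LinearMap.ext
    intro m
    have hm : B m ∈ LinearMap.range C := by rw [c2]; exact ⟨m, rfl⟩
    obtain ⟨m', hm'⟩ := hm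
    rw [Module.End.mul_apply, ← hm', LinearMap.zero_apply]
    exact congrArg (fun f : Module.End k M => f m') hAC
  have hBA : B * A = 0 := by
    apply LinearMap.ext
    intro m
    have hm : A m ∈ LinearMap.ker C := LinearMap.mem_ker.mpr (congrArg (fun f : Module.End k M => f m) hCA)
    rw [c4] at hm
    rw [Module.End.mul_apply, LinearMap.zero_apply]
    exact LinearMap.mem_ker.mp hm
  exact hne (by rw [hAB, hBA])

end qp15a

end Cfsg.Agent.Lib.helper85
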