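import Cfsg.Agent.Lib.helper85.QP15

set_option autoImplicit false
set_option linter.unusedSimpArgs false

namespace Cfsg.Agent.Lib.helper85

open Polynomial

section qp16a
variable {k : Type*} [Field k] {M : Type*} [AddCommGroup M] [Module k M]
variable {G : Subgroup (LinearMap.GeneralLinearGroup k M)}

theorem qp_val_comm_iff {a b : LinearMap.GeneralLinearGroup k M} {A B : Module.End k M}
    (ha : ((a : LinearMap.GeneralLinearGroup k M) : Module.End k M) = 1 + A)
    (hb : ((b : LinearMap.GeneralLinearGroup k M) : Module.End k M) = 1 + B) :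
    a * b = b * a ↔ A * B = B * A := by
  have e1 : (1 + A) * (1 + B) = 1 + A + B + A * B := by noncomm_ring
  have e2 : (1 + B) * (1 + A) = 1 + A + B + B * A := by noncomm_ring
  constructor
  · intro h
    have h' := congrArg Units.val h
    rw [Units.val_mul, Units.val_mul, ha, hb, e1, e2] at h'
    exact add_left_cancel h'
  · intro h
    apply Units.ext
    rw [Units.val_mul, Units.val_mul, ha, hb, e1, e2, h]

theorem qp_conj_apply (u y : LinearMap.GeneralLinearGroup k M) (x : M) :
    (((u * y * u⁻¹ : LinearMap.GeneralLinearGroup k M) : Module.End k M) - 1)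
        (((u : LinearMap.GeneralLinearGroup k M) : Module.End k M) x) =
      ((u : LinearMap.GeneralLinearGroup k M) : Module.End k M)
        ((((y : LinearMap.GeneralLinearGroup k M) : Module.End k M) - 1) x) := by
  have huinv : ((u⁻¹ : LinearMap.GeneralLinearGroup k M) : Module.End k M)
      (((u : LinearMap.GeneralLinearGroup k M) : Module.End k M) x) = x :=
    congrArg (fun f : Module.End k M => f x) (Units.inv_mul u)
  rw [LinearMap.sub_apply, Units.val_mul, Units.val_mul, Module.End.mul_apply, Module.End.mul_apply, huinv,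
    Module.End.one_apply, ← map_sub, LinearMap.sub_apply, Module.End.one_apply]

theorem qp_conj_val {a b : LinearMap.GeneralLinearGroup k M} {A B : Module.End k M}
    (ha : ((a : LinearMap.GeneralLinearGroup k M) : Module.End k M) = 1 + A)
    (hb : ((b : LinearMap.GeneralLinearGroup k M) : Module.End k M) = 1 + B)
    (hA : A * A = 0) (h1 : A * B * A = 0) :
    ((a * b * a⁻¹ : LinearMap.GeneralLinearGroup k M) : Module.End k M) - 1 = B + (A * B - B * A) := by
  rw [Units.val_mul, Units.val_mul, ha, hb, qp_inv_val ha hA]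
  have e : (1 + A) * (1 + B) * (1 - A) - 1 = B + (A * B - B * A) - A * A - A * B * A := by noncomm_ring
  rw [e, hA, h1, sub_zero, sub_zero]

theorem qp_all_commute [FiniteDimensional k M] (hk2 : ringChar k ≠ 2) (hk3 : Nat.card k ≠ 3)
    {σ τ : LinearMap.GeneralLinearGroup k M}
    (hσ : σ ∈ Cfsg.minimalQuadraticElements G) (hτ : τ ∈ Cfsg.minimalQuadraticElements G)
    (hz : ∃ n : ℕ, ((((σ : LinearMap.GeneralLinearGroup k M) : Module.End k M) - 1) *
      (((τ : LinearMap.GeneralLinearGroup k M) : Module.End k M) - 1) +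
      (((τ : LinearMap.GeneralLinearGroup k M) : Module.End k M) - 1) *
      (((σ : LinearMap.GeneralLinearGroup k M) : Module.End k M) - 1)) ^ n = 0)
    {a b : LinearMap.GeneralLinearGroup k M} (ha : a ∈ Cfsg.sameActionClass G σ)
    (hb : b ∈ Cfsg.sameActionClass G τ)
    (hab : (((a : LinearMap.GeneralLinearGroup k M) : Module.End k M) - 1) *
        (((b : LinearMap.GeneralLinearGroup k M) : Module.End k M) - 1) =
      (((b : LinearMap.GeneralLinearGroup k M) : Module.End k M) - 1) *
        (((a : LinearMap.GeneralLinearGroup k M) : Module.End k M) - 1))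
    {a' b' : LinearMap.GeneralLinearGroup k M} (ha' : a' ∈ Cfsg.sameActionClass G σ)
    (hb' : b' ∈ Cfsg.sameActionClass G τ) :
    (((a' : LinearMap.GeneralLinearGroup k M) : Module.End k M) - 1) *
        (((b' : LinearMap.GeneralLinearGroup k M) : Module.End k M) - 1) =
      (((b' : LinearMap.GeneralLinearGroup k M) : Module.End k M) - 1) *
        (((a' : LinearMap.GeneralLinearGroup k M) : Module.End k M) - 1) := by
  have hmin := qp_hmin_of_min hσ
  have rτ : Module.finrank k (LinearMap.range (((τ : LinearMap.GeneralLinearGroup k M) : Module.End k M) - 1)) =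
      Cfsg.commutatorRank σ :=
    le_antisymm (hτ.2 σ hσ.1) (hσ.2 τ hτ.1)
  obtain ⟨hNa, hka, hra⟩ := qp_class_elim ha
  obtain ⟨hNb, hkb, hrb⟩ := qp_class_elim hb
  obtain ⟨hNa', hka', hra'⟩ := qp_class_elim ha'
  obtain ⟨hNb', hkb', hrb'⟩ := qp_class_elim hb'
  obtain ⟨t1, t2⟩ := qp_triple_zero hk2 hk3 hσ hτ hz ha hb'
  obtain ⟨t3, t4⟩ := qp_triple_zero hk2 hk3 hσ hτ hz ha' hb'
  have s1 := qp_all_or_nothing hmin hNa hNb' (by rw [hrb']; exact rτ) t1 t2 (hrb.trans hrb'.symm)
    (hkb.trans hkb'.symm) hab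
  have s2 := qp_all_or_nothing hmin hNb' hNa' (by rw [hra']; rfl) t4 t3 (hra.trans hra'.symm)
    (hka.trans hka'.symm) s1.symm
  exact s2.symm

/-- the statement of S5073 for two classes -/
theorem qp_commute_final [FiniteDimensional k M] (hk2 : ringChar k ≠ 2) (hk3 : Nat.card k ≠ 3)
    {σ τ : LinearMap.GeneralLinearGroup k M}
    (hσ : σ ∈ Cfsg.minimalQuadraticElements G) (hτ : τ ∈ Cfsg.minimalQuadraticElements G)
    {E F : Subgroup (LinearMap.GeneralLinearGroup k M)}
    (hE : ∀ x, x ∈ E ↔ x ∈ Cfsg.sameActionClass G σ ∨ x = 1)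
    (hF : ∀ x, x ∈ F ↔ x ∈ Cfsg.sameActionClass G τ ∨ x = 1)
    (h : (∃ e ∈ E, e ≠ 1 ∧ ∃ f ∈ F, f ≠ 1 ∧ e * f = f * e) ∨
      E ⊓ Subgroup.normalizer (F : Set (LinearMap.GeneralLinearGroup k M)) ≠ ⊥) :
    ⁅E, F⁆ = ⊥ := by
  have hne1 : ∀ {ρ x : LinearMap.GeneralLinearGroup k M}, x ∈ Cfsg.sameActionClass G ρ → x ≠ 1 := by
    intro ρ x hx
    rintro rfl
    exact hx.1.1.2.1.2 (by rw [Units.val_one, sub_self])
  have hσc : σ ∈ Cfsg.sameActionClass G σ := ⟨hσ, rfl, rfl⟩
  have hτc : τ ∈ Cfsg.sameActionClass G τ := ⟨hτ, rfl, rfl⟩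
  have hnorm : E ⊓ Subgroup.normalizer (F : Set (LinearMap.GeneralLinearGroup k M)) ≠ ⊥ →
      ∃ e, e ∈ Cfsg.sameActionClass G σ ∧ ∀ f ∈ Cfsg.sameActionClass G τ, e * f * e⁻¹ ∈ Cfsg.sameActionClass G τ := by
    intro hn
    obtain ⟨e, he, he1⟩ : ∃ e ∈ E ⊓ Subgroup.normalizer (F : Set (LinearMap.GeneralLinearGroup k M)), e ≠ 1 := by
      by_contra hcon
      apply hn
      rw [Subgroup.eq_bot_iff_forall]
      intro x hx
      by_contra hx1
      exact hcon ⟨x, hx, hx1⟩
    obtain ⟨heE, heN⟩ := Subgroup.mem_inf.mp he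
    refine ⟨e, ((hE e).mp heE).resolve_right he1, fun f hf => ?_⟩
    have h3 : e * f * e⁻¹ ∈ F := (Subgroup.mem_normalizer_iff.mp heN f).mp ((hF f).mpr (Or.inl hf))
    have h4 : e * f * e⁻¹ ≠ 1 := fun h => hne1 hf (conj_eq_one_iff.mp h)
    exact ((hF _).mp h3).resolve_right h4
  by_cases hz : ∃ n : ℕ, ((((σ : LinearMap.GeneralLinearGroup k M) : Module.End k M) - 1) *
      (((τ : LinearMap.GeneralLinearGroup k M) : Module.End k M) - 1) +
      (((τ : LinearMap.GeneralLinearGroup k M) : Module.End k M) - 1) *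
      (((σ : LinearMap.GeneralLinearGroup k M) : Module.End k M) - 1)) ^ n = 0
  · have hmin := qp_hmin_of_min hσ
    have rτ : Module.finrank k (LinearMap.range (((τ : LinearMap.GeneralLinearGroup k M) : Module.End k M) - 1)) =
        Cfsg.commutatorRank σ :=
      le_antisymm (hτ.2 σ hσ.1) (hσ.2 τ hτ.1)
    have hpair : ∃ a ∈ Cfsg.sameActionClass G σ, ∃ b ∈ Cfsg.sameActionClass G τ,
        (((a : LinearMap.GeneralLinearGroup k M) : Module.End k M) - 1) *
          (((b : LinearMap.GeneralLinearGroup k M) : Module.End k M) - 1) =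
        (((b : LinearMap.GeneralLinearGroup k M) : Module.End k M) - 1) *
          (((a : LinearMap.GeneralLinearGroup k M) : Module.End k M) - 1) := by
      rcases h with ⟨e, he, he1, f, hf, hf1, hef⟩ | hn
      · have hec := ((hE e).mp he).resolve_right he1
        have hfc := ((hF f).mp hf).resolve_right hf1
        exact ⟨e, hec, f, hfc, (qp_val_comm_iff qp_val_of_sub qp_val_of_sub).mp hef⟩
      · obtain ⟨e, hec, hef⟩ := hnorm hn
        have h5 := hef τ hτc
        obtain ⟨hNe, hke, hre⟩ := qp_class_elim hec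
        have hNτ := qpN_of_quad hτ.1
        obtain ⟨t1, t2⟩ := qp_triple_zero hk2 hk3 hσ hτ hz hec hτc
        have hv := qp_conj_val (qp_val_of_sub (e := e)) (qp_val_of_sub (e := τ)) hNe.1 t1
        exact ⟨e, hec, τ, hτc, qp_norm_comm hmin hNe hNτ rτ t1 t2 (by rw [← hv]; exact h5.2.2)
          (by rw [← hv]; exact h5.2.1)⟩
    obtain ⟨a, ha, b, hb, hab⟩ := hpair
    rw [Subgroup.commutator_eq_bot_iff_le_centralizer]
    intro x hx
    rw [Subgroup.mem_centralizer_iff]
    intro y hy
    rcases (hE x).mp hx with hxc | rfl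
    · rcases (hF y).mp hy with hyc | rfl
      · exact ((qp_val_comm_iff qp_val_of_sub qp_val_of_sub).mpr
          (qp_all_commute hk2 hk3 hσ hτ hz ha hb hab hxc hyc)).symm
      · rw [one_mul, mul_one]
    · rw [one_mul, mul_one]
  · exfalso
    obtain ⟨hVK, hWK⟩ := qp_nondeg hk2 hk3 hσ hτ hz
    rcases h with ⟨e, he, he1, f, hf, hf1, hef⟩ | hn
    · have hec := ((hE e).mp he).resolve_right he1
      have hfc := ((hF f).mp hf).resolve_right hf1
      have hAB := (qp_val_comm_iff qp_val_of_sub qp_val_of_sub).mp hef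
      obtain ⟨hNe, hke, hre⟩ := qp_class_elim hec
      obtain ⟨hNf, hkf, hrf⟩ := qp_class_elim hfc
      apply hec.1.1.2.1.2
      obtain ⟨A, hA⟩ : ∃ A, A = ((e : LinearMap.GeneralLinearGroup k M) : Module.End k M) - 1 := ⟨_, rfl⟩
      obtain ⟨B, hB⟩ : ∃ B, B = ((f : LinearMap.GeneralLinearGroup k M) : Module.End k M) - 1 := ⟨_, rfl⟩
      rw [← hA, ← hB] at hAB
      rw [← hA] at hNe hke hre
      rw [← hB] at hNf hkf hrf
      show ((e : LinearMap.GeneralLinearGroup k M) : Module.End k M) - 1 = 0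
      rw [← hA]
      have hAA : ∀ x : M, A (A x) = 0 := fun x => congrArg (fun f : Module.End k M => f x) hNe.1
      have hAB' : ∀ x : M, A (B x) = B (A x) := fun x => congrArg (fun f : Module.End k M => f x) hAB
      apply LinearMap.ext
      intro m
      have h1 : B (A m) ∈ (⊥ : Submodule k M) := by
        rw [← hWK]
        refine ⟨by rw [← hrf]; exact ⟨_, rfl⟩, ?_⟩
        rw [← hke]
        refine LinearMap.mem_ker.mpr ?_
        rw [hAB', hAA, map_zero]
      have h1' : B (A m) = 0 := (Submodule.mem_bot k).mp h1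
      have h2 : A m ∈ (⊥ : Submodule k M) := by
        rw [← hVK]
        refine ⟨by rw [← hre]; exact ⟨_, rfl⟩, ?_⟩
        rw [← hkf]
        exact LinearMap.mem_ker.mpr h1'
      exact (Submodule.mem_bot k).mp h2
    · obtain ⟨e, hec, hef⟩ := hnorm hn
      obtain ⟨b, hb, i1, i2⟩ := qp_partner hk2 hk3 hσ hτ hVK hWK hec
      have h5 := hef b hb
      obtain ⟨hNe, hke, hre⟩ := qp_class_elim hec
      apply hec.1.1.2.1.2
      obtain ⟨A, hA⟩ : ∃ A, A = ((e : LinearMap.GeneralLinearGroup k M) : Module.End k M) - 1 := ⟨_, rfl⟩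
      obtain ⟨B, hB⟩ : ∃ B, B = ((b : LinearMap.GeneralLinearGroup k M) : Module.End k M) - 1 := ⟨_, rfl⟩
      have hrb := hb.2.2
      rw [← hA, ← hB] at i1
      rw [← hA] at hNe hke hre
      rw [← hB] at hrb
      show ((e : LinearMap.GeneralLinearGroup k M) : Module.End k M) - 1 = 0
      rw [← hA]
      have hAA : ∀ x : M, A (A x) = 0 := fun x => congrArg (fun f : Module.End k M => f x) hNe.1
      have hABx : ∀ x : M, A (B x) = 0 := by
        intro x
        have h6 : ((e : LinearMap.GeneralLinearGroup k M) : Module.End k M) (B x) ∈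
            LinearMap.range (((τ : LinearMap.GeneralLinearGroup k M) : Module.End k M) - 1) := by
          rw [← h5.2.2, hB]
          exact ⟨_, qp_conj_apply e b x⟩
        have h7 : A (B x) ∈ (⊥ : Submodule k M) := by
          rw [← hWK]
          refine ⟨?_, ?_⟩
          · have e1 : A (B x) = ((e : LinearMap.GeneralLinearGroup k M) : Module.End k M) (B x) - B x := by
              rw [hA, LinearMap.sub_apply, Module.End.one_apply]
            rw [e1]
            refine Submodule.sub_mem _ h6 ?_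
            rw [← hrb]
            exact ⟨x, rfl⟩
          · rw [← hke]
            exact LinearMap.mem_ker.mpr (hAA _)
        exact (Submodule.mem_bot k).mp h7
      apply LinearMap.ext
      intro m
      have h8 := congrArg (fun f : Module.End k M => f m) i1
      simp only [Module.End.mul_apply] at h8
      rw [← h8, hABx, LinearMap.zero_apply]

end qp16a

end Cfsg.Agent.Lib.helper85
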