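import Cfsg.Agent.Lib.helper85.QP16

set_option autoImplicit false
set_option linter.unusedSimpArgs false

namespace Cfsg.Agent.Lib.helper85

section qp17a
variable {k : Type*} [Field k] {M : Type*} [AddCommGroup M] [Module k M]
variable {G : Subgroup (LinearMap.GeneralLinearGroup k M)}

/-- structure of a non-commuting degenerate pair -/
theorem qp_ustruct [FiniteDimensional k M] {d : ℕ}
    (hmin : ∀ N : Module.End k M, qpN G N → N ≠ 0 → d ≤ Module.finrank k (LinearMap.range N))
    {A B : Module.End k M} (hNA : qpN G A) (hNB : qpN G B)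
    (rA : Module.finrank k (LinearMap.range A) = d) (rB : Module.finrank k (LinearMap.range B) = d)
    (h1 : A * B * A = 0) (h2 : B * A * B = 0) (hne : A * B ≠ B * A) :
    LinearMap.range (A * B) ⊓ LinearMap.range (B * A) = ⊥ ∧
    LinearMap.range (A * B - B * A) = LinearMap.range (A * B) ⊔ LinearMap.range (B * A) ∧
    Module.finrank k (LinearMap.range (A * B - B * A)) = d ∧
    LinearMap.range (B * A) = LinearMap.range B ⊓ LinearMap.ker A ∧
    LinearMap.range (A * B) = LinearMap.range A ⊓ LinearMap.ker B := by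
  have hC0 : A * B - B * A ≠ 0 := sub_ne_zero.mpr hne
  have hNC := qp_comm_N hNA hNB h1 h2
  have hd := hmin _ hNC hC0
  have h1' : ∀ x : M, A (B (A x)) = 0 := fun x => congrArg (fun f : Module.End k M => f x) h1
  have h2' : ∀ x : M, B (A (B x)) = 0 := fun x => congrArg (fun f : Module.End k M => f x) h2
  have hS : LinearMap.range (A * B) = (LinearMap.range B).map A := by
    rw [Module.End.mul_eq_comp, LinearMap.range_comp]
  have hT : LinearMap.range (B * A) = (LinearMap.range A).map B := by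
    rw [Module.End.mul_eq_comp, LinearMap.range_comp]
  have s1 : LinearMap.range (A * B - B * A) ≤ LinearMap.range (A * B) ⊔ LinearMap.range (B * A) := by
    rintro _ ⟨m, rfl⟩
    rw [LinearMap.sub_apply]
    exact Submodule.sub_mem _ (Submodule.mem_sup_left ⟨m, rfl⟩) (Submodule.mem_sup_right ⟨m, rfl⟩)
  have s2 : LinearMap.range (B * A) ≤ LinearMap.range B ⊓ LinearMap.ker A := by
    rintro _ ⟨m, rfl⟩
    exact ⟨⟨_, rfl⟩, LinearMap.mem_ker.mpr (h1' m)⟩
  have s2' : LinearMap.range (A * B) ≤ LinearMap.range A ⊓ LinearMap.ker B := by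
    rintro _ ⟨m, rfl⟩
    exact ⟨⟨_, rfl⟩, LinearMap.mem_ker.mpr (h2' m)⟩
  have s3 := qp_rank_restrict A (LinearMap.range B)
  rw [← hS, rB] at s3
  have s3' := qp_rank_restrict B (LinearMap.range A)
  rw [← hT, rA] at s3'
  have s4 := Submodule.finrank_sup_add_finrank_inf_eq (LinearMap.range (A * B)) (LinearMap.range (B * A))
  have s5 := Submodule.finrank_mono s1
  have s6 := Submodule.finrank_mono s2
  have s6' := Submodule.finrank_mono s2'
  refine ⟨Submodule.finrank_eq_zero.mp (by omega), Submodule.eq_of_le_of_finrank_le s1 (by omega), by omega,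
    Submodule.eq_of_le_of_finrank_le s2 (by omega), Submodule.eq_of_le_of_finrank_le s2' (by omega)⟩

theorem qp_ustruct_ker [FiniteDimensional k M] {d : ℕ}
    (hmin : ∀ N : Module.End k M, qpN G N → N ≠ 0 → d ≤ Module.finrank k (LinearMap.range N))
    {A B : Module.End k M} (hNA : qpN G A) (hNB : qpN G B)
    (rA : Module.finrank k (LinearMap.range A) = d) (rB : Module.finrank k (LinearMap.range B) = d)
    (h1 : A * B * A = 0) (h2 : B * A * B = 0) (hne : A * B ≠ B * A) {m : M}
    (hm : (A * B - B * A) m = 0) :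
    A (B m) = 0 ∧ B (A m) = 0 ∧ (∃ y : M, B (A y) = B m) ∧ (∃ y : M, A (B y) = A m) := by
  obtain ⟨u1, u2, u3, u4, u5⟩ := qp_ustruct hmin hNA hNB rA rB h1 h2 hne
  have e : A (B m) = B (A m) := by
    rw [LinearMap.sub_apply, Module.End.mul_apply, Module.End.mul_apply, sub_eq_zero] at hm
    exact hm
  have h0 : A (B m) ∈ (⊥ : Submodule k M) := by
    rw [← u1]
    exact ⟨⟨m, rfl⟩, by rw [e]; exact ⟨m, rfl⟩⟩
  have hAB : A (B m) = 0 := (Submodule.mem_bot k).mp h0
  have hBA : B (A m) = 0 := by rw [← e]; exact hAB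
  refine ⟨hAB, hBA, ?_, ?_⟩
  · have h3 : B m ∈ LinearMap.range (B * A) := by
      rw [u4]
      exact ⟨⟨m, rfl⟩, LinearMap.mem_ker.mpr hAB⟩
    obtain ⟨y, hy⟩ := h3
    exact ⟨y, hy⟩
  · have h3 : A m ∈ LinearMap.range (A * B) := by
      rw [u5]
      exact ⟨⟨m, rfl⟩, LinearMap.mem_ker.mpr hBA⟩
    obtain ⟨y, hy⟩ := h3
    exact ⟨y, hy⟩

theorem qp_min_of_N {σ : LinearMap.GeneralLinearGroup k M} (hσ : σ ∈ Cfsg.minimalQuadraticElements G)
    {N : Module.End k M} (hN : qpN G N) (hN0 : N ≠ 0)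
    (hr : Module.finrank k (LinearMap.range N) = Cfsg.commutatorRank σ)
    {b : LinearMap.GeneralLinearGroup k M}
    (hb : ((b : LinearMap.GeneralLinearGroup k M) : Module.End k M) = 1 + N) :
    b ∈ Cfsg.minimalQuadraticElements G := by
  have e' : ((b : LinearMap.GeneralLinearGroup k M) : M →ₗ[k] M) - 1 = N := by
    rw [show ((b : LinearMap.GeneralLinearGroup k M) : M →ₗ[k] M) = 1 + N from hb]
    exact add_sub_cancel_left 1 N
  have hbG : b ∈ G := by
    obtain ⟨g, hg, e⟩ := hN.2 1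
    have : b = g := Units.ext (by rw [hb, e, one_smul])
    rw [this]
    exact hg
  refine ⟨⟨hbG, ⟨?_, ?_⟩, ?_⟩, ?_⟩
  · rw [e']; exact hN.1
  · rw [e']; exact hN0
  · rintro x ⟨c, hc⟩
    rw [e'] at hc
    obtain ⟨g', hg', e2⟩ := hN.2 c
    have : x = g' := Units.ext (hc.trans e2.symm)
    rw [this]
    exact hg'
  · intro τ' hτ'
    calc Cfsg.commutatorRank b = Module.finrank k (LinearMap.range N) := by
          show Module.finrank k (LinearMap.range (((b : LinearMap.GeneralLinearGroup k M) : M →ₗ[k] M) - 1)) = _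
          rw [e']
      _ = Cfsg.commutatorRank σ := hr
      _ ≤ Cfsg.commutatorRank τ' := hσ.2 τ' hτ'

end qp17a

section qp17b
variable {k : Type*} [Field k] {M : Type*} [AddCommGroup M] [Module k M]
variable {G : Subgroup (LinearMap.GeneralLinearGroup k M)}

/-- data of a class pair in the degenerate case -/
theorem qp_pair_data [FiniteDimensional k M] (hk2 : ringChar k ≠ 2) (hk3 : Nat.card k ≠ 3)
    {σ τ : LinearMap.GeneralLinearGroup k M}
    (hσ : σ ∈ Cfsg.minimalQuadraticElements G) (hτ : τ ∈ Cfsg.minimalQuadraticElements G)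
    (hz : ∃ n : ℕ, ((((σ : LinearMap.GeneralLinearGroup k M) : Module.End k M) - 1) *
      (((τ : LinearMap.GeneralLinearGroup k M) : Module.End k M) - 1) +
      (((τ : LinearMap.GeneralLinearGroup k M) : Module.End k M) - 1) *
      (((σ : LinearMap.GeneralLinearGroup k M) : Module.End k M) - 1)) ^ n = 0)
    {a b : LinearMap.GeneralLinearGroup k M} (ha : a ∈ Cfsg.sameActionClass G σ)
    (hb : b ∈ Cfsg.sameActionClass G τ) :
    qpN G (((a : LinearMap.GeneralLinearGroup k M) : Module.End k M) - 1) ∧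
    qpN G (((b : LinearMap.GeneralLinearGroup k M) : Module.End k M) - 1) ∧
    Module.finrank k (LinearMap.range (((a : LinearMap.GeneralLinearGroup k M) : Module.End k M) - 1)) =
      Cfsg.commutatorRank σ ∧
    Module.finrank k (LinearMap.range (((b : LinearMap.GeneralLinearGroup k M) : Module.End k M) - 1)) =
      Cfsg.commutatorRank σ ∧
    (((a : LinearMap.GeneralLinearGroup k M) : Module.End k M) - 1) *
        (((b : LinearMap.GeneralLinearGroup k M) : Module.End k M) - 1) *
        (((a : LinearMap.GeneralLinearGroup k M) : Module.End k M) - 1) = 0 ∧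
    (((b : LinearMap.GeneralLinearGroup k M) : Module.End k M) - 1) *
        (((a : LinearMap.GeneralLinearGroup k M) : Module.End k M) - 1) *
        (((b : LinearMap.GeneralLinearGroup k M) : Module.End k M) - 1) = 0 := by
  obtain ⟨hNa, hka, hra⟩ := qp_class_elim ha
  obtain ⟨hNb, hkb, hrb⟩ := qp_class_elim hb
  have rτ : Module.finrank k (LinearMap.range (((τ : LinearMap.GeneralLinearGroup k M) : Module.End k M) - 1)) =
      Cfsg.commutatorRank σ :=
    le_antisymm (hτ.2 σ hσ.1) (hσ.2 τ hτ.1)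
  obtain ⟨t1, t2⟩ := qp_triple_zero hk2 hk3 hσ hτ hz ha hb
  exact ⟨hNa, hNb, by rw [hra]; rfl, by rw [hrb]; exact rτ, t1, t2⟩

/-- the kernel of a commutator does not depend on the pair -/
theorem qp_comm_ker_le [FiniteDimensional k M] (hk2 : ringChar k ≠ 2) (hk3 : Nat.card k ≠ 3)
    {σ τ : LinearMap.GeneralLinearGroup k M}
    (hσ : σ ∈ Cfsg.minimalQuadraticElements G) (hτ : τ ∈ Cfsg.minimalQuadraticElements G)
    (hz : ∃ n : ℕ, ((((σ : LinearMap.GeneralLinearGroup k M) : Module.End k M) - 1) *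
      (((τ : LinearMap.GeneralLinearGroup k M) : Module.End k M) - 1) +
      (((τ : LinearMap.GeneralLinearGroup k M) : Module.End k M) - 1) *
      (((σ : LinearMap.GeneralLinearGroup k M) : Module.End k M) - 1)) ^ n = 0)
    {a b a' b' : LinearMap.GeneralLinearGroup k M} (ha : a ∈ Cfsg.sameActionClass G σ)
    (hb : b ∈ Cfsg.sameActionClass G τ) (ha' : a' ∈ Cfsg.sameActionClass G σ)
    (hb' : b' ∈ Cfsg.sameActionClass G τ)
    (hab : (((a : LinearMap.GeneralLinearGroup k M) : Module.End k M) - 1) *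
        (((b : LinearMap.GeneralLinearGroup k M) : Module.End k M) - 1) ≠
      (((b : LinearMap.GeneralLinearGroup k M) : Module.End k M) - 1) *
        (((a : LinearMap.GeneralLinearGroup k M) : Module.End k M) - 1)) :
    LinearMap.ker ((((a : LinearMap.GeneralLinearGroup k M) : Module.End k M) - 1) *
        (((b : LinearMap.GeneralLinearGroup k M) : Module.End k M) - 1) -
      (((b : LinearMap.GeneralLinearGroup k M) : Module.End k M) - 1) *
        (((a : LinearMap.GeneralLinearGroup k M) : Module.End k M) - 1)) ≤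
    LinearMap.ker ((((a' : LinearMap.GeneralLinearGroup k M) : Module.End k M) - 1) *
        (((b' : LinearMap.GeneralLinearGroup k M) : Module.End k M) - 1) -
      (((b' : LinearMap.GeneralLinearGroup k M) : Module.End k M) - 1) *
        (((a' : LinearMap.GeneralLinearGroup k M) : Module.End k M) - 1)) := by
  have hmin := qp_hmin_of_min hσ
  obtain ⟨hNa, hNb, rA, rB, t1, t2⟩ := qp_pair_data hk2 hk3 hσ hτ hz ha hb
  obtain ⟨-, -, -, -, t1', t2'⟩ := qp_pair_data hk2 hk3 hσ hτ hz ha' hb'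
  obtain ⟨-, hka, hra⟩ := qp_class_elim ha
  obtain ⟨-, hkb, hrb⟩ := qp_class_elim hb
  obtain ⟨-, hka', hra'⟩ := qp_class_elim ha'
  obtain ⟨-, hkb', hrb'⟩ := qp_class_elim hb'
  obtain ⟨A, hA⟩ : ∃ A, A = ((a : LinearMap.GeneralLinearGroup k M) : Module.End k M) - 1 := ⟨_, rfl⟩
  obtain ⟨B, hB⟩ : ∃ B, B = ((b : LinearMap.GeneralLinearGroup k M) : Module.End k M) - 1 := ⟨_, rfl⟩
  obtain ⟨A', hA'⟩ : ∃ A', A' = ((a' : LinearMap.GeneralLinearGroup k M) : Module.End k M) - 1 := ⟨_, rfl⟩
  obtain ⟨B', hB'⟩ : ∃ B', B' = ((b' : LinearMap.GeneralLinearGroup k M) : Module.End k M) - 1 := ⟨_, rfl⟩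
  rw [← hA, ← hB] at hab t1 t2 ⊢
  rw [← hA] at hNa rA hka hra
  rw [← hB] at hNb rB hkb hrb
  rw [← hA', ← hB'] at t1' t2' ⊢
  rw [← hA'] at hka' hra'
  rw [← hB'] at hkb' hrb'
  have t1'' : ∀ x : M, A' (B' (A' x)) = 0 := fun x => congrArg (fun f : Module.End k M => f x) t1'
  have t2'' : ∀ x : M, B' (A' (B' x)) = 0 := fun x => congrArg (fun f : Module.End k M => f x) t2'
  intro m hm
  rw [LinearMap.mem_ker] at hm
  obtain ⟨-, -, ⟨y, hy⟩, ⟨y', hy'⟩⟩ := qp_ustruct_ker hmin hNa hNb rA rB t1 t2 hab hm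
  -- `B' m = B' (A y)` and `A' m = A' (B y')`
  have e1 : B' m = B' (A y) := by
    have h0 : m - A y ∈ LinearMap.ker B' := by
      rw [hkb', ← hkb, LinearMap.mem_ker, map_sub, hy, sub_self]
    rw [LinearMap.mem_ker, map_sub, sub_eq_zero] at h0
    exact h0
  have e2 : A' m = A' (B y') := by
    have h0 : m - B y' ∈ LinearMap.ker A' := by
      rw [hka', ← hka, LinearMap.mem_ker, map_sub, hy', sub_self]
    rw [LinearMap.mem_ker, map_sub, sub_eq_zero] at h0
    exact h0
  have e3 : A' (B' (A y)) = 0 := by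
    have h0 : A y ∈ LinearMap.range A' := by rw [hra', ← hra]; exact ⟨y, rfl⟩
    obtain ⟨y2, hy2⟩ := h0
    rw [← hy2, t1'']
  have e4 : B' (A' (B y')) = 0 := by
    have h0 : B y' ∈ LinearMap.range B' := by rw [hrb', ← hrb]; exact ⟨y', rfl⟩
    obtain ⟨y3, hy3⟩ := h0
    rw [← hy3, t2'']
  rw [LinearMap.mem_ker, LinearMap.sub_apply, Module.End.mul_apply, Module.End.mul_apply, e1, e3, e2, e4, sub_zero]

end qp17b

end Cfsg.Agent.Lib.helper85
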