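import Cfsg.Agent.Lib.helper85.QP17

set_option autoImplicit false
set_option linter.unusedSimpArgs false
set_option linter.unusedVariables false
set_option linter.unnecessarySeqFocus false

namespace Cfsg.Agent.Lib.helper85

section qp18a
variable {k : Type*} [Field k] {M : Type*} [AddCommGroup M] [Module k M]
variable {G : Subgroup (LinearMap.GeneralLinearGroup k M)}

theorem qp_pt {X Y : Module.End k M} (h : X = Y) (m : M) : X m = Y m := by rw [h]

theorem qp_pz2 {X Y : Module.End k M} (h : X * Y = 0) (m : M) : X (Y m) = 0 := qp_pt h m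

theorem qp_pz3 {X Y Z : Module.End k M} (h : X * Y * Z = 0) (m : M) : X (Y (Z m)) = 0 := qp_pt h m

theorem qp_tr_range {X N N' : Module.End k M} (hr : LinearMap.range N' = LinearMap.range N)
    (hX : ∀ m : M, X (N m) = 0) (m : M) : X (N' m) = 0 := by
  have h1 : N' m ∈ LinearMap.range N := by rw [← hr]; exact ⟨m, rfl⟩
  obtain ⟨w, hw⟩ := h1
  rw [← hw, hX]

theorem qp_tr_ker {X N N' : Module.End k M} (hk : LinearMap.ker N' = LinearMap.ker N)
    (hX : ∀ m : M, N (X m) = 0) (m : M) : N' (X m) = 0 := by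
  have h1 : X m ∈ LinearMap.ker N' := by rw [hk]; exact LinearMap.mem_ker.mpr (hX m)
  exact LinearMap.mem_ker.mp h1

theorem qp_tr_fix {T N N' : Module.End k M} (hr : LinearMap.range N' = LinearMap.range N)
    (hT : ∀ m : M, T (N m) = N m) (m : M) : T (N' m) = N' m := by
  have h1 : N' m ∈ LinearMap.range N := by rw [← hr]; exact ⟨m, rfl⟩
  obtain ⟨w, hw⟩ := h1
  rw [← hw, hT]

theorem qp_tr_kfix {T N N' : Module.End k M} (hk : LinearMap.ker N' = LinearMap.ker N)
    (hT : ∀ m : M, N (T m) = N m) (m : M) : N' (T m) = N' m := by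
  have h1 : T m - m ∈ LinearMap.ker N' := by
    rw [hk]
    refine LinearMap.mem_ker.mpr ?_
    rw [map_sub, hT, sub_self]
  have h2 := LinearMap.mem_ker.mp h1
  rw [map_sub] at h2
  exact sub_eq_zero.mp h2

/-- Weyl elements -/
theorem qp_weyl_elt {N Nb : Module.End k M} (hN : qpN G N) (hNb : qpN G Nb) (h1 : N * Nb * N = N)
    (h2 : Nb * N * Nb = Nb) :
    ∃ n ∈ G, ((n : LinearMap.GeneralLinearGroup k M) : Module.End k M) = 1 - (N * Nb + Nb * N) + N - Nb ∧
      ((n⁻¹ : LinearMap.GeneralLinearGroup k M) : Module.End k M) = 1 - (N * Nb + Nb * N) - N + Nb := by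
  obtain ⟨a, ha, ea⟩ := hN.2 1
  obtain ⟨b, hb, eb⟩ := hNb.2 1
  rw [one_smul] at ea eb
  have eai := qp_inv_val ea hN.1
  have ebi := qp_inv_val eb hNb.1
  have r1 : ∀ m : M, N (N m) = 0 := fun m => qp_pt hN.1 m
  have r2 : ∀ m : M, Nb (Nb m) = 0 := fun m => qp_pt hNb.1 m
  have r3 : ∀ m : M, N (Nb (N m)) = N m := fun m => qp_pt h1 m
  have r4 : ∀ m : M, Nb (N (Nb m)) = Nb m := fun m => qp_pt h2 m
  refine ⟨a * b⁻¹ * a, G.mul_mem (G.mul_mem ha (G.inv_mem hb)) ha, ?_, ?_⟩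
  · rw [Units.val_mul, Units.val_mul, ea, ebi]
    refine LinearMap.ext fun m => ?_
    simp only [Module.End.mul_apply, LinearMap.add_apply, LinearMap.sub_apply, LinearMap.neg_apply, Module.End.one_apply, LinearMap.zero_apply, map_add, map_sub, map_neg, map_zero, sub_zero, zero_sub, add_zero, zero_add, neg_zero, neg_neg, sub_self, r1, r2, r3, r4] <;> abel
  · have e : (a * b⁻¹ * a)⁻¹ = a⁻¹ * b * a⁻¹ := by group
    rw [e, Units.val_mul, Units.val_mul, eai, eb]
    refine LinearMap.ext fun m => ?_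
    simp only [Module.End.mul_apply, LinearMap.add_apply, LinearMap.sub_apply, LinearMap.neg_apply, Module.End.one_apply, LinearMap.zero_apply, map_add, map_sub, map_neg, map_zero, sub_zero, zero_sub, add_zero, zero_add, neg_zero, neg_neg, sub_self, r1, r2, r3, r4] <;> abel

/-- the class of a square-zero element: same range and kernel, or zero -/
def qpCls (G : Subgroup (LinearMap.GeneralLinearGroup k M)) (N N' : Module.End k M) : Prop :=
  qpN G N' ∧ (N' = 0 ∨ (LinearMap.range N' = LinearMap.range N ∧ LinearMap.ker N' = LinearMap.ker N))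

theorem qpCls_of_le [FiniteDimensional k M] {d : ℕ}
    (hmin : ∀ X : Module.End k M, qpN G X → X ≠ 0 → d ≤ Module.finrank k (LinearMap.range X))
    {N N' : Module.End k M} (rN : Module.finrank k (LinearMap.range N) = d) (hN' : qpN G N')
    (hr : LinearMap.range N' ≤ LinearMap.range N) (hk : LinearMap.ker N ≤ LinearMap.ker N') :
    qpCls G N N' := by
  refine ⟨hN', ?_⟩
  by_cases h0 : N' = 0
  · exact Or.inl h0
  · right
    have h1 := hmin N' hN' h0
    have h2 := Submodule.finrank_mono hr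
    have e1 : LinearMap.range N' = LinearMap.range N := Submodule.eq_of_le_of_finrank_le hr (by omega)
    have h3 := LinearMap.finrank_range_add_finrank_ker N'
    have h4 := LinearMap.finrank_range_add_finrank_ker N
    rw [e1] at h3
    exact ⟨e1, (Submodule.eq_of_le_of_finrank_le hk (by omega)).symm⟩

theorem qpCls_range_le {N N' : Module.End k M} (h : qpCls G N N') :
    LinearMap.range N' ≤ LinearMap.range N := by
  rcases h.2 with h0 | ⟨hr, -⟩
  · rw [h0, LinearMap.range_zero]; exact bot_le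
  · exact hr.le

theorem qpCls_ker_le {N N' : Module.End k M} (h : qpCls G N N') :
    LinearMap.ker N ≤ LinearMap.ker N' := by
  rcases h.2 with h0 | ⟨-, hk⟩
  · rw [h0, LinearMap.ker_zero]; exact le_top
  · exact hk.ge

theorem qpCls_mul {N X Y : Module.End k M} (hN : N * N = 0) (hX : qpCls G N X) (hY : qpCls G N Y) (m : M) :
    X (Y m) = 0 := by
  have h1 : Y m ∈ LinearMap.range N := qpCls_range_le hY ⟨m, rfl⟩
  obtain ⟨w, hw⟩ := h1
  have h2 : N w ∈ LinearMap.ker X := qpCls_ker_le hX (LinearMap.mem_ker.mpr (qp_pt hN w))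
  rw [← hw]
  exact LinearMap.mem_ker.mp h2

theorem qpCls_sub [FiniteDimensional k M] {d : ℕ}
    (hmin : ∀ X : Module.End k M, qpN G X → X ≠ 0 → d ≤ Module.finrank k (LinearMap.range X))
    {N X Y : Module.End k M} (rN : Module.finrank k (LinearMap.range N) = d) (hN : N * N = 0)
    (hX : qpCls G N X) (hY : qpCls G N Y) : qpCls G N (X - Y) := by
  have h1 : X * Y = 0 := LinearMap.ext fun m => qpCls_mul hN hX hY m
  have h2 : Y * X = 0 := LinearMap.ext fun m => qpCls_mul hN hY hX m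
  refine qpCls_of_le hmin rN (qpN_sub hX.1 hY.1 h1 h2) ?_ ?_
  · rintro _ ⟨m, rfl⟩
    rw [LinearMap.sub_apply]
    exact Submodule.sub_mem _ (qpCls_range_le hX ⟨m, rfl⟩) (qpCls_range_le hY ⟨m, rfl⟩)
  · intro m hm
    have e1 := LinearMap.mem_ker.mp (qpCls_ker_le hX hm)
    have e2 := LinearMap.mem_ker.mp (qpCls_ker_le hY hm)
    refine LinearMap.mem_ker.mpr ?_
    rw [LinearMap.sub_apply, e1, e2, sub_zero]

theorem qpCls_neg {N X : Module.End k M} (h : qpCls G N X) : qpCls G (-N) (-X) := by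
  refine ⟨?_, ?_⟩
  · have := qpN_smul h.1 (-1)
    rwa [neg_one_smul] at this
  · rcases h.2 with h0 | ⟨hr, hk⟩
    · left; rw [h0, neg_zero]
    · right
      rw [LinearMap.range_neg, LinearMap.range_neg, LinearMap.ker_neg, LinearMap.ker_neg]
      exact ⟨hr, hk⟩

theorem qpCls_neg' {N X : Module.End k M} (h : qpCls G N X) : qpCls G (-N) X := by
  refine ⟨h.1, ?_⟩
  rcases h.2 with h0 | ⟨hr, hk⟩
  · left; exact h0
  · right
    rw [LinearMap.range_neg, LinearMap.ker_neg]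
    exact ⟨hr, hk⟩

/-- the data of a non-commuting degenerate pair together with an opposite of the commutator -/
structure QpTri (G : Subgroup (LinearMap.GeneralLinearGroup k M)) (d : ℕ) (A B N Nb : Module.End k M) :
    Prop where
  h2 : (2 : k) ≠ 0
  hmin : ∀ X : Module.End k M, qpN G X → X ≠ 0 → d ≤ Module.finrank k (LinearMap.range X)
  hA : qpN G A
  hB : qpN G B
  rA : Module.finrank k (LinearMap.range A) = d
  rB : Module.finrank k (LinearMap.range B) = d
  aba : A * B * A = 0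
  bab : B * A * B = 0
  hN : A * B - B * A = N
  hne : N ≠ 0
  hNb : qpN G Nb
  rNb : Module.finrank k (LinearMap.range Nb) = d
  ip1 : N * Nb * N = N
  ip2 : Nb * N * Nb = Nb
  part : ∀ N' : Module.End k M, qpN G N' → N' ≠ 0 → LinearMap.range N' = LinearMap.range N →
    LinearMap.ker N' = LinearMap.ker N → ∃ Nb' : Module.End k M, qpN G Nb' ∧ N' * Nb' * N' = N' ∧
      Nb' * N' * Nb' = Nb' ∧ LinearMap.range Nb' = LinearMap.range Nb ∧
      LinearMap.ker Nb' = LinearMap.ker Nb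

variable {d : ℕ} {A B N Nb : Module.End k M}

theorem QpTri.symm (S : QpTri G d A B N Nb) : QpTri G d B A (-N) (-Nb) where
  h2 := S.h2
  hmin := S.hmin
  hA := S.hB
  hB := S.hA
  rA := S.rB
  rB := S.rA
  aba := S.bab
  bab := S.aba
  hN := by rw [← S.hN]; abel
  hne := neg_ne_zero.mpr S.hne
  hNb := by
    have := qpN_smul S.hNb (-1)
    rwa [neg_one_smul] at this
  rNb := by rw [LinearMap.range_neg]; exact S.rNb
  ip1 := by simp only [neg_mul, mul_neg, neg_neg, S.ip1]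
  ip2 := by simp only [neg_mul, mul_neg, neg_neg, S.ip2]
  part := by
    intro N' hN' h0 hr hk
    rw [LinearMap.range_neg] at hr
    rw [LinearMap.ker_neg] at hk
    obtain ⟨Nb', h1, h2, h3, h4, h5⟩ := S.part N' hN' h0 hr hk
    exact ⟨Nb', h1, h2, h3, by rw [LinearMap.range_neg]; exact h4, by rw [LinearMap.ker_neg]; exact h5⟩

theorem QpTri.hNN (S : QpTri G d A B N Nb) : qpN G N := by
  rw [← S.hN]
  exact qp_comm_N S.hA S.hB S.aba S.bab

theorem QpTri.hne' (S : QpTri G d A B N Nb) : A * B ≠ B * A := by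
  intro h
  exact S.hne (by rw [← S.hN, h, sub_self])

theorem QpTri.rels (S : QpTri G d A B N Nb) :
    (∀ m : M, A (A m) = 0) ∧ (∀ m : M, B (B m) = 0) ∧ (∀ m : M, A (B (A m)) = 0) ∧
    (∀ m : M, B (A (B m)) = 0) ∧ (∀ m : M, A (N m) = 0) ∧ (∀ m : M, N (A m) = 0) ∧
    (∀ m : M, B (N m) = 0) ∧ (∀ m : M, N (B m) = 0) ∧ (∀ m : M, N (N m) = 0) ∧
    (∀ m : M, Nb (Nb m) = 0) ∧ (∀ m : M, N (Nb (N m)) = N m) ∧ (∀ m : M, Nb (N (Nb m)) = Nb m) ∧
    (∀ m : M, N m = A (B m) - B (A m)) := by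
  have r_aa : ∀ m : M, A (A m) = 0 := fun m => qp_pz2 S.hA.1 m
  have r_bb : ∀ m : M, B (B m) = 0 := fun m => qp_pz2 S.hB.1 m
  have r_aba : ∀ m : M, A (B (A m)) = 0 := fun m => qp_pz3 S.aba m
  have r_bab : ∀ m : M, B (A (B m)) = 0 := fun m => qp_pz3 S.bab m
  have r_N : ∀ m : M, N m = A (B m) - B (A m) := fun m => by rw [← S.hN]; rfl
  refine ⟨r_aa, r_bb, r_aba, r_bab, ?_, ?_, ?_, ?_, fun m => qp_pz2 S.hNN.1 m, fun m => qp_pz2 S.hNb.1 m,
    fun m => qp_pt S.ip1 m, fun m => qp_pt S.ip2 m, r_N⟩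
  · intro m; rw [r_N, map_sub, r_aa, r_aba, sub_zero]
  · intro m; rw [r_N, r_aba, r_aa, map_zero, sub_zero]
  · intro m; rw [r_N, map_sub, r_bab, r_bb, sub_zero]
  · intro m; rw [r_N, r_bb, r_bab, map_zero, sub_zero]

/-- the structure facts -/
theorem QpTri.ustr [FiniteDimensional k M] (S : QpTri G d A B N Nb) :
    LinearMap.range (A * B) ⊓ LinearMap.range (B * A) = ⊥ ∧
    LinearMap.range N = LinearMap.range (A * B) ⊔ LinearMap.range (B * A) ∧
    Module.finrank k (LinearMap.range N) = d := by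
  obtain ⟨u1, u2, u3, -, -⟩ := qp_ustruct S.hmin S.hA S.hB S.rA S.rB S.aba S.bab S.hne'
  rw [S.hN] at u2 u3
  exact ⟨u1, u2, u3⟩

theorem QpTri.kerf [FiniteDimensional k M] (S : QpTri G d A B N Nb) {m : M} (hm : N m = 0) :
    A (B m) = 0 ∧ B (A m) = 0 ∧ (∃ y : M, B (A y) = B m) ∧ (∃ y : M, A (B y) = A m) := by
  refine qp_ustruct_ker S.hmin S.hA S.hB S.rA S.rB S.aba S.bab S.hne' ?_
  rw [S.hN]
  exact hm

theorem QpTri.shapeA [FiniteDimensional k M] (S : QpTri G d A B N Nb) (m : M) :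
    A m - A (Nb (N m)) = N (Nb (A m)) - N (Nb (A (Nb (N m)))) := by
  obtain ⟨r_aa, r_bb, r_aba, r_bab, r_an, r_na, r_bn, r_nb, r_nn, r_cc, r_i1, r_i2, r_N⟩ := S.rels
  have h0 : N (m - Nb (N m)) = 0 := by rw [map_sub, r_i1, sub_self]
  obtain ⟨-, -, -, ⟨y, hy⟩⟩ := S.kerf h0
  have h1 : A (m - Nb (N m)) ∈ LinearMap.range N := by
    rw [S.ustr.2.1, ← hy]
    exact Submodule.mem_sup_left ⟨y, rfl⟩
  obtain ⟨w, hw⟩ := h1
  have h3 : N (Nb (A (m - Nb (N m)))) = A (m - Nb (N m)) := by rw [← hw, r_i1]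
  rw [map_sub, map_sub, map_sub] at h3
  exact h3.symm

theorem QpTri.shapeB [FiniteDimensional k M] (S : QpTri G d A B N Nb) (m : M) :
    B m - B (Nb (N m)) = N (Nb (B m)) - N (Nb (B (Nb (N m)))) := by
  obtain ⟨r_aa, r_bb, r_aba, r_bab, r_an, r_na, r_bn, r_nb, r_nn, r_cc, r_i1, r_i2, r_N⟩ := S.rels
  have h0 : N (m - Nb (N m)) = 0 := by rw [map_sub, r_i1, sub_self]
  obtain ⟨-, -, ⟨y, hy⟩, -⟩ := S.kerf h0
  have h1 : B (m - Nb (N m)) ∈ LinearMap.range N := by
    rw [S.ustr.2.1, ← hy]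
    exact Submodule.mem_sup_right ⟨y, rfl⟩
  obtain ⟨w, hw⟩ := h1
  have h3 : N (Nb (B (m - Nb (N m)))) = B (m - Nb (N m)) := by rw [← hw, r_i1]
  rw [map_sub, map_sub, map_sub] at h3
  exact h3.symm

theorem qpCls_rels (S : QpTri G d A B N Nb) {N' : Module.End k M} (hD : qpCls G N N') :
    (∀ m : M, A (N' m) = 0) ∧ (∀ m : M, N' (A m) = 0) ∧ (∀ m : M, B (N' m) = 0) ∧
    (∀ m : M, N' (B m) = 0) ∧ (∀ m : M, N (N' m) = 0) ∧ (∀ m : M, N' (N m) = 0) ∧
    (∀ m : M, N' (N' m) = 0) ∧ (∀ m : M, N (Nb (N' m)) = N' m) ∧ (∀ m : M, N' (Nb (N m)) = N' m) := by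
  obtain ⟨r_aa, r_bb, r_aba, r_bab, r_an, r_na, r_bn, r_nb, r_nn, r_cc, r_i1, r_i2, r_N⟩ := S.rels
  rcases hD.2 with h0 | ⟨hr, hk⟩
  · subst h0
    simp
  · exact ⟨qp_tr_range hr r_an, qp_tr_ker hk r_na, qp_tr_range hr r_bn, qp_tr_ker hk r_nb,
      qp_tr_range hr r_nn, qp_tr_ker hk r_nn, fun m => qp_pz2 hD.1.1 m,
      qp_tr_fix (T := N * Nb) hr r_i1, qp_tr_kfix (T := Nb * N) hk r_i1⟩

end qp18a

end Cfsg.Agent.Lib.helper85
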