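import Cfsg.Agent.Lib.helper85.QP18

set_option autoImplicit false
set_option linter.unusedSimpArgs false
set_option linter.unusedVariables false
set_option linter.unnecessarySeqFocus false

namespace Cfsg.Agent.Lib.helper85

section qp19a
variable {k : Type*} [Field k] {M : Type*} [AddCommGroup M] [Module k M]
variable {G : Subgroup (LinearMap.GeneralLinearGroup k M)}
variable {d : ℕ} {A B N Nb : Module.End k M}

theorem qp_tri_Y [FiniteDimensional k M] (S : QpTri G d A B N Nb) {N' : Module.End k M} (hN' : qpN G N')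
    (h0 : N' ≠ 0) (hr : LinearMap.range N' = LinearMap.range N)
    (hk : LinearMap.ker N' = LinearMap.ker N) :
    qpN G (B * Nb * N' + N' * Nb * B - N * Nb * B * Nb * N' - N' * Nb * B * Nb * N +
      N' * Nb * B * Nb * N') := by
  obtain ⟨r_aa, r_bb, r_aba, r_bab, r_an, r_na, r_bn, r_nb, r_nn, r_cc, r_i1, r_i2, r_N⟩ := S.rels
  have hD : qpCls G N N' := ⟨hN', Or.inr ⟨hr, hk⟩⟩
  obtain ⟨d_an, d_na, d_bn, d_nb, d_nn1, d_nn2, d_nn3, d_i1, d_i2⟩ := qpCls_rels S hD
  obtain ⟨Nc, hNc, j1, j2, jr, jk⟩ := S.part N' hN' h0 hr hk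
  have s1 : ∀ m : M, N' (Nc (N' m)) = N' m := fun m => qp_pt j1 m
  have s2 : ∀ m : M, Nc (N' (Nc m)) = Nc m := fun m => qp_pt j2 m
  have s3 : ∀ m : M, Nc (Nc m) = 0 := fun m => qp_pz2 hNc.1 m
  have s4 : ∀ m : M, Nc (Nb m) = 0 := qp_tr_ker jk r_cc
  have s5 : ∀ m : M, Nb (Nc m) = 0 := qp_tr_range jr r_cc
  have s6 : ∀ m : M, Nb (N (Nc m)) = Nc m := qp_tr_fix (T := Nb * N) jr r_i2
  have s7 : ∀ m : M, Nc (N (Nb m)) = Nc m := qp_tr_kfix (T := N * Nb) jk r_i2
  have c1 : ∀ m : M, N' (Nc m) = N (Nb m) := by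
    intro m
    have e1 := d_i1 (Nc m)
    have e2 : Nb (N' (Nc m)) = Nb m := qp_tr_kfix (T := N' * Nc) jk.symm s2 m
    rw [e2] at e1
    exact e1.symm
  have c2 : ∀ m : M, Nc (N' m) = Nb (N m) := by
    intro m
    have e1 : Nb (N (Nc (N' m))) = Nc (N' m) := s6 (N' m)
    have e2 : N (Nc (N' m)) = N m := qp_tr_kfix (T := Nc * N') hk.symm s1 m
    rw [e2] at e1
    exact e1.symm
  obtain ⟨n, hn, en, eni⟩ := qp_weyl_elt S.hNN S.hNb S.ip1 S.ip2
  obtain ⟨n', hn', en', eni'⟩ := qp_weyl_elt hN' hNc j1 j2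
  have hh : n'⁻¹ * n ∈ G := G.mul_mem (G.inv_mem hn') hn
  have hq := qpN_conjG S.hB hh
  have e1 : (((n'⁻¹ * n : LinearMap.GeneralLinearGroup k M)) : Module.End k M) =
      1 - (N * Nb + Nb * N) + N' * Nb + Nc * N := by
    rw [Units.val_mul, eni', en]
    refine LinearMap.ext fun m => ?_
    simp only [Module.End.mul_apply, LinearMap.add_apply, LinearMap.sub_apply, LinearMap.neg_apply, Module.End.one_apply, LinearMap.zero_apply, map_add, map_sub, map_neg, map_zero, sub_zero, zero_sub, add_zero, zero_add, neg_zero, neg_neg, sub_self, r_aa, r_bb, r_aba, r_bab, r_an, r_na, r_bn, r_nb, r_nn, r_cc, r_i1, r_i2, d_an, d_na, d_bn, d_nb, d_nn1, d_nn2, d_nn3, d_i1, d_i2, s3, s4, s5, s6, s7, c1, c2] <;> abel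
  have e2 : ((((n'⁻¹ * n)⁻¹ : LinearMap.GeneralLinearGroup k M)) : Module.End k M) =
      1 - (N * Nb + Nb * N) + N * Nc + Nb * N' := by
    have e : (n'⁻¹ * n)⁻¹ = n⁻¹ * n' := by group
    rw [e, Units.val_mul, eni, en']
    refine LinearMap.ext fun m => ?_
    simp only [Module.End.mul_apply, LinearMap.add_apply, LinearMap.sub_apply, LinearMap.neg_apply, Module.End.one_apply, LinearMap.zero_apply, map_add, map_sub, map_neg, map_zero, sub_zero, zero_sub, add_zero, zero_add, neg_zero, neg_neg, sub_self, r_aa, r_bb, r_aba, r_bab, r_an, r_na, r_bn, r_nb, r_nn, r_cc, r_i1, r_i2, d_an, d_na, d_bn, d_nb, d_nn1, d_nn2, d_nn3, d_i1, d_i2, s3, s4, s5, s6, s7, c1, c2] <;> abel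
  rw [e1, e2] at hq
  have e3 : (1 - (N * Nb + Nb * N) + N' * Nb + Nc * N) * B * (1 - (N * Nb + Nb * N) + N * Nc + Nb * N') =
      B * Nb * N' + N' * Nb * B - N * Nb * B * Nb * N' - N' * Nb * B * Nb * N + N' * Nb * B * Nb * N' := by
    refine LinearMap.ext fun m => ?_
    simp only [Module.End.mul_apply, LinearMap.add_apply, LinearMap.sub_apply, LinearMap.neg_apply, Module.End.one_apply, LinearMap.zero_apply, map_add, map_sub, map_neg, map_zero, sub_zero, zero_sub, add_zero, zero_add, neg_zero, neg_neg, sub_self, r_aa, r_bb, r_aba, r_bab, r_an, r_na, r_bn, r_nb, r_nn, r_cc, r_i1, r_i2, d_an, d_na, d_bn, d_nb, d_nn1, d_nn2, d_nn3, d_i1, d_i2, s3, s4, s5, s6, s7, c1, c2]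
    rw [← sub_eq_zero]
    refine Eq.trans ?_ (sub_eq_zero.mpr (S.shapeB m))
    abel
  rw [e3] at hq
  exact hq

theorem qp_tri_phi [FiniteDimensional k M] (S : QpTri G d A B N Nb) {N' : Module.End k M}
    (hD : qpCls G N N') : qpCls G N (A * B * Nb * N' - N' * Nb * B * A) := by
  obtain ⟨r_aa, r_bb, r_aba, r_bab, r_an, r_na, r_bn, r_nb, r_nn, r_cc, r_i1, r_i2, r_N⟩ := S.rels
  obtain ⟨d_an, d_na, d_bn, d_nb, d_nn1, d_nn2, d_nn3, d_i1, d_i2⟩ := qpCls_rels S hD
  by_cases h0 : N' = 0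
  · subst h0
    have e : A * B * Nb * (0 : Module.End k M) - 0 * Nb * B * A = 0 := by simp
    rw [e]
    exact ⟨qpN_zero G, Or.inl rfl⟩
  · obtain ⟨hr, hk⟩ := hD.2.resolve_left h0
    have hY := qp_tri_Y S hD.1 h0 hr hk
    obtain ⟨Y, hYdef⟩ : ∃ Y, Y = B * Nb * N' + N' * Nb * B - N * Nb * B * Nb * N' - N' * Nb * B * Nb * N +
      N' * Nb * B * Nb * N' := ⟨_, rfl⟩
    rw [← hYdef] at hY
    have y1 : A * Y = A * B * Nb * N' := by
      rw [hYdef]
      refine LinearMap.ext fun m => ?_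
      simp only [Module.End.mul_apply, LinearMap.add_apply, LinearMap.sub_apply, LinearMap.neg_apply, Module.End.one_apply, LinearMap.zero_apply, map_add, map_sub, map_neg, map_zero, sub_zero, zero_sub, add_zero, zero_add, neg_zero, neg_neg, sub_self, r_aa, r_bb, r_aba, r_bab, r_an, r_na, r_bn, r_nb, r_nn, r_cc, r_i1, r_i2, d_an, d_na, d_bn, d_nb, d_nn1, d_nn2, d_nn3, d_i1, d_i2] <;> abel
    have y2 : Y * A = N' * Nb * B * A := by
      rw [hYdef]
      refine LinearMap.ext fun m => ?_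
      simp only [Module.End.mul_apply, LinearMap.add_apply, LinearMap.sub_apply, LinearMap.neg_apply, Module.End.one_apply, LinearMap.zero_apply, map_add, map_sub, map_neg, map_zero, sub_zero, zero_sub, add_zero, zero_add, neg_zero, neg_neg, sub_self, r_aa, r_bb, r_aba, r_bab, r_an, r_na, r_bn, r_nb, r_nn, r_cc, r_i1, r_i2, d_an, d_na, d_bn, d_nb, d_nn1, d_nn2, d_nn3, d_i1, d_i2] <;> abel
    have y3 : A * Y * A = 0 := by
      rw [y1]
      refine LinearMap.ext fun m => ?_
      simp only [Module.End.mul_apply, LinearMap.add_apply, LinearMap.sub_apply, LinearMap.neg_apply, Module.End.one_apply, LinearMap.zero_apply, map_add, map_sub, map_neg, map_zero, sub_zero, zero_sub, add_zero, zero_add, neg_zero, neg_neg, sub_self, r_aa, r_bb, r_aba, r_bab, r_an, r_na, r_bn, r_nb, r_nn, r_cc, r_i1, r_i2, d_an, d_na, d_bn, d_nb, d_nn1, d_nn2, d_nn3, d_i1, d_i2]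
    have y4 : Y * A * Y = 0 := by
      rw [y2, hYdef]
      refine LinearMap.ext fun m => ?_
      simp only [Module.End.mul_apply, LinearMap.add_apply, LinearMap.sub_apply, LinearMap.neg_apply, Module.End.one_apply, LinearMap.zero_apply, map_add, map_sub, map_neg, map_zero, sub_zero, zero_sub, add_zero, zero_add, neg_zero, neg_neg, sub_self, r_aa, r_bb, r_aba, r_bab, r_an, r_na, r_bn, r_nb, r_nn, r_cc, r_i1, r_i2, d_an, d_na, d_bn, d_nb, d_nn1, d_nn2, d_nn3, d_i1, d_i2] <;> abel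
    have hq := qp_comm_N S.hA hY y3 y4
    rw [y1, y2] at hq
    refine qpCls_of_le S.hmin S.ustr.2.2 hq ?_ ?_
    · rintro _ ⟨m, rfl⟩
      refine Submodule.sub_mem _ ?_ ?_
      · rw [S.ustr.2.1]
        exact Submodule.mem_sup_left ⟨Nb (N' m), rfl⟩
      · rw [← hr]
        exact ⟨_, rfl⟩
    · intro m hm
      have hm' : N m = 0 := LinearMap.mem_ker.mp hm
      have hm'' : N' m = 0 := by
        have : m ∈ LinearMap.ker N' := by rw [hk]; exact hm
        exact LinearMap.mem_ker.mp this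
      have h3 := (S.kerf hm').2.1
      refine LinearMap.mem_ker.mpr ?_
      simp only [Module.End.mul_apply, LinearMap.add_apply, LinearMap.sub_apply, LinearMap.neg_apply, Module.End.one_apply, LinearMap.zero_apply, map_add, map_sub, map_neg, map_zero, sub_zero, zero_sub, add_zero, zero_add, neg_zero, neg_neg, sub_self, hm'', h3]

theorem qp_tri_pi [FiniteDimensional k M] (S : QpTri G d A B N Nb) :
    (∀ m : M, A (B (Nb (A (B m)))) = A (B m)) ∧ (∀ m : M, B (A (Nb (A (B m)))) = 0) ∧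
    (∀ m : M, A (B (Nb (B (A m)))) = 0) ∧ (∀ m : M, B (A (Nb (B (A m)))) = -(B (A m))) := by
  obtain ⟨r_aa, r_bb, r_aba, r_bab, r_an, r_na, r_bn, r_nb, r_nn, r_cc, r_i1, r_i2, r_N⟩ := S.rels
  obtain ⟨u1, u2, u3⟩ := S.ustr
  have hbot : ∀ x : M, x ∈ LinearMap.range (A * B) → x ∈ LinearMap.range (B * A) → x = 0 := by
    intro x h1 h2
    have : x ∈ (⊥ : Submodule k M) := by rw [← u1]; exact ⟨h1, h2⟩
    exact (Submodule.mem_bot k).mp this
  have p12 : ∀ m : M, A (B (Nb (A (B m)))) = A (B m) ∧ B (A (Nb (A (B m)))) = 0 := by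
    intro m
    have h1 : A (B m) ∈ LinearMap.range N := by rw [u2]; exact Submodule.mem_sup_left ⟨m, rfl⟩
    obtain ⟨w, hw⟩ := h1
    have hP : N (Nb (A (B m))) = A (B m) := by rw [← hw, r_i1]
    rw [r_N] at hP
    have h2 : B (A (Nb (A (B m)))) = 0 := by
      refine hbot _ ⟨Nb (A (B m)) - m, ?_⟩ ⟨Nb (A (B m)), rfl⟩
      rw [Module.End.mul_apply, map_sub, map_sub, ← sub_eq_zero]
      refine Eq.trans ?_ (sub_eq_zero.mpr hP)
      abel
    rw [h2, sub_zero] at hP
    exact ⟨hP, h2⟩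
  have p34 : ∀ m : M, A (B (Nb (B (A m)))) = 0 ∧ B (A (Nb (B (A m)))) = -(B (A m)) := by
    intro m
    have h1 : B (A m) ∈ LinearMap.range N := by rw [u2]; exact Submodule.mem_sup_right ⟨m, rfl⟩
    obtain ⟨w, hw⟩ := h1
    have hP : N (Nb (B (A m))) = B (A m) := by rw [← hw, r_i1]
    rw [r_N] at hP
    have h2 : A (B (Nb (B (A m)))) = 0 := by
      refine hbot _ ⟨Nb (B (A m)), rfl⟩ ⟨Nb (B (A m)) + m, ?_⟩
      rw [Module.End.mul_apply, map_add, map_add, ← sub_eq_zero]
      refine Eq.trans ?_ (neg_eq_zero.mpr (sub_eq_zero.mpr hP))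
      abel
    rw [h2, zero_sub] at hP
    exact ⟨h2, neg_eq_iff_eq_neg.mp hP⟩
  exact ⟨fun m => (p12 m).1, fun m => (p12 m).2, fun m => (p34 m).1, fun m => (p34 m).2⟩

theorem qp_tri_comm [FiniteDimensional k M] (S : QpTri G d A B N Nb) {N' : Module.End k M}
    (hD : qpCls G N N') : ∀ m : M, B (A (Nb (N' m))) = N' (Nb (B (A m))) := by
  obtain ⟨r_aa, r_bb, r_aba, r_bab, r_an, r_na, r_bn, r_nb, r_nn, r_cc, r_i1, r_i2, r_N⟩ := S.rels
  obtain ⟨d_an, d_na, d_bn, d_nb, d_nn1, d_nn2, d_nn3, d_i1, d_i2⟩ := qpCls_rels S hD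
  obtain ⟨u1, u2, u3⟩ := S.ustr
  obtain ⟨p1, p2, p3, p4⟩ := qp_tri_pi S
  have hbot : ∀ x : M, x ∈ LinearMap.range (A * B) → x ∈ LinearMap.range (B * A) → x = 0 := by
    intro x h1 h2
    have : x ∈ (⊥ : Submodule k M) := by rw [← u1]; exact ⟨h1, h2⟩
    exact (Submodule.mem_bot k).mp this
  have hΦ := qp_tri_phi S hD
  have hX1 : A * B * Nb * N' - N' * Nb * B * A - N' = B * A * Nb * N' - N' * Nb * B * A := by
    refine LinearMap.ext fun m => ?_
    simp only [Module.End.mul_apply, LinearMap.add_apply, LinearMap.sub_apply, LinearMap.neg_apply, Module.End.one_apply, LinearMap.zero_apply, map_add, map_sub, map_neg, map_zero, sub_zero, zero_sub, add_zero, zero_add, neg_zero, neg_neg, sub_self]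
    have h := d_i1 m
    rw [r_N] at h
    rw [← sub_eq_zero]
    refine Eq.trans ?_ (sub_eq_zero.mpr h)
    abel
  have hX1D : qpCls G N (B * A * Nb * N' - N' * Nb * B * A) := by
    rw [← hX1]
    exact qpCls_sub S.hmin u3 S.hNN.1 hΦ hD
  have hΦ2 := qp_tri_phi S hX1D
  -- the key vanishing
  have hT : ∀ m : M, A (B (Nb (N' (Nb (B (A m)))))) = 0 := by
    have e : A * B * Nb * (B * A * Nb * N' - N' * Nb * B * A) - (B * A * Nb * N' - N' * Nb * B * A) * Nb * B * A =
        -(A * B * Nb * N' * Nb * B * A + A * B * Nb * N' * Nb * B * A) := by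
      refine LinearMap.ext fun m => ?_
      simp only [Module.End.mul_apply, LinearMap.add_apply, LinearMap.sub_apply, LinearMap.neg_apply, Module.End.one_apply, LinearMap.zero_apply, map_add, map_sub, map_neg, map_zero, sub_zero, zero_sub, add_zero, zero_add, neg_zero, neg_neg, sub_self, p1, p2, p3, p4]
      have h := d_i1 (Nb (B (A m)))
      rw [r_N] at h
      rw [← sub_eq_zero]
      refine Eq.trans ?_ (sub_eq_zero.mpr h)
      abel
    rw [e] at hΦ2
    have hz : -(A * B * Nb * N' * Nb * B * A + A * B * Nb * N' * Nb * B * A) = 0 := by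
      by_contra hne
      obtain ⟨hr2, -⟩ := hΦ2.2.resolve_left hne
      -- range N ≤ range (A * B)
      have hle : LinearMap.range N ≤ LinearMap.range (A * B) := by
        rw [← hr2]
        rintro _ ⟨m, rfl⟩
        refine ⟨-(Nb (N' (Nb (B (A m)))) + Nb (N' (Nb (B (A m))))), ?_⟩
        simp only [Module.End.mul_apply, LinearMap.add_apply, LinearMap.sub_apply, LinearMap.neg_apply, Module.End.one_apply, LinearMap.zero_apply, map_add, map_sub, map_neg, map_zero, sub_zero, zero_sub, add_zero, zero_add, neg_zero, neg_neg, sub_self]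
      have hBA : ∀ m : M, B (A m) = 0 := by
        intro m
        refine hbot _ (hle ?_) ⟨m, rfl⟩
        rw [u2]
        exact Submodule.mem_sup_right ⟨m, rfl⟩
      apply hne
      refine LinearMap.ext fun m => ?_
      simp only [Module.End.mul_apply, LinearMap.add_apply, LinearMap.sub_apply, LinearMap.neg_apply, Module.End.one_apply, LinearMap.zero_apply, map_add, map_sub, map_neg, map_zero, sub_zero, zero_sub, add_zero, zero_add, neg_zero, neg_neg, sub_self, hBA]
    intro m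
    have h1 := qp_pt hz m
    simp only [Module.End.mul_apply, LinearMap.add_apply, LinearMap.sub_apply, LinearMap.neg_apply, Module.End.one_apply, LinearMap.zero_apply, map_add, map_sub, map_neg, map_zero, sub_zero, zero_sub, add_zero, zero_add, neg_zero, neg_neg, sub_self] at h1
    have h2 : (2 : k) • A (B (Nb (N' (Nb (B (A m)))))) = 0 := by
      rw [two_smul]
      have h3 := neg_eq_zero.mp h1
      exact h3
    exact (smul_eq_zero.mp h2).resolve_left S.h2
  -- now the first difference vanishes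
  have hX0 : B * A * Nb * N' - N' * Nb * B * A = 0 := by
    by_contra hne
    obtain ⟨hr2, -⟩ := hX1D.2.resolve_left hne
    have hform : ∀ m : M, N' (Nb (B (A m))) = -(B (A (Nb (N' (Nb (B (A m))))))) := by
      intro m
      have h := d_i1 (Nb (B (A m)))
      rw [r_N, hT, zero_sub] at h
      exact h.symm
    have hle : LinearMap.range N ≤ LinearMap.range (B * A) := by
      rw [← hr2]
      rintro _ ⟨m, rfl⟩
      refine ⟨Nb (N' m) + Nb (N' (Nb (B (A m)))), ?_⟩
      simp only [Module.End.mul_apply, LinearMap.add_apply, LinearMap.sub_apply, LinearMap.neg_apply, Module.End.one_apply, LinearMap.zero_apply, map_add, map_sub, map_neg, map_zero, sub_zero, zero_sub, add_zero, zero_add, neg_zero, neg_neg, sub_self]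
      rw [← sub_eq_zero]
      refine Eq.trans ?_ (sub_eq_zero.mpr (hform m))
      abel
    have hAB : ∀ m : M, A (B m) = 0 := by
      intro m
      refine hbot _ ⟨m, rfl⟩ (hle ?_)
      rw [u2]
      exact Submodule.mem_sup_left ⟨m, rfl⟩
    apply hne
    refine LinearMap.ext fun m => ?_
    simp only [Module.End.mul_apply, LinearMap.add_apply, LinearMap.sub_apply, LinearMap.neg_apply, Module.End.one_apply, LinearMap.zero_apply, map_add, map_sub, map_neg, map_zero, sub_zero, zero_sub, add_zero, zero_add, neg_zero, neg_neg, sub_self]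
    have h1 := d_i1 m
    rw [r_N, hAB, zero_sub] at h1
    have h2 := d_i2 m
    rw [r_N, hAB, zero_sub, map_neg, map_neg] at h2
    have e1 : B (A (Nb (N' m))) = -N' m := neg_eq_iff_eq_neg.mp h1
    have e2 : N' (Nb (B (A m))) = -N' m := neg_eq_iff_eq_neg.mp h2
    rw [e1, e2, sub_self]
  intro m
  have h := qp_pt hX0 m
  simp only [Module.End.mul_apply, LinearMap.add_apply, LinearMap.sub_apply, LinearMap.neg_apply, Module.End.one_apply, LinearMap.zero_apply, map_add, map_sub, map_neg, map_zero, sub_zero, zero_sub, add_zero, zero_add, neg_zero, neg_neg, sub_self] at h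
  exact sub_eq_zero.mp h

/-- the main conjugation statement -/
theorem qp_tri_main [FiniteDimensional k M] (S : QpTri G d A B N Nb) {N' : Module.End k M}
    (hD : qpCls G N N') (h0 : N' ≠ 0) :
    ∃ Y : Module.End k M, qpN G Y ∧ A * Y - Y * A = N' ∧ A * Y * A = 0 ∧ Y * A * Y = 0 ∧ B * Y = 0 ∧
      Y * B = 0 ∧ (∀ N₂ : Module.End k M, qpCls G N N₂ → N₂ * Y = 0 ∧ Y * N₂ = 0) ∧
      (N * Nb * B * Nb * N = 0 → Y = B * Nb * N' + N' * Nb * B) := by
  obtain ⟨r_aa, r_bb, r_aba, r_bab, r_an, r_na, r_bn, r_nb, r_nn, r_cc, r_i1, r_i2, r_N⟩ := S.rels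
  obtain ⟨d_an, d_na, d_bn, d_nb, d_nn1, d_nn2, d_nn3, d_i1, d_i2⟩ := qpCls_rels S hD
  obtain ⟨hr, hk⟩ := hD.2.resolve_left h0
  have hY := qp_tri_Y S hD.1 h0 hr hk
  have hcm := qp_tri_comm S hD
  obtain ⟨Y, hYdef⟩ : ∃ Y, Y = B * Nb * N' + N' * Nb * B - N * Nb * B * Nb * N' - N' * Nb * B * Nb * N +
    N' * Nb * B * Nb * N' := ⟨_, rfl⟩
  rw [← hYdef] at hY
  have y1 : A * Y = A * B * Nb * N' := by
    rw [hYdef]
    refine LinearMap.ext fun m => ?_
    simp only [Module.End.mul_apply, LinearMap.add_apply, LinearMap.sub_apply, LinearMap.neg_apply, Module.End.one_apply, LinearMap.zero_apply, map_add, map_sub, map_neg, map_zero, sub_zero, zero_sub, add_zero, zero_add, neg_zero, neg_neg, sub_self, r_aa, r_bb, r_aba, r_bab, r_an, r_na, r_bn, r_nb, r_nn, r_cc, r_i1, r_i2, d_an, d_na, d_bn, d_nb, d_nn1, d_nn2, d_nn3, d_i1, d_i2] <;> abel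
  have y2 : Y * A = N' * Nb * B * A := by
    rw [hYdef]
    refine LinearMap.ext fun m => ?_
    simp only [Module.End.mul_apply, LinearMap.add_apply, LinearMap.sub_apply, LinearMap.neg_apply, Module.End.one_apply, LinearMap.zero_apply, map_add, map_sub, map_neg, map_zero, sub_zero, zero_sub, add_zero, zero_add, neg_zero, neg_neg, sub_self, r_aa, r_bb, r_aba, r_bab, r_an, r_na, r_bn, r_nb, r_nn, r_cc, r_i1, r_i2, d_an, d_na, d_bn, d_nb, d_nn1, d_nn2, d_nn3, d_i1, d_i2] <;> abel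
  refine ⟨Y, hY, ?_, ?_, ?_, ?_, ?_, ?_, ?_⟩
  · rw [y1, y2]
    refine LinearMap.ext fun m => ?_
    simp only [Module.End.mul_apply, LinearMap.add_apply, LinearMap.sub_apply, LinearMap.neg_apply, Module.End.one_apply, LinearMap.zero_apply, map_add, map_sub, map_neg, map_zero, sub_zero, zero_sub, add_zero, zero_add, neg_zero, neg_neg, sub_self]
    rw [← hcm m]
    have h := d_i1 m
    rw [r_N] at h
    exact h
  · rw [y1]
    refine LinearMap.ext fun m => ?_
    simp only [Module.End.mul_apply, LinearMap.add_apply, LinearMap.sub_apply, LinearMap.neg_apply, Module.End.one_apply, LinearMap.zero_apply, map_add, map_sub, map_neg, map_zero, sub_zero, zero_sub, add_zero, zero_add, neg_zero, neg_neg, sub_self, r_aa, r_bb, r_aba, r_bab, r_an, r_na, r_bn, r_nb, r_nn, r_cc, r_i1, r_i2, d_an, d_na, d_bn, d_nb, d_nn1, d_nn2, d_nn3, d_i1, d_i2]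
  · rw [y2, hYdef]
    refine LinearMap.ext fun m => ?_
    simp only [Module.End.mul_apply, LinearMap.add_apply, LinearMap.sub_apply, LinearMap.neg_apply, Module.End.one_apply, LinearMap.zero_apply, map_add, map_sub, map_neg, map_zero, sub_zero, zero_sub, add_zero, zero_add, neg_zero, neg_neg, sub_self, r_aa, r_bb, r_aba, r_bab, r_an, r_na, r_bn, r_nb, r_nn, r_cc, r_i1, r_i2, d_an, d_na, d_bn, d_nb, d_nn1, d_nn2, d_nn3, d_i1, d_i2] <;> abel
  · rw [hYdef]
    refine LinearMap.ext fun m => ?_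
    simp only [Module.End.mul_apply, LinearMap.add_apply, LinearMap.sub_apply, LinearMap.neg_apply, Module.End.one_apply, LinearMap.zero_apply, map_add, map_sub, map_neg, map_zero, sub_zero, zero_sub, add_zero, zero_add, neg_zero, neg_neg, sub_self, r_aa, r_bb, r_aba, r_bab, r_an, r_na, r_bn, r_nb, r_nn, r_cc, r_i1, r_i2, d_an, d_na, d_bn, d_nb, d_nn1, d_nn2, d_nn3, d_i1, d_i2] <;> abel
  · rw [hYdef]
    refine LinearMap.ext fun m => ?_
    simp only [Module.End.mul_apply, LinearMap.add_apply, LinearMap.sub_apply, LinearMap.neg_apply, Module.End.one_apply, LinearMap.zero_apply, map_add, map_sub, map_neg, map_zero, sub_zero, zero_sub, add_zero, zero_add, neg_zero, neg_neg, sub_self, r_aa, r_bb, r_aba, r_bab, r_an, r_na, r_bn, r_nb, r_nn, r_cc, r_i1, r_i2, d_an, d_na, d_bn, d_nb, d_nn1, d_nn2, d_nn3, d_i1, d_i2] <;> abel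
  · intro N₂ hD2
    obtain ⟨f_an, f_na, f_bn, f_nb, f_nn1, f_nn2, f_nn3, f_i1, f_i2⟩ := qpCls_rels S hD2
    have g1 : ∀ m : M, N₂ (N' m) = 0 := fun m => qpCls_mul S.hNN.1 hD2 hD m
    have g2 : ∀ m : M, N' (N₂ m) = 0 := fun m => qpCls_mul S.hNN.1 hD hD2 m
    constructor
    · rw [hYdef]
      refine LinearMap.ext fun m => ?_
      simp only [Module.End.mul_apply, LinearMap.add_apply, LinearMap.sub_apply, LinearMap.neg_apply, Module.End.one_apply, LinearMap.zero_apply, map_add, map_sub, map_neg, map_zero, sub_zero, zero_sub, add_zero, zero_add, neg_zero, neg_neg, sub_self, r_aa, r_bb, r_aba, r_bab, r_an, r_na, r_bn, r_nb, r_nn, r_cc, r_i1, r_i2, d_an, d_na, d_bn, d_nb, d_nn1, d_nn2, d_nn3, d_i1, d_i2, f_an, f_na, f_bn, f_nb, f_nn1, f_nn2, f_nn3, g1, g2] <;> abel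
    · rw [hYdef]
      refine LinearMap.ext fun m => ?_
      simp only [Module.End.mul_apply, LinearMap.add_apply, LinearMap.sub_apply, LinearMap.neg_apply, Module.End.one_apply, LinearMap.zero_apply, map_add, map_sub, map_neg, map_zero, sub_zero, zero_sub, add_zero, zero_add, neg_zero, neg_neg, sub_self, r_aa, r_bb, r_aba, r_bab, r_an, r_na, r_bn, r_nb, r_nn, r_cc, r_i1, r_i2, d_an, d_na, d_bn, d_nb, d_nn1, d_nn2, d_nn3, d_i1, d_i2, f_an, f_na, f_bn, f_nb, f_nn1, f_nn2, f_nn3, g1, g2] <;> abel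
  · intro hodd
    have ho : ∀ m : M, N (Nb (B (Nb (N m)))) = 0 := fun m => qp_pt hodd m
    have o1 : ∀ m : M, N (Nb (B (Nb (N' m)))) = 0 := qp_tr_range (X := N * Nb * B * Nb) hr ho
    have o2 : ∀ m : M, N' (Nb (B (Nb (N m)))) = 0 := qp_tr_ker (X := Nb * B * Nb * N) hk ho
    have o3 : ∀ m : M, N' (Nb (B (Nb (N' m)))) = 0 := qp_tr_range (X := N' * Nb * B * Nb) hr o2
    rw [hYdef]
    refine LinearMap.ext fun m => ?_
    simp only [Module.End.mul_apply, LinearMap.add_apply, LinearMap.sub_apply, LinearMap.neg_apply, Module.End.one_apply, LinearMap.zero_apply, map_add, map_sub, map_neg, map_zero, sub_zero, zero_sub, add_zero, zero_add, neg_zero, neg_neg, sub_self, o1, o2, o3]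

end qp19a

end Cfsg.Agent.Lib.helper85
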