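import Cfsg.Agent.Lib.helper85.QP1
import Cfsg.Agent.S5060

set_option autoImplicit false
set_option linter.unusedSimpArgs false

namespace Cfsg.Agent.Lib.helper85

open Polynomial
open scoped commutatorElement

section qm
variable {R : Type*} [CommRing R]

theorem qm_ext {g h : Matrix.SpecialLinearGroup (Fin 2) R} (h00 : g.1 0 0 = h.1 0 0)
    (h01 : g.1 0 1 = h.1 0 1) (h10 : g.1 1 0 = h.1 1 0) (h11 : g.1 1 1 = h.1 1 1) : g = h := by
  apply Subtype.ext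
  ext i j
  fin_cases i <;> fin_cases j <;> assumption

theorem qm_det (g : Matrix.SpecialLinearGroup (Fin 2) R) :
    g.1 0 0 * g.1 1 1 - g.1 0 1 * g.1 1 0 = 1 := by
  have := g.2
  rwa [Matrix.det_fin_two] at this

theorem qm_mul00 (g h : Matrix.SpecialLinearGroup (Fin 2) R) :
    (g * h).1 0 0 = g.1 0 0 * h.1 0 0 + g.1 0 1 * h.1 1 0 := by
  simp [Matrix.SpecialLinearGroup.coe_mul, Matrix.mul_apply, Fin.sum_univ_two]
theorem qm_mul01 (g h : Matrix.SpecialLinearGroup (Fin 2) R) :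
    (g * h).1 0 1 = g.1 0 0 * h.1 0 1 + g.1 0 1 * h.1 1 1 := by
  simp [Matrix.SpecialLinearGroup.coe_mul, Matrix.mul_apply, Fin.sum_univ_two]
theorem qm_mul10 (g h : Matrix.SpecialLinearGroup (Fin 2) R) :
    (g * h).1 1 0 = g.1 1 0 * h.1 0 0 + g.1 1 1 * h.1 1 0 := by
  simp [Matrix.SpecialLinearGroup.coe_mul, Matrix.mul_apply, Fin.sum_univ_two]
theorem qm_mul11 (g h : Matrix.SpecialLinearGroup (Fin 2) R) :
    (g * h).1 1 1 = g.1 1 0 * h.1 0 1 + g.1 1 1 * h.1 1 1 := by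
  simp [Matrix.SpecialLinearGroup.coe_mul, Matrix.mul_apply, Fin.sum_univ_two]

theorem qm_inv00 (g : Matrix.SpecialLinearGroup (Fin 2) R) : (g⁻¹).1 0 0 = g.1 1 1 := by
  simp [Matrix.SpecialLinearGroup.coe_inv, Matrix.adjugate_fin_two]
theorem qm_inv01 (g : Matrix.SpecialLinearGroup (Fin 2) R) : (g⁻¹).1 0 1 = - g.1 0 1 := by
  simp [Matrix.SpecialLinearGroup.coe_inv, Matrix.adjugate_fin_two]
theorem qm_inv10 (g : Matrix.SpecialLinearGroup (Fin 2) R) : (g⁻¹).1 1 0 = - g.1 1 0 := by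
  simp [Matrix.SpecialLinearGroup.coe_inv, Matrix.adjugate_fin_two]
theorem qm_inv11 (g : Matrix.SpecialLinearGroup (Fin 2) R) : (g⁻¹).1 1 1 = g.1 0 0 := by
  simp [Matrix.SpecialLinearGroup.coe_inv, Matrix.adjugate_fin_two]

theorem qm_one00 : (1 : Matrix.SpecialLinearGroup (Fin 2) R).1 0 0 = 1 := by simp
theorem qm_one01 : (1 : Matrix.SpecialLinearGroup (Fin 2) R).1 0 1 = 0 := by simp
theorem qm_one10 : (1 : Matrix.SpecialLinearGroup (Fin 2) R).1 1 0 = 0 := by simp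
theorem qm_one11 : (1 : Matrix.SpecialLinearGroup (Fin 2) R).1 1 1 = 1 := by simp

theorem qm_map_apply {S : Type*} [CommRing S] (f : R →+* S) (g : Matrix.SpecialLinearGroup (Fin 2) R)
    (i j : Fin 2) : (Matrix.SpecialLinearGroup.map f g).1 i j = f (g.1 i j) := by
  simp [Matrix.SpecialLinearGroup.map_apply_coe]

end qm

section qp2
variable {k : Type*} [Field k]

/-- upper generator -/
noncomputable def qpU (c : k) : Matrix.SpecialLinearGroup (Fin 2) k[X] :=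
  ⟨!![1, C c; 0, 1], by simp [Matrix.det_fin_two_of]⟩

/-- lower generator -/
noncomputable def qpL (c : k) : Matrix.SpecialLinearGroup (Fin 2) k[X] :=
  ⟨!![1, 0; X * C c, 1], by simp [Matrix.det_fin_two_of]⟩

theorem qpU_00 (c : k) : (qpU c).1 0 0 = 1 := rfl
theorem qpU_01 (c : k) : (qpU c).1 0 1 = C c := rfl
theorem qpU_10 (c : k) : (qpU c).1 1 0 = 0 := rfl
theorem qpU_11 (c : k) : (qpU c).1 1 1 = 1 := rfl
theorem qpL_00 (c : k) : (qpL c).1 0 0 = 1 := rfl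
theorem qpL_01 (c : k) : (qpL c).1 0 1 = 0 := rfl
theorem qpL_10 (c : k) : (qpL c).1 1 0 = X * C c := rfl
theorem qpL_11 (c : k) : (qpL c).1 1 1 = 1 := rfl

/-- the group generated by the two families -/
noncomputable def qpGam (k : Type*) [Field k] : Subgroup (Matrix.SpecialLinearGroup (Fin 2) k[X]) :=
  Subgroup.closure (Set.range (qpU (k := k)) ∪ Set.range (qpL (k := k)))

theorem qpU_mem (c : k) : qpU c ∈ qpGam k := Subgroup.subset_closure (Or.inl ⟨c, rfl⟩)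
theorem qpL_mem (c : k) : qpL c ∈ qpGam k := Subgroup.subset_closure (Or.inr ⟨c, rfl⟩)

theorem qpOrd_inv {g : Matrix.SpecialLinearGroup (Fin 2) k[X]} (h : qpOrd g.1) : qpOrd (g⁻¹).1 := by
  obtain ⟨⟨p3, h3⟩, ⟨p4, h4⟩⟩ := h
  refine ⟨⟨-p3, ?_⟩, ⟨-p4, ?_⟩⟩
  · rw [qm_inv10, h3]; ring
  · rw [qm_inv00, qm_inv11]
    have : g.1 1 1 - g.1 0 0 = -(g.1 0 0 - g.1 1 1) := by ring
    rw [this, h4]; ring

theorem qpGam_ord {g : Matrix.SpecialLinearGroup (Fin 2) k[X]} (hg : g ∈ qpGam k) : qpOrd g.1 := by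
  unfold qpGam at hg
  induction hg using Subgroup.closure_induction with
  | mem x hx =>
    rcases hx with ⟨c, rfl⟩ | ⟨c, rfl⟩
    · exact ⟨⟨0, by rw [qpU_10]; ring⟩, ⟨0, by rw [qpU_00, qpU_11]; ring⟩⟩
    · exact ⟨⟨C c, by rw [qpL_10]⟩, ⟨0, by rw [qpL_00, qpL_11]; ring⟩⟩
  | one => exact qpOrd_one
  | mul x y _ _ hx hy => exact qpOrd_mul hx hy
  | inv x _ hx => exact qpOrd_inv hx

theorem qpGam_ord1 {g : Matrix.SpecialLinearGroup (Fin 2) k[X]} (hg : g ∈ qpGam k) :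
    X ∣ g.1 1 0 ∧ X ∣ g.1 0 0 - 1 ∧ X ∣ g.1 1 1 - 1 := by
  unfold qpGam at hg
  induction hg using Subgroup.closure_induction with
  | mem x hx =>
    rcases hx with ⟨c, rfl⟩ | ⟨c, rfl⟩
    · refine ⟨⟨0, by rw [qpU_10]; ring⟩, ⟨0, by rw [qpU_00]; ring⟩, ⟨0, by rw [qpU_11]; ring⟩⟩
    · refine ⟨⟨C c, by rw [qpL_10]⟩, ⟨0, by rw [qpL_00]; ring⟩, ⟨0, by rw [qpL_11]; ring⟩⟩
  | one => refine ⟨by rw [qm_one10]; exact dvd_zero _, by rw [qm_one00]; simp, by rw [qm_one11]; simp⟩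
  | mul x y _ _ hx hy =>
    obtain ⟨x1, x2, x3⟩ := hx
    obtain ⟨y1, y2, y3⟩ := hy
    refine ⟨?_, ?_, ?_⟩
    · rw [qm_mul10]; exact dvd_add (dvd_mul_of_dvd_left x1 _) (dvd_mul_of_dvd_right y1 _)
    · rw [qm_mul00]
      have : x.1 0 0 * y.1 0 0 + x.1 0 1 * y.1 1 0 - 1 =
          (x.1 0 0 - 1) * y.1 0 0 + (y.1 0 0 - 1) + x.1 0 1 * y.1 1 0 := by ring
      rw [this]
      exact dvd_add (dvd_add (dvd_mul_of_dvd_left x2 _) y2) (dvd_mul_of_dvd_right y1 _)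
    · rw [qm_mul11]
      have : x.1 1 0 * y.1 0 1 + x.1 1 1 * y.1 1 1 - 1 =
          x.1 1 0 * y.1 0 1 + (x.1 1 1 - 1) * y.1 1 1 + (y.1 1 1 - 1) := by ring
      rw [this]
      exact dvd_add (dvd_add (dvd_mul_of_dvd_left x1 _) (dvd_mul_of_dvd_left x3 _)) y3
  | inv x _ hx =>
    obtain ⟨x1, x2, x3⟩ := hx
    refine ⟨by rw [qm_inv10]; exact (dvd_neg).mpr x1, by rw [qm_inv00]; exact x3, by rw [qm_inv11]; exact x2⟩

end qp2

section qpcong
variable {R : Type*} [CommRing R]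

theorem qp_dvd_mul_left {p : R} {E W : Matrix (Fin 2) (Fin 2) R} (h : ∀ i j, p ∣ E i j) :
    ∀ i j, p ∣ (E * W) i j := by
  intro i j
  rw [Matrix.mul_apply]
  exact Finset.dvd_sum fun l _ => dvd_mul_of_dvd_left (h i l) _

theorem qp_dvd_mul_right {p : R} {E W : Matrix (Fin 2) (Fin 2) R} (h : ∀ i j, p ∣ E i j) :
    ∀ i j, p ∣ (W * E) i j := by
  intro i j
  rw [Matrix.mul_apply]
  exact Finset.dvd_sum fun l _ => dvd_mul_of_dvd_right (h l j) _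

theorem qp_dvd_mul_mul {p p' : R} {E E' : Matrix (Fin 2) (Fin 2) R} (h : ∀ i j, p ∣ E i j)
    (h' : ∀ i j, p' ∣ E' i j) : ∀ i j, p * p' ∣ (E * E') i j := by
  intro i j
  rw [Matrix.mul_apply]
  exact Finset.dvd_sum fun l _ => mul_dvd_mul (h i l) (h' l j)

theorem qm_mul_inv (g : Matrix.SpecialLinearGroup (Fin 2) R) : g.1 * (g⁻¹).1 = 1 := by
  rw [← Matrix.SpecialLinearGroup.coe_mul, mul_inv_cancel]; rfl

theorem qm_inv_mul (g : Matrix.SpecialLinearGroup (Fin 2) R) : (g⁻¹).1 * g.1 = 1 := by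
  rw [← Matrix.SpecialLinearGroup.coe_mul, inv_mul_cancel]; rfl

/-- principal congruence subgroup -/
def qpCong (p : R) : Subgroup (Matrix.SpecialLinearGroup (Fin 2) R) where
  carrier := {g | ∀ i j, p ∣ (g.1 - 1) i j}
  one_mem' := by
    intro i j
    show p ∣ ((1 : Matrix.SpecialLinearGroup (Fin 2) R).1 - 1) i j
    have : ((1 : Matrix.SpecialLinearGroup (Fin 2) R).1 - 1) = 0 := by
      rw [Matrix.SpecialLinearGroup.coe_one, sub_self]
    rw [this]; exact dvd_zero _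
  mul_mem' := by
    intro g h hg hh i j
    show p ∣ ((g * h).1 - 1) i j
    have e : (g * h).1 - 1 = (g.1 - 1) * (h.1 - 1) + (g.1 - 1) + (h.1 - 1) := by
      rw [Matrix.SpecialLinearGroup.coe_mul]; noncomm_ring
    rw [e, Matrix.add_apply, Matrix.add_apply]
    exact dvd_add (dvd_add (qp_dvd_mul_left hg i j) (hg i j)) (hh i j)
  inv_mem' := by
    intro g hg i j
    show p ∣ ((g⁻¹).1 - 1) i j
    have e : (g⁻¹).1 - 1 = -((g.1 - 1) * (g⁻¹).1) := by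
      rw [sub_mul, qm_mul_inv, one_mul]; abel
    rw [e, Matrix.neg_apply]
    exact (dvd_neg).mpr (qp_dvd_mul_left hg i j)

theorem qpCong_mem {p : R} {g : Matrix.SpecialLinearGroup (Fin 2) R} :
    g ∈ qpCong p ↔ ∀ i j, p ∣ (g.1 - 1) i j := Iff.rfl

theorem qp_comm_sub_one (g h : Matrix.SpecialLinearGroup (Fin 2) R) :
    (⁅g, h⁆).1 - 1 = (g.1 * h.1 - h.1 * g.1) * ((g⁻¹).1 * (h⁻¹).1) := by
  rw [commutatorElement_def, Matrix.SpecialLinearGroup.coe_mul, Matrix.SpecialLinearGroup.coe_mul,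
    Matrix.SpecialLinearGroup.coe_mul, sub_mul]
  have e1 : h.1 * g.1 * ((g⁻¹).1 * (h⁻¹).1) = 1 := by
    rw [mul_assoc, ← mul_assoc g.1, qm_mul_inv, one_mul, qm_mul_inv]
  rw [e1, ← mul_assoc]

theorem qpCong_comm {p p' : R} : ⁅qpCong p, qpCong p'⁆ ≤ qpCong (p * p') := by
  rw [Subgroup.commutator_le]
  intro g hg h hh
  rw [qpCong_mem, qp_comm_sub_one]
  apply qp_dvd_mul_left
  have e : g.1 * h.1 - h.1 * g.1 = (g.1 - 1) * (h.1 - 1) - (h.1 - 1) * (g.1 - 1) := by noncomm_ring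
  rw [e]
  intro i j
  rw [Matrix.sub_apply]
  refine dvd_sub (qp_dvd_mul_mul hg hh i j) ?_
  rw [mul_comm p p']
  exact qp_dvd_mul_mul hh hg i j

end qpcong

section qpder
variable {k : Type*} [Field k]

theorem qpGam_comm_cong {g h : Matrix.SpecialLinearGroup (Fin 2) k[X]} (hg : qpOrd g.1) (hh : qpOrd h.1) :
    ⁅g, h⁆ ∈ qpCong (X : k[X]) := by
  rw [qpCong_mem, qp_comm_sub_one]
  apply qp_dvd_mul_left
  obtain ⟨g1, g2⟩ := hg
  obtain ⟨h1, h2⟩ := hh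
  intro i j
  rw [Matrix.sub_apply, Matrix.mul_apply, Matrix.mul_apply, Fin.sum_univ_two, Fin.sum_univ_two]
  fin_cases i <;> fin_cases j
  · show X ∣ g.1 0 0 * h.1 0 0 + g.1 0 1 * h.1 1 0 - (h.1 0 0 * g.1 0 0 + h.1 0 1 * g.1 1 0)
    have : g.1 0 0 * h.1 0 0 + g.1 0 1 * h.1 1 0 - (h.1 0 0 * g.1 0 0 + h.1 0 1 * g.1 1 0) =
        g.1 0 1 * h.1 1 0 - h.1 0 1 * g.1 1 0 := by ring
    rw [this]
    exact dvd_sub (dvd_mul_of_dvd_right h1 _) (dvd_mul_of_dvd_right g1 _)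
  · show X ∣ g.1 0 0 * h.1 0 1 + g.1 0 1 * h.1 1 1 - (h.1 0 0 * g.1 0 1 + h.1 0 1 * g.1 1 1)
    have : g.1 0 0 * h.1 0 1 + g.1 0 1 * h.1 1 1 - (h.1 0 0 * g.1 0 1 + h.1 0 1 * g.1 1 1) =
        (g.1 0 0 - g.1 1 1) * h.1 0 1 - (h.1 0 0 - h.1 1 1) * g.1 0 1 := by ring
    rw [this]
    exact dvd_sub (dvd_mul_of_dvd_left g2 _) (dvd_mul_of_dvd_left h2 _)
  · show X ∣ g.1 1 0 * h.1 0 0 + g.1 1 1 * h.1 1 0 - (h.1 1 0 * g.1 0 0 + h.1 1 1 * g.1 1 0)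
    exact dvd_sub (dvd_add (dvd_mul_of_dvd_left g1 _) (dvd_mul_of_dvd_right h1 _))
      (dvd_add (dvd_mul_of_dvd_left h1 _) (dvd_mul_of_dvd_right g1 _))
  · show X ∣ g.1 1 0 * h.1 0 1 + g.1 1 1 * h.1 1 1 - (h.1 1 0 * g.1 0 1 + h.1 1 1 * g.1 1 1)
    have : g.1 1 0 * h.1 0 1 + g.1 1 1 * h.1 1 1 - (h.1 1 0 * g.1 0 1 + h.1 1 1 * g.1 1 1) =
        g.1 1 0 * h.1 0 1 - h.1 1 0 * g.1 0 1 := by ring
    rw [this]
    exact dvd_sub (dvd_mul_of_dvd_left g1 _) (dvd_mul_of_dvd_left h1 _)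

/-- the derived series of the group -/
noncomputable def qpD (k : Type*) [Field k] : ℕ → Subgroup (Matrix.SpecialLinearGroup (Fin 2) k[X])
  | 0 => qpGam k
  | n + 1 => ⁅qpD k n, qpD k n⁆

theorem qpD_le (n : ℕ) : qpD k n ≤ qpGam k := by
  induction n with
  | zero => exact le_refl _
  | succ n ih =>
    show ⁅qpD k n, qpD k n⁆ ≤ qpGam k
    rw [Subgroup.commutator_le]
    intro g hg h hh
    rw [commutatorElement_def]
    exact mul_mem (mul_mem (mul_mem (ih hg) (ih hh)) (inv_mem (ih hg))) (inv_mem (ih hh))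

theorem qpD_cong (n : ℕ) : qpD k (n + 1) ≤ qpCong ((X : k[X]) ^ (2 ^ n)) := by
  induction n with
  | zero =>
    show ⁅qpD k 0, qpD k 0⁆ ≤ _
    rw [Subgroup.commutator_le]
    intro g hg h hh
    rw [pow_zero, pow_one]
    exact qpGam_comm_cong (qpGam_ord hg) (qpGam_ord hh)
  | succ n ih =>
    show ⁅qpD k (n + 1), qpD k (n + 1)⁆ ≤ _
    refine le_trans (Subgroup.commutator_mono ih ih) ?_
    have : (X : k[X]) ^ (2 ^ (n + 1)) = X ^ (2 ^ n) * X ^ (2 ^ n) := by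
      rw [← pow_add]; congr 1; rw [pow_succ]; ring
    rw [this]
    exact qpCong_comm

theorem qpD_map {H : Type*} [Group H] (f : Matrix.SpecialLinearGroup (Fin 2) k[X] →* H)
    (hf : (qpGam k).map f = ⊤) (hp : ⁅(⊤ : Subgroup H), (⊤ : Subgroup H)⁆ = ⊤) (n : ℕ) :
    (qpD k n).map f = ⊤ := by
  induction n with
  | zero => exact hf
  | succ n ih =>
    show (⁅qpD k n, qpD k n⁆).map f = ⊤
    rw [Subgroup.map_commutator, ih, hp]

end qpder

end Cfsg.Agent.Lib.helper85
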