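import Cfsg.Agent.Lib.helper85.QP19

set_option autoImplicit false
set_option linter.unusedSimpArgs false
set_option linter.unusedVariables false
set_option linter.unnecessarySeqFocus false

namespace Cfsg.Agent.Lib.helper85

section qp20a
variable {k : Type*} [Field k] {M : Type*} [AddCommGroup M] [Module k M]
variable {G : Subgroup (LinearMap.GeneralLinearGroup k M)}
variable {d : ℕ} {A B N Nb : Module.End k M}

theorem qp_conj_range_congr {u u' X X₂ : Module.End k M} (h2 : u' * u = 1)
    (hr : LinearMap.range X = LinearMap.range X₂) :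
    LinearMap.range (u * X * u') = LinearMap.range (u * X₂ * u') := by
  have key : ∀ Z : Module.End k M, LinearMap.range (u * Z * u') = (LinearMap.range Z).map u := by
    intro Z
    ext x
    constructor
    · rintro ⟨y, rfl⟩
      exact ⟨Z (u' y), ⟨_, rfl⟩, rfl⟩
    · rintro ⟨_, ⟨z, rfl⟩, rfl⟩
      refine ⟨u z, ?_⟩
      have e : u' (u z) = z := qp_pt h2 z
      rw [Module.End.mul_apply, Module.End.mul_apply, e]
  rw [key, key, hr]

theorem qp_conj_ker_congr {u u' X X₂ : Module.End k M} (h2 : u' * u = 1)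
    (hk : LinearMap.ker X = LinearMap.ker X₂) :
    LinearMap.ker (u * X * u') = LinearMap.ker (u * X₂ * u') := by
  have key : ∀ Z : Module.End k M, LinearMap.ker (u * Z * u') = (LinearMap.ker Z).comap u' := by
    intro Z
    ext x
    constructor
    · intro hx
      have h1 : u (Z (u' x)) = 0 := LinearMap.mem_ker.mp hx
      have e : u' (u (Z (u' x))) = Z (u' x) := qp_pt h2 _
      rw [h1, map_zero] at e
      exact LinearMap.mem_ker.mpr e.symm
    · intro hx
      have h1 : Z (u' x) = 0 := LinearMap.mem_ker.mp hx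
      refine LinearMap.mem_ker.mpr ?_
      rw [Module.End.mul_apply, Module.End.mul_apply, h1, map_zero]
  rw [key, key, hk]

/-- the corner part of `B` -/
theorem qp_tri_b3 [FiniteDimensional k M] (S : QpTri G d A B N Nb) : qpCls G N (N * Nb * B * Nb * N) := by
  obtain ⟨r_aa, r_bb, r_aba, r_bab, r_an, r_na, r_bn, r_nb, r_nn, r_cc, r_i1, r_i2, r_N⟩ := S.rels
  obtain ⟨n, hn, en, eni⟩ := qp_weyl_elt S.hNN S.hNb S.ip1 S.ip2
  have hq := qpN_conjG S.hB (G.mul_mem hn hn)
  have e1 : (((n * n : LinearMap.GeneralLinearGroup k M)) : Module.End k M) =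
      1 - (N * Nb + Nb * N) - (N * Nb + Nb * N) := by
    rw [Units.val_mul, en]
    refine LinearMap.ext fun m => ?_
    simp only [Module.End.mul_apply, LinearMap.add_apply, LinearMap.sub_apply, LinearMap.neg_apply, Module.End.one_apply, LinearMap.zero_apply, map_add, map_sub, map_neg, map_zero, sub_zero, zero_sub, add_zero, zero_add, neg_zero, neg_neg, sub_self, r_aa, r_bb, r_aba, r_bab, r_an, r_na, r_bn, r_nb, r_nn, r_cc, r_i1, r_i2] <;> abel
  have e2 : ((((n * n)⁻¹ : LinearMap.GeneralLinearGroup k M)) : Module.End k M) =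
      1 - (N * Nb + Nb * N) - (N * Nb + Nb * N) := by
    rw [mul_inv_rev, Units.val_mul, eni]
    refine LinearMap.ext fun m => ?_
    simp only [Module.End.mul_apply, LinearMap.add_apply, LinearMap.sub_apply, LinearMap.neg_apply, Module.End.one_apply, LinearMap.zero_apply, map_add, map_sub, map_neg, map_zero, sub_zero, zero_sub, add_zero, zero_add, neg_zero, neg_neg, sub_self, r_aa, r_bb, r_aba, r_bab, r_an, r_na, r_bn, r_nb, r_nn, r_cc, r_i1, r_i2] <;> abel
  rw [e1, e2] at hq
  have e3 : (1 - (N * Nb + Nb * N) - (N * Nb + Nb * N)) * B * (1 - (N * Nb + Nb * N) - (N * Nb + Nb * N)) =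
      (N * Nb * B * Nb * N + N * Nb * B * Nb * N) - B := by
    refine LinearMap.ext fun m => ?_
    simp only [Module.End.mul_apply, LinearMap.add_apply, LinearMap.sub_apply, LinearMap.neg_apply, Module.End.one_apply, LinearMap.zero_apply, map_add, map_sub, map_neg, map_zero, sub_zero, zero_sub, add_zero, zero_add, neg_zero, neg_neg, sub_self, r_aa, r_bb, r_aba, r_bab, r_an, r_na, r_bn, r_nb, r_nn, r_cc, r_i1, r_i2]
    have h := sub_eq_zero.mpr (S.shapeB m)
    have h2 := congrArg (fun x => x + x) h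
    simp only [add_zero] at h2
    rw [← sub_eq_zero]
    refine Eq.trans ?_ h2
    abel
  rw [e3] at hq
  have h1 : B * ((N * Nb * B * Nb * N + N * Nb * B * Nb * N) - B) = 0 := by
    refine LinearMap.ext fun m => ?_
    simp only [Module.End.mul_apply, LinearMap.add_apply, LinearMap.sub_apply, LinearMap.neg_apply, Module.End.one_apply, LinearMap.zero_apply, map_add, map_sub, map_neg, map_zero, sub_zero, zero_sub, add_zero, zero_add, neg_zero, neg_neg, sub_self, r_aa, r_bb, r_aba, r_bab, r_an, r_na, r_bn, r_nb, r_nn, r_cc, r_i1, r_i2]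
  have h2 : ((N * Nb * B * Nb * N + N * Nb * B * Nb * N) - B) * B = 0 := by
    refine LinearMap.ext fun m => ?_
    simp only [Module.End.mul_apply, LinearMap.add_apply, LinearMap.sub_apply, LinearMap.neg_apply, Module.End.one_apply, LinearMap.zero_apply, map_add, map_sub, map_neg, map_zero, sub_zero, zero_sub, add_zero, zero_add, neg_zero, neg_neg, sub_self, r_aa, r_bb, r_aba, r_bab, r_an, r_na, r_bn, r_nb, r_nn, r_cc, r_i1, r_i2]
  have hq2 := qpN_add S.hB hq h1 h2
  have e4 : B + ((N * Nb * B * Nb * N + N * Nb * B * Nb * N) - B) = (2 : k) • (N * Nb * B * Nb * N) := by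
    rw [two_smul]; abel
  rw [e4] at hq2
  have hq3 := qpN_smul hq2 (2⁻¹ : k)
  rw [smul_smul, inv_mul_cancel₀ S.h2, one_smul] at hq3
  refine qpCls_of_le S.hmin S.ustr.2.2 hq3 ?_ ?_
  · rintro _ ⟨m, rfl⟩
    exact ⟨Nb (B (Nb (N m))), rfl⟩
  · intro m hm
    have hm' : N m = 0 := LinearMap.mem_ker.mp hm
    refine LinearMap.mem_ker.mpr ?_
    simp only [Module.End.mul_apply, LinearMap.add_apply, LinearMap.sub_apply, LinearMap.neg_apply, Module.End.one_apply, LinearMap.zero_apply, map_add, map_sub, map_neg, map_zero, sub_zero, zero_sub, add_zero, zero_add, neg_zero, neg_neg, sub_self, hm']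

/-- the case of a vanishing corner -/
theorem qp_tri_odd [FiniteDimensional k M] (S : QpTri G d A B N Nb) (hodd : N * Nb * B * Nb * N = 0)
    {N' : Module.End k M} (hD : qpCls G N N') (h0 : N' ≠ 0) :
    ∃ Y : Module.End k M, qpN G Y ∧ LinearMap.range Y = LinearMap.range B ∧
      LinearMap.ker Y = LinearMap.ker B ∧ A * Y - Y * A = N' := by
  obtain ⟨r_aa, r_bb, r_aba, r_bab, r_an, r_na, r_bn, r_nb, r_nn, r_cc, r_i1, r_i2, r_N⟩ := S.rels
  obtain ⟨d_an, d_na, d_bn, d_nb, d_nn1, d_nn2, d_nn3, d_i1, d_i2⟩ := qpCls_rels S hD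
  obtain ⟨hr, hk⟩ := hD.2.resolve_left h0
  obtain ⟨Y, hY, hc, -, -, -, -, -, hform⟩ := qp_tri_main S hD h0
  have e := hform hodd
  have hcm := qp_tri_comm S hD
  have ho : ∀ m : M, N (Nb (B (Nb (N m)))) = 0 := fun m => qp_pt hodd m
  have o2 : ∀ m : M, N' (Nb (B (Nb (N m)))) = 0 := qp_tr_ker (X := Nb * B * Nb * N) hk ho
  -- `Nb B Nb = 0`
  have hn : ∀ m : M, Nb (B (Nb m)) = 0 := by
    intro m
    have e1 := r_i2 m
    have e2 := r_i2 (B (Nb (N (Nb m))))
    rw [ho, map_zero, e1] at e2
    exact e2.symm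
  have hz : (B * Nb + Nb * B) ^ 2 = 0 := by
    rw [pow_two]
    refine LinearMap.ext fun m => ?_
    simp only [Module.End.mul_apply, LinearMap.add_apply, LinearMap.sub_apply, LinearMap.neg_apply, Module.End.one_apply, LinearMap.zero_apply, map_add, map_sub, map_neg, map_zero, sub_zero, zero_sub, add_zero, zero_add, neg_zero, neg_neg, sub_self, r_aa, r_bb, r_aba, r_bab, r_an, r_na, r_bn, r_nb, r_nn, r_cc, r_i1, r_i2, hn]
  have hu := (qp_unip S.h2 S.hmin S.hB S.hNb S.rB S.rNb hz).1
  have hBNbB : ∀ m : M, B (Nb (B m)) = 0 := by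
    intro m
    have h1 := qp_pt hu m
    simp only [Module.End.mul_apply, LinearMap.add_apply, LinearMap.sub_apply, LinearMap.neg_apply, Module.End.one_apply, LinearMap.zero_apply, map_add, map_sub, map_neg, map_zero, sub_zero, zero_sub, add_zero, zero_add, neg_zero, neg_neg, sub_self, r_aa, r_bb, r_aba, r_bab, r_an, r_na, r_bn, r_nb, r_nn, r_cc, r_i1, r_i2] at h1
    exact h1
  have hcl : qpCls G B Y := by
    refine qpCls_of_le S.hmin S.rB hY ?_ ?_
    · rintro _ ⟨m, rfl⟩
      rw [e]
      simp only [Module.End.mul_apply, LinearMap.add_apply, LinearMap.sub_apply, LinearMap.neg_apply, Module.End.one_apply, LinearMap.zero_apply, map_add, map_sub, map_neg, map_zero, sub_zero, zero_sub, add_zero, zero_add, neg_zero, neg_neg, sub_self]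
      refine Submodule.add_mem _ ⟨_, rfl⟩ ?_
      -- `N' Nb B m = N' Nb B (m - Nb N m)`
      have h1 : N (m - Nb (N m)) = 0 := by rw [map_sub, r_i1, sub_self]
      obtain ⟨-, -, ⟨y, hy⟩, -⟩ := S.kerf h1
      have h2 : N' (Nb (B m)) = N' (Nb (B (A y))) := by
        rw [hy, map_sub, map_sub, map_sub, o2, sub_zero]
      rw [h2, ← hcm y]
      exact ⟨_, rfl⟩
    · intro m hm
      have hm' : B m = 0 := LinearMap.mem_ker.mp hm
      refine LinearMap.mem_ker.mpr ?_
      rw [e]
      simp only [Module.End.mul_apply, LinearMap.add_apply, LinearMap.sub_apply, LinearMap.neg_apply, Module.End.one_apply, LinearMap.zero_apply, map_add, map_sub, map_neg, map_zero, sub_zero, zero_sub, add_zero, zero_add, neg_zero, neg_neg, sub_self, hm']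
      -- `B (Nb (N' m)) = 0`
      have h1 : B (Nb (N m)) = 0 := by
        have h := S.shapeB m
        rw [hm', ho, map_zero, map_zero, sub_zero, zero_sub] at h
        exact neg_eq_zero.mp h
      have h2 : N' m = -(B (A (Nb (N' m)))) := by
        have h3 := d_i2 (Nb (N m))
        rw [r_N (Nb (N m)), h1, map_zero, zero_sub, map_neg, map_neg, ← hcm] at h3
        rw [d_i2 m] at h3
        exact h3.symm
      rw [h2, map_neg, map_neg, hBNbB, neg_zero]
  have hY0 : Y ≠ 0 := by
    intro h
    apply h0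
    rw [← hc, h]
    simp
  obtain ⟨hr2, hk2⟩ := hcl.2.resolve_left hY0
  exact ⟨Y, hY, hr2, hk2, hc⟩

/-- every member of the commutator class is a commutator with the fixed first factor -/
theorem qp_tri_core [FiniteDimensional k M] (S : QpTri G d A B N Nb) {N' : Module.End k M}
    (hD : qpCls G N N') (h0 : N' ≠ 0) :
    ∃ Bs : Module.End k M, qpN G Bs ∧ LinearMap.range Bs = LinearMap.range B ∧
      LinearMap.ker Bs = LinearMap.ker B ∧ A * Bs - Bs * A = N' := by
  by_cases hodd : N * Nb * B * Nb * N = 0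
  · exact qp_tri_odd S hodd hD h0
  · obtain ⟨r_aa, r_bb, r_aba, r_bab, r_an, r_na, r_bn, r_nb, r_nn, r_cc, r_i1, r_i2, r_N⟩ := S.rels
    have hB3 := qp_tri_b3 S
    obtain ⟨YA, hYA, hc, t1, t2, t3, t4, t5, -⟩ := qp_tri_main S.symm (qpCls_neg hB3) (neg_ne_zero.mpr hodd)
    obtain ⟨e, he, ee⟩ := hYA.2 1
    rw [one_smul] at ee
    have eei := qp_inv_val ee hYA.1
    have hq := qpN_conjG S.hB (G.inv_mem he)
    rw [inv_inv, eei, ee] at hq
    have hB' : (1 - YA) * B * (1 + YA) = B - N * Nb * B * Nb * N := by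
      calc (1 - YA) * B * (1 + YA) = B + (B * YA - YA * B) - YA * B * YA := by noncomm_ring
        _ = B - N * Nb * B * Nb * N := by rw [hc, t2]; abel
    have hrk : Module.finrank k (LinearMap.range ((1 - YA) * B * (1 + YA))) =
        Module.finrank k (LinearMap.range B) := by
      have i1 : (1 - YA) * (1 + YA) = 1 := by rw [← eei, ← ee]; exact Units.inv_mul e
      have i2 : (1 + YA) * (1 - YA) = 1 := by rw [← eei, ← ee]; exact Units.mul_inv e
      exact qp_rank_conj i1 i2 B
    have i1 : (1 - YA) * (1 + YA) = 1 := by rw [← eei, ← ee]; exact Units.inv_mul e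
    have i2 : (1 + YA) * (1 - YA) = 1 := by rw [← eei, ← ee]; exact Units.mul_inv e
    rw [hB'] at hq hrk
    have S' : QpTri G d A (B - N * Nb * B * Nb * N) N Nb :=
      { h2 := S.h2
        hmin := S.hmin
        hA := S.hA
        hB := hq
        rA := S.rA
        rB := by rw [hrk]; exact S.rB
        aba := by
          refine LinearMap.ext fun m => ?_
          simp only [Module.End.mul_apply, LinearMap.add_apply, LinearMap.sub_apply, LinearMap.neg_apply, Module.End.one_apply, LinearMap.zero_apply, map_add, map_sub, map_neg, map_zero, sub_zero, zero_sub, add_zero, zero_add, neg_zero, neg_neg, sub_self, r_aa, r_bb, r_aba, r_bab, r_an, r_na, r_bn, r_nb, r_nn, r_cc, r_i1, r_i2]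
        bab := by
          refine LinearMap.ext fun m => ?_
          simp only [Module.End.mul_apply, LinearMap.add_apply, LinearMap.sub_apply, LinearMap.neg_apply, Module.End.one_apply, LinearMap.zero_apply, map_add, map_sub, map_neg, map_zero, sub_zero, zero_sub, add_zero, zero_add, neg_zero, neg_neg, sub_self, r_aa, r_bb, r_aba, r_bab, r_an, r_na, r_bn, r_nb, r_nn, r_cc, r_i1, r_i2]
        hN := by
          refine LinearMap.ext fun m => ?_
          simp only [Module.End.mul_apply, LinearMap.add_apply, LinearMap.sub_apply, LinearMap.neg_apply, Module.End.one_apply, LinearMap.zero_apply, map_add, map_sub, map_neg, map_zero, sub_zero, zero_sub, add_zero, zero_add, neg_zero, neg_neg, sub_self, r_aa, r_bb, r_aba, r_bab, r_an, r_na, r_bn, r_nb, r_nn, r_cc, r_i1, r_i2]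
          exact (r_N m).symm
        hne := S.hne
        hNb := S.hNb
        rNb := S.rNb
        ip1 := S.ip1
        ip2 := S.ip2
        part := S.part }
    have hodd' : N * Nb * (B - N * Nb * B * Nb * N) * Nb * N = 0 := by
      refine LinearMap.ext fun m => ?_
      simp only [Module.End.mul_apply, LinearMap.add_apply, LinearMap.sub_apply, LinearMap.neg_apply, Module.End.one_apply, LinearMap.zero_apply, map_add, map_sub, map_neg, map_zero, sub_zero, zero_sub, add_zero, zero_add, neg_zero, neg_neg, sub_self, r_aa, r_bb, r_aba, r_bab, r_an, r_na, r_bn, r_nb, r_nn, r_cc, r_i1, r_i2]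
    obtain ⟨Y', hY', hr', hk', hc'⟩ := qp_tri_odd S' hodd' hD h0
    have hBs := qpN_conjG hY' he
    rw [ee, eei] at hBs
    have hBe : B = (1 + YA) * (B - N * Nb * B * Nb * N) * (1 - YA) := by
      rw [← hB']
      calc B = ((1 + YA) * (1 - YA)) * B * ((1 + YA) * (1 - YA)) := by rw [i2, one_mul, mul_one]
        _ = (1 + YA) * ((1 - YA) * B * (1 + YA)) * (1 - YA) := by simp only [mul_assoc]
    refine ⟨(1 + YA) * Y' * (1 - YA), hBs, ?_, ?_, ?_⟩
    · rw [qp_conj_range_congr i1 hr', ← hBe]
    · rw [qp_conj_ker_congr i1 hk', ← hBe]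
    · obtain ⟨t5a, t5b⟩ := t5 N' (qpCls_neg' hD)
      have hAe : A * (1 + YA) = (1 + YA) * A := by rw [mul_add, add_mul, t3, t4, mul_one, one_mul]
      have hAe' : (1 - YA) * A = A * (1 - YA) := by rw [mul_sub, sub_mul, t3, t4, mul_one, one_mul]
      calc A * ((1 + YA) * Y' * (1 - YA)) - (1 + YA) * Y' * (1 - YA) * A
          = (A * (1 + YA)) * Y' * (1 - YA) - (1 + YA) * Y' * ((1 - YA) * A) := by simp only [mul_assoc]
        _ = (1 + YA) * (A * Y' - Y' * A) * (1 - YA) := by rw [hAe, hAe']; noncomm_ring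
        _ = (1 + YA) * N' * (1 - YA) := by rw [hc']
        _ = N' := by rw [add_mul, one_mul, t5b, add_zero, mul_sub, mul_one, t5a, sub_zero]

end qp20a

end Cfsg.Agent.Lib.helper85
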