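import Mathlib
import Cfsg.Prelude.Def_RootSubgroups

set_option autoImplicit false

namespace Cfsg.Agent.Lib.helper85

open Cfsg

section UniLin

variable {k : Type*} [Field k] {M : Type*} [AddCommGroup M] [Module k M]

/-- `uPsi T N`: the vectors moved into `N` by every `t - 1`, `t ∈ T`. -/
def uPsi (T : Set (LinearMap.GeneralLinearGroup k M)) (N : Submodule k M) : Submodule k M :=
  ⨅ t ∈ T, N.comap ((t : M →ₗ[k] M) - 1)

theorem mem_uPsi {T : Set (LinearMap.GeneralLinearGroup k M)} {N : Submodule k M} {m : M} :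
    m ∈ uPsi T N ↔ ∀ t ∈ T, (t : M →ₗ[k] M) m - m ∈ N := by
  simp [uPsi, Submodule.mem_iInf]

/-- The canonical ascending flag of a set of linear automorphisms. -/
def uFl (T : Set (LinearMap.GeneralLinearGroup k M)) : ℕ → Submodule k M
  | 0 => ⊥
  | (i + 1) => uPsi T (uFl T i)

/-- `T` acts unipotently: its canonical flag reaches the whole space. -/
def Uni (T : Set (LinearMap.GeneralLinearGroup k M)) : Prop := ∃ n, uFl T n = ⊤

theorem uFl_succ (T : Set (LinearMap.GeneralLinearGroup k M)) (i : ℕ) :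
    uFl T (i + 1) = uPsi T (uFl T i) := rfl

theorem uFl_zero (T : Set (LinearMap.GeneralLinearGroup k M)) : uFl T 0 = ⊥ := rfl

theorem uPsi_mono {T : Set (LinearMap.GeneralLinearGroup k M)} {N N' : Submodule k M} (h : N ≤ N') :
    uPsi T N ≤ uPsi T N' := by
  intro m hm
  rw [mem_uPsi] at hm ⊢
  exact fun t ht => h (hm t ht)

theorem uPsi_anti {T T' : Set (LinearMap.GeneralLinearGroup k M)} (h : T' ⊆ T) (N : Submodule k M) :
    uPsi T N ≤ uPsi T' N := by
  intro m hm
  rw [mem_uPsi] at hm ⊢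
  exact fun t ht => hm t (h ht)

theorem uFl_le_succ (T : Set (LinearMap.GeneralLinearGroup k M)) (i : ℕ) : uFl T i ≤ uFl T (i + 1) := by
  induction i with
  | zero => exact bot_le
  | succ i ih => exact uPsi_mono ih

theorem uFl_mono (T : Set (LinearMap.GeneralLinearGroup k M)) : Monotone (uFl T) :=
  monotone_nat_of_le_succ (uFl_le_succ T)

theorem uFl_anti {T T' : Set (LinearMap.GeneralLinearGroup k M)} (h : T' ⊆ T) (i : ℕ) :
    uFl T i ≤ uFl T' i := by
  induction i with
  | zero => exact le_rfl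
  | succ i ih => exact (uPsi_mono ih).trans (uPsi_anti h _)

theorem Uni.mono {T T' : Set (LinearMap.GeneralLinearGroup k M)} (hT : Uni T) (h : T' ⊆ T) : Uni T' := by
  obtain ⟨n, hn⟩ := hT
  exact ⟨n, top_le_iff.mp (hn ▸ uFl_anti h n)⟩

theorem uni_empty : Uni (∅ : Set (LinearMap.GeneralLinearGroup k M)) := by
  refine ⟨1, top_le_iff.mp fun m _ => ?_⟩
  rw [uFl_succ, mem_uPsi]
  intro t ht
  exact absurd ht (Set.notMem_empty t)

theorem sub_mem_uFl {T : Set (LinearMap.GeneralLinearGroup k M)} {t : LinearMap.GeneralLinearGroup k M}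
    (ht : t ∈ T) {i : ℕ} {m : M} (hm : m ∈ uFl T (i + 1)) : (t : M →ₗ[k] M) m - m ∈ uFl T i :=
  mem_uPsi.mp hm t ht

/-- An automorphism acting unipotently along the flag preserves every term. -/
theorem map_mem_of_sub_mem {T : Set (LinearMap.GeneralLinearGroup k M)} {c : LinearMap.GeneralLinearGroup k M}
    (hc : ∀ i, ∀ m ∈ uFl T (i + 1), (c : M →ₗ[k] M) m - m ∈ uFl T i) (i : ℕ) {m : M} (hm : m ∈ uFl T i) :
    (c : M →ₗ[k] M) m ∈ uFl T i := by
  cases i with
  | zero =>
    rw [uFl_zero, Submodule.mem_bot] at hm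
    subst hm
    simp
  | succ i =>
    have h1 := uFl_le_succ T i (hc i m hm)
    have := Submodule.add_mem _ h1 hm
    simpa using this

theorem map_mem_uFl {T : Set (LinearMap.GeneralLinearGroup k M)} {t : LinearMap.GeneralLinearGroup k M}
    (ht : t ∈ T) {i : ℕ} {m : M} (hm : m ∈ uFl T i) : (t : M →ₗ[k] M) m ∈ uFl T i :=
  map_mem_of_sub_mem (fun _ _ hm' => sub_mem_uFl ht hm') i hm

/-- Relative fixed points for a unipotent set. -/
theorem uni_exists_rel {H : Set (LinearMap.GeneralLinearGroup k M)} (hH : Uni H) {N N' : Submodule k M}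
    (hNN' : ¬ N' ≤ N) (hN' : ∀ h ∈ H, ∀ m ∈ N', (h : M →ₗ[k] M) m - m ∈ N') :
    ∃ m ∈ N', m ∉ N ∧ ∀ h ∈ H, (h : M →ₗ[k] M) m - m ∈ N := by
  classical
  obtain ⟨n, hn⟩ := hH
  have hex : ∃ i, ¬ (uFl H i ⊓ N' ≤ N) := ⟨n, by rw [hn, top_inf_eq]; exact hNN'⟩
  obtain ⟨i, hi, hmin⟩ : ∃ i, ¬ (uFl H i ⊓ N' ≤ N) ∧ ∀ j < i, uFl H j ⊓ N' ≤ N := by
    refine ⟨Nat.find hex, Nat.find_spec hex, fun j hj => ?_⟩
    have := Nat.find_min hex hj
    exact not_not.mp this
  cases i with
  | zero => exact absurd (by rw [uFl_zero, bot_inf_eq]; exact bot_le) hi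
  | succ i =>
    obtain ⟨m, hm, hmN⟩ := SetLike.not_le_iff_exists.mp hi
    refine ⟨m, hm.2, hmN, fun h hh => ?_⟩
    exact hmin i (Nat.lt_succ_self i) ⟨sub_mem_uFl hh hm.1, hN' h hh m hm.2⟩

/-- A set with relative fixed points modulo every proper invariant subspace is unipotent. -/
theorem uni_of_rel [FiniteDimensional k M] {T : Set (LinearMap.GeneralLinearGroup k M)}
    (h : ∀ N : Submodule k M, (∀ t ∈ T, ∀ m ∈ N, (t : M →ₗ[k] M) m - m ∈ N) → N ≠ ⊤ →
      ∃ m, m ∉ N ∧ ∀ t ∈ T, (t : M →ₗ[k] M) m - m ∈ N) : Uni T := by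
  have key : ∀ i, uFl T i = ⊤ ∨ i ≤ Module.finrank k (uFl T i) := by
    intro i
    induction i with
    | zero => right; exact Nat.zero_le _
    | succ i ih =>
      by_cases htop : uFl T i = ⊤
      · left; exact top_le_iff.mp (htop ▸ uFl_le_succ T i)
      · right
        have hi := ih.resolve_left htop
        obtain ⟨m, hm, hm'⟩ := h (uFl T i)
          (fun t ht m hm => Submodule.sub_mem _ (map_mem_uFl ht hm) hm) htop
        have hlt : uFl T i < uFl T (i + 1) :=
          lt_of_le_of_ne (uFl_le_succ T i) (fun heq => hm (heq ▸ mem_uPsi.mpr hm'))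
        have := Submodule.finrank_lt_finrank_of_lt hlt
        omega
  refine ⟨Module.finrank k M + 1, ?_⟩
  rcases key (Module.finrank k M + 1) with h1 | h1
  · exact h1
  · have := Submodule.finrank_le (uFl T (Module.finrank k M + 1))
    omega

theorem uni_of_isUnipotentOn {H : Subgroup (LinearMap.GeneralLinearGroup k M)} (hH : IsUnipotentOn H) :
    Uni (H : Set (LinearMap.GeneralLinearGroup k M)) := by
  obtain ⟨n, hn⟩ := hH
  have key : ∀ i, ∀ m : M, (∀ l : List (LinearMap.GeneralLinearGroup k M), (∀ g ∈ l, g ∈ H) →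
      l.length = i → (l.map fun g => (g : M →ₗ[k] M) - 1).prod m = 0) →
      m ∈ uFl (H : Set (LinearMap.GeneralLinearGroup k M)) i := by
    intro i
    induction i with
    | zero =>
      intro m hm
      have := hm [] (by simp) rfl
      rw [uFl_zero, Submodule.mem_bot]
      simpa using this
    | succ i ih =>
      intro m hm
      rw [uFl_succ, mem_uPsi]
      intro t ht
      apply ih
      intro l hl hlen
      have h1 := hm (l ++ [t]) (by
        intro g hg
        rcases List.mem_append.mp hg with h | h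
        · exact hl g h
        · rw [List.mem_singleton.mp h]; exact ht) (by simp [hlen])
      simpa [List.map_append, List.prod_append] using h1
  refine ⟨n, top_le_iff.mp fun m _ => key n m (fun l hl hlen => ?_)⟩
  rw [hn l hl hlen]
  rfl


theorem uniLin_gl_mul_apply (a b : LinearMap.GeneralLinearGroup k M) (m : M) :
    ((a * b : LinearMap.GeneralLinearGroup k M) : M →ₗ[k] M) m = (a : M →ₗ[k] M) ((b : M →ₗ[k] M) m) := by
  rw [Units.val_mul]; rfl

theorem gl_one_apply (m : M) : ((1 : LinearMap.GeneralLinearGroup k M) : M →ₗ[k] M) m = m := by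
  rw [Units.val_one]; rfl

theorem gl_inv_apply (c : LinearMap.GeneralLinearGroup k M) (m : M) :
    ((c⁻¹ : LinearMap.GeneralLinearGroup k M) : M →ₗ[k] M) ((c : M →ₗ[k] M) m) = m := by
  rw [← uniLin_gl_mul_apply, inv_mul_cancel, gl_one_apply]

theorem gl_apply_inv (c : LinearMap.GeneralLinearGroup k M) (m : M) :
    (c : M →ₗ[k] M) (((c⁻¹ : LinearMap.GeneralLinearGroup k M) : M →ₗ[k] M) m) = m := by
  rw [← uniLin_gl_mul_apply, mul_inv_cancel, gl_one_apply]

theorem eigen_one_of_uni {z : LinearMap.GeneralLinearGroup k M}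
    (hz : Uni ({z} : Set (LinearMap.GeneralLinearGroup k M))) {c : k} {m : M} (hm : m ≠ 0)
    (hzm : (z : M →ₗ[k] M) m = c • m) : c = 1 := by
  obtain ⟨n, hn⟩ := hz
  have key : ∀ i, ∀ m ∈ uFl ({z} : Set (LinearMap.GeneralLinearGroup k M)) i,
      (z : M →ₗ[k] M) m = c • m → m = 0 ∨ c = 1 := by
    intro i
    induction i with
    | zero =>
      intro m hm _
      left
      simpa [uFl_zero] using hm
    | succ i ih =>
      intro m hm hzm
      have h1 := sub_mem_uFl (Set.mem_singleton z) hm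
      rw [hzm] at h1
      have h2 : c • m - m = (c - 1) • m := by rw [sub_smul, one_smul]
      rw [h2] at h1
      rcases ih _ h1 (by rw [map_smul, hzm, smul_comm]) with h | h
      · rcases smul_eq_zero.mp h with h' | h'
        · right; exact sub_eq_zero.mp h'
        · left; exact h'
      · right; exact h
  rcases key n m (by rw [hn]; trivial) hzm with h | h
  · exact absurd h hm
  · exact h

section Fin

variable [FiniteDimensional k M]

theorem inv_map_mem_of_map_mem {N : Submodule k M} {c : LinearMap.GeneralLinearGroup k M}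
    (hc : ∀ m ∈ N, (c : M →ₗ[k] M) m ∈ N) {m : M} (hm : m ∈ N) :
    ((c⁻¹ : LinearMap.GeneralLinearGroup k M) : M →ₗ[k] M) m ∈ N := by
  have hle : N.map (c : M →ₗ[k] M) ≤ N := by
    rintro _ ⟨m', hm', rfl⟩
    exact hc m' hm'
  have hinj : Function.Injective (c : M →ₗ[k] M) := by
    intro x y hxy
    have := congrArg ((c⁻¹ : LinearMap.GeneralLinearGroup k M) : M →ₗ[k] M) hxy
    simpa [gl_inv_apply] using this
  have hfr : Module.finrank k (N.map (c : M →ₗ[k] M)) = Module.finrank k N :=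
    (Submodule.equivMapOfInjective _ hinj N).finrank_eq.symm
  have heq : N.map (c : M →ₗ[k] M) = N := Submodule.eq_of_le_of_finrank_eq hle hfr
  rw [← heq] at hm
  obtain ⟨m', hm', rfl⟩ := hm
  rw [gl_inv_apply]
  exact hm'

/-- The unipotent stabilizer of the canonical flag of `T`. -/
def uStab (T : Set (LinearMap.GeneralLinearGroup k M)) : Subgroup (LinearMap.GeneralLinearGroup k M) where
  carrier := {c | ∀ i, ∀ m ∈ uFl T (i + 1), (c : M →ₗ[k] M) m - m ∈ uFl T i}
  one_mem' := by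
    intro i m _
    simp
  mul_mem' := by
    intro a b ha hb i m hm
    have h1 := hb i m hm
    have h2 := ha i m hm
    have h3 := map_mem_of_sub_mem ha i h1
    have : ((a * b : LinearMap.GeneralLinearGroup k M) : M →ₗ[k] M) m - m
        = (a : M →ₗ[k] M) ((b : M →ₗ[k] M) m - m) + ((a : M →ₗ[k] M) m - m) := by
      rw [uniLin_gl_mul_apply, map_sub]; abel
    rw [this]
    exact Submodule.add_mem _ h3 h2
  inv_mem' := by
    intro c hc i m hm
    have h1 := hc i m hm
    have h2 : ((c⁻¹ : LinearMap.GeneralLinearGroup k M) : M →ₗ[k] M) ((c : M →ₗ[k] M) m - m) ∈ uFl T i :=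
      inv_map_mem_of_map_mem (fun m' hm' => map_mem_of_sub_mem hc i hm') h1
    have : ((c⁻¹ : LinearMap.GeneralLinearGroup k M) : M →ₗ[k] M) m - m
        = -(((c⁻¹ : LinearMap.GeneralLinearGroup k M) : M →ₗ[k] M) ((c : M →ₗ[k] M) m - m)) := by
      rw [map_sub, gl_inv_apply]; abel
    rw [this]
    exact Submodule.neg_mem _ h2

theorem mem_uStab {T : Set (LinearMap.GeneralLinearGroup k M)} {c : LinearMap.GeneralLinearGroup k M} :
    c ∈ uStab T ↔ ∀ i, ∀ m ∈ uFl T (i + 1), (c : M →ₗ[k] M) m - m ∈ uFl T i := Iff.rfl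

theorem subset_uStab {T : Set (LinearMap.GeneralLinearGroup k M)} :
    T ⊆ (uStab T : Set (LinearMap.GeneralLinearGroup k M)) :=
  fun _ ht _ _ hm => sub_mem_uFl ht hm

theorem uFl_le_uFl_uStab (T : Set (LinearMap.GeneralLinearGroup k M)) (i : ℕ) :
    uFl T i ≤ uFl (uStab T : Set (LinearMap.GeneralLinearGroup k M)) i := by
  induction i with
  | zero => exact le_rfl
  | succ i ih =>
    intro m hm
    rw [uFl_succ, mem_uPsi]
    intro c hc
    exact ih (hc i m hm)

theorem uni_uStab {T : Set (LinearMap.GeneralLinearGroup k M)} (hT : Uni T) :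
    Uni (uStab T : Set (LinearMap.GeneralLinearGroup k M)) := by
  obtain ⟨n, hn⟩ := hT
  exact ⟨n, top_le_iff.mp (hn ▸ uFl_le_uFl_uStab T n)⟩

theorem isUnipotentOn_of_le_uStab {T : Set (LinearMap.GeneralLinearGroup k M)} (hT : Uni T)
    {H : Subgroup (LinearMap.GeneralLinearGroup k M)} (hH : H ≤ uStab T) : IsUnipotentOn H := by
  obtain ⟨n, hn⟩ := hT
  refine ⟨n, fun l hl hlen => ?_⟩
  have key : ∀ l : List (LinearMap.GeneralLinearGroup k M), (∀ g ∈ l, g ∈ H) → ∀ i, ∀ m ∈ uFl T (i + l.length),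
      (l.map fun g => (g : M →ₗ[k] M) - 1).prod m ∈ uFl T i := by
    intro l
    induction l with
    | nil =>
      intro _ i m hm
      simpa using hm
    | cons g l ih =>
      intro hl i m hm
      have h1 : (l.map fun g => (g : M →ₗ[k] M) - 1).prod m ∈ uFl T (i + 1) :=
        ih (fun g' hg' => hl g' (List.mem_cons_of_mem _ hg')) (i + 1) m (by
          rw [List.length_cons] at hm
          have h : i + 1 + l.length = i + (l.length + 1) := by omega
          rw [h]; exact hm)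
      have h2 := hH (hl g List.mem_cons_self) i _ h1
      simpa [List.map_cons, List.prod_cons] using h2
  apply LinearMap.ext
  intro m
  have := key l hl 0 m (by rw [zero_add, hlen, hn]; trivial)
  rw [uFl_zero, Submodule.mem_bot] at this
  simpa using this

/-- A unipotent automorphism in the linear span of the stabilizer of a unipotent flag lies in it. -/
theorem mem_uStab_of_mem_span {T : Set (LinearMap.GeneralLinearGroup k M)} (hT : Uni T)
    {z : LinearMap.GeneralLinearGroup k M} (hz : Uni ({z} : Set (LinearMap.GeneralLinearGroup k M)))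
    (hspan : (z : M →ₗ[k] M) ∈ Submodule.span k
      ((fun c : LinearMap.GeneralLinearGroup k M => (c : M →ₗ[k] M)) ''
        (uStab T : Set (LinearMap.GeneralLinearGroup k M)))) :
    z ∈ uStab T := by
  classical
  have key : ∀ f ∈ Submodule.span k ((fun c : LinearMap.GeneralLinearGroup k M => (c : M →ₗ[k] M)) ''
      (uStab T : Set (LinearMap.GeneralLinearGroup k M))),
      ∃ c : k, ∀ i, ∀ m ∈ uFl T (i + 1), f m - c • m ∈ uFl T i := by
    intro f hf
    induction hf using Submodule.span_induction with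
    | mem f hf =>
      obtain ⟨s, hs, rfl⟩ := hf
      exact ⟨1, fun i m hm => by simpa using hs i m hm⟩
    | zero => exact ⟨0, fun i m hm => by simp⟩
    | add f g _ _ hf hg =>
      obtain ⟨c, hc⟩ := hf
      obtain ⟨d, hd⟩ := hg
      refine ⟨c + d, fun i m hm => ?_⟩
      have := Submodule.add_mem _ (hc i m hm) (hd i m hm)
      have h2 : (f + g) m - (c + d) • m = f m - c • m + (g m - d • m) := by
        rw [LinearMap.add_apply, add_smul]; abel
      rw [h2]; exact this
    | smul a f _ hf =>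
      obtain ⟨c, hc⟩ := hf
      refine ⟨a * c, fun i m hm => ?_⟩
      have := Submodule.smul_mem _ a (hc i m hm)
      have h2 : (a • f) m - (a * c) • m = a • (f m - c • m) := by
        rw [LinearMap.smul_apply, smul_sub, mul_smul]
      rw [h2]; exact this
  obtain ⟨c, hc⟩ := key _ hspan
  by_cases hM : ∀ m : M, m = 0
  · intro i m hm
    rw [hM ((z : M →ₗ[k] M) m - m)]
    exact Submodule.zero_mem _
  · rw [not_forall] at hM
    obtain ⟨m₀, hm₀⟩ := hM
    obtain ⟨n, hn⟩ := hT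
    have hex : ∃ i, uFl T i ≠ ⊥ := by
      refine ⟨n, fun h => hm₀ ?_⟩
      have h1 : m₀ ∈ uFl T n := by rw [hn]; trivial
      rw [h] at h1
      simpa using h1
    have hi₀ := Nat.find_spec hex
    have hmin := fun j => Nat.find_min hex (m := j)
    generalize Nat.find hex = i₀ at hi₀ hmin
    cases i₀ with
    | zero => exact absurd (uFl_zero T) hi₀
    | succ j =>
      have hj : uFl T j = ⊥ := not_not.mp (hmin j (Nat.lt_succ_self j))
      obtain ⟨m, hm, hm0⟩ := (Submodule.ne_bot_iff _).mp hi₀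
      have hzm : (z : M →ₗ[k] M) m = c • m := by
        have := hc j m hm
        rw [hj, Submodule.mem_bot, sub_eq_zero] at this
        exact this
      have hc1 : c = 1 := eigen_one_of_uni hz hm0 hzm
      subst hc1
      intro i m' hm'
      simpa using hc i m' hm'

/-- Maximal unipotent subsets of `D`. -/
def MaxGood (D P : Set (LinearMap.GeneralLinearGroup k M)) : Prop :=
  P ⊆ D ∧ Uni P ∧ ∀ T', T' ⊆ D → Uni T' → P ⊆ T' → T' ⊆ P

theorem MaxGood.mem_of_mem_uStab {D P : Set (LinearMap.GeneralLinearGroup k M)} (hP : MaxGood D P)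
    {z : LinearMap.GeneralLinearGroup k M} (hzD : z ∈ D) (hz : z ∈ uStab P) : z ∈ P := by
  have h1 : Uni (P ∪ {z}) :=
    (uni_uStab hP.2.1).mono (Set.union_subset subset_uStab (Set.singleton_subset_iff.mpr hz))
  exact hP.2.2 (P ∪ {z}) (Set.union_subset hP.1 (Set.singleton_subset_iff.mpr hzD)) h1
    Set.subset_union_left (Set.mem_union_right _ rfl)

theorem MaxGood.mem_of_mem_span {D P : Set (LinearMap.GeneralLinearGroup k M)}
    (hsing : ∀ z ∈ D, Uni ({z} : Set (LinearMap.GeneralLinearGroup k M))) (hP : MaxGood D P)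
    {z : LinearMap.GeneralLinearGroup k M} (hzD : z ∈ D)
    (hz : (z : M →ₗ[k] M) ∈ Submodule.span k
      ((fun c : LinearMap.GeneralLinearGroup k M => (c : M →ₗ[k] M)) '' P)) : z ∈ P :=
  hP.mem_of_mem_uStab hzD (mem_uStab_of_mem_span hP.2.1 (hsing z hzD)
    (Submodule.span_mono (Set.image_mono subset_uStab) hz))

theorem exists_maxGood {D : Set (LinearMap.GeneralLinearGroup k M)}
    (hsing : ∀ z ∈ D, Uni ({z} : Set (LinearMap.GeneralLinearGroup k M)))
    {T₀ : Set (LinearMap.GeneralLinearGroup k M)} (hT₀D : T₀ ⊆ D) (hT₀ : Uni T₀) :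
    ∃ P, MaxGood D P ∧ T₀ ⊆ P := by
  obtain ⟨S, hS⟩ : ∃ S : Set (Submodule k (M →ₗ[k] M)), S = {s | ∃ T, T ⊆ D ∧ Uni T ∧ T₀ ⊆ T ∧
      s = Submodule.span k ((fun c : LinearMap.GeneralLinearGroup k M => (c : M →ₗ[k] M)) '' T)} := ⟨_, rfl⟩
  have hne : S.Nonempty := ⟨_, by rw [hS]; exact ⟨T₀, hT₀D, hT₀, le_rfl, rfl⟩⟩
  obtain ⟨s, hsS, hmax⟩ := set_has_maximal_iff_noetherian.mpr inferInstance S hne
  rw [hS] at hsS
  obtain ⟨T₁, hT₁D, hT₁, hT₀T₁, rfl⟩ := hsS
  have hT₁P : T₁ ⊆ {z | z ∈ D ∧ z ∈ uStab T₁} := fun z hz => ⟨hT₁D hz, subset_uStab hz⟩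
  refine ⟨{z | z ∈ D ∧ z ∈ uStab T₁}, ⟨fun z hz => hz.1, (uni_uStab hT₁).mono (fun z hz => hz.2), ?_⟩,
    hT₀T₁.trans hT₁P⟩
  intro T' hT'D hT' hPT' z hz
  have hle : Submodule.span k ((fun c : LinearMap.GeneralLinearGroup k M => (c : M →ₗ[k] M)) '' T₁)
      ≤ Submodule.span k ((fun c : LinearMap.GeneralLinearGroup k M => (c : M →ₗ[k] M)) '' T') :=
    Submodule.span_mono (Set.image_mono (hT₁P.trans hPT'))
  have hmem : Submodule.span k ((fun c : LinearMap.GeneralLinearGroup k M => (c : M →ₗ[k] M)) '' T') ∈ S := by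
    rw [hS]; exact ⟨T', hT'D, hT', hT₀T₁.trans (hT₁P.trans hPT'), rfl⟩
  have heq : Submodule.span k ((fun c : LinearMap.GeneralLinearGroup k M => (c : M →ₗ[k] M)) '' T')
      ≤ Submodule.span k ((fun c : LinearMap.GeneralLinearGroup k M => (c : M →ₗ[k] M)) '' T₁) := by
    by_contra hcon
    exact hmax _ hmem (lt_of_le_not_ge hle hcon)
  refine ⟨hT'D hz, mem_uStab_of_mem_span hT₁ (hsing z (hT'D hz)) ?_⟩
  exact Submodule.span_mono (Set.image_mono subset_uStab) (heq (Submodule.subset_span ⟨z, hz, rfl⟩))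


theorem comm_mem_uStabSet {T : Set (LinearMap.GeneralLinearGroup k M)} {c g : LinearMap.GeneralLinearGroup k M}
    {j : ℕ} (hc : ∀ i, ∀ m ∈ uFl T (i + j + 1), (c : M →ₗ[k] M) m - m ∈ uFl T i) (hg : g ∈ uStab T) :
    ∀ i, ∀ m ∈ uFl T (i + (j + 1) + 1),
      ((c * g * c⁻¹ * g⁻¹ : LinearMap.GeneralLinearGroup k M) : M →ₗ[k] M) m - m ∈ uFl T i := by
  intro i m hm
  have hcS : c ∈ uStab T := fun i m hm => hc i m (uFl_mono T (by omega) hm)
  obtain ⟨m', hm'def⟩ : ∃ m', m' = ((c⁻¹ * g⁻¹ : LinearMap.GeneralLinearGroup k M) : M →ₗ[k] M) m := ⟨_, rfl⟩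
  have hm' : m' ∈ uFl T (i + (j + 1) + 1) := by
    rw [hm'def]
    exact map_mem_of_sub_mem (Subgroup.mul_mem _ (Subgroup.inv_mem _ hcS) (Subgroup.inv_mem _ hg)) _ hm
  have hu : (g : M →ₗ[k] M) m' - m' ∈ uFl T (i + j + 1) := hg (i + j + 1) m' hm'
  have hv : (c : M →ₗ[k] M) m' - m' ∈ uFl T (i + 1) :=
    hc (i + 1) m' (by
      have h : i + 1 + j + 1 = i + (j + 1) + 1 := by omega
      rw [h]; exact hm')
  have h1 := hc i _ hu
  have h2 := hg i _ hv
  have hm_eq : m = (g : M →ₗ[k] M) ((c : M →ₗ[k] M) m') := by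
    rw [hm'def, uniLin_gl_mul_apply, gl_apply_inv, gl_apply_inv]
  have hcg : ((c * g * c⁻¹ * g⁻¹ : LinearMap.GeneralLinearGroup k M) : M →ₗ[k] M) m
      = (c : M →ₗ[k] M) ((g : M →ₗ[k] M) m') := by
    rw [hm'def, mul_assoc, mul_assoc, uniLin_gl_mul_apply, uniLin_gl_mul_apply]
  have : ((c * g * c⁻¹ * g⁻¹ : LinearMap.GeneralLinearGroup k M) : M →ₗ[k] M) m - m
      = ((c : M →ₗ[k] M) ((g : M →ₗ[k] M) m' - m') - ((g : M →ₗ[k] M) m' - m'))
        - ((g : M →ₗ[k] M) ((c : M →ₗ[k] M) m' - m') - ((c : M →ₗ[k] M) m' - m')) := by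
    rw [hcg]
    conv_lhs => rw [hm_eq]
    rw [map_sub, map_sub]
    abel
  rw [this]
  exact Submodule.sub_mem _ h1 h2

/-- Normalizer growth inside a maximal unipotent subset. -/
theorem normalizer_growth {D P E : Set (LinearMap.GeneralLinearGroup k M)}
    (hconj : ∀ x ∈ D, ∀ y ∈ D, x * y * x⁻¹ ∈ D) (hP : MaxGood D P) (hEP : E ⊆ P)
    (hE : ∀ z ∈ D, z ∈ Subgroup.closure E → z ∈ E) {x₀ : LinearMap.GeneralLinearGroup k M}
    (hx₀ : x₀ ∈ P) (hx₀E : x₀ ∉ E) :
    ∃ x ∈ P, x ∉ E ∧ ∀ g ∈ E, x * g * x⁻¹ ∈ E := by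
  by_contra hcon
  obtain ⟨n, hn⟩ := hP.2.1
  have hFS : Subgroup.closure E ≤ uStab P := (Subgroup.closure_le _).mpr (hEP.trans subset_uStab)
  have claim : ∀ d j, n ≤ j + d → ∀ z ∈ D, ∀ c : LinearMap.GeneralLinearGroup k M,
      (∀ i, ∀ m ∈ uFl P (i + j + 1), (c : M →ₗ[k] M) m - m ∈ uFl P i) →
      ∀ f ∈ Subgroup.closure E, z = c * f → z ∈ E := by
    intro d
    induction d with
    | zero =>
      intro j hj z hzD c hc f hf hz
      have hc1 : c = 1 := by
        apply Units.ext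
        apply LinearMap.ext
        intro m
        have h0 : m ∈ uFl P (0 + j + 1) := by
          have : uFl P n ≤ uFl P (0 + j + 1) := uFl_mono P (by omega)
          exact this (hn ▸ Submodule.mem_top)
        have h1 := hc 0 m h0
        rw [uFl_zero, Submodule.mem_bot, sub_eq_zero] at h1
        rw [h1]; rfl
      rw [hc1, one_mul] at hz
      exact hE z hzD (hz ▸ hf)
    | succ d ih =>
      intro j hj z hzD c hc f hf hz
      by_contra hzE
      have hcS : c ∈ uStab P := fun i m hm => hc i m (uFl_mono P (by omega) hm)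
      have hzS : z ∈ uStab P := hz ▸ Subgroup.mul_mem _ hcS (hFS hf)
      have hzP : z ∈ P := hP.mem_of_mem_uStab hzD hzS
      have hg' : ∀ g ∈ E, f * g * f⁻¹ ∈ Subgroup.closure E := fun g hg =>
        Subgroup.mul_mem _ (Subgroup.mul_mem _ hf (Subgroup.subset_closure hg)) (Subgroup.inv_mem _ hf)
      apply hcon
      refine ⟨z, hzP, hzE, fun g hg => ?_⟩
      refine ih (j + 1) (by omega) (z * g * z⁻¹) (hconj z hzD g (hP.1 (hEP hg)))
        (c * (f * g * f⁻¹) * c⁻¹ * (f * g * f⁻¹)⁻¹) (comm_mem_uStabSet hc (hFS (hg' g hg)))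
        (f * g * f⁻¹) (hg' g hg) ?_
      rw [hz]; group
  exact hx₀E (claim n 0 (by omega) x₀ (hP.1 hx₀) x₀ (fun i m hm => subset_uStab hx₀ i m hm) 1
    (Subgroup.one_mem _) (by simp))

/-- A unipotent set normalized by a unipotent set: the union is unipotent. -/
theorem uni_union_of_normalizes {E H : Set (LinearMap.GeneralLinearGroup k M)} (hE : Uni E) (hH : Uni H)
    (hnorm : ∀ h ∈ H, ∀ e ∈ E, h⁻¹ * e * h ∈ E) : Uni (E ∪ H) := by
  apply uni_of_rel
  intro N hN hNtop
  have hNH : ∀ h ∈ H, ∀ m ∈ N, (h : M →ₗ[k] M) m - m ∈ N := fun h hh => hN h (Or.inr hh)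
  have h1 : ¬ uPsi E N ≤ N := by
    obtain ⟨m, -, hmN, hm⟩ := uni_exists_rel hE (N := N) (N' := ⊤) (by rwa [top_le_iff])
      (fun _ _ _ _ => trivial)
    exact fun hle => hmN (hle (mem_uPsi.mpr hm))
  have h2 : ∀ h ∈ H, ∀ m ∈ uPsi E N, (h : M →ₗ[k] M) m - m ∈ uPsi E N := by
    intro h hh m hm
    rw [mem_uPsi] at hm ⊢
    intro e he
    have ha := hm (h⁻¹ * e * h) (hnorm h hh e he)
    have hb : (h : M →ₗ[k] M) (((h⁻¹ * e * h : LinearMap.GeneralLinearGroup k M) : M →ₗ[k] M) m - m) ∈ N := by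
      have h3 := hNH h hh _ ha
      have h4 := Submodule.add_mem _ h3 ha
      simpa using h4
    have hc := hm e he
    have : (e : M →ₗ[k] M) ((h : M →ₗ[k] M) m - m) - ((h : M →ₗ[k] M) m - m)
        = (h : M →ₗ[k] M) (((h⁻¹ * e * h : LinearMap.GeneralLinearGroup k M) : M →ₗ[k] M) m - m)
          - ((e : M →ₗ[k] M) m - m) := by
      rw [uniLin_gl_mul_apply, uniLin_gl_mul_apply, map_sub, map_sub, gl_apply_inv]
      abel
    rw [this]
    exact Submodule.sub_mem _ hb hc
  obtain ⟨m, hm, hmN, hmH⟩ := uni_exists_rel hH h1 h2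
  exact ⟨m, hmN, fun t ht => ht.elim (fun he => mem_uPsi.mp hm t he) (fun hh => hmH t hh)⟩

/-- Baer–Suzuki for unipotent sets of linear automorphisms. -/
theorem uni_of_pairs {D : Set (LinearMap.GeneralLinearGroup k M)}
    (hconj : ∀ x ∈ D, ∀ y ∈ D, x * y * x⁻¹ ∈ D) (hinv : ∀ x ∈ D, x⁻¹ ∈ D)
    (hpair : ∀ x ∈ D, ∀ y ∈ D, Uni ({x, y} : Set (LinearMap.GeneralLinearGroup k M))) : Uni D := by
  have hsing : ∀ z ∈ D, Uni ({z} : Set (LinearMap.GeneralLinearGroup k M)) :=
    fun z hz => (hpair z hz z hz).mono (by simp)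
  have claim : ∀ s : Submodule k (M →ₗ[k] M), ∀ P Q, MaxGood D P → MaxGood D Q →
      s ≤ Submodule.span k ((fun c : LinearMap.GeneralLinearGroup k M => (c : M →ₗ[k] M)) '' (P ∩ Q)) →
      P = Q := by
    intro s
    refine WellFoundedGT.induction (motive := fun s => ∀ P Q, MaxGood D P → MaxGood D Q →
      s ≤ Submodule.span k ((fun c : LinearMap.GeneralLinearGroup k M => (c : M →ₗ[k] M)) '' (P ∩ Q)) →
      P = Q) s ?_
    intro s ih P Q hP hQ hle
    by_contra hne
    have hxex : ∃ x₀ ∈ P, x₀ ∉ Q := by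
      by_contra hcon
      have hPQ : P ⊆ Q := fun x hx => by
        by_contra hxQ
        exact hcon ⟨x, hx, hxQ⟩
      exact hne (Set.Subset.antisymm hPQ (hP.2.2 Q hQ.1 hQ.2.1 hPQ))
    have hyex : ∃ y₀ ∈ Q, y₀ ∉ P := by
      by_contra hcon
      have hQP : Q ⊆ P := fun x hx => by
        by_contra hxP
        exact hcon ⟨x, hx, hxP⟩
      exact hne (Set.Subset.antisymm (hQ.2.2 P hP.1 hP.2.1 hQP) hQP)
    obtain ⟨x₀, hx₀P, hx₀Q⟩ := hxex
    obtain ⟨y₀, hy₀Q, hy₀P⟩ := hyex
    have hEF : ∀ z ∈ D, z ∈ Subgroup.closure (P ∩ Q) → z ∈ P ∩ Q := by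
      intro z hzD hz
      have h1 : Subgroup.closure (P ∩ Q) ≤ uStab P :=
        (Subgroup.closure_le _).mpr (Set.inter_subset_left.trans subset_uStab)
      have h2 : Subgroup.closure (P ∩ Q) ≤ uStab Q :=
        (Subgroup.closure_le _).mpr (Set.inter_subset_right.trans subset_uStab)
      exact ⟨hP.mem_of_mem_uStab hzD (h1 hz), hQ.mem_of_mem_uStab hzD (h2 hz)⟩
    obtain ⟨x, hxP, hxE, hxn⟩ := normalizer_growth hconj hP Set.inter_subset_left hEF hx₀P
      (fun h => hx₀Q h.2)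
    obtain ⟨y, hyQ, hyE, hyn⟩ := normalizer_growth hconj hQ Set.inter_subset_right hEF hy₀Q
      (fun h => hy₀P h.1)
    have hxQ : x ∉ Q := fun h => hxE ⟨hxP, h⟩
    have hyP : y ∉ P := fun h => hyE ⟨h, hyQ⟩
    have hxD := hP.1 hxP
    have hyD := hQ.1 hyQ
    have hH : Uni ({x⁻¹, y⁻¹} : Set (LinearMap.GeneralLinearGroup k M)) :=
      hpair _ (hinv x hxD) _ (hinv y hyD)
    have hEuni : Uni (P ∩ Q) := hP.2.1.mono Set.inter_subset_left
    have hU : Uni ((P ∩ Q) ∪ {x⁻¹, y⁻¹}) := by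
      apply uni_union_of_normalizes hEuni hH
      intro h hh e he
      rcases hh with rfl | hh
      · simpa using hxn e he
      · rw [Set.mem_singleton_iff] at hh
        subst hh
        simpa using hyn e he
    have hUD : (P ∩ Q) ∪ {x⁻¹, y⁻¹} ⊆ D := by
      intro z hz
      rcases hz with hz | hz | hz
      · exact hP.1 hz.1
      · rw [hz]; exact hinv x hxD
      · rw [Set.mem_singleton_iff] at hz
        rw [hz]; exact hinv y hyD
    obtain ⟨R, hR, hER⟩ := exists_maxGood hsing hUD hU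
    have hxR : x ∈ R := by
      apply hR.mem_of_mem_uStab hxD
      have : x⁻¹ ∈ uStab R := subset_uStab (hER (Or.inr (Or.inl rfl)))
      simpa using Subgroup.inv_mem _ this
    have hyR : y ∈ R := by
      apply hR.mem_of_mem_uStab hyD
      have : y⁻¹ ∈ uStab R := subset_uStab (hER (Or.inr (Or.inr rfl)))
      simpa using Subgroup.inv_mem _ this
    have hPR : P = R := by
      apply ih (Submodule.span k ((fun c : LinearMap.GeneralLinearGroup k M => (c : M →ₗ[k] M)) '' (P ∩ R)))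
        ?_ P R hP hR le_rfl
      have hle2 : Submodule.span k ((fun c : LinearMap.GeneralLinearGroup k M => (c : M →ₗ[k] M)) '' (P ∩ Q))
          ≤ Submodule.span k ((fun c : LinearMap.GeneralLinearGroup k M => (c : M →ₗ[k] M)) '' (P ∩ R)) :=
        Submodule.span_mono (Set.image_mono (fun z hz => ⟨hz.1, hER (Or.inl hz)⟩))
      refine lt_of_le_not_ge (hle.trans hle2) (fun hge => hxQ ?_)
      apply hQ.mem_of_mem_span hsing hxD
      have h3 : (x : M →ₗ[k] M) ∈ Submodule.span k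
          ((fun c : LinearMap.GeneralLinearGroup k M => (c : M →ₗ[k] M)) '' (P ∩ R)) :=
        Submodule.subset_span ⟨x, ⟨hxP, hxR⟩, rfl⟩
      exact Submodule.span_mono (Set.image_mono Set.inter_subset_right) (hle (hge h3))
    have hQR : Q = R := by
      apply ih (Submodule.span k ((fun c : LinearMap.GeneralLinearGroup k M => (c : M →ₗ[k] M)) '' (Q ∩ R)))
        ?_ Q R hQ hR le_rfl
      have hle2 : Submodule.span k ((fun c : LinearMap.GeneralLinearGroup k M => (c : M →ₗ[k] M)) '' (P ∩ Q))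
          ≤ Submodule.span k ((fun c : LinearMap.GeneralLinearGroup k M => (c : M →ₗ[k] M)) '' (Q ∩ R)) :=
        Submodule.span_mono (Set.image_mono (fun z hz => ⟨hz.2, hER (Or.inl hz)⟩))
      refine lt_of_le_not_ge (hle.trans hle2) (fun hge => hyP ?_)
      apply hP.mem_of_mem_span hsing hyD
      have h3 : (y : M →ₗ[k] M) ∈ Submodule.span k
          ((fun c : LinearMap.GeneralLinearGroup k M => (c : M →ₗ[k] M)) '' (Q ∩ R)) :=
        Submodule.subset_span ⟨y, ⟨hyQ, hyR⟩, rfl⟩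
      exact Submodule.span_mono (Set.image_mono Set.inter_subset_left) (hle (hge h3))
    exact hne (hPR.trans hQR.symm)
  obtain ⟨P₀, hP₀, -⟩ := exists_maxGood hsing (Set.empty_subset D) uni_empty
  refine hP₀.2.1.mono (fun z hz => ?_)
  obtain ⟨Q, hQ, hzQ⟩ := exists_maxGood hsing (Set.singleton_subset_iff.mpr hz) (hsing z hz)
  rw [claim ⊥ P₀ Q hP₀ hQ bot_le]
  exact hzQ rfl

end Fin

end UniLin

end Cfsg.Agent.Lib.helper85
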