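import Cfsg.Agent.Lib.helper85.QP20
import Cfsg.Agent.S5061
import Cfsg.Agent.S5059

set_option autoImplicit false
set_option linter.unusedSimpArgs false
set_option linter.unusedVariables false

namespace Cfsg.Agent.Lib.helper85

section qp21a
variable {k : Type*} [Field k] {M : Type*} [AddCommGroup M] [Module k M]
variable {G : Subgroup (LinearMap.GeneralLinearGroup k M)}

theorem qp_fixed_vector {H : Subgroup (LinearMap.GeneralLinearGroup k M)} (hU : Cfsg.IsUnipotentOn H)
    (hM : ∃ m : M, m ≠ 0) :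
    ∃ m : M, m ≠ 0 ∧ ∀ g ∈ H, ((g : LinearMap.GeneralLinearGroup k M) : Module.End k M) m = m := by
  obtain ⟨n, hn⟩ := uni_of_isUnipotentOn hU
  by_contra hcon
  push_neg at hcon
  have h1 : uFl (H : Set (LinearMap.GeneralLinearGroup k M)) 1 = ⊥ := by
    rw [eq_bot_iff]
    intro m hm
    rw [uFl_succ, uFl_zero, mem_uPsi] at hm
    by_contra hm0
    have hm0' : m ≠ 0 := fun h => hm0 (by rw [h]; exact Submodule.zero_mem _)
    obtain ⟨g, hg, hne⟩ := hcon m hm0'
    exact hne (sub_eq_zero.mp ((Submodule.mem_bot k).mp (hm g hg)))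
  have h2 : ∀ i, uFl (H : Set (LinearMap.GeneralLinearGroup k M)) i = ⊥ := by
    intro i
    induction i with
    | zero => rfl
    | succ i ih => rw [uFl_succ, ih]; exact h1
  rw [h2 n] at hn
  obtain ⟨m, hm⟩ := hM
  have : m ∈ (⊥ : Submodule k M) := by rw [hn]; trivial
  exact hm ((Submodule.mem_bot k).mp this)

theorem qp_same_mem [FiniteDimensional k M] {σ : LinearMap.GeneralLinearGroup k M}
    (hσ : σ ∈ Cfsg.minimalQuadraticElements G) (x : LinearMap.GeneralLinearGroup k M) :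
    x ∈ Cfsg.sameActionSubgroup G σ ↔ x ∈ Cfsg.sameActionClass G σ ∨ x = 1 := by
  rw [Cfsg.Agent.S5059.sameActionSubgroup_eq G σ hσ]
  exact Iff.rfl

theorem qp_self_class {σ : LinearMap.GeneralLinearGroup k M}
    (hσ : σ ∈ Cfsg.minimalQuadraticElements G) : σ ∈ Cfsg.sameActionClass G σ := ⟨hσ, rfl, rfl⟩

theorem qp_conj_min [FiniteDimensional k M] {σ : LinearMap.GeneralLinearGroup k M}
    (hσ : σ ∈ Cfsg.minimalQuadraticElements G) {g : LinearMap.GeneralLinearGroup k M} (hg : g ∈ G) :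
    g * σ * g⁻¹ ∈ Cfsg.minimalQuadraticElements G := by
  have hN := qpN_of_quad hσ.1
  have hN2 := qpN_conjG hN hg
  have hv : ((g * σ * g⁻¹ : LinearMap.GeneralLinearGroup k M) : Module.End k M) =
      1 + (g : Module.End k M) * (((σ : LinearMap.GeneralLinearGroup k M) : Module.End k M) - 1) *
        ((g⁻¹ : LinearMap.GeneralLinearGroup k M) : Module.End k M) := by
    rw [Units.val_mul, Units.val_mul, mul_sub, sub_mul, mul_one, Units.mul_inv]
    abel
  have hr : Module.finrank k (LinearMap.range ((g : Module.End k M) *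
      (((σ : LinearMap.GeneralLinearGroup k M) : Module.End k M) - 1) *
        ((g⁻¹ : LinearMap.GeneralLinearGroup k M) : Module.End k M))) = Cfsg.commutatorRank σ :=
    qp_rank_conj (Units.mul_inv g) (Units.inv_mul g) _
  have h0 : (g : Module.End k M) * (((σ : LinearMap.GeneralLinearGroup k M) : Module.End k M) - 1) *
      ((g⁻¹ : LinearMap.GeneralLinearGroup k M) : Module.End k M) ≠ 0 := by
    intro h
    have e : ((σ : LinearMap.GeneralLinearGroup k M) : Module.End k M) - 1 =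
        ((g⁻¹ : LinearMap.GeneralLinearGroup k M) : Module.End k M) * ((g : Module.End k M) *
          (((σ : LinearMap.GeneralLinearGroup k M) : Module.End k M) - 1) *
          ((g⁻¹ : LinearMap.GeneralLinearGroup k M) : Module.End k M)) * (g : Module.End k M) := by
      rw [← mul_assoc, ← mul_assoc, Units.inv_mul, one_mul, mul_assoc, Units.inv_mul, mul_one]
    rw [h, mul_zero, zero_mul] at e
    exact hσ.1.2.1.2 e
  exact qp_min_of_N hσ hN2 h0 hr hv

theorem qp_conj_class' [FiniteDimensional k M] {σ : LinearMap.GeneralLinearGroup k M}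
    (hσ : σ ∈ Cfsg.minimalQuadraticElements G) {g : LinearMap.GeneralLinearGroup k M} (hg : g ∈ G)
    {y : LinearMap.GeneralLinearGroup k M} (hy : y ∈ Cfsg.sameActionClass G σ) :
    g * y * g⁻¹ ∈ Cfsg.sameActionClass G (g * σ * g⁻¹) :=
  qp_conj_class hσ (qp_conj_min hσ hg) hg
    (fun m hm => by
      refine LinearMap.mem_ker.mpr ?_
      rw [qp_conj_apply, LinearMap.mem_ker.mp hm, map_zero])
    (fun m hm => by
      obtain ⟨x, rfl⟩ := hm
      exact ⟨(g : Module.End k M) x, qp_conj_apply g σ x⟩) hy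

theorem qp_conjBy_same [FiniteDimensional k M] {σ : LinearMap.GeneralLinearGroup k M}
    (hσ : σ ∈ Cfsg.minimalQuadraticElements G) {g : LinearMap.GeneralLinearGroup k M} (hg : g ∈ G) :
    Cfsg.conjBy (Cfsg.sameActionSubgroup G σ) g = Cfsg.sameActionSubgroup G (g * σ * g⁻¹) := by
  show (Subgroup.closure (Cfsg.sameActionClass G σ)).map (MulAut.conj g).toMonoidHom =
    Subgroup.closure (Cfsg.sameActionClass G (g * σ * g⁻¹))
  rw [MonoidHom.map_closure]
  congr 1
  ext x
  constructor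
  · rintro ⟨y, hy, rfl⟩
    exact qp_conj_class' hσ hg hy
  · intro hx
    refine ⟨g⁻¹ * x * g, ?_, ?_⟩
    · have h1 := qp_conj_class' (qp_conj_min hσ hg) (G.inv_mem hg) hx
      have e : g⁻¹ * (g * σ * g⁻¹) * g⁻¹⁻¹ = σ := by group
      rw [e, inv_inv] at h1
      exact h1
    · show g * (g⁻¹ * x * g) * g⁻¹ = x
      group

/-- `σ` has no partner -/
def qpIsoEl (G : Subgroup (LinearMap.GeneralLinearGroup k M)) (σ : LinearMap.GeneralLinearGroup k M) : Prop :=
  ∀ τ ∈ Cfsg.minimalQuadraticElements G,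
    ∃ n : ℕ, ((((σ : LinearMap.GeneralLinearGroup k M) : Module.End k M) - 1) *
      (((τ : LinearMap.GeneralLinearGroup k M) : Module.End k M) - 1) +
      (((τ : LinearMap.GeneralLinearGroup k M) : Module.End k M) - 1) *
      (((σ : LinearMap.GeneralLinearGroup k M) : Module.End k M) - 1)) ^ n = 0

theorem qpIsoEl_conj [FiniteDimensional k M] {σ : LinearMap.GeneralLinearGroup k M}
    (h : qpIsoEl G σ) {g : LinearMap.GeneralLinearGroup k M} (hg : g ∈ G) : qpIsoEl G (g * σ * g⁻¹) := by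
  intro τ hτ
  have hτ' := qp_conj_min hτ (G.inv_mem hg)
  obtain ⟨n, hn⟩ := h _ hτ'
  refine ⟨n, ?_⟩
  obtain ⟨u, hu⟩ : ∃ u : Module.End k M, u = (g : Module.End k M) := ⟨_, rfl⟩
  obtain ⟨u', hu'⟩ : ∃ u' : Module.End k M, u' = ((g⁻¹ : LinearMap.GeneralLinearGroup k M) : Module.End k M) :=
    ⟨_, rfl⟩
  obtain ⟨s, hs⟩ : ∃ s : Module.End k M, s = ((σ : LinearMap.GeneralLinearGroup k M) : Module.End k M) :=
    ⟨_, rfl⟩
  obtain ⟨t, ht⟩ : ∃ t : Module.End k M, t = ((τ : LinearMap.GeneralLinearGroup k M) : Module.End k M) :=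
    ⟨_, rfl⟩
  have h1 : u * u' = 1 := by rw [hu, hu']; exact Units.mul_inv g
  have h2 : u' * u = 1 := by rw [hu, hu']; exact Units.inv_mul g
  have key : ∀ P Q : Module.End k M, u * (P * Q) * u' = (u * P * u') * (u * Q * u') := by
    intro P Q
    calc u * (P * Q) * u' = u * P * 1 * Q * u' := by simp only [mul_assoc, one_mul]
      _ = u * P * (u' * u) * Q * u' := by rw [h2]
      _ = (u * P * u') * (u * Q * u') := by simp only [mul_assoc]
  have hc : u * (s - 1) * u' = u * s * u' - 1 := by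
    rw [mul_sub, sub_mul, mul_one, h1]
  have hd : u * (u' * t * u - 1) * u' = t - 1 := by
    rw [mul_sub, sub_mul, mul_one, h1]
    have : u * (u' * t * u) * u' = (u * u') * t * (u * u') := by simp only [mul_assoc]
    rw [this, h1, one_mul, mul_one]
  have e : (((g * σ * g⁻¹ : LinearMap.GeneralLinearGroup k M) : Module.End k M) - 1) *
      (((τ : LinearMap.GeneralLinearGroup k M) : Module.End k M) - 1) +
      (((τ : LinearMap.GeneralLinearGroup k M) : Module.End k M) - 1) *
      (((g * σ * g⁻¹ : LinearMap.GeneralLinearGroup k M) : Module.End k M) - 1) =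
      (g : Module.End k M) * ((((σ : LinearMap.GeneralLinearGroup k M) : Module.End k M) - 1) *
        (((g⁻¹ * τ * g⁻¹⁻¹ : LinearMap.GeneralLinearGroup k M) : Module.End k M) - 1) +
        (((g⁻¹ * τ * g⁻¹⁻¹ : LinearMap.GeneralLinearGroup k M) : Module.End k M) - 1) *
        (((σ : LinearMap.GeneralLinearGroup k M) : Module.End k M) - 1)) *
        ((g⁻¹ : LinearMap.GeneralLinearGroup k M) : Module.End k M) := by
    simp only [Units.val_mul, inv_inv]
    rw [← hu, ← hu', ← hs, ← ht, mul_add, add_mul, key, key, hc, hd]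
  rw [e, Units.conj_pow, hn, mul_zero, zero_mul]

/-- existence of a partner for every minimal element -/
theorem qp_partner_exists [FiniteDimensional k M] (hk2 : ringChar k ≠ 2) (hk3 : Nat.card k ≠ 3)
    (hG : Cfsg.IsQuadraticPair G) {σ : LinearMap.GeneralLinearGroup k M}
    (hσ : σ ∈ Cfsg.minimalQuadraticElements G) :
    ∃ τ ∈ Cfsg.minimalQuadraticElements G,
      ¬ ∃ n : ℕ, ((((σ : LinearMap.GeneralLinearGroup k M) : Module.End k M) - 1) *
        (((τ : LinearMap.GeneralLinearGroup k M) : Module.End k M) - 1) +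
        (((τ : LinearMap.GeneralLinearGroup k M) : Module.End k M) - 1) *
        (((σ : LinearMap.GeneralLinearGroup k M) : Module.End k M) - 1)) ^ n = 0 := by
  by_contra hcon
  have hiso : qpIsoEl G σ := by
    intro τ hτ
    by_contra h
    exact hcon ⟨τ, hτ, h⟩
  obtain ⟨W, hW⟩ : ∃ W : Set (Subgroup (LinearMap.GeneralLinearGroup k M)),
      W = {A | ∃ σ' ∈ Cfsg.minimalQuadraticElements G, qpIsoEl G σ' ∧ A = Cfsg.sameActionSubgroup G σ'} :=
    ⟨_, rfl⟩
  have hWG : ∀ A ∈ W, A ≤ G := by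
    intro A hA
    rw [hW] at hA
    obtain ⟨σ', hσ', -, rfl⟩ := hA
    exact (Subgroup.closure_le _).mpr (fun x hx => hx.1.1.1)
  have hWW : ∀ A ∈ W, ∀ B ∈ W, Cfsg.IsUnipotentOn (A ⊔ B) := by
    intro A hA B hB
    rw [hW] at hA hB
    obtain ⟨σ', hσ', hi, rfl⟩ := hA
    obtain ⟨τ', hτ', -, rfl⟩ := hB
    exact qp_caseU hk2 hk3 hσ' hτ' (qp_same_mem hσ') (qp_same_mem hτ') (hi τ' hτ')
  have hWconj : ∀ A ∈ W, ∀ g ∈ G, Cfsg.conjBy A g ∈ W := by
    intro A hA g hg
    rw [hW] at hA ⊢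
    obtain ⟨σ', hσ', hi, rfl⟩ := hA
    exact ⟨g * σ' * g⁻¹, qp_conj_min hσ' hg, qpIsoEl_conj hi hg, qp_conjBy_same hσ' hg⟩
  obtain ⟨hU, hnorm⟩ := Cfsg.Agent.S5061.result hWG hWW hWconj
  obtain ⟨H, hH⟩ : ∃ H : Subgroup (LinearMap.GeneralLinearGroup k M), H = ⨆ A ∈ W, A := ⟨_, rfl⟩
  rw [← hH] at hU hnorm
  have hσH : σ ∈ H := by
    rw [hH]
    have hmem : Cfsg.sameActionSubgroup G σ ∈ W := by rw [hW]; exact ⟨σ, hσ, hiso, rfl⟩
    exact (le_iSup₂ (f := fun (A : Subgroup (LinearMap.GeneralLinearGroup k M)) (_ : A ∈ W) => A) _ hmem)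
      (Subgroup.subset_closure (qp_self_class hσ))
  obtain ⟨m₀, hm₀, hfix⟩ := qp_fixed_vector hU hG.1.1
  have hC : ∀ m : M, m ∈ Cfsg.fixedSubmodule H ↔
      ∀ h ∈ H, ((h : LinearMap.GeneralLinearGroup k M) : Module.End k M) m = m := by
    intro m
    simp only [Cfsg.fixedSubmodule, Submodule.mem_iInf, LinearMap.mem_ker, LinearMap.sub_apply,
      Module.End.one_apply, sub_eq_zero]
  have hinv : ∀ g ∈ G, ∀ w ∈ Cfsg.fixedSubmodule H, (g : M →ₗ[k] M) w ∈ Cfsg.fixedSubmodule H := by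
    intro g hg w hw
    rw [hC] at hw ⊢
    intro h hh
    have h1 : g⁻¹ * h * g ∈ H := by
      have h2 := conj_mem_conjBy (g := g⁻¹) hh
      rw [hnorm g⁻¹ (G.inv_mem hg), inv_inv] at h2
      exact h2
    have h3 := hw _ h1
    have e : ((h : LinearMap.GeneralLinearGroup k M) : Module.End k M) ((g : M →ₗ[k] M) w) =
        (g : M →ₗ[k] M) (((g⁻¹ * h * g : LinearMap.GeneralLinearGroup k M) : Module.End k M) w) := by
      simp only [Units.val_mul, Module.End.mul_apply]
      exact (qp_pt (Units.mul_inv g) _).symm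
    rw [e, h3]
  rcases hG.1.2 (Cfsg.fixedSubmodule H) hinv with hb | ht
  · have : m₀ ∈ Cfsg.fixedSubmodule H := (hC m₀).mpr hfix
    rw [hb] at this
    exact hm₀ ((Submodule.mem_bot k).mp this)
  · apply hσ.1.2.1.2
    refine LinearMap.ext fun m => ?_
    have h1 : m ∈ Cfsg.fixedSubmodule H := by rw [ht]; trivial
    have h2 := (hC m).mp h1 σ hσH
    rw [LinearMap.sub_apply]
    exact sub_eq_zero.mpr h2

end qp21a

end Cfsg.Agent.Lib.helper85
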