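import Cfsg.Agent.Lib.helper85.QP21

set_option autoImplicit false
set_option linter.unusedSimpArgs false
set_option linter.unusedVariables false

namespace Cfsg.Agent.Lib.helper85

open scoped commutatorElement

section qp22a
variable {k : Type*} [Field k] {M : Type*} [AddCommGroup M] [Module k M]
variable {G : Subgroup (LinearMap.GeneralLinearGroup k M)}

/-- the commutator of a non-commuting class pair is a minimal element -/
theorem qp_comm_min [FiniteDimensional k M] (hk2 : ringChar k ≠ 2) (hk3 : Nat.card k ≠ 3)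
    {σ τ : LinearMap.GeneralLinearGroup k M}
    (hσ : σ ∈ Cfsg.minimalQuadraticElements G) (hτ : τ ∈ Cfsg.minimalQuadraticElements G)
    (hz : ∃ n : ℕ, ((((σ : LinearMap.GeneralLinearGroup k M) : Module.End k M) - 1) *
      (((τ : LinearMap.GeneralLinearGroup k M) : Module.End k M) - 1) +
      (((τ : LinearMap.GeneralLinearGroup k M) : Module.End k M) - 1) *
      (((σ : LinearMap.GeneralLinearGroup k M) : Module.End k M) - 1)) ^ n = 0)
    {a b : LinearMap.GeneralLinearGroup k M} (ha : a ∈ Cfsg.sameActionClass G σ)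
    (hb : b ∈ Cfsg.sameActionClass G τ)
    (hne : (((a : LinearMap.GeneralLinearGroup k M) : Module.End k M) - 1) *
        (((b : LinearMap.GeneralLinearGroup k M) : Module.End k M) - 1) ≠
      (((b : LinearMap.GeneralLinearGroup k M) : Module.End k M) - 1) *
        (((a : LinearMap.GeneralLinearGroup k M) : Module.End k M) - 1)) :
    a * b * a⁻¹ * b⁻¹ ∈ Cfsg.minimalQuadraticElements G ∧
    ((a * b * a⁻¹ * b⁻¹ : LinearMap.GeneralLinearGroup k M) : Module.End k M) - 1 =
      (((a : LinearMap.GeneralLinearGroup k M) : Module.End k M) - 1) *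
        (((b : LinearMap.GeneralLinearGroup k M) : Module.End k M) - 1) -
      (((b : LinearMap.GeneralLinearGroup k M) : Module.End k M) - 1) *
        (((a : LinearMap.GeneralLinearGroup k M) : Module.End k M) - 1) ∧
    qpN G ((((a : LinearMap.GeneralLinearGroup k M) : Module.End k M) - 1) *
        (((b : LinearMap.GeneralLinearGroup k M) : Module.End k M) - 1) -
      (((b : LinearMap.GeneralLinearGroup k M) : Module.End k M) - 1) *
        (((a : LinearMap.GeneralLinearGroup k M) : Module.End k M) - 1)) := by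
  have hmin := qp_hmin_of_min hσ
  obtain ⟨hNa, hNb, rA, rB, t1, t2⟩ := qp_pair_data hk2 hk3 hσ hτ hz ha hb
  have hav : ((a : LinearMap.GeneralLinearGroup k M) : Module.End k M) =
      1 + (((a : LinearMap.GeneralLinearGroup k M) : Module.End k M) - 1) := qp_val_of_sub
  have hbv : ((b : LinearMap.GeneralLinearGroup k M) : Module.End k M) =
      1 + (((b : LinearMap.GeneralLinearGroup k M) : Module.End k M) - 1) := qp_val_of_sub
  obtain ⟨A, hA⟩ : ∃ A, A = ((a : LinearMap.GeneralLinearGroup k M) : Module.End k M) - 1 := ⟨_, rfl⟩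
  obtain ⟨B, hB⟩ : ∃ B, B = ((b : LinearMap.GeneralLinearGroup k M) : Module.End k M) - 1 := ⟨_, rfl⟩
  rw [← hA, ← hB] at hne t1 t2 ⊢
  rw [← hA] at hNa rA hav
  rw [← hB] at hNb rB hbv
  have hNN : qpN G (A * B - B * A) := qp_comm_N hNa hNb t1 t2
  have hN0 : A * B - B * A ≠ 0 := sub_ne_zero.mpr hne
  have rN := (qp_ustruct hmin hNa hNb rA rB t1 t2 hne).2.2.1
  have hρv := qp_comm_val hav hbv hNa.1 hNb.1 t1 t2
  refine ⟨qp_min_of_N hσ hNN hN0 rN hρv, ?_, hNN⟩
  rw [hρv]
  exact add_sub_cancel_left 1 _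

/-- the triple attached to a non-commuting class pair -/
theorem qp_tri_of_pair [FiniteDimensional k M] (hk2 : ringChar k ≠ 2) (hk3 : Nat.card k ≠ 3)
    (hG : Cfsg.IsQuadraticPair G)
    {σ τ : LinearMap.GeneralLinearGroup k M}
    (hσ : σ ∈ Cfsg.minimalQuadraticElements G) (hτ : τ ∈ Cfsg.minimalQuadraticElements G)
    (hz : ∃ n : ℕ, ((((σ : LinearMap.GeneralLinearGroup k M) : Module.End k M) - 1) *
      (((τ : LinearMap.GeneralLinearGroup k M) : Module.End k M) - 1) +
      (((τ : LinearMap.GeneralLinearGroup k M) : Module.End k M) - 1) *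
      (((σ : LinearMap.GeneralLinearGroup k M) : Module.End k M) - 1)) ^ n = 0)
    {a b : LinearMap.GeneralLinearGroup k M} (ha : a ∈ Cfsg.sameActionClass G σ)
    (hb : b ∈ Cfsg.sameActionClass G τ)
    (hne : (((a : LinearMap.GeneralLinearGroup k M) : Module.End k M) - 1) *
        (((b : LinearMap.GeneralLinearGroup k M) : Module.End k M) - 1) ≠
      (((b : LinearMap.GeneralLinearGroup k M) : Module.End k M) - 1) *
        (((a : LinearMap.GeneralLinearGroup k M) : Module.End k M) - 1)) :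
    ∃ Nb : Module.End k M, QpTri G (Cfsg.commutatorRank σ)
      (((a : LinearMap.GeneralLinearGroup k M) : Module.End k M) - 1)
      (((b : LinearMap.GeneralLinearGroup k M) : Module.End k M) - 1)
      ((((a : LinearMap.GeneralLinearGroup k M) : Module.End k M) - 1) *
        (((b : LinearMap.GeneralLinearGroup k M) : Module.End k M) - 1) -
      (((b : LinearMap.GeneralLinearGroup k M) : Module.End k M) - 1) *
        (((a : LinearMap.GeneralLinearGroup k M) : Module.End k M) - 1)) Nb := by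
  have hmin := qp_hmin_of_min hσ
  obtain ⟨hNa, hNb, rA, rB, t1, t2⟩ := qp_pair_data hk2 hk3 hσ hτ hz ha hb
  obtain ⟨hρ, eN, hNN⟩ := qp_comm_min hk2 hk3 hσ hτ hz ha hb hne
  obtain ⟨A, hA⟩ : ∃ A, A = ((a : LinearMap.GeneralLinearGroup k M) : Module.End k M) - 1 := ⟨_, rfl⟩
  obtain ⟨B, hB⟩ : ∃ B, B = ((b : LinearMap.GeneralLinearGroup k M) : Module.End k M) - 1 := ⟨_, rfl⟩
  rw [← hA, ← hB] at hne t1 t2 eN hNN ⊢
  rw [← hA] at hNa rA
  rw [← hB] at hNb rB
  have hN0 : A * B - B * A ≠ 0 := sub_ne_zero.mpr hne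
  obtain ⟨τ', hτ', hnn⟩ := qp_partner_exists hk2 hk3 hG hρ
  obtain ⟨hVK, hWK⟩ := qp_nondeg hk2 hk3 hρ hτ' hnn
  obtain ⟨b', hb', i1, i2⟩ := qp_partner hk2 hk3 hρ hτ' hVK hWK (qp_self_class hρ)
  rw [eN] at i1 i2
  obtain ⟨hNb', hkb', hrb'⟩ := qp_class_elim hb'
  have rτ' : Module.finrank k (LinearMap.range (((τ' : LinearMap.GeneralLinearGroup k M) : Module.End k M) - 1)) =
      Cfsg.commutatorRank σ := le_antisymm (hτ'.2 σ hσ.1) (hσ.2 τ' hτ'.1)
  refine ⟨((b' : LinearMap.GeneralLinearGroup k M) : Module.End k M) - 1, ?_⟩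
  exact
    { h2 := Ring.two_ne_zero hk2
      hmin := hmin
      hA := hNa
      hB := hNb
      rA := rA
      rB := rB
      aba := t1
      bab := t2
      hN := rfl
      hne := hN0
      hNb := hNb'
      rNb := by rw [hrb']; exact rτ'
      ip1 := i1
      ip2 := i2
      part := by
        intro N' hN' h0 hr hk
        obtain ⟨x, hxG, hxv⟩ := hN'.2 1
        rw [one_smul] at hxv
        have hx : x ∈ Cfsg.sameActionClass G (a * b * a⁻¹ * b⁻¹) :=
          qp_mem_class hρ hN' (by rw [eN]; exact hk) (by rw [eN]; exact hr) hxv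
        obtain ⟨b'', hb'', j1, j2⟩ := qp_partner hk2 hk3 hρ hτ' hVK hWK hx
        have ex : ((x : LinearMap.GeneralLinearGroup k M) : Module.End k M) - 1 = N' := by
          rw [hxv]; exact add_sub_cancel_left 1 _
        rw [ex] at j1 j2
        obtain ⟨hNb'', hkb'', hrb''⟩ := qp_class_elim hb''
        exact ⟨_, hNb'', j1, j2, by rw [hrb'', hrb'], by rw [hkb'', hkb']⟩ }

/-- the commutator of a class pair has the same range and kernel as the base commutator -/
theorem qp_pair_facts [FiniteDimensional k M] (hk2 : ringChar k ≠ 2) (hk3 : Nat.card k ≠ 3)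
    {σ τ : LinearMap.GeneralLinearGroup k M}
    (hσ : σ ∈ Cfsg.minimalQuadraticElements G) (hτ : τ ∈ Cfsg.minimalQuadraticElements G)
    (hz : ∃ n : ℕ, ((((σ : LinearMap.GeneralLinearGroup k M) : Module.End k M) - 1) *
      (((τ : LinearMap.GeneralLinearGroup k M) : Module.End k M) - 1) +
      (((τ : LinearMap.GeneralLinearGroup k M) : Module.End k M) - 1) *
      (((σ : LinearMap.GeneralLinearGroup k M) : Module.End k M) - 1)) ^ n = 0)
    (hne0 : (((σ : LinearMap.GeneralLinearGroup k M) : Module.End k M) - 1) *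
        (((τ : LinearMap.GeneralLinearGroup k M) : Module.End k M) - 1) ≠
      (((τ : LinearMap.GeneralLinearGroup k M) : Module.End k M) - 1) *
        (((σ : LinearMap.GeneralLinearGroup k M) : Module.End k M) - 1))
    {a b : LinearMap.GeneralLinearGroup k M} (ha : a ∈ Cfsg.sameActionClass G σ)
    (hb : b ∈ Cfsg.sameActionClass G τ) :
    (((a : LinearMap.GeneralLinearGroup k M) : Module.End k M) - 1) *
        (((b : LinearMap.GeneralLinearGroup k M) : Module.End k M) - 1) ≠
      (((b : LinearMap.GeneralLinearGroup k M) : Module.End k M) - 1) *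
        (((a : LinearMap.GeneralLinearGroup k M) : Module.End k M) - 1) ∧
    LinearMap.range ((((a : LinearMap.GeneralLinearGroup k M) : Module.End k M) - 1) *
        (((b : LinearMap.GeneralLinearGroup k M) : Module.End k M) - 1) -
      (((b : LinearMap.GeneralLinearGroup k M) : Module.End k M) - 1) *
        (((a : LinearMap.GeneralLinearGroup k M) : Module.End k M) - 1)) =
    LinearMap.range ((((σ : LinearMap.GeneralLinearGroup k M) : Module.End k M) - 1) *
        (((τ : LinearMap.GeneralLinearGroup k M) : Module.End k M) - 1) -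
      (((τ : LinearMap.GeneralLinearGroup k M) : Module.End k M) - 1) *
        (((σ : LinearMap.GeneralLinearGroup k M) : Module.End k M) - 1)) ∧
    LinearMap.ker ((((a : LinearMap.GeneralLinearGroup k M) : Module.End k M) - 1) *
        (((b : LinearMap.GeneralLinearGroup k M) : Module.End k M) - 1) -
      (((b : LinearMap.GeneralLinearGroup k M) : Module.End k M) - 1) *
        (((a : LinearMap.GeneralLinearGroup k M) : Module.End k M) - 1)) =
    LinearMap.ker ((((σ : LinearMap.GeneralLinearGroup k M) : Module.End k M) - 1) *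
        (((τ : LinearMap.GeneralLinearGroup k M) : Module.End k M) - 1) -
      (((τ : LinearMap.GeneralLinearGroup k M) : Module.End k M) - 1) *
        (((σ : LinearMap.GeneralLinearGroup k M) : Module.End k M) - 1)) := by
  have hσ' := qp_self_class hσ
  have hτ' := qp_self_class hτ
  have hne : (((a : LinearMap.GeneralLinearGroup k M) : Module.End k M) - 1) *
        (((b : LinearMap.GeneralLinearGroup k M) : Module.End k M) - 1) ≠
      (((b : LinearMap.GeneralLinearGroup k M) : Module.End k M) - 1) *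
        (((a : LinearMap.GeneralLinearGroup k M) : Module.End k M) - 1) :=
    fun h => hne0 (qp_all_commute hk2 hk3 hσ hτ hz ha hb h hσ' hτ')
  refine ⟨hne, ?_, le_antisymm (qp_comm_ker_le hk2 hk3 hσ hτ hz ha hb hσ' hτ' hne)
    (qp_comm_ker_le hk2 hk3 hσ hτ hz hσ' hτ' ha hb hne0)⟩
  have hmin := qp_hmin_of_min hσ
  obtain ⟨hNa, hNb, rA, rB, t1, t2⟩ := qp_pair_data hk2 hk3 hσ hτ hz ha hb
  obtain ⟨hNa0, hNb0, rA0, rB0, t10, t20⟩ := qp_pair_data hk2 hk3 hσ hτ hz hσ' hτ'
  obtain ⟨-, u2, -, u4, u5⟩ := qp_ustruct hmin hNa hNb rA rB t1 t2 hne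
  obtain ⟨-, v2, -, v4, v5⟩ := qp_ustruct hmin hNa0 hNb0 rA0 rB0 t10 t20 hne0
  obtain ⟨-, hka, hra⟩ := qp_class_elim ha
  obtain ⟨-, hkb, hrb⟩ := qp_class_elim hb
  rw [u2, v2, u4, u5, v4, v5, hka, hra, hkb, hrb]

/-- the flag conditions of a non-commuting degenerate pair -/
theorem qp_flag_conds [FiniteDimensional k M] {d : ℕ}
    (hmin : ∀ N : Module.End k M, qpN G N → N ≠ 0 → d ≤ Module.finrank k (LinearMap.range N))
    {A B : Module.End k M} (hNA : qpN G A) (hNB : qpN G B)
    (rA : Module.finrank k (LinearMap.range A) = d) (rB : Module.finrank k (LinearMap.range B) = d)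
    (h1 : A * B * A = 0) (h2 : B * A * B = 0) (hne : A * B ≠ B * A) {K R : Submodule k M}
    (hK : LinearMap.ker (A * B - B * A) = K) (hR : LinearMap.range (A * B - B * A) = R) :
    ((∀ m : M, A m ∈ K) ∧ (∀ m ∈ K, A m ∈ R) ∧ (∀ m ∈ R, A m = 0)) ∧
    ((∀ m : M, B m ∈ K) ∧ (∀ m ∈ K, B m ∈ R) ∧ (∀ m ∈ R, B m = 0)) := by
  subst hK hR
  obtain ⟨-, u2, -, -, -⟩ := qp_ustruct hmin hNA hNB rA rB h1 h2 hne
  have r_aa : ∀ m : M, A (A m) = 0 := fun m => qp_pz2 hNA.1 m
  have r_bb : ∀ m : M, B (B m) = 0 := fun m => qp_pz2 hNB.1 m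
  have r_aba : ∀ m : M, A (B (A m)) = 0 := fun m => qp_pz3 h1 m
  have r_bab : ∀ m : M, B (A (B m)) = 0 := fun m => qp_pz3 h2 m
  refine ⟨⟨?_, ?_, ?_⟩, ⟨?_, ?_, ?_⟩⟩
  · intro m
    refine LinearMap.mem_ker.mpr ?_
    rw [LinearMap.sub_apply, Module.End.mul_apply, Module.End.mul_apply, r_aba, r_aa, map_zero, sub_zero]
  · intro m hm
    obtain ⟨-, -, -, ⟨y, hy⟩⟩ := qp_ustruct_ker hmin hNA hNB rA rB h1 h2 hne (LinearMap.mem_ker.mp hm)
    rw [u2, ← hy]
    exact Submodule.mem_sup_left ⟨y, rfl⟩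
  · rintro _ ⟨w, rfl⟩
    rw [LinearMap.sub_apply, Module.End.mul_apply, Module.End.mul_apply, map_sub, r_aa, r_aba, sub_zero]
  · intro m
    refine LinearMap.mem_ker.mpr ?_
    rw [LinearMap.sub_apply, Module.End.mul_apply, Module.End.mul_apply, r_bb, r_bab, map_zero, sub_zero]
  · intro m hm
    obtain ⟨-, -, ⟨y, hy⟩, -⟩ := qp_ustruct_ker hmin hNA hNB rA rB h1 h2 hne (LinearMap.mem_ker.mp hm)
    rw [u2, ← hy]
    exact Submodule.mem_sup_right ⟨y, rfl⟩
  · rintro _ ⟨w, rfl⟩
    rw [LinearMap.sub_apply, Module.End.mul_apply, Module.End.mul_apply, map_sub, r_bab, r_bb, sub_zero]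

theorem qp_flag_of_conds {K R : Submodule k M} (h : R ≤ K) {a : LinearMap.GeneralLinearGroup k M}
    {A : Module.End k M} (ha : ((a : LinearMap.GeneralLinearGroup k M) : Module.End k M) = 1 + A)
    (hc : (∀ m : M, A m ∈ K) ∧ (∀ m ∈ K, A m ∈ R) ∧ (∀ m ∈ R, A m = 0)) : a ∈ qpFlag K R h := by
  have e : ∀ m : M, ((a : LinearMap.GeneralLinearGroup k M) : Module.End k M) m - m = A m := by
    intro m
    rw [ha, LinearMap.add_apply, Module.End.one_apply, add_sub_cancel_left]
  refine qpFlag_mem.mpr ⟨?_, ?_, ?_⟩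
  · intro m; rw [e]; exact hc.1 m
  · intro m hm; rw [e]; exact hc.2.1 m hm
  · intro m hm
    have := hc.2.2 m hm
    rw [← e, sub_eq_zero] at this
    exact this

theorem qp_flag_central {K R : Submodule k M} (h : R ≤ K) {c g : LinearMap.GeneralLinearGroup k M}
    (hc : c ∈ qpMov R ⊓ qpFix K) (hg : g ∈ qpFlag K R h) : c * g = g * c := by
  obtain ⟨hc1, hc2⟩ := Subgroup.mem_inf.mp hc
  rw [qpMov_mem] at hc1
  rw [qpFix_mem] at hc2
  rw [qpFlag_mem] at hg
  apply Units.ext
  refine LinearMap.ext fun m => ?_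
  rw [Units.val_mul, Units.val_mul, Module.End.mul_apply, Module.End.mul_apply]
  have h1 := hc2 _ (hg.1 m)
  have h2 := hg.2.2 _ (hc1 m)
  rw [map_sub] at h1 h2
  have e1 := sub_eq_iff_eq_add.mp h1
  have e2 := sub_eq_iff_eq_add.mp h2
  rw [e1, e2]
  abel

theorem qp_flag_comm {K R : Submodule k M} (h : R ≤ K) :
    ⁅qpFlag K R h, qpFlag K R h⁆ ≤ qpMov R ⊓ qpFix K := by
  rw [Subgroup.commutator_le]
  intro g hg y hy
  have hx : (y * g)⁻¹ ∈ qpFlag K R h := inv_mem (mul_mem hy hg)
  rw [qpFlag_mem] at hg hy hx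
  have e : ⁅g, y⁆ = (g * y) * (y * g)⁻¹ := by
    rw [commutatorElement_def, mul_inv_rev]
    group
  have key : ∀ m : M, ((⁅g, y⁆ : LinearMap.GeneralLinearGroup k M) : Module.End k M) m - m =
      ((g : LinearMap.GeneralLinearGroup k M) : Module.End k M)
        (((y : LinearMap.GeneralLinearGroup k M) : Module.End k M)
          ((((y * g)⁻¹ : LinearMap.GeneralLinearGroup k M) : Module.End k M) m)) -
      ((y : LinearMap.GeneralLinearGroup k M) : Module.End k M)
        (((g : LinearMap.GeneralLinearGroup k M) : Module.End k M)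
          ((((y * g)⁻¹ : LinearMap.GeneralLinearGroup k M) : Module.End k M) m)) := by
    intro m
    have e2 : ((y : LinearMap.GeneralLinearGroup k M) : Module.End k M)
        (((g : LinearMap.GeneralLinearGroup k M) : Module.End k M)
          ((((y * g)⁻¹ : LinearMap.GeneralLinearGroup k M) : Module.End k M) m)) = m := by
      have := qp_pt (Units.mul_inv (y * g)) m
      rw [Units.val_mul] at this
      exact this
    rw [e2, e, Units.val_mul, Units.val_mul]
    rfl
  have sub : ∀ m' : M,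
      ((g : LinearMap.GeneralLinearGroup k M) : Module.End k M)
        (((y : LinearMap.GeneralLinearGroup k M) : Module.End k M) m') -
      ((y : LinearMap.GeneralLinearGroup k M) : Module.End k M)
        (((g : LinearMap.GeneralLinearGroup k M) : Module.End k M) m') =
      (((g : LinearMap.GeneralLinearGroup k M) : Module.End k M)
        (((y : LinearMap.GeneralLinearGroup k M) : Module.End k M) m' - m') -
        (((y : LinearMap.GeneralLinearGroup k M) : Module.End k M) m' - m')) -
      (((y : LinearMap.GeneralLinearGroup k M) : Module.End k M)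
        (((g : LinearMap.GeneralLinearGroup k M) : Module.End k M) m' - m') -
        (((g : LinearMap.GeneralLinearGroup k M) : Module.End k M) m' - m')) := by
    intro m'
    rw [map_sub, map_sub]
    abel
  refine Subgroup.mem_inf.mpr ⟨?_, ?_⟩
  · rw [qpMov_mem]
    intro m
    rw [key, sub]
    exact Submodule.sub_mem _ (hg.2.1 _ (hy.1 _)) (hy.2.1 _ (hg.1 _))
  · rw [qpFix_mem]
    intro m hm
    have hxm : (((y * g)⁻¹ : LinearMap.GeneralLinearGroup k M) : Module.End k M) m ∈ K := by
      have h1 := h (hx.2.1 m hm)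
      have h2 := Submodule.add_mem _ h1 hm
      rw [sub_add_cancel] at h2
      exact h2
    have h3 := key m
    rw [sub, hg.2.2 _ (hy.2.1 _ hxm), hy.2.2 _ (hg.2.1 _ hxm), sub_self, sub_self, sub_zero] at h3
    exact sub_eq_zero.mp h3

end qp22a

end Cfsg.Agent.Lib.helper85
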