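import Cfsg.Agent.Lib.helper85.QP22

set_option autoImplicit false
set_option linter.unusedSimpArgs false
set_option linter.unusedVariables false

namespace Cfsg.Agent.Lib.helper85

open scoped commutatorElement

section qp23a
variable {k : Type*} [Field k] {M : Type*} [AddCommGroup M] [Module k M]
variable {G : Subgroup (LinearMap.GeneralLinearGroup k M)}

/-- every member of the commutator class is a commutator with prescribed first factor -/
theorem qp_comm_surj_left [FiniteDimensional k M] (hk2 : ringChar k ≠ 2) (hk3 : Nat.card k ≠ 3)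
    (hG : Cfsg.IsQuadraticPair G)
    {σ τ : LinearMap.GeneralLinearGroup k M}
    (hσ : σ ∈ Cfsg.minimalQuadraticElements G) (hτ : τ ∈ Cfsg.minimalQuadraticElements G)
    (hz : ∃ n : ℕ, ((((σ : LinearMap.GeneralLinearGroup k M) : Module.End k M) - 1) *
      (((τ : LinearMap.GeneralLinearGroup k M) : Module.End k M) - 1) +
      (((τ : LinearMap.GeneralLinearGroup k M) : Module.End k M) - 1) *
      (((σ : LinearMap.GeneralLinearGroup k M) : Module.End k M) - 1)) ^ n = 0)
    (hne0 : (((σ : LinearMap.GeneralLinearGroup k M) : Module.End k M) - 1) *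
        (((τ : LinearMap.GeneralLinearGroup k M) : Module.End k M) - 1) ≠
      (((τ : LinearMap.GeneralLinearGroup k M) : Module.End k M) - 1) *
        (((σ : LinearMap.GeneralLinearGroup k M) : Module.End k M) - 1))
    {a : LinearMap.GeneralLinearGroup k M} (ha : a ∈ Cfsg.sameActionClass G σ)
    {x : LinearMap.GeneralLinearGroup k M} (hx : x ∈ Cfsg.sameActionClass G (σ * τ * σ⁻¹ * τ⁻¹)) :
    ∃ b ∈ Cfsg.sameActionClass G τ, a * b * a⁻¹ * b⁻¹ = x := by
  have hτ' := qp_self_class hτ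
  obtain ⟨hne, hr, hk⟩ := qp_pair_facts hk2 hk3 hσ hτ hz hne0 ha hτ'
  obtain ⟨Nb, S⟩ := qp_tri_of_pair hk2 hk3 hG hσ hτ hz ha hτ' hne
  obtain ⟨hρ, eN, -⟩ := qp_comm_min hk2 hk3 hσ hτ hz (qp_self_class hσ) hτ' hne0
  obtain ⟨hNx, hkx, hrx⟩ := qp_class_elim hx
  rw [eN] at hkx hrx
  have hx0 : ((x : LinearMap.GeneralLinearGroup k M) : Module.End k M) - 1 ≠ 0 := hx.1.1.2.1.2
  have hD : qpCls G ((((a : LinearMap.GeneralLinearGroup k M) : Module.End k M) - 1) *
        (((τ : LinearMap.GeneralLinearGroup k M) : Module.End k M) - 1) -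
      (((τ : LinearMap.GeneralLinearGroup k M) : Module.End k M) - 1) *
        (((a : LinearMap.GeneralLinearGroup k M) : Module.End k M) - 1))
      (((x : LinearMap.GeneralLinearGroup k M) : Module.End k M) - 1) :=
    ⟨hNx, Or.inr ⟨hrx.trans hr.symm, hkx.trans hk.symm⟩⟩
  obtain ⟨Bs, hBs, hrs, hks, hc⟩ := qp_tri_core S hD hx0
  obtain ⟨b, hbG, hbv⟩ := hBs.2 1
  rw [one_smul] at hbv
  have hb : b ∈ Cfsg.sameActionClass G τ := qp_mem_class hτ hBs hks hrs hbv
  refine ⟨b, hb, ?_⟩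
  have ebs : ((b : LinearMap.GeneralLinearGroup k M) : Module.End k M) - 1 = Bs := by
    rw [hbv]; exact add_sub_cancel_left 1 _
  obtain ⟨hNa, -, -, -, t1, t2⟩ := qp_pair_data hk2 hk3 hσ hτ hz ha hb
  rw [ebs] at t1 t2
  apply Units.ext
  rw [qp_comm_val qp_val_of_sub hbv hNa.1 hBs.1 t1 t2, hc]
  exact (qp_val_of_sub).symm

/-- every member of the commutator class is a commutator with prescribed second factor -/
theorem qp_comm_surj_right [FiniteDimensional k M] (hk2 : ringChar k ≠ 2) (hk3 : Nat.card k ≠ 3)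
    (hG : Cfsg.IsQuadraticPair G)
    {σ τ : LinearMap.GeneralLinearGroup k M}
    (hσ : σ ∈ Cfsg.minimalQuadraticElements G) (hτ : τ ∈ Cfsg.minimalQuadraticElements G)
    (hz : ∃ n : ℕ, ((((σ : LinearMap.GeneralLinearGroup k M) : Module.End k M) - 1) *
      (((τ : LinearMap.GeneralLinearGroup k M) : Module.End k M) - 1) +
      (((τ : LinearMap.GeneralLinearGroup k M) : Module.End k M) - 1) *
      (((σ : LinearMap.GeneralLinearGroup k M) : Module.End k M) - 1)) ^ n = 0)
    (hne0 : (((σ : LinearMap.GeneralLinearGroup k M) : Module.End k M) - 1) *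
        (((τ : LinearMap.GeneralLinearGroup k M) : Module.End k M) - 1) ≠
      (((τ : LinearMap.GeneralLinearGroup k M) : Module.End k M) - 1) *
        (((σ : LinearMap.GeneralLinearGroup k M) : Module.End k M) - 1))
    {b : LinearMap.GeneralLinearGroup k M} (hb : b ∈ Cfsg.sameActionClass G τ)
    {x : LinearMap.GeneralLinearGroup k M} (hx : x ∈ Cfsg.sameActionClass G (σ * τ * σ⁻¹ * τ⁻¹)) :
    ∃ a ∈ Cfsg.sameActionClass G σ, a * b * a⁻¹ * b⁻¹ = x := by
  have hσ' := qp_self_class hσ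
  obtain ⟨hne, hr, hk⟩ := qp_pair_facts hk2 hk3 hσ hτ hz hne0 hσ' hb
  obtain ⟨Nb, S⟩ := qp_tri_of_pair hk2 hk3 hG hσ hτ hz hσ' hb hne
  obtain ⟨hρ, eN, -⟩ := qp_comm_min hk2 hk3 hσ hτ hz hσ' (qp_self_class hτ) hne0
  obtain ⟨hNx, hkx, hrx⟩ := qp_class_elim hx
  rw [eN] at hkx hrx
  have hx0 : ((x : LinearMap.GeneralLinearGroup k M) : Module.End k M) - 1 ≠ 0 := hx.1.1.2.1.2
  have hD : qpCls G ((((σ : LinearMap.GeneralLinearGroup k M) : Module.End k M) - 1) *
        (((b : LinearMap.GeneralLinearGroup k M) : Module.End k M) - 1) -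
      (((b : LinearMap.GeneralLinearGroup k M) : Module.End k M) - 1) *
        (((σ : LinearMap.GeneralLinearGroup k M) : Module.End k M) - 1))
      (((x : LinearMap.GeneralLinearGroup k M) : Module.End k M) - 1) :=
    ⟨hNx, Or.inr ⟨hrx.trans hr.symm, hkx.trans hk.symm⟩⟩
  obtain ⟨As, hAs, hrs, hks, hc⟩ := qp_tri_core S.symm (qpCls_neg hD) (neg_ne_zero.mpr hx0)
  obtain ⟨a, haG, hav⟩ := hAs.2 1
  rw [one_smul] at hav
  have ha : a ∈ Cfsg.sameActionClass G σ := qp_mem_class hσ hAs hks hrs hav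
  refine ⟨a, ha, ?_⟩
  have eas : ((a : LinearMap.GeneralLinearGroup k M) : Module.End k M) - 1 = As := by
    rw [hav]; exact add_sub_cancel_left 1 _
  obtain ⟨-, hNb, -, -, t1, t2⟩ := qp_pair_data hk2 hk3 hσ hτ hz ha hb
  rw [eas] at t1 t2
  apply Units.ext
  rw [qp_comm_val hav qp_val_of_sub hAs.1 hNb.1 t1 t2]
  have e : As * (((b : LinearMap.GeneralLinearGroup k M) : Module.End k M) - 1) -
      (((b : LinearMap.GeneralLinearGroup k M) : Module.End k M) - 1) * As =
      ((x : LinearMap.GeneralLinearGroup k M) : Module.End k M) - 1 := by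
    have h1 := congrArg Neg.neg hc
    rw [neg_sub, neg_neg] at h1
    exact h1
  rw [e]
  exact (qp_val_of_sub).symm

end qp23a

end Cfsg.Agent.Lib.helper85
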