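import Cfsg.Agent.Lib.helper85.QP23

set_option autoImplicit false
set_option linter.unusedSimpArgs false
set_option linter.unusedVariables false

namespace Cfsg.Agent.Lib.helper85

open scoped commutatorElement

section qp24a
variable {k : Type*} [Field k] {M : Type*} [AddCommGroup M] [Module k M]
variable {G : Subgroup (LinearMap.GeneralLinearGroup k M)}

/-- pairs of root subgroups generating a unipotent subgroup -/
theorem qp_unip_final [FiniteDimensional k M] (hk2 : ringChar k ≠ 2) (hk3 : Nat.card k ≠ 3)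
    (hG : Cfsg.IsQuadraticPair G)
    {σ τ : LinearMap.GeneralLinearGroup k M}
    (hσ : σ ∈ Cfsg.minimalQuadraticElements G) (hτ : τ ∈ Cfsg.minimalQuadraticElements G)
    {E F : Subgroup (LinearMap.GeneralLinearGroup k M)}
    (hE : ∀ x, x ∈ E ↔ x ∈ Cfsg.sameActionClass G σ ∨ x = 1)
    (hF : ∀ x, x ∈ F ↔ x ∈ Cfsg.sameActionClass G τ ∨ x = 1)
    (hu : Cfsg.IsUnipotentOn (E ⊔ F)) :
    ⁅E, F⁆ = ⊥ ∨
    (⁅E, F⁆ ∈ Cfsg.quadraticRootSubgroups G ∧
      (∀ e ∈ E, e ≠ 1 → Subgroup.closure ((fun f : LinearMap.GeneralLinearGroup k M => e * f * e⁻¹ * f⁻¹) ''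
        (F : Set (LinearMap.GeneralLinearGroup k M))) = ⁅E, F⁆) ∧
      (∀ f ∈ F, f ≠ 1 → Subgroup.closure ((fun e : LinearMap.GeneralLinearGroup k M => e * f * e⁻¹ * f⁻¹) ''
        (E : Set (LinearMap.GeneralLinearGroup k M))) = ⁅E, F⁆) ∧
      ⁅E ⊔ F, E ⊔ F⁆ ≠ ⊥ ∧ ⁅⁅E ⊔ F, E ⊔ F⁆, E ⊔ F⁆ = ⊥ ∧
      ((E ⊔ F : Subgroup (LinearMap.GeneralLinearGroup k M)) : Set (LinearMap.GeneralLinearGroup k M)) ⊆
        Cfsg.quadraticUnipotentCore G ⁅E, F⁆) := by
  have hσ' := qp_self_class hσ
  have hτ' := qp_self_class hτ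
  have hσE : σ ∈ E := (hE σ).mpr (Or.inl hσ')
  have hτF : τ ∈ F := (hF τ).mpr (Or.inl hτ')
  have hNσ := qpN_of_quad hσ.1
  have hNτ := qpN_of_quad hτ.1
  have hz := qp_nil_of_unip hNσ.1 hNτ.1 qp_val_of_sub qp_val_of_sub
    ((le_sup_left : E ≤ E ⊔ F) hσE) ((le_sup_right : F ≤ E ⊔ F) hτF) hu
  by_cases hc0 : (((σ : LinearMap.GeneralLinearGroup k M) : Module.End k M) - 1) *
        (((τ : LinearMap.GeneralLinearGroup k M) : Module.End k M) - 1) =
      (((τ : LinearMap.GeneralLinearGroup k M) : Module.End k M) - 1) *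
        (((σ : LinearMap.GeneralLinearGroup k M) : Module.End k M) - 1)
  · left
    refine qp_commute_final hk2 hk3 hσ hτ hE hF (Or.inl ⟨σ, hσE, ?_, τ, hτF, ?_, ?_⟩)
    · intro h
      apply hσ.1.2.1.2
      rw [h, Units.val_one, sub_self]
    · intro h
      apply hτ.1.2.1.2
      rw [h, Units.val_one, sub_self]
    · exact (qp_val_comm_iff qp_val_of_sub qp_val_of_sub).mpr hc0
  · right
    obtain ⟨hρ, eN, hNN⟩ := qp_comm_min hk2 hk3 hσ hτ hz hσ' hτ' hc0
    obtain ⟨ρ, hρdef⟩ : ∃ ρ, ρ = σ * τ * σ⁻¹ * τ⁻¹ := ⟨_, rfl⟩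
    rw [← hρdef] at hρ eN
    have hD := qp_same_mem hρ
    have c1 : ∀ a ∈ Cfsg.sameActionClass G σ, ∀ b ∈ Cfsg.sameActionClass G τ,
        a * b * a⁻¹ * b⁻¹ ∈ Cfsg.sameActionClass G ρ := by
      intro a ha b hb
      obtain ⟨hne, hr, hk⟩ := qp_pair_facts hk2 hk3 hσ hτ hz hc0 ha hb
      obtain ⟨-, eN', hNN'⟩ := qp_comm_min hk2 hk3 hσ hτ hz ha hb hne
      refine qp_mem_class hρ hNN' (by rw [eN]; exact hk) (by rw [eN]; exact hr) ?_
      rw [← eN']
      exact qp_val_of_sub
    have c2 : ∀ a ∈ Cfsg.sameActionClass G σ, ∀ x ∈ Cfsg.sameActionClass G ρ,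
        ∃ b ∈ Cfsg.sameActionClass G τ, a * b * a⁻¹ * b⁻¹ = x := by
      intro a ha x hx
      rw [hρdef] at hx
      exact qp_comm_surj_left hk2 hk3 hG hσ hτ hz hc0 ha hx
    have c3 : ∀ b ∈ Cfsg.sameActionClass G τ, ∀ x ∈ Cfsg.sameActionClass G ρ,
        ∃ a ∈ Cfsg.sameActionClass G σ, a * b * a⁻¹ * b⁻¹ = x := by
      intro b hb x hx
      rw [hρdef] at hx
      exact qp_comm_surj_right hk2 hk3 hG hσ hτ hz hc0 hb hx
    have hEF : ⁅E, F⁆ = Cfsg.sameActionSubgroup G ρ := by
      apply le_antisymm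
      · rw [Subgroup.commutator_le]
        intro e he f hf
        rw [hD, commutatorElement_def]
        rcases (hE e).mp he with he' | rfl
        · rcases (hF f).mp hf with hf' | rfl
          · exact Or.inl (c1 e he' f hf')
          · right; simp
        · right; simp
      · intro x hx
        rcases (hD x).mp hx with hx' | rfl
        · obtain ⟨b, hb, rfl⟩ := c2 σ hσ' x hx'
          have h1 := Subgroup.commutator_mem_commutator hσE ((hF b).mpr (Or.inl hb))
          rw [commutatorElement_def] at h1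
          exact h1
        · exact Subgroup.one_mem _
    obtain ⟨K, hK⟩ : ∃ K : Submodule k M,
        K = LinearMap.ker (((ρ : LinearMap.GeneralLinearGroup k M) : Module.End k M) - 1) := ⟨_, rfl⟩
    obtain ⟨R, hR⟩ : ∃ R : Submodule k M,
        R = LinearMap.range (((ρ : LinearMap.GeneralLinearGroup k M) : Module.End k M) - 1) := ⟨_, rfl⟩
    have hRK : R ≤ K := by
      rw [hK, hR, eN]
      exact LinearMap.range_le_ker_iff.mpr hNN.1
    have hmin := qp_hmin_of_min hσ
    have hflagE : ∀ a ∈ Cfsg.sameActionClass G σ, a ∈ qpFlag K R hRK := by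
      intro a ha
      obtain ⟨hne, hr, hk⟩ := qp_pair_facts hk2 hk3 hσ hτ hz hc0 ha hτ'
      obtain ⟨hNa, hNb, rA, rB, t1, t2⟩ := qp_pair_data hk2 hk3 hσ hτ hz ha hτ'
      have hcond := (qp_flag_conds hmin hNa hNb rA rB t1 t2 hne (K := K) (R := R)
        (by rw [hK, eN]; exact hk) (by rw [hR, eN]; exact hr)).1
      exact qp_flag_of_conds hRK qp_val_of_sub hcond
    have hflagF : ∀ b ∈ Cfsg.sameActionClass G τ, b ∈ qpFlag K R hRK := by
      intro b hb
      obtain ⟨hne, hr, hk⟩ := qp_pair_facts hk2 hk3 hσ hτ hz hc0 hσ' hb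
      obtain ⟨hNa, hNb, rA, rB, t1, t2⟩ := qp_pair_data hk2 hk3 hσ hτ hz hσ' hb
      have hcond := (qp_flag_conds hmin hNa hNb rA rB t1 t2 hne (K := K) (R := R)
        (by rw [hK, eN]; exact hk) (by rw [hR, eN]; exact hr)).2
      exact qp_flag_of_conds hRK qp_val_of_sub hcond
    have hflag : E ⊔ F ≤ qpFlag K R hRK := by
      refine sup_le ?_ ?_
      · intro x hx
        rcases (hE x).mp hx with h | rfl
        · exact hflagE x h
        · exact Subgroup.one_mem _
      · intro x hx
        rcases (hF x).mp hx with h | rfl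
        · exact hflagF x h
        · exact Subgroup.one_mem _
    have hDdeep : ∀ x ∈ Cfsg.sameActionSubgroup G ρ, x ∈ qpMov R ⊓ qpFix K := by
      intro x hx
      rcases (hD x).mp hx with h | rfl
      · obtain ⟨-, hkx, hrx⟩ := qp_class_elim h
        refine Subgroup.mem_inf.mpr ⟨?_, ?_⟩
        · rw [qpMov_mem]
          intro m
          rw [hR, ← hrx]
          exact ⟨m, by rw [LinearMap.sub_apply, Module.End.one_apply]⟩
        · rw [qpFix_mem]
          intro m hm
          rw [hK, ← hkx] at hm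
          have := LinearMap.mem_ker.mp hm
          rw [LinearMap.sub_apply, Module.End.one_apply] at this
          exact sub_eq_zero.mp this
      · exact Subgroup.one_mem _
    have hρD : ρ ∈ Cfsg.sameActionSubgroup G ρ := (hD ρ).mpr (Or.inl (qp_self_class hρ))
    refine ⟨⟨ρ, hρ, hEF⟩, ?_, ?_, ?_, ?_, ?_⟩
    · intro e he he1
      have he' : e ∈ Cfsg.sameActionClass G σ := ((hE e).mp he).resolve_right he1
      rw [hEF]
      apply le_antisymm
      · rw [Subgroup.closure_le]
        rintro _ ⟨f, hf, rfl⟩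
        show e * f * e⁻¹ * f⁻¹ ∈ Cfsg.sameActionSubgroup G ρ
        rw [hD]
        rcases (hF f).mp hf with hf' | rfl
        · exact Or.inl (c1 e he' f hf')
        · right; simp
      · intro x hx
        rcases (hD x).mp hx with hx' | rfl
        · obtain ⟨b, hb, rfl⟩ := c2 e he' x hx'
          exact Subgroup.subset_closure ⟨b, (hF b).mpr (Or.inl hb), rfl⟩
        · exact Subgroup.one_mem _
    · intro f hf hf1
      have hf' : f ∈ Cfsg.sameActionClass G τ := ((hF f).mp hf).resolve_right hf1
      rw [hEF]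
      apply le_antisymm
      · rw [Subgroup.closure_le]
        rintro _ ⟨e, he, rfl⟩
        show e * f * e⁻¹ * f⁻¹ ∈ Cfsg.sameActionSubgroup G ρ
        rw [hD]
        rcases (hE e).mp he with he' | rfl
        · exact Or.inl (c1 e he' f hf')
        · right; simp
      · intro x hx
        rcases (hD x).mp hx with hx' | rfl
        · obtain ⟨a, ha, rfl⟩ := c3 f hf' x hx'
          exact Subgroup.subset_closure ⟨a, (hE a).mpr (Or.inl ha), rfl⟩
        · exact Subgroup.one_mem _
    · intro h
      have h1 := Subgroup.commutator_mem_commutator ((le_sup_left : E ≤ E ⊔ F) hσE)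
        ((le_sup_right : F ≤ E ⊔ F) hτF)
      rw [h, Subgroup.mem_bot, commutatorElement_eq_one_iff_mul_comm] at h1
      exact hc0 ((qp_val_comm_iff qp_val_of_sub qp_val_of_sub).mp h1)
    · have h1 : ⁅E ⊔ F, E ⊔ F⁆ ≤ qpMov R ⊓ qpFix K :=
        (Subgroup.commutator_mono hflag hflag).trans (qp_flag_comm hRK)
      rw [eq_bot_iff, Subgroup.commutator_le]
      intro c hc g hg
      rw [Subgroup.mem_bot, commutatorElement_eq_one_iff_mul_comm]
      exact qp_flag_central hRK (h1 hc) (hflag hg)
    · intro g hg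
      have hgF := hflag hg
      rw [hEF]
      refine ⟨?_, ?_, ?_, ?_, ?_⟩
      · have hle : E ⊔ F ≤ G := by
          refine sup_le ?_ ?_
          · intro x hx
            rcases (hE x).mp hx with h | rfl
            · exact h.1.1.1
            · exact G.one_mem
          · intro x hx
            rcases (hF x).mp hx with h | rfl
            · exact h.1.1.1
            · exact G.one_mem
        exact hle hg
      · rw [Subgroup.mem_normalizer_iff]
        intro h
        constructor
        · intro hh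
          have e := qp_flag_central hRK (hDdeep h hh) hgF
          have e2 : g * h * g⁻¹ = h := by rw [← e, mul_inv_cancel_right]
          rw [e2]
          exact hh
        · intro hh
          have e := qp_flag_central hRK (hDdeep _ hh) hgF
          rw [inv_mul_cancel_right] at e
          have e2 : h = g * h * g⁻¹ := mul_left_cancel e
          rw [e2]
          exact hh
      · intro m
        have h1 := (qpFlag_mem.mp hgF).1 m
        simp only [Cfsg.fixedSubmodule, Submodule.mem_iInf]
        intro x hx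
        have h2 := (Subgroup.mem_inf.mp (hDdeep x hx)).2
        rw [qpFix_mem] at h2
        refine LinearMap.mem_ker.mpr ?_
        rw [LinearMap.sub_apply, Module.End.one_apply, h2 _ h1, sub_self]
      · intro m hm
        have hmK : m ∈ K := by
          simp only [Cfsg.fixedSubmodule, Submodule.mem_iInf] at hm
          rw [hK]
          exact hm ρ hρD
        have h1 := (qpFlag_mem.mp hgF).2.1 m hmK
        have hle : R ≤ Cfsg.commutatorSubmodule (Cfsg.sameActionSubgroup G ρ) := by
          rw [hR]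
          exact le_iSup₂ (f := fun (x : LinearMap.GeneralLinearGroup k M)
            (_ : x ∈ Cfsg.sameActionSubgroup G ρ) => LinearMap.range ((x : M →ₗ[k] M) - 1)) ρ hρD
        exact hle h1
      · intro m hm
        have hle : Cfsg.commutatorSubmodule (Cfsg.sameActionSubgroup G ρ) ≤ R := by
          refine iSup₂_le ?_
          intro x hx
          have h2 := (Subgroup.mem_inf.mp (hDdeep x hx)).1
          rw [qpMov_mem] at h2
          rintro _ ⟨w, rfl⟩
          rw [LinearMap.sub_apply, Module.End.one_apply]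
          exact h2 w
        exact (qpFlag_mem.mp hgF).2.2 m (hle hm)

end qp24a

end Cfsg.Agent.Lib.helper85
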