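import Cfsg.Agent.Lib.helper85.QP24

set_option autoImplicit false
set_option linter.unusedSimpArgs false
set_option linter.unusedVariables false

namespace Cfsg.Agent.Lib.helper85

open scoped commutatorElement

section qp25a
variable {k : Type*} [Field k] {M : Type*} [AddCommGroup M] [Module k M]
variable {G : Subgroup (LinearMap.GeneralLinearGroup k M)}

/-- two commuting abelian subgroups generate an abelian subgroup -/
theorem qp_sup_abelian {H : Type*} [Group H] {E F : Subgroup H} (hEE : ∀ x ∈ E, ∀ y ∈ E, x * y = y * x)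
    (hFF : ∀ x ∈ F, ∀ y ∈ F, x * y = y * x) (hEF : ∀ x ∈ E, ∀ y ∈ F, x * y = y * x) :
    ⁅E ⊔ F, E ⊔ F⁆ = ⊥ := by
  have hcE' : E ≤ Subgroup.centralizer (E : Set H) := fun x hx y hy => hEE y hy x hx
  have hFE : F ≤ Subgroup.centralizer (E : Set H) := fun y hy x hx => hEF x hx y hy
  have hEF' : E ≤ Subgroup.centralizer (F : Set H) := fun x hx y hy => (hEF x hx y hy).symm
  have hcF' : F ≤ Subgroup.centralizer (F : Set H) := fun x hx y hy => hFF y hy x hx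
  have h1 : E ⊔ F ≤ Subgroup.centralizer (E : Set H) := sup_le hcE' hFE
  have h2 : E ⊔ F ≤ Subgroup.centralizer (F : Set H) := sup_le hEF' hcF'
  have h3 : E ≤ Subgroup.centralizer ((E ⊔ F : Subgroup H) : Set H) := Subgroup.le_centralizer_iff.mp h1
  have h4 : F ≤ Subgroup.centralizer ((E ⊔ F : Subgroup H) : Set H) := Subgroup.le_centralizer_iff.mp h2
  exact Subgroup.commutator_eq_bot_iff_le_centralizer.mpr (sup_le h3 h4)

/-- pairs of root subgroups generating a subgroup of class exactly two -/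
theorem qp_class2_final [FiniteDimensional k M] (hk2 : ringChar k ≠ 2) (hk3 : Nat.card k ≠ 3)
    (hG : Cfsg.IsQuadraticPair G)
    {σ τ : LinearMap.GeneralLinearGroup k M}
    (hσ : σ ∈ Cfsg.minimalQuadraticElements G) (hτ : τ ∈ Cfsg.minimalQuadraticElements G)
    {E F : Subgroup (LinearMap.GeneralLinearGroup k M)}
    (hE : ∀ x, x ∈ E ↔ x ∈ Cfsg.sameActionClass G σ ∨ x = 1)
    (hF : ∀ x, x ∈ F ↔ x ∈ Cfsg.sameActionClass G τ ∨ x = 1)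
    (hcE : IsMulCommutative ↥E) (hcF : IsMulCommutative ↥F)
    (h2 : ⁅E ⊔ F, E ⊔ F⁆ ≠ ⊥ ∧ ⁅⁅E ⊔ F, E ⊔ F⁆, E ⊔ F⁆ = ⊥) :
    ⁅E, F⁆ ∈ Cfsg.quadraticRootSubgroups G ∧
    (∀ e ∈ E, e ≠ 1 → Subgroup.closure ((fun f : LinearMap.GeneralLinearGroup k M => e * f * e⁻¹ * f⁻¹) ''
      (F : Set (LinearMap.GeneralLinearGroup k M))) = ⁅E, F⁆) ∧
    (∀ f ∈ F, f ≠ 1 → Subgroup.closure ((fun e : LinearMap.GeneralLinearGroup k M => e * f * e⁻¹ * f⁻¹) ''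
      (E : Set (LinearMap.GeneralLinearGroup k M))) = ⁅E, F⁆) ∧
    ((E ⊔ F : Subgroup (LinearMap.GeneralLinearGroup k M)) : Set (LinearMap.GeneralLinearGroup k M)) ⊆
      Cfsg.quadraticUnipotentCore G ⁅E, F⁆ := by
  have hEE : ∀ x ∈ E, ∀ y ∈ E, x * y = y * x := by
    intro x hx y hy
    exact congrArg Subtype.val (hcE.is_comm.comm ⟨x, hx⟩ ⟨y, hy⟩)
  have hFF : ∀ x ∈ F, ∀ y ∈ F, x * y = y * x := by
    intro x hx y hy
    exact congrArg Subtype.val (hcF.is_comm.comm ⟨x, hx⟩ ⟨y, hy⟩)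
  have key : ⁅E, F⁆ = ⊥ → False := by
    intro h0
    apply h2.1
    refine qp_sup_abelian hEE hFF ?_
    intro x hx y hy
    have h1 := Subgroup.commutator_mem_commutator hx hy
    rw [h0, Subgroup.mem_bot, commutatorElement_eq_one_iff_mul_comm] at h1
    exact h1
  rcases qp_pairs_final hk2 hk3 hσ hτ hE hF hcE hcF with hu | ⟨hsp, -, -⟩
  · rcases qp_unip_final hk2 hk3 hG hσ hτ hE hF hu with h0 | ⟨c1, c2, c3, -, -, c6⟩
    · exact (key h0).elim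
    · exact ⟨c1, c2, c3, c6⟩
  · exfalso
    obtain ⟨hro, hrel⟩ := hsp
    have hσ' := qp_self_class hσ
    have hσE : σ ∈ E := (hE σ).mpr (Or.inl hσ')
    have hσ1 : σ ≠ 1 := by
      intro h
      apply hσ.1.2.1.2
      rw [h, Units.val_one, sub_self]
    obtain ⟨b, hbF, hb1, hconj⟩ := hro.cond_left σ hσE hσ1
    have hr := hrel σ hσE hσ1 b hbF hb1 hconj
    have haX : σ ∈ E ⊔ F := (le_sup_left : E ≤ E ⊔ F) hσE
    have hbX : b ∈ E ⊔ F := (le_sup_right : F ≤ E ⊔ F) hbF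
    have hcen : ∀ c ∈ ⁅E ⊔ F, E ⊔ F⁆, ∀ g ∈ E ⊔ F, c * g = g * c := by
      intro c hc g hg
      have h1 := Subgroup.commutator_mem_commutator hc hg
      rw [h2.2, Subgroup.mem_bot, commutatorElement_eq_one_iff_mul_comm] at h1
      exact h1
    have hz : ⁅σ⁻¹, b⁻¹⁆ ∈ ⁅E ⊔ F, E ⊔ F⁆ :=
      Subgroup.commutator_mem_commutator (inv_mem haX) (inv_mem hbX)
    have hz' : ⁅b, σ⁻¹⁆ ∈ ⁅E ⊔ F, E ⊔ F⁆ :=
      Subgroup.commutator_mem_commutator hbX (inv_mem haX)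
    have e1 : σ * ⁅σ⁻¹, b⁻¹⁆ = b⁻¹ * σ * b := by
      rw [commutatorElement_def]; group
    have e2 : b⁻¹ * ⁅b, σ⁻¹⁆ = σ⁻¹ * b⁻¹ * σ := by
      rw [commutatorElement_def]; group
    have e3 : σ * ⁅σ⁻¹, b⁻¹⁆ = b⁻¹ * ⁅b, σ⁻¹⁆ := by rw [e1, e2, hr]
    have e4 : σ = b⁻¹ * (⁅b, σ⁻¹⁆ * ⁅σ⁻¹, b⁻¹⁆⁻¹) := by
      rw [← mul_assoc, ← e3, mul_inv_cancel_right]
    have hw : (⁅b, σ⁻¹⁆ * ⁅σ⁻¹, b⁻¹⁆⁻¹) * b = b * (⁅b, σ⁻¹⁆ * ⁅σ⁻¹, b⁻¹⁆⁻¹) := by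
      have c1 : Commute ⁅b, σ⁻¹⁆ b := hcen _ hz' b hbX
      have c2 : Commute ⁅σ⁻¹, b⁻¹⁆ b := hcen _ hz b hbX
      exact (c1.mul_left c2.inv_left).eq
    have hab : σ * b = b * σ := by
      obtain ⟨w, hwdef⟩ : ∃ w, w = ⁅b, σ⁻¹⁆ * ⁅σ⁻¹, b⁻¹⁆⁻¹ := ⟨_, rfl⟩
      rw [← hwdef] at e4 hw
      rw [e4, mul_assoc, hw, inv_mul_cancel_left, mul_inv_cancel_left]
    exact key (qp_commute_final hk2 hk3 hσ hτ hE hF (Or.inl ⟨σ, hσE, hσ1, b, hbF, hb1, hab⟩))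

end qp25a

end Cfsg.Agent.Lib.helper85
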