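import Cfsg.Agent.Lib.helper85.QP25

set_option autoImplicit false
set_option linter.unusedSimpArgs false
set_option linter.unusedVariables false

namespace Cfsg.Agent.Lib.helper85

open Polynomial

universe u v

section qp26a
variable {k : Type u} [Field k] {M : Type v} [AddCommGroup M] [Module k M]
variable {G : Subgroup (LinearMap.GeneralLinearGroup k M)}

theorem qp_conjB_eq {A B : Module.End k M} (hA : A * A = 0) (hB : B * B = 0)
    {g : Matrix.SpecialLinearGroup (Fin 2) k[X]} (hg : qpOrd g.1) {c' : k[X]} (hc : g.1 1 0 = X * c') :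
    qpPhi A B g.1 * B * qpPhi A B (g⁻¹).1 =
      qpT A B (-(X * g.1 1 1 * g.1 0 1)) (-(X * g.1 0 1 ^ 2)) (g.1 1 1 ^ 2) (2 * g.1 0 1 * g.1 1 1) := by
  obtain ⟨p4, h4⟩ := hg.2
  have ha : g.1 0 0 = g.1 1 1 + X * p4 := by rw [← h4]; ring
  rw [qpPhi_eq A B hc h4, qpPhi_inv_eq A B hc h4, qpT_Br hA hB, qpT_mul hA hB, ha]
  exact qpT_congr A B (by ring) (by ring) (by ring) (by ring)

theorem qp_ev_dvd_zero (A B : Module.End k M) {p p' : k[X]} (h : p ∣ p') (h1 : qpEv A B p = 0) :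
    qpEv A B p' = 0 := by
  obtain ⟨r, hr⟩ := h
  rw [hr, map_mul, h1, zero_mul]

theorem qp_core_conjB [FiniteDimensional k M] {d : ℕ} {q : k[X]} {A B : Module.End k M}
    (S : QpSetup G d q A B) {g : Matrix.SpecialLinearGroup (Fin 2) k[X]} (hg : g ∈ qpGam k)
    (hq01 : q ∣ g.1 0 1) :
    qpPhi A B g.1 * B * qpPhi A B (g⁻¹).1 = qpEv A B (g.1 1 1 ^ 2) * B := by
  obtain ⟨c', hc⟩ := (qpGam_ord hg).1
  have hA := S.hNA.1
  have hB := S.hNB.1
  have hqA := qp_evqA S
  have hXq : qpEv A B (X * q) = 0 := qp_z_of_A hA hB hqA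
  have t1 : qpEv A B (-(X * g.1 1 1 * g.1 0 1)) = 0 := by
    refine qp_ev_dvd_zero A B ?_ hXq
    obtain ⟨r, hr⟩ := hq01
    exact ⟨-(g.1 1 1 * r), by rw [hr]; ring⟩
  have t2 : qpEv A B (-(X * g.1 0 1 ^ 2)) * A = 0 := by
    refine qp_dvd_zero A B ?_ hqA
    obtain ⟨r, hr⟩ := hq01
    exact ⟨-(X * r * g.1 0 1), by rw [hr]; ring⟩
  have t4 : qpEv A B (2 * g.1 0 1 * g.1 1 1) * (A * B) = 0 := by
    have h1 : qpEv A B (2 * g.1 0 1 * g.1 1 1) * A = 0 := by
      refine qp_dvd_zero A B ?_ hqA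
      obtain ⟨r, hr⟩ := hq01
      exact ⟨2 * r * g.1 1 1, by rw [hr]; ring⟩
    rw [← mul_assoc, h1, zero_mul]
  rw [qp_conjB_eq hA hB (qpGam_ord hg) hc, qpT_split, t1, t2, t4, zero_add, zero_add, add_zero]

theorem qpPhi_conjL {A B : Module.End k M} (hA : A * A = 0) (hB : B * B = 0)
    {g : Matrix.SpecialLinearGroup (Fin 2) k[X]} (hg : g ∈ qpGam k) (c : k) :
    qpPhi A B (g * qpL c * g⁻¹).1 = 1 + c • (qpPhi A B g.1 * B * qpPhi A B (g⁻¹).1) := by
  rw [Matrix.SpecialLinearGroup.coe_mul, Matrix.SpecialLinearGroup.coe_mul,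
    qpPhi_mul hA hB (qpOrd_mul (qpGam_ord hg) (qpGam_ord (qpL_mem c))) (qpGam_ord (inv_mem hg)),
    qpPhi_mul hA hB (qpGam_ord hg) (qpGam_ord (qpL_mem c)), qpPhi_L, mul_add, add_mul, mul_one,
    qpPhi_mul_inv hA hB (qpGam_ord hg), mul_smul_comm, smul_mul_assoc]

/-- the homomorphism from `SL₂` of the residue field -/
theorem qp_lift [FiniteDimensional k M] {d : ℕ} {q : k[X]} {A B : Module.End k M} (S : QpSetup G d q A B) :
    ∃ φ : Matrix.SpecialLinearGroup (Fin 2) (AdjoinRoot q) →* LinearMap.GeneralLinearGroup k M,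
      (∀ g ∈ qpGam k, ((φ (qpRed q g) : LinearMap.GeneralLinearGroup k M) : Module.End k M) =
        qpPhi A B g.1) ∧ Function.Injective φ := by
  have hA := S.hNA.1
  have hB := S.hNB.1
  have hF : Fact (Irreducible q) := ⟨S.hq⟩
  let f₀ : ↥(qpGam k) →* Module.End k M :=
    { toFun := fun g => qpPhi A B g.1.1
      map_one' := qpPhi_one A B
      map_mul' := fun g h => qpPhi_mul hA hB (qpGam_ord g.2) (qpGam_ord h.2) }
  let f : ↥(qpGam k) →* LinearMap.GeneralLinearGroup k M := f₀.toHomUnits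
  have hfval : ∀ g : ↥(qpGam k),
      ((f g : LinearMap.GeneralLinearGroup k M) : Module.End k M) = qpPhi A B g.1.1 :=
    fun g => MonoidHom.coe_toHomUnits f₀ g
  let red : ↥(qpGam k) →* Matrix.SpecialLinearGroup (Fin 2) (AdjoinRoot q) :=
    (qpRed q).comp (qpGam k).subtype
  have hsurj : Function.Surjective red := by
    intro y
    obtain ⟨g, hg, rfl⟩ := qp_dickson_surj S.hk2 S.hk3 q S.hqX' y
    exact ⟨⟨g, hg⟩, rfl⟩
  have hker : f.ker = red.ker := by
    ext x
    rw [MonoidHom.mem_ker, MonoidHom.mem_ker]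
    have h1 : f x = 1 ↔ qpPhi A B x.1.1 = 1 := by
      rw [← hfval]
      constructor
      · intro h; rw [h]; rfl
      · intro h; exact Units.ext h
    rw [h1, qp_ker_iff S x.2]
    exact (qpRed_eq_one_iff q x.1).symm
  have hlift : ∀ x : ↥(qpGam k), (red.liftOfSurjective hsurj ⟨f, hker.ge⟩) (red x) = f x :=
    fun x => MonoidHom.liftOfRightInverse_comp_apply red _ _ ⟨f, hker.ge⟩ x
  refine ⟨red.liftOfSurjective hsurj ⟨f, hker.ge⟩, ?_, ?_⟩
  · intro g hg
    have h1 := hlift ⟨g, hg⟩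
    have h2 : red ⟨g, hg⟩ = qpRed q g := rfl
    rw [h2] at h1
    rw [h1, hfval]
  · rw [injective_iff_map_eq_one]
    intro y hy
    obtain ⟨x, rfl⟩ := hsurj y
    rw [hlift] at hy
    have h1 : x ∈ f.ker := MonoidHom.mem_ker.mpr hy
    rw [hker] at h1
    exact MonoidHom.mem_ker.mp h1

theorem qp_card_gt {K : Type*} [Field K] [Algebra k K] (hk2 : ringChar k ≠ 2) (hk3 : Nat.card k ≠ 3) :
    3 < ENat.card K := by
  obtain ⟨t, ht0, ht1⟩ := qp_exists_t hk2 hk3
  have h2 : (2 : k) ≠ 0 := Ring.two_ne_zero hk2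
  have hinj := (algebraMap k K).injective
  have hne : (1 : k) ≠ -1 := by
    intro h
    apply h2
    linear_combination h
  have h1 : t ≠ 1 := by
    intro h
    apply ht1
    rw [h, mul_one]
  have h3 : t ≠ -1 := by
    intro h
    apply ht1
    rw [h]
    ring
  have hs : ({0, 1, -1, t} : Set k).encard = 4 := by
    rw [Set.encard_insert_of_notMem, Set.encard_insert_of_notMem, Set.encard_pair]
    · norm_num
    · exact fun h => h3 h.symm
    · simp only [Set.mem_insert_iff, Set.mem_singleton_iff, not_or]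
      exact ⟨hne, fun h => h1 h.symm⟩
    · simp only [Set.mem_insert_iff, Set.mem_singleton_iff, not_or]
      refine ⟨zero_ne_one, ?_, fun h => ht0 h.symm⟩
      intro h
      have := neg_eq_zero.mp h.symm
      exact one_ne_zero this
  have h4 : (4 : ℕ∞) ≤ ENat.card k := by
    rw [← hs, ← Set.encard_univ]
    exact Set.encard_le_encard (Set.subset_univ _)
  have h5 : ENat.card k ≤ ENat.card K := ENat.card_le_card_of_injective hinj
  have h6 : (3 : ℕ∞) < 4 := by norm_num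
  exact lt_of_lt_of_le h6 (h4.trans h5)

end qp26a

end Cfsg.Agent.Lib.helper85
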