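import Cfsg.Agent.Lib.helper85.QP26

set_option autoImplicit false
set_option linter.unusedSimpArgs false
set_option linter.unusedVariables false

namespace Cfsg.Agent.Lib.helper85

open Polynomial

universe u v

section qp27a
variable {k : Type u} [Field k] {M : Type v} [AddCommGroup M] [Module k M]
variable {G : Subgroup (LinearMap.GeneralLinearGroup k M)}

/-- a non-degenerate pair of minimal elements gives an image of `SL₂` inside the two root subgroups -/
theorem qp_psl2_exists [FiniteDimensional k M] (hk2 : ringChar k ≠ 2) (hk3 : Nat.card k ≠ 3)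
    {σ τ : LinearMap.GeneralLinearGroup k M}
    (hσ : σ ∈ Cfsg.minimalQuadraticElements G) (hτ : τ ∈ Cfsg.minimalQuadraticElements G)
    (hnn : ¬ ∃ n : ℕ, ((((σ : LinearMap.GeneralLinearGroup k M) : Module.End k M) - 1) *
      (((τ : LinearMap.GeneralLinearGroup k M) : Module.End k M) - 1) +
      (((τ : LinearMap.GeneralLinearGroup k M) : Module.End k M) - 1) *
      (((σ : LinearMap.GeneralLinearGroup k M) : Module.End k M) - 1)) ^ n = 0) :
    ∃ A₀ B₀ : Subgroup (LinearMap.GeneralLinearGroup k M),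
      A₀ ≤ Cfsg.sameActionSubgroup G σ ∧ B₀ ≤ Cfsg.sameActionSubgroup G τ ∧
      ∃ (k₁ : Type u) (_ : Field k₁), 3 < ENat.card k₁ ∧ Cfsg.IsPSL2PairOver k₁ A₀ B₀ := by
  have hNA := qpN_of_quad hσ.1
  have hNB := qpN_of_quad hτ.1
  have hmin := qp_hmin_of_min hσ
  have h2 : (2 : k) ≠ 0 := Ring.two_ne_zero hk2
  have rA : Module.finrank k (LinearMap.range (((σ : LinearMap.GeneralLinearGroup k M) : Module.End k M) - 1)) =
      Cfsg.commutatorRank σ := rfl
  have rB : Module.finrank k (LinearMap.range (((τ : LinearMap.GeneralLinearGroup k M) : Module.End k M) - 1)) =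
      Cfsg.commutatorRank σ := le_antisymm (hτ.2 σ hσ.1) (hσ.2 τ hτ.1)
  obtain ⟨q, S⟩ := qp_setup_exists hk2 hk3 hmin hNA hNB rA rB hnn
  obtain ⟨A, hAdef⟩ : ∃ A, A = ((σ : LinearMap.GeneralLinearGroup k M) : Module.End k M) - 1 := ⟨_, rfl⟩
  obtain ⟨B, hBdef⟩ : ∃ B, B = ((τ : LinearMap.GeneralLinearGroup k M) : Module.End k M) - 1 := ⟨_, rfl⟩
  rw [← hAdef] at hNA rA
  rw [← hBdef] at hNB rB
  rw [← hAdef, ← hBdef] at S
  have hA := hNA.1
  have hB := hNB.1
  have hF : Fact (Irreducible q) := ⟨S.hq⟩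
  obtain ⟨φ, hφ, hinj⟩ := qp_lift S
  have hroot : AdjoinRoot.root q ≠ 0 := qp_root_ne q S.hqX'
  -- upper side
  have hU1 : ∀ (s : k) (t : AdjoinRoot q), t ≠ 0 →
      φ (dkU (algebraMap k (AdjoinRoot q) s * (t * t))) ∈ Cfsg.sameActionSubgroup G σ := by
    intro s t ht
    obtain ⟨g, hg, hgr⟩ := qp_dickson_surj hk2 hk3 q S.hqX'
      (dkMk t 0 0 t⁻¹ (by rw [mul_inv_cancel₀ ht]; ring))
    have hq1 : q ∣ g.1 1 0 := by
      rw [← AdjoinRoot.mk_eq_zero, ← qpRed_apply, hgr]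
      rfl
    have e1 : dkU (algebraMap k (AdjoinRoot q) s * (t * t)) = qpRed q (g * qpU s * g⁻¹) := by
      rw [map_mul, map_mul, map_inv, hgr, qpRed_U]
      apply dk_ext
      all_goals
        simp only [dk_mul10, dk_mul11, dk_mul00, dk_mul01, dk_inv00, dk_inv01, dk_inv10, dk_inv11, dkMk_00,
            dkMk_01, dkMk_10, dkMk_11, dkU_00, dkU_01, dkU_10, dkU_11]
        try field_simp
        try ring
    have hmem : g * qpU s * g⁻¹ ∈ qpGam k := mul_mem (mul_mem hg (qpU_mem s)) (inv_mem hg)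
    have hval : ((φ (qpRed q (g * qpU s * g⁻¹)) : LinearMap.GeneralLinearGroup k M) : Module.End k M) =
        1 + s • (qpEv A B (g.1 0 0 ^ 2) * A) := by
      rw [hφ _ hmem, qpPhi_conjU hA hB hg s, qp_core_conj S hg hq1]
    have hN : qpN G (s • (qpEv A B (g.1 0 0 ^ 2) * A)) := by
      have := qpN_smul (qpCj_N S.hNA S.hNB hg) s
      rwa [qp_core_conj S hg hq1] at this
    have hcls : qpCls G A (s • (qpEv A B (g.1 0 0 ^ 2) * A)) := by
      refine qpCls_of_le hmin rA hN ?_ ?_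
      · rintro _ ⟨m, rfl⟩
        refine ⟨s • qpEv A B (g.1 0 0 ^ 2) m, ?_⟩
        rw [LinearMap.smul_apply, Module.End.mul_apply, qpEv_A_apply hA, map_smul]
      · intro m hm
        refine LinearMap.mem_ker.mpr ?_
        rw [LinearMap.smul_apply, Module.End.mul_apply, LinearMap.mem_ker.mp hm, map_zero, smul_zero]
    rw [e1]
    rcases hcls.2 with h0 | ⟨hr, hk⟩
    · have e2 : φ (qpRed q (g * qpU s * g⁻¹)) = 1 := Units.ext (by rw [hval, h0, add_zero]; rfl)
      rw [e2]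
      exact one_mem _
    · exact Subgroup.subset_closure (qp_mem_class hσ hN (by rw [hk, hAdef]) (by rw [hr, hAdef]) hval)
  have hU : ∀ y : AdjoinRoot q, φ (dkU y) ∈ Cfsg.sameActionSubgroup G σ := by
    intro y
    obtain ⟨s₁, s₂, t₁, t₂, ht₁, ht₂, hy⟩ := qp_two_squares (k := k) (K := AdjoinRoot q) h2 y
    rw [hy, ← dkU_mul, map_mul]
    exact mul_mem (hU1 s₁ t₁ ht₁) (hU1 s₂ t₂ ht₂)
  -- lower side
  have hL1 : ∀ (s : k) (t : AdjoinRoot q), t ≠ 0 →
      φ (dkL (AdjoinRoot.root q * algebraMap k (AdjoinRoot q) s * (t * t))) ∈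
        Cfsg.sameActionSubgroup G τ := by
    intro s t ht
    obtain ⟨g, hg, hgr⟩ := qp_dickson_surj hk2 hk3 q S.hqX'
      (dkMk t⁻¹ 0 0 t (by rw [inv_mul_cancel₀ ht]; ring))
    have hq01 : q ∣ g.1 0 1 := by
      rw [← AdjoinRoot.mk_eq_zero, ← qpRed_apply, hgr]
      rfl
    have e1 : dkL (AdjoinRoot.root q * algebraMap k (AdjoinRoot q) s * (t * t)) =
        qpRed q (g * qpL s * g⁻¹) := by
      rw [map_mul, map_mul, map_inv, hgr, qpRed_L]
      apply dk_ext
      all_goals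
        simp only [dk_mul10, dk_mul11, dk_mul00, dk_mul01, dk_inv00, dk_inv01, dk_inv10, dk_inv11, dkMk_00,
            dkMk_01, dkMk_10, dkMk_11, dkL_00, dkL_01, dkL_10, dkL_11]
        try field_simp
        try ring
    have hmem : g * qpL s * g⁻¹ ∈ qpGam k := mul_mem (mul_mem hg (qpL_mem s)) (inv_mem hg)
    have hval : ((φ (qpRed q (g * qpL s * g⁻¹)) : LinearMap.GeneralLinearGroup k M) : Module.End k M) =
        1 + s • (qpEv A B (g.1 1 1 ^ 2) * B) := by
      rw [hφ _ hmem, qpPhi_conjL hA hB hg s, qp_core_conjB S hg hq01]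
    have hN : qpN G (s • (qpEv A B (g.1 1 1 ^ 2) * B)) := by
      obtain ⟨h, hhG, hh1, hh2⟩ := qpPhi_memG' S.hNA S.hNB hg
      have h3 := qpN_conjG S.hNB hhG
      rw [hh1, hh2, qp_core_conjB S hg hq01] at h3
      exact qpN_smul h3 s
    have hcls : qpCls G B (s • (qpEv A B (g.1 1 1 ^ 2) * B)) := by
      refine qpCls_of_le hmin rB hN ?_ ?_
      · rintro _ ⟨m, rfl⟩
        refine ⟨s • qpEv A B (g.1 1 1 ^ 2) m, ?_⟩
        rw [LinearMap.smul_apply, Module.End.mul_apply, qpEv_B_apply hB, map_smul]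
      · intro m hm
        refine LinearMap.mem_ker.mpr ?_
        rw [LinearMap.smul_apply, Module.End.mul_apply, LinearMap.mem_ker.mp hm, map_zero, smul_zero]
    rw [e1]
    rcases hcls.2 with h0 | ⟨hr, hk⟩
    · have e2 : φ (qpRed q (g * qpL s * g⁻¹)) = 1 := Units.ext (by rw [hval, h0, add_zero]; rfl)
      rw [e2]
      exact one_mem _
    · exact Subgroup.subset_closure (qp_mem_class hτ hN (by rw [hk, hBdef]) (by rw [hr, hBdef]) hval)
  have hL : ∀ y : AdjoinRoot q, φ (dkL y) ∈ Cfsg.sameActionSubgroup G τ := by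
    intro y
    obtain ⟨s₁, s₂, t₁, t₂, ht₁, ht₂, hy⟩ := qp_two_squares (k := k) (K := AdjoinRoot q) h2
      (y * (AdjoinRoot.root q)⁻¹)
    have e : y = AdjoinRoot.root q * algebraMap k (AdjoinRoot q) s₁ * (t₁ * t₁) +
        AdjoinRoot.root q * algebraMap k (AdjoinRoot q) s₂ * (t₂ * t₂) := by
      have h1 : y = AdjoinRoot.root q * (y * (AdjoinRoot.root q)⁻¹) := by field_simp
      rw [hy] at h1
      rw [h1]
      ring
    rw [e, ← dkL_mul, map_mul]
    exact mul_mem (hL1 s₁ t₁ ht₁) (hL1 s₂ t₂ ht₂)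
  have hgen : Cfsg.upperUnipotentSL2 (AdjoinRoot q) ⊔ Cfsg.lowerUnipotentSL2 (AdjoinRoot q) = ⊤ := by
    rw [eq_top_iff, ← qp_dickson hk2 hk3 q S.hqX']
    unfold qpGam
    rw [MonoidHom.map_closure, Subgroup.closure_le]
    rintro _ ⟨x, (⟨c, rfl⟩ | ⟨c, rfl⟩), rfl⟩
    · refine Subgroup.mem_sup_left (Subgroup.subset_closure ?_)
      rw [qpRed_U]
      exact ⟨rfl, rfl, rfl⟩
    · refine Subgroup.mem_sup_right (Subgroup.subset_closure ?_)
      rw [qpRed_L]
      exact ⟨rfl, rfl, rfl⟩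
  refine ⟨(Cfsg.upperUnipotentSL2 (AdjoinRoot q)).map φ, (Cfsg.lowerUnipotentSL2 (AdjoinRoot q)).map φ,
    ?_, ?_, AdjoinRoot q, inferInstance, qp_card_gt hk2 hk3, φ, ?_, ?_, rfl, rfl⟩
  · rw [Subgroup.map_le_iff_le_comap]
    unfold Cfsg.upperUnipotentSL2
    rw [Subgroup.closure_le]
    rintro g ⟨h10, h00, h11⟩
    have e : g = dkU (g.1 0 1) := dk_ext (by rw [dkU_00]; exact h00) (by rw [dkU_01])
      (by rw [dkU_10]; exact h10) (by rw [dkU_11]; exact h11)
    show φ g ∈ Cfsg.sameActionSubgroup G σ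
    rw [e]
    exact hU _
  · rw [Subgroup.map_le_iff_le_comap]
    unfold Cfsg.lowerUnipotentSL2
    rw [Subgroup.closure_le]
    rintro g ⟨h01, h00, h11⟩
    have e : g = dkL (g.1 1 0) := dk_ext (by rw [dkL_00]; exact h00) (by rw [dkL_01]; exact h01)
      (by rw [dkL_10]) (by rw [dkL_11]; exact h11)
    show φ g ∈ Cfsg.sameActionSubgroup G τ
    rw [e]
    exact hL _
  · rw [← Subgroup.map_sup, hgen, ← MonoidHom.range_eq_map]
  · rw [(MonoidHom.ker_eq_bot_iff φ).mpr hinj]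
    exact bot_le

end qp27a

end Cfsg.Agent.Lib.helper85
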