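import Cfsg.Agent.Lib.helper85.QP27
import Cfsg.Agent.Lib.helper85.SubTransfer

set_option autoImplicit false
set_option linter.unusedSimpArgs false
set_option linter.unusedVariables false

namespace Cfsg.Agent.Lib.helper85

open scoped commutatorElement

universe u v

section qp28gen
variable {H : Type*} [Group H]

/-- transfer of the root subgroup axioms to the generated subgroup -/
theorem root_subgroupOf' {S : Set (Subgroup H)}
    (hcomm : ∀ A ∈ S, IsMulCommutative A) (hne : ∀ A ∈ S, A ≠ ⊥)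
    (hconj : ∀ A ∈ S, ∀ g ∈ (⨆ B ∈ S, B), Cfsg.conjBy A g ∈ S)
    (hpair : ∀ A ∈ S, ∀ B ∈ S, ⁅A, B⁆ = ⊥ ∨ Cfsg.IsRankOnePair A B ∨ Cfsg.RootCommutatorCase S A B) :
    Cfsg.IsRootSubgroupSet ((fun A : Subgroup H => A.subgroupOf (⨆ B ∈ S, B)) '' S) := by
  obtain ⟨K, hK⟩ : ∃ K, K = ⨆ B ∈ S, B := ⟨_, rfl⟩
  rw [← hK] at hconj ⊢
  have hle : ∀ A ∈ S, A ≤ K := by
    intro A hA
    rw [hK]
    exact le_biSup (fun B => B) hA
  refine ⟨?_, ?_, ?_, ?_, ?_⟩
  · rintro _ ⟨A, hA, rfl⟩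
    exact comm_subgroupOf K (hcomm A hA)
  · rintro _ ⟨A, hA, rfl⟩
    exact subgroupOf_ne_bot' (hle A hA) (hne A hA)
  · apply Subgroup.map_injective K.subtype_injective
    rw [iSup_image, Subgroup.map_iSup]
    have h1 : ∀ A : Subgroup H, Subgroup.map K.subtype (⨆ (_ : A ∈ S), A.subgroupOf K) =
        ⨆ (_ : A ∈ S), A := by
      intro A
      rw [Subgroup.map_iSup]
      congr 1
      funext hA
      rw [Subgroup.subgroupOf_map_subtype, inf_of_le_left (hle A hA)]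
    simp_rw [h1]
    rw [← hK, ← MonoidHom.range_eq_map, Subgroup.range_subtype]
  · rintro _ ⟨A, hA, rfl⟩ g
    exact ⟨_, hconj A hA (g : H) g.2, (conjBy_subgroupOf A K g).symm⟩
  · rintro _ ⟨A, hA, rfl⟩ _ ⟨B, hB, rfl⟩
    rcases hpair A hA B hB with h | h | h
    · exact Or.inl (comm_subgroupOf_eq_bot K h)
    · exact Or.inr (Or.inl (rop_subgroupOf h (hle A hA) (hle B hB)))
    · exact Or.inr (Or.inr (cc_subgroupOf (hle A hA) (hle B hB) h))

end qp28gen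

section qp28a
variable {k : Type u} [Field k] {M : Type v} [AddCommGroup M] [Module k M]
variable {G : Subgroup (LinearMap.GeneralLinearGroup k M)}

theorem qp_same_comm [FiniteDimensional k M] {σ : LinearMap.GeneralLinearGroup k M}
    (hσ : σ ∈ Cfsg.minimalQuadraticElements G) : IsMulCommutative ↥(Cfsg.sameActionSubgroup G σ) := by
  refine ⟨⟨?_⟩⟩
  rintro ⟨x, hx⟩ ⟨y, hy⟩
  apply Subtype.ext
  show x * y = y * x
  rcases (qp_same_mem hσ x).mp hx with hx | rfl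
  · rcases (qp_same_mem hσ y).mp hy with hy | rfl
    · exact Cfsg.Agent.S5059.mul_comm_class hσ.1.2.1 hx hy
    · rw [mul_one, one_mul]
  · rw [mul_one, one_mul]

/-- the trichotomy for two root subgroups -/
theorem qp_tricho [FiniteDimensional k M] (hk2 : ringChar k ≠ 2) (hk3 : Nat.card k ≠ 3)
    (hG : Cfsg.IsQuadraticPair G)
    {σ τ : LinearMap.GeneralLinearGroup k M}
    (hσ : σ ∈ Cfsg.minimalQuadraticElements G) (hτ : τ ∈ Cfsg.minimalQuadraticElements G) :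
    ((∃ n : ℕ, ((((σ : LinearMap.GeneralLinearGroup k M) : Module.End k M) - 1) *
      (((τ : LinearMap.GeneralLinearGroup k M) : Module.End k M) - 1) +
      (((τ : LinearMap.GeneralLinearGroup k M) : Module.End k M) - 1) *
      (((σ : LinearMap.GeneralLinearGroup k M) : Module.End k M) - 1)) ^ n = 0) ∧
      (⁅Cfsg.sameActionSubgroup G σ, Cfsg.sameActionSubgroup G τ⁆ = ⊥ ∨
        Cfsg.RootCommutatorCase (Cfsg.quadraticRootSubgroups G) (Cfsg.sameActionSubgroup G σ)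
          (Cfsg.sameActionSubgroup G τ))) ∨
    ((¬ ∃ n : ℕ, ((((σ : LinearMap.GeneralLinearGroup k M) : Module.End k M) - 1) *
      (((τ : LinearMap.GeneralLinearGroup k M) : Module.End k M) - 1) +
      (((τ : LinearMap.GeneralLinearGroup k M) : Module.End k M) - 1) *
      (((σ : LinearMap.GeneralLinearGroup k M) : Module.End k M) - 1)) ^ n = 0) ∧
      Cfsg.IsRankOnePair (Cfsg.sameActionSubgroup G σ) (Cfsg.sameActionSubgroup G τ)) := by
  have hE := qp_same_mem hσ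
  have hF := qp_same_mem hτ
  by_cases hz : ∃ n : ℕ, ((((σ : LinearMap.GeneralLinearGroup k M) : Module.End k M) - 1) *
      (((τ : LinearMap.GeneralLinearGroup k M) : Module.End k M) - 1) +
      (((τ : LinearMap.GeneralLinearGroup k M) : Module.End k M) - 1) *
      (((σ : LinearMap.GeneralLinearGroup k M) : Module.End k M) - 1)) ^ n = 0
  · left
    have hu := qp_caseU hk2 hk3 hσ hτ hE hF hz
    rcases qp_unip_final hk2 hk3 hG hσ hτ hE hF hu with h0 | ⟨c1, c2, c3, c4, c5, c6⟩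
    · exact ⟨hz, Or.inl h0⟩
    · refine ⟨hz, Or.inr ⟨c1, ?_, c2, c3⟩⟩
      intro c hc x hx
      have hc' := Subgroup.commutator_mono
        (le_sup_left : Cfsg.sameActionSubgroup G σ ≤ Cfsg.sameActionSubgroup G σ ⊔ Cfsg.sameActionSubgroup G τ)
        (le_sup_right : Cfsg.sameActionSubgroup G τ ≤ Cfsg.sameActionSubgroup G σ ⊔ Cfsg.sameActionSubgroup G τ)
        hc
      have h1 := Subgroup.commutator_mem_commutator hc' hx
      rw [c5, Subgroup.mem_bot, commutatorElement_eq_one_iff_mul_comm] at h1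
      exact h1
  · right
    obtain ⟨hVK, hWK⟩ := qp_nondeg hk2 hk3 hσ hτ hz
    exact ⟨hz, (qp_rank_one hk2 hk3 hσ hτ hE hF (qp_same_comm hσ) (qp_same_comm hτ) hVK hWK).1⟩

/-- the root subgroups of a quadratic pair -/
theorem qp_root_final [FiniteDimensional k M] (hk2 : ringChar k ≠ 2) (hk3 : Nat.card k ≠ 3)
    (hG : Cfsg.IsQuadraticPair G) :
    Cfsg.IsRootSubgroupSet ((fun A : Subgroup (LinearMap.GeneralLinearGroup k M) =>
      A.subgroupOf (⨆ B ∈ Cfsg.quadraticRootSubgroups G, B)) '' Cfsg.quadraticRootSubgroups G) ∧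
    (∀ A ∈ Cfsg.quadraticRootSubgroups G, ¬ Cfsg.IsIsolatedIn (Cfsg.FAdj (Cfsg.quadraticRootSubgroups G))
      (Cfsg.quadraticRootSubgroups G) A) ∧
    (∀ A ∈ Cfsg.quadraticRootSubgroups G, ∀ B ∈ Cfsg.rankOnePartners (Cfsg.quadraticRootSubgroups G) A,
      ∃ A₀ B₀ : Subgroup (LinearMap.GeneralLinearGroup k M), A₀ ≤ A ∧ B₀ ≤ B ∧
        ∃ (k₁ : Type u) (_ : Field k₁), 3 < ENat.card k₁ ∧ Cfsg.IsPSL2PairOver k₁ A₀ B₀) := by
  refine ⟨?_, ?_, ?_⟩
  · refine root_subgroupOf' ?_ ?_ ?_ ?_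
    · rintro _ ⟨σ, hσ, rfl⟩
      exact qp_same_comm hσ
    · rintro _ ⟨σ, hσ, rfl⟩ h
      have h1 : σ ∈ Cfsg.sameActionSubgroup G σ := Subgroup.subset_closure (qp_self_class hσ)
      rw [h, Subgroup.mem_bot] at h1
      apply hσ.1.2.1.2
      rw [h1, Units.val_one, sub_self]
    · rintro _ ⟨σ, hσ, rfl⟩ g hg
      have hle : (⨆ B ∈ Cfsg.quadraticRootSubgroups G, B) ≤ G := by
        refine iSup₂_le ?_
        rintro _ ⟨τ, hτ, rfl⟩
        exact (Subgroup.closure_le _).mpr (fun x hx => hx.1.1.1)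
      have hgG := hle hg
      exact ⟨g * σ * g⁻¹, qp_conj_min hσ hgG, qp_conjBy_same hσ hgG⟩
    · rintro _ ⟨σ, hσ, rfl⟩ _ ⟨τ, hτ, rfl⟩
      rcases qp_tricho hk2 hk3 hG hσ hτ with ⟨-, h | h⟩ | ⟨-, h⟩
      · exact Or.inl h
      · exact Or.inr (Or.inr h)
      · exact Or.inr (Or.inl h)
  · rintro _ ⟨σ, hσ, rfl⟩ ⟨hA, hiso⟩
    obtain ⟨τ, hτ, hnn⟩ := qp_partner_exists hk2 hk3 hG hσ
    rcases qp_tricho hk2 hk3 hG hσ hτ with ⟨hz, -⟩ | ⟨-, h⟩
    · exact hnn hz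
    · exact (hiso (Cfsg.sameActionSubgroup G τ)).1 ⟨hA, ⟨τ, hτ, rfl⟩, h⟩
  · rintro _ ⟨σ, hσ, rfl⟩ _ ⟨⟨τ, hτ, rfl⟩, hrop⟩
    rcases qp_tricho hk2 hk3 hG hσ hτ with ⟨hz, h | h⟩ | ⟨hz, -⟩
    · exact absurd h (rop_comm_ne_bot hrop (qp_same_comm hτ))
    · exact (rop_not_cc hrop (qp_same_comm hσ) h).elim
    · exact qp_psl2_exists hk2 hk3 hσ hτ hz

end qp28a

end Cfsg.Agent.Lib.helper85
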