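import Cfsg.Agent.Lib.helper85.QP28

set_option autoImplicit false
set_option linter.unusedSimpArgs false
set_option linter.unusedVariables false

namespace Cfsg.Agent.Lib.helper85

section qp29a
variable {k : Type*} [Field k] {M : Type*} [AddCommGroup M] [Module k M]
variable {G : Subgroup (LinearMap.GeneralLinearGroup k M)}

/-- square-zero elements of the group of rank `d` -/
def qpMin (G : Subgroup (LinearMap.GeneralLinearGroup k M)) (d : ℕ) (T : Module.End k M) : Prop :=
  qpN G T ∧ Module.finrank k (LinearMap.range T) = d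

theorem qp_add_mul_sub {N : Module.End k M} (hN : N * N = 0) (t : k) :
    (1 + t • N) * (1 - t • N) = 1 := by
  rw [mul_sub, add_mul, add_mul, one_mul, mul_one, one_mul, smul_mul_assoc, mul_smul_comm, hN, smul_zero,
    smul_zero]; abel

theorem qp_sub_mul_add {N : Module.End k M} (hN : N * N = 0) (t : k) :
    (1 - t • N) * (1 + t • N) = 1 := by
  rw [sub_mul, mul_add, mul_add, one_mul, mul_one, one_mul, smul_mul_assoc, mul_smul_comm, hN, smul_zero,
    smul_zero]; abel

theorem qpMin_conj [FiniteDimensional k M] {d : ℕ} {T N : Module.End k M} (hT : qpMin G d T) (hN : qpN G N)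
    (t : k) : qpMin G d ((1 + t • N) * T * (1 - t • N)) :=
  ⟨qpN_conj hT.1 hN t, by
    rw [qp_rank_conj (qp_add_mul_sub hN.1 t) (qp_sub_mul_add hN.1 t) T]; exact hT.2⟩

/-- the elements annihilated from both sides by every minimal element -/
def qpNl (G : Subgroup (LinearMap.GeneralLinearGroup k M)) (d : ℕ) (N : Module.End k M) : Prop :=
  ∀ Y : Module.End k M, qpMin G d Y → Y * N * Y = 0

theorem qpNl_smul {d : ℕ} {N : Module.End k M} (hN : qpNl G d N) (c : k) : qpNl G d (c • N) := by
  intro Y hY
  rw [mul_smul_comm, smul_mul_assoc, hN Y hY, smul_zero]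

theorem qpNl_conj [FiniteDimensional k M] {d : ℕ} {N N₁ : Module.End k M} (hN : qpNl G d N) (hN₁ : qpN G N₁)
    (t : k) : qpNl G d ((1 + t • N₁) * N * (1 - t • N₁)) := by
  intro Y hY
  have h := hN _ (qpMin_conj hY hN₁ (-t))
  rw [neg_smul, ← sub_eq_add_neg, sub_neg_eq_add] at h
  have e1 := qp_add_mul_sub hN₁.1 t
  obtain ⟨P, hP⟩ : ∃ P, P = 1 + t • N₁ := ⟨_, rfl⟩
  obtain ⟨Q, hQ⟩ : ∃ Q, Q = 1 - t • N₁ := ⟨_, rfl⟩
  rw [← hP, ← hQ] at h e1 ⊢
  calc Y * (P * N * Q) * Y = (P * Q) * Y * (P * N * Q) * Y * (P * Q) := by rw [e1, one_mul, mul_one]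
    _ = P * (Q * Y * P * N * (Q * Y * P)) * Q := by simp only [mul_assoc]
    _ = 0 := by rw [h, mul_zero, zero_mul]

theorem qpNl_comm [FiniteDimensional k M] (h2 : (2 : k) ≠ 0) {d : ℕ} {N N₁ : Module.End k M}
    (hN : qpNl G d N) (hN₁ : qpN G N₁) :
    qpNl G d (N₁ * N - N * N₁) ∧ qpNl G d (N₁ * N * N₁) := by
  have a := qpNl_conj hN hN₁ 1
  have b := qpNl_conj hN hN₁ (-1)
  rw [one_smul] at a
  rw [neg_smul, one_smul, ← sub_eq_add_neg, sub_neg_eq_add] at b
  constructor
  · intro Y hY
    have ea := a Y hY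
    have eb := b Y hY
    have e : (2 : k) • (Y * (N₁ * N - N * N₁) * Y) =
        Y * ((1 + N₁) * N * (1 - N₁)) * Y - Y * ((1 - N₁) * N * (1 + N₁)) * Y := by
      rw [two_smul]; noncomm_ring
    rw [ea, eb, sub_zero] at e
    exact (smul_eq_zero.mp e).resolve_left h2
  · intro Y hY
    have ea := a Y hY
    have eb := b Y hY
    have ec := hN Y hY
    have e : (2 : k) • (Y * (N₁ * N * N₁) * Y) =
        (2 : k) • (Y * N * Y) - (Y * ((1 + N₁) * N * (1 - N₁)) * Y + Y * ((1 - N₁) * N * (1 + N₁)) * Y) := by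
      rw [two_smul, two_smul]; noncomm_ring
    rw [ea, eb, ec, smul_zero, add_zero, sub_zero] at e
    exact (smul_eq_zero.mp e).resolve_left h2

/-- the unipotent lemma with one minimal element only -/
theorem qp_unip_gen [FiniteDimensional k M] {d : ℕ} (h2 : (2 : k) ≠ 0)
    (hmin : ∀ N : Module.End k M, qpN G N → N ≠ 0 → d ≤ Module.finrank k (LinearMap.range N))
    {A B : Module.End k M} (hNA : qpN G A) (hNB : qpN G B)
    (hrA : Module.finrank k (LinearMap.range A) = d) {n : ℕ} (hz : (A * B + B * A) ^ n = 0) :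
    (A * B + B * A) * A = 0 := by
  have hA := hNA.1
  have hB := hNB.1
  obtain ⟨z, hzdef⟩ : ∃ z, z = A * B + B * A := ⟨_, rfl⟩
  rw [← hzdef] at hz ⊢
  have hzA : z * A = A * z := by rw [hzdef]; exact (qpZ_comm_A hA).eq
  have hzB : z * B = B * z := by rw [hzdef]; exact (qpZ_comm_B hB).eq
  have claim : ∀ t : k, t ≠ 0 →
      z * z * A = 0 ∧ z * z * (A - t • (A * B - B * A) - (t * t) • (z * B)) = 0 ∧
        qpN G (z * ((2 * t) • A - (t * t) • (A * B - B * A))) := by
    intro t ht
    have hc1 : qpN G (A - t • (A * B - B * A) - (t * t) • (z * B)) := by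
      have := qpN_conj hNA hNB t
      rwa [qp_conj_formula hB, ← hzdef] at this
    have hr1 : Module.finrank k (LinearMap.range (A - t • (A * B - B * A) - (t * t) • (z * B))) = d := by
      have := qp_rank_conj (qp_add_mul_sub hB t) (qp_sub_mul_add hB t) A
      rwa [qp_conj_formula hB, ← hzdef, hrA] at this
    have hzt : A * (A - t • (A * B - B * A) - (t * t) • (z * B)) +
        (A - t • (A * B - B * A) - (t * t) • (z * B)) * A = -((t * t) • (z * z)) := by
      rw [hzdef]; exact qp_conj_z hA hB t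
    have hzz : (z * z) ^ n = 0 := by
      rw [← pow_two, ← pow_mul, mul_comm, pow_mul, hz]; exact zero_pow two_ne_zero
    have hpow : (-((t * t) • (z * z))) ^ n = 0 := by
      rw [neg_pow, smul_pow, hzz, smul_zero, mul_zero]
    obtain ⟨i1, i2⟩ := qp_unip h2 hmin hNA hc1 hrA hr1 (by rw [hzt]; exact hpow)
    rw [hzt] at i1 i2
    have htt : t * t ≠ 0 := mul_ne_zero ht ht
    refine ⟨?_, ?_, ?_⟩
    · rw [neg_mul, smul_mul_assoc, neg_eq_zero] at i1
      exact (smul_eq_zero.mp i1).resolve_left htt
    · rw [neg_mul, smul_mul_assoc, neg_eq_zero] at i2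
      exact (smul_eq_zero.mp i2).resolve_left htt
    · have := qpN_comm hNA hc1 (by rw [hzt]; exact i1) (by rw [hzt]; exact i2)
      rwa [show A * (A - t • (A * B - B * A) - (t * t) • (z * B)) -
          (A - t • (A * B - B * A) - (t * t) • (z * B)) * A =
          z * ((2 * t) • A - (t * t) • (A * B - B * A)) by rw [hzdef]; exact qp_conj_comm hA hB t] at this
  obtain ⟨r1, r2, r3⟩ := claim 1 one_ne_zero
  obtain ⟨-, s2, s3⟩ := claim (-1) (neg_ne_zero.mpr one_ne_zero)
  have r4 : z * z * (A * B - B * A) = 0 := by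
    have e : z * z * (A - (-1 : k) • (A * B - B * A) - ((-1 : k) * (-1)) • (z * B)) -
        z * z * (A - (1 : k) • (A * B - B * A) - ((1 : k) * 1) • (z * B)) =
        (2 : k) • (z * z * (A * B - B * A)) := by
      simp only [mul_sub, mul_add, mul_smul_comm, neg_smul, one_smul, neg_mul, mul_neg, mul_one, neg_neg,
        sub_neg_eq_add]
      module
    rw [s2, r2, sub_zero] at e
    exact (smul_eq_zero.mp e.symm).resolve_left h2
  have hY : ∀ t : k, z * z * ((2 * t) • A - (t * t) • (A * B - B * A)) = 0 := by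
    intro t
    rw [mul_sub, mul_smul_comm, mul_smul_comm, r1, r4, smul_zero, smul_zero, sub_zero]
  have hzY : ∀ t : k, z * ((2 * t) • A - (t * t) • (A * B - B * A)) =
      ((2 * t) • A - (t * t) • (A * B - B * A)) * z := by
    intro t
    simp only [mul_sub, sub_mul, mul_smul_comm, smul_mul_assoc, ← mul_assoc, hzA, hzB]
    simp only [mul_assoc, hzA, hzB]
  have p1 : z * ((2 * (1 : k)) • A - ((1 : k) * 1) • (A * B - B * A)) *
      (z * ((2 * (-1 : k)) • A - ((-1 : k) * (-1)) • (A * B - B * A))) = 0 := by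
    rw [hzY 1, mul_assoc, ← mul_assoc z z, hY, mul_zero]
  have p2 : z * ((2 * (-1 : k)) • A - ((-1 : k) * (-1)) • (A * B - B * A)) *
      (z * ((2 * (1 : k)) • A - ((1 : k) * 1) • (A * B - B * A))) = 0 := by
    rw [hzY (-1), mul_assoc, ← mul_assoc z z, hY, mul_zero]
  have q := qpN_sub r3 s3 p1 p2
  have e4 : z * ((2 * (1 : k)) • A - ((1 : k) * 1) • (A * B - B * A)) -
      z * ((2 * (-1 : k)) • A - ((-1 : k) * (-1)) • (A * B - B * A)) = (4 : k) • (z * A) := by
    simp only [mul_sub, mul_smul_comm, mul_one, mul_neg, neg_neg, neg_smul]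
    module
  rw [e4] at q
  have h4 : (4 : k) ≠ 0 := by
    have : (4 : k) = 2 * 2 := by norm_num
    rw [this]; exact mul_ne_zero h2 h2
  have q' := qpN_smul q (4 : k)⁻¹
  rw [smul_smul, inv_mul_cancel₀ h4, one_smul] at q'
  by_contra hne
  have := hmin _ q' hne
  rw [← hrA] at this
  have hA0 := qp_nil_zero hzA hz this
  exact hne (by rw [hA0, mul_zero])

theorem qp_rank_mul3_le [FiniteDimensional k M] (A B C : Module.End k M) :
    Module.finrank k (LinearMap.range (A * B * C)) ≤ Module.finrank k (LinearMap.range B) := by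
  have h1 : LinearMap.range (A * B * C) ≤ LinearMap.range (A * B) := by
    rw [Module.End.mul_eq_comp]; exact LinearMap.range_comp_le_range _ _
  have h2 : LinearMap.range (A * B) = (LinearMap.range B).map A := by
    rw [Module.End.mul_eq_comp, LinearMap.range_comp]
  calc Module.finrank k (LinearMap.range (A * B * C)) ≤ Module.finrank k (LinearMap.range (A * B)) :=
        Submodule.finrank_mono h1
    _ = Module.finrank k ((LinearMap.range B).map A) := by rw [h2]
    _ ≤ Module.finrank k (LinearMap.range B) := Submodule.finrank_map_le A _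

theorem qp_idem_fix [FiniteDimensional k M] {Y W : Module.End k M}
    (hr : Module.finrank k (LinearMap.range Y) ≤ Module.finrank k (LinearMap.range W))
    (h : W * Y * W = W) : Y * W * Y = Y := by
  have hP : LinearMap.range (Y * W) ≤ LinearMap.range Y := by
    rw [Module.End.mul_eq_comp]; exact LinearMap.range_comp_le_range _ _
  have hWP : Module.finrank k (LinearMap.range W) ≤ Module.finrank k (LinearMap.range (Y * W)) := by
    have e : LinearMap.range (W * (Y * W)) = (LinearMap.range (Y * W)).map W := by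
      rw [Module.End.mul_eq_comp, LinearMap.range_comp]
    have e' : W * (Y * W) = W := by rw [← mul_assoc, h]
    rw [e'] at e
    calc Module.finrank k (LinearMap.range W) = Module.finrank k ((LinearMap.range (Y * W)).map W) := by
          rw [← e]
      _ ≤ Module.finrank k (LinearMap.range (Y * W)) := Submodule.finrank_map_le W _
  have heq : LinearMap.range (Y * W) = LinearMap.range Y :=
    Submodule.eq_of_le_of_finrank_le hP (hr.trans hWP)
  refine LinearMap.ext fun m => ?_
  have hm : Y m ∈ LinearMap.range (Y * W) := by rw [heq]; exact ⟨m, rfl⟩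
  obtain ⟨x, hx⟩ := hm
  have hx' : Y (W x) = Y m := hx
  have h3 : W (Y (W x)) = W x := qp_pt h x
  show Y (W (Y m)) = Y m
  rw [← hx', h3]

theorem qp_rank_frob [FiniteDimensional k M] {D W : Module.End k M} (h : D * W * D = 0) :
    Module.finrank k (LinearMap.range (W * D)) + Module.finrank k (LinearMap.range (D * W)) ≤
      Module.finrank k (LinearMap.range W) := by
  have e1 := LinearMap.finrank_range_add_finrank_ker (D.domRestrict (LinearMap.range W))
  have e2 : LinearMap.range (D.domRestrict (LinearMap.range W)) = LinearMap.range (D * W) := by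
    ext x
    constructor
    · rintro ⟨⟨r, ⟨m, rfl⟩⟩, rfl⟩
      exact ⟨m, rfl⟩
    · rintro ⟨m, rfl⟩
      exact ⟨⟨W m, ⟨m, rfl⟩⟩, rfl⟩
  have e3 : LinearMap.range (W * D) ≤
      (LinearMap.ker (D.domRestrict (LinearMap.range W))).map (LinearMap.range W).subtype := by
    rintro x ⟨m, rfl⟩
    refine ⟨⟨W (D m), ⟨D m, rfl⟩⟩, ?_, rfl⟩
    have : D (W (D m)) = 0 := qp_pt h m
    exact LinearMap.mem_ker.mpr this
  have e4 := Submodule.finrank_map_subtype_eq (LinearMap.range W)
    (LinearMap.ker (D.domRestrict (LinearMap.range W)))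
  have e5 := Submodule.finrank_mono e3
  rw [e2] at e1
  omega

theorem qp_rank_add_le [FiniteDimensional k M] (A B : Module.End k M) :
    Module.finrank k (LinearMap.range (A + B)) ≤
      Module.finrank k (LinearMap.range A) + Module.finrank k (LinearMap.range B) := by
  have h : LinearMap.range (A + B) ≤ LinearMap.range A ⊔ LinearMap.range B := by
    rintro x ⟨m, rfl⟩
    exact Submodule.add_mem_sup ⟨m, rfl⟩ ⟨m, rfl⟩
  exact (Submodule.finrank_mono h).trans (Submodule.finrank_add_le_finrank_add_finrank _ _)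

end qp29a

end Cfsg.Agent.Lib.helper85
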