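import Cfsg.Agent.Lib.helper85.QP1

set_option autoImplicit false
set_option linter.unusedSimpArgs false

namespace Cfsg.Agent.Lib.helper85

section qp3
variable {k : Type*} [Field k] {M : Type*} [AddCommGroup M] [Module k M]

/-- `N` is square-zero and all elements `1 + c N` lie in `G` -/
def qpN (G : Subgroup (LinearMap.GeneralLinearGroup k M)) (N : Module.End k M) : Prop :=
  N * N = 0 ∧ ∀ c : k, ∃ g ∈ G, ((g : LinearMap.GeneralLinearGroup k M) : Module.End k M) = 1 + c • N

theorem qpN_zero (G : Subgroup (LinearMap.GeneralLinearGroup k M)) : qpN G 0 :=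
  ⟨by simp, fun c => ⟨1, G.one_mem, by simp⟩⟩

theorem qpN_smul {G : Subgroup (LinearMap.GeneralLinearGroup k M)} {N : Module.End k M} (h : qpN G N) (c : k) :
    qpN G (c • N) := by
  refine ⟨by rw [smul_mul_assoc, mul_smul_comm, h.1, smul_zero, smul_zero], fun e => ?_⟩
  obtain ⟨g, hg, hg'⟩ := h.2 (e * c)
  exact ⟨g, hg, by rw [hg', smul_smul]⟩

theorem qpN_add {G : Subgroup (LinearMap.GeneralLinearGroup k M)} {N N' : Module.End k M} (h : qpN G N)
    (h' : qpN G N') (h1 : N * N' = 0) (h2 : N' * N = 0) : qpN G (N + N') := by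
  refine ⟨by rw [mul_add, add_mul, add_mul, h.1, h'.1, h1, h2]; simp, fun c => ?_⟩
  obtain ⟨g, hg, hg'⟩ := h.2 c
  obtain ⟨g', hg2, hg2'⟩ := h'.2 c
  refine ⟨g * g', G.mul_mem hg hg2, ?_⟩
  rw [Units.val_mul, hg', hg2', mul_add, add_mul, add_mul, one_mul, mul_one, one_mul, smul_mul_assoc,
    mul_smul_comm, h1, smul_zero, smul_zero, add_zero, smul_add, add_assoc]

theorem qpN_sub {G : Subgroup (LinearMap.GeneralLinearGroup k M)} {N N' : Module.End k M} (h : qpN G N)
    (h' : qpN G N') (h1 : N * N' = 0) (h2 : N' * N = 0) : qpN G (N - N') := by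
  have := qpN_add h (qpN_smul h' (-1)) (by rw [mul_smul_comm, h1, smul_zero])
    (by rw [smul_mul_assoc, h2, smul_zero])
  rwa [neg_one_smul, ← sub_eq_add_neg] at this

/-- conjugation by `1 + t N'` -/
theorem qpN_conj {G : Subgroup (LinearMap.GeneralLinearGroup k M)} {N N' : Module.End k M} (h : qpN G N)
    (h' : qpN G N') (t : k) : qpN G ((1 + t • N') * N * (1 - t • N')) := by
  have e1 : (1 - t • N') * (1 + t • N') = 1 := by
    rw [sub_mul, mul_add, mul_add, one_mul, mul_one, one_mul, smul_mul_assoc, mul_smul_comm, h'.1, smul_zero,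
      smul_zero]; abel
  refine ⟨?_, fun c => ?_⟩
  · calc (1 + t • N') * N * (1 - t • N') * ((1 + t • N') * N * (1 - t • N'))
        = (1 + t • N') * N * ((1 - t • N') * (1 + t • N')) * N * (1 - t • N') := by simp only [mul_assoc]
      _ = 0 := by rw [e1, mul_one, mul_assoc (1 + t • N') N N, h.1, mul_zero, zero_mul]
  · obtain ⟨g, hg, hg'⟩ := h.2 c
    obtain ⟨u, hu, hu'⟩ := h'.2 t
    obtain ⟨v, hv, hv'⟩ := h'.2 (-t)
    refine ⟨u * g * v, G.mul_mem (G.mul_mem hu hg) hv, ?_⟩
    have e2 : (1 + t • N') * (1 - t • N') = 1 := by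
      rw [mul_sub, add_mul, add_mul, one_mul, mul_one, one_mul, smul_mul_assoc, mul_smul_comm, h'.1, smul_zero,
        smul_zero]; abel
    rw [Units.val_mul, Units.val_mul, hg', hu', hv', neg_smul, ← sub_eq_add_neg, mul_add, add_mul, mul_one, e2,
      mul_smul_comm, smul_mul_assoc]

/-- the commutator of `1 + c A` and `1 + B` -/
theorem qp_comm_formula {A B : Module.End k M} (hA : A * A = 0) (hB : B * B = 0) (c : k) :
    (1 + c • A) * (1 + B) * (1 - c • A) * (1 - B) =
      1 + c • (A * B - B * A) - (c * c) • ((A * B + B * A) * A) + c • ((A * B + B * A) * B) +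
        (c * c) • ((A * B + B * A) * (A * B)) := by
  have AA' : ∀ W, A * (A * W) = 0 := by intro W; rw [← mul_assoc, hA, zero_mul]
  have BB' : ∀ W, B * (B * W) = 0 := by intro W; rw [← mul_assoc, hB, zero_mul]
  simp only [mul_add, add_mul, mul_sub, sub_mul, mul_one, one_mul, smul_mul_assoc, mul_smul_comm, smul_add,
    smul_sub, smul_smul, mul_assoc, hA, hB, AA', BB', smul_zero, mul_zero, zero_mul, add_zero, zero_add, sub_zero,
    zero_sub]
  module

theorem qp_conj_formula {A B : Module.End k M} (hB : B * B = 0) (t : k) :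
    (1 + t • B) * A * (1 - t • B) = A - t • (A * B - B * A) - (t * t) • ((A * B + B * A) * B) := by
  have BB' : ∀ W, B * (B * W) = 0 := by intro W; rw [← mul_assoc, hB, zero_mul]
  simp only [mul_add, add_mul, mul_sub, sub_mul, mul_one, one_mul, smul_mul_assoc, mul_smul_comm, smul_add,
    smul_sub, smul_smul, mul_assoc, hB, BB', smul_zero, mul_zero, zero_mul, add_zero, zero_add, sub_zero,
    zero_sub]
  module

theorem qp_conj_z {A B : Module.End k M} (hA : A * A = 0) (hB : B * B = 0) (t : k) :
    A * (A - t • (A * B - B * A) - (t * t) • ((A * B + B * A) * B)) +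
      (A - t • (A * B - B * A) - (t * t) • ((A * B + B * A) * B)) * A =
      -((t * t) • ((A * B + B * A) * (A * B + B * A))) := by
  have AA' : ∀ W, A * (A * W) = 0 := by intro W; rw [← mul_assoc, hA, zero_mul]
  have BB' : ∀ W, B * (B * W) = 0 := by intro W; rw [← mul_assoc, hB, zero_mul]
  simp only [mul_add, add_mul, mul_sub, sub_mul, mul_one, one_mul, smul_mul_assoc, mul_smul_comm, smul_add,
    smul_sub, smul_smul, mul_assoc, hA, hB, AA', BB', smul_zero, mul_zero, zero_mul, add_zero, zero_add, sub_zero,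
    zero_sub]
  module

theorem qp_conj_comm {A B : Module.End k M} (hA : A * A = 0) (hB : B * B = 0) (t : k) :
    A * (A - t • (A * B - B * A) - (t * t) • ((A * B + B * A) * B)) -
      (A - t • (A * B - B * A) - (t * t) • ((A * B + B * A) * B)) * A =
      (A * B + B * A) * ((2 * t) • A - (t * t) • (A * B - B * A)) := by
  have AA' : ∀ W, A * (A * W) = 0 := by intro W; rw [← mul_assoc, hA, zero_mul]
  have BB' : ∀ W, B * (B * W) = 0 := by intro W; rw [← mul_assoc, hB, zero_mul]
  simp only [mul_add, add_mul, mul_sub, sub_mul, mul_one, one_mul, smul_mul_assoc, mul_smul_comm, smul_add,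
    smul_sub, smul_smul, mul_assoc, hA, hB, AA', BB', smul_zero, mul_zero, zero_mul, add_zero, zero_add, sub_zero,
    zero_sub]
  module

theorem qp_comm_sq {A B : Module.End k M} (hA : A * A = 0) (hB : B * B = 0) :
    (A * B - B * A) * (A * B - B * A) = (A * B + B * A) * A * B + (A * B + B * A) * B * A := by
  have AA' : ∀ W, A * (A * W) = 0 := by intro W; rw [← mul_assoc, hA, zero_mul]
  have BB' : ∀ W, B * (B * W) = 0 := by intro W; rw [← mul_assoc, hB, zero_mul]
  simp only [mul_add, add_mul, mul_sub, sub_mul, mul_assoc, hA, hB, AA', BB', mul_zero, zero_mul, add_zero,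
    zero_add, sub_zero, zero_sub]
  abel

/-- a pair of class two: the commutator is again of the same kind -/
theorem qpN_comm {G : Subgroup (LinearMap.GeneralLinearGroup k M)} {A B : Module.End k M} (hNA : qpN G A)
    (hNB : qpN G B) (h1 : (A * B + B * A) * A = 0) (h2 : (A * B + B * A) * B = 0) :
    qpN G (A * B - B * A) := by
  refine ⟨by rw [qp_comm_sq hNA.1 hNB.1, h1, h2, zero_mul, zero_mul, add_zero], fun c => ?_⟩
  obtain ⟨g1, hg1, e1⟩ := hNA.2 c
  obtain ⟨g2, hg2, e2⟩ := hNB.2 1
  obtain ⟨g3, hg3, e3⟩ := hNA.2 (-c)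
  obtain ⟨g4, hg4, e4⟩ := hNB.2 (-1)
  refine ⟨g1 * g2 * g3 * g4, G.mul_mem (G.mul_mem (G.mul_mem hg1 hg2) hg3) hg4, ?_⟩
  rw [Units.val_mul, Units.val_mul, Units.val_mul, e1, e2, e3, e4, one_smul, neg_smul, neg_smul, one_smul,
    ← sub_eq_add_neg, ← sub_eq_add_neg, qp_comm_formula hNA.1 hNB.1, h1, h2, ← mul_assoc, h1, zero_mul]
  simp

theorem qp_rank_conj [FiniteDimensional k M] {u u' : Module.End k M} (h1 : u * u' = 1) (h2 : u' * u = 1)
    (N : Module.End k M) :
    Module.finrank k (LinearMap.range (u * N * u')) = Module.finrank k (LinearMap.range N) := by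
  let e : M ≃ₗ[k] M := LinearEquiv.ofLinearMap u u' h1 h2
  have hr : LinearMap.range (u * N * u') = (LinearMap.range N).map (e : M →ₗ[k] M) := by
    ext x
    constructor
    · rintro ⟨y, rfl⟩
      exact ⟨N (u' y), ⟨u' y, rfl⟩, rfl⟩
    · rintro ⟨w, ⟨y, rfl⟩, rfl⟩
      refine ⟨u y, ?_⟩
      have : u' (u y) = y := by
        have := congrArg (fun f : Module.End k M => f y) h2
        simpa using this
      show u (N (u' (u y))) = u (N y)
      rw [this]
  rw [hr]
  exact LinearEquiv.finrank_map_eq e _

theorem qp_nil_zero [FiniteDimensional k M] {z A : Module.End k M} (hc : z * A = A * z) {n : ℕ}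
    (hn : z ^ n = 0)
    (hr : Module.finrank k (LinearMap.range A) ≤ Module.finrank k (LinearMap.range (z * A))) : A = 0 := by
  have hle : LinearMap.range (z * A) ≤ LinearMap.range A := by
    rw [hc]; rintro x ⟨y, rfl⟩; exact ⟨z y, rfl⟩
  have heq : LinearMap.range (z * A) = LinearMap.range A := Submodule.eq_of_le_of_finrank_le hle hr
  have hall : ∀ j : ℕ, LinearMap.range (z ^ j * A) = LinearMap.range A := by
    intro j
    induction j with
    | zero => rw [pow_zero, one_mul]
    | succ j ih =>
      have : z ^ (j + 1) * A = z * (z ^ j * A) := by rw [pow_succ', mul_assoc]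
      rw [this, Module.End.mul_eq_comp, LinearMap.range_comp, ih, ← LinearMap.range_comp, ← Module.End.mul_eq_comp,
        heq]
  have := hall n
  rw [hn, zero_mul, LinearMap.range_zero] at this
  exact LinearMap.range_eq_bot.mp this.symm

/-- the unipotent lemma -/
theorem qp_unip_aux [FiniteDimensional k M] {G : Subgroup (LinearMap.GeneralLinearGroup k M)} {d : ℕ}
    (h2 : (2 : k) ≠ 0)
    (hmin : ∀ N : Module.End k M, qpN G N → N ≠ 0 → d ≤ Module.finrank k (LinearMap.range N)) :
    ∀ n : ℕ, ∀ A B : Module.End k M, qpN G A → qpN G B →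
      Module.finrank k (LinearMap.range A) = d → Module.finrank k (LinearMap.range B) = d →
      (A * B + B * A) ^ n = 0 → (A * B + B * A) * A = 0 := by
  intro n
  induction n using Nat.strong_induction_on with
  | _ n ih =>
    intro A B hNA hNB hrA hrB hz
    rcases Nat.lt_or_ge n 2 with hn | hn
    · interval_cases n
      · rw [pow_zero] at hz
        calc (A * B + B * A) * A = (A * B + B * A) * A * 1 := (mul_one _).symm
          _ = 0 := by rw [hz, mul_zero]
      · rw [pow_one] at hz; rw [hz, zero_mul]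
    · have hn' : (n + 1) / 2 < n := by omega
      have hn2 : n ≤ 2 * ((n + 1) / 2) := by omega
      have hA := hNA.1
      have hB := hNB.1
      obtain ⟨z, hzdef⟩ : ∃ z, z = A * B + B * A := ⟨_, rfl⟩
      rw [← hzdef] at hz ⊢
      have hzA : z * A = A * z := by rw [hzdef]; exact (qpZ_comm_A hA).eq
      have hzB : z * B = B * z := by rw [hzdef]; exact (qpZ_comm_B hB).eq
      have claim : ∀ t : k, t ≠ 0 →
          z * z * A = 0 ∧ z * z * (A - t • (A * B - B * A) - (t * t) • (z * B)) = 0 ∧
            qpN G (z * ((2 * t) • A - (t * t) • (A * B - B * A))) := by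
        intro t ht
        have hc1 : qpN G (A - t • (A * B - B * A) - (t * t) • (z * B)) := by
          have := qpN_conj hNA hNB t
          rwa [qp_conj_formula hB, ← hzdef] at this
        have hr1 : Module.finrank k (LinearMap.range (A - t • (A * B - B * A) - (t * t) • (z * B))) = d := by
          have e1 : (1 + t • B) * (1 - t • B) = 1 := by
            rw [mul_sub, add_mul, add_mul, one_mul, mul_one, one_mul, smul_mul_assoc, mul_smul_comm, hB, smul_zero,
              smul_zero]; abel
          have e2 : (1 - t • B) * (1 + t • B) = 1 := by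
            rw [sub_mul, mul_add, mul_add, one_mul, mul_one, one_mul, smul_mul_assoc, mul_smul_comm, hB, smul_zero,
              smul_zero]; abel
          have := qp_rank_conj e1 e2 A
          rwa [qp_conj_formula hB, ← hzdef, hrA] at this
        have hzt : A * (A - t • (A * B - B * A) - (t * t) • (z * B)) +
            (A - t • (A * B - B * A) - (t * t) • (z * B)) * A = -((t * t) • (z * z)) := by
          rw [hzdef]; exact qp_conj_z hA hB t
        have hpow : (-((t * t) • (z * z))) ^ ((n + 1) / 2) = 0 := by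
          have : z ^ (2 * ((n + 1) / 2)) = 0 := by
            obtain ⟨j, hj⟩ := Nat.exists_eq_add_of_le hn2
            rw [hj, pow_add, hz, zero_mul]
          have hzz : (z * z) ^ ((n + 1) / 2) = 0 := by rw [← pow_two, ← pow_mul, this]
          rw [neg_pow, smul_pow, hzz, smul_zero, mul_zero]
        have i1 := ih _ hn' A _ hNA hc1 hrA hr1 (by rw [hzt]; exact hpow)
        have i2 := ih _ hn' _ A hc1 hNA hr1 hrA (by rw [add_comm, hzt]; exact hpow)
        rw [add_comm] at i2
        rw [hzt] at i1 i2
        have htt : t * t ≠ 0 := mul_ne_zero ht ht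
        refine ⟨?_, ?_, ?_⟩
        · rw [neg_mul, smul_mul_assoc, neg_eq_zero] at i1
          exact (smul_eq_zero.mp i1).resolve_left htt
        · rw [neg_mul, smul_mul_assoc, neg_eq_zero] at i2
          exact (smul_eq_zero.mp i2).resolve_left htt
        · have := qpN_comm hNA hc1 (by rw [hzt]; exact i1) (by rw [hzt]; exact i2)
          rwa [show A * (A - t • (A * B - B * A) - (t * t) • (z * B)) -
              (A - t • (A * B - B * A) - (t * t) • (z * B)) * A =
              z * ((2 * t) • A - (t * t) • (A * B - B * A)) by rw [hzdef]; exact qp_conj_comm hA hB t] at this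
      obtain ⟨r1, r2, r3⟩ := claim 1 one_ne_zero
      obtain ⟨-, s2, s3⟩ := claim (-1) (neg_ne_zero.mpr one_ne_zero)
      have r4 : z * z * (A * B - B * A) = 0 := by
        have e : z * z * (A - (-1 : k) • (A * B - B * A) - ((-1 : k) * (-1)) • (z * B)) -
            z * z * (A - (1 : k) • (A * B - B * A) - ((1 : k) * 1) • (z * B)) =
            (2 : k) • (z * z * (A * B - B * A)) := by
          simp only [mul_sub, mul_add, mul_smul_comm, neg_smul, one_smul, neg_mul, mul_neg, mul_one, neg_neg,
            sub_neg_eq_add]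
          module
        rw [s2, r2, sub_zero] at e
        exact (smul_eq_zero.mp e.symm).resolve_left h2
      have hY : ∀ t : k, z * z * ((2 * t) • A - (t * t) • (A * B - B * A)) = 0 := by
        intro t
        rw [mul_sub, mul_smul_comm, mul_smul_comm, r1, r4, smul_zero, smul_zero, sub_zero]
      have hzY : ∀ t : k, z * ((2 * t) • A - (t * t) • (A * B - B * A)) =
          ((2 * t) • A - (t * t) • (A * B - B * A)) * z := by
        intro t
        simp only [mul_sub, sub_mul, mul_smul_comm, smul_mul_assoc, ← mul_assoc, hzA, hzB]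
        simp only [mul_assoc, hzA, hzB]
      have p1 : z * ((2 * (1 : k)) • A - ((1 : k) * 1) • (A * B - B * A)) *
          (z * ((2 * (-1 : k)) • A - ((-1 : k) * (-1)) • (A * B - B * A))) = 0 := by
        rw [hzY 1, mul_assoc, ← mul_assoc z z, hY, mul_zero]
      have p2 : z * ((2 * (-1 : k)) • A - ((-1 : k) * (-1)) • (A * B - B * A)) *
          (z * ((2 * (1 : k)) • A - ((1 : k) * 1) • (A * B - B * A))) = 0 := by
        rw [hzY (-1), mul_assoc, ← mul_assoc z z, hY, mul_zero]
      have q := qpN_sub r3 s3 p1 p2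
      have e4 : z * ((2 * (1 : k)) • A - ((1 : k) * 1) • (A * B - B * A)) -
          z * ((2 * (-1 : k)) • A - ((-1 : k) * (-1)) • (A * B - B * A)) = (4 : k) • (z * A) := by
        simp only [mul_sub, mul_smul_comm, mul_one, mul_neg, neg_neg, neg_smul]
        module
      rw [e4] at q
      have h4 : (4 : k) ≠ 0 := by
        have : (4 : k) = 2 * 2 := by norm_num
        rw [this]; exact mul_ne_zero h2 h2
      have q' := qpN_smul q (4 : k)⁻¹
      rw [smul_smul, inv_mul_cancel₀ h4, one_smul] at q'
      by_contra hne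
      have := hmin _ q' hne
      rw [← hrA] at this
      have hA0 := qp_nil_zero hzA hz this
      exact hne (by rw [hA0, mul_zero])

theorem qp_unip [FiniteDimensional k M] {G : Subgroup (LinearMap.GeneralLinearGroup k M)} {d : ℕ}
    (h2 : (2 : k) ≠ 0)
    (hmin : ∀ N : Module.End k M, qpN G N → N ≠ 0 → d ≤ Module.finrank k (LinearMap.range N))
    {n : ℕ} {A B : Module.End k M} (hNA : qpN G A) (hNB : qpN G B)
    (hrA : Module.finrank k (LinearMap.range A) = d) (hrB : Module.finrank k (LinearMap.range B) = d)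
    (hz : (A * B + B * A) ^ n = 0) : (A * B + B * A) * A = 0 ∧ (A * B + B * A) * B = 0 :=
  ⟨qp_unip_aux h2 hmin n A B hNA hNB hrA hrB hz,
    by rw [add_comm]; exact qp_unip_aux h2 hmin n B A hNB hNA hrB hrA (by rw [add_comm]; exact hz)⟩

end qp3

end Cfsg.Agent.Lib.helper85
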