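import Cfsg.Agent.Lib.helper85.QP29

set_option autoImplicit false
set_option linter.unusedSimpArgs false
set_option linter.unusedVariables false

namespace Cfsg.Agent.Lib.helper85

section qp30a
variable {k : Type*} [Field k] {M : Type*} [AddCommGroup M] [Module k M]
variable {G : Subgroup (LinearMap.GeneralLinearGroup k M)}

/-- if `T S T = 0` then the commutator and `S T S` are again square-zero elements of the group -/
theorem qp_null_basic (h2 : (2 : k) ≠ 0) {S T : Module.End k M} (hS : qpN G S) (hT : qpN G T)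
    (h0 : T * S * T = 0) : qpN G (S * T - T * S) ∧ qpN G (S * T * S) := by
  have c1 := qpN_conj hT hS 1
  have c2 := qpN_conj hT hS (-1)
  rw [one_smul] at c1
  rw [neg_smul, one_smul, ← sub_eq_add_neg, sub_neg_eq_add] at c2
  have r1 : ∀ m : M, S (S m) = 0 := fun m => qp_pt hS.1 m
  have r2 : ∀ m : M, T (T m) = 0 := fun m => qp_pt hT.1 m
  have r3 : ∀ m : M, T (S (T m)) = 0 := fun m => qp_pt h0 m
  have d1 : qpN G ((1 + S) * T * (1 - S) - T) := by
    refine qpN_sub c1 hT ?_ ?_
    · refine LinearMap.ext fun m => ?_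
      simp only [Module.End.mul_apply, LinearMap.add_apply, LinearMap.sub_apply, LinearMap.neg_apply, Module.End.one_apply, LinearMap.zero_apply, map_add, map_sub, map_neg, map_zero, sub_zero, zero_sub, add_zero, zero_add, neg_zero, neg_neg, sub_self, r1, r2, r3] <;> abel
    · refine LinearMap.ext fun m => ?_
      simp only [Module.End.mul_apply, LinearMap.add_apply, LinearMap.sub_apply, LinearMap.neg_apply, Module.End.one_apply, LinearMap.zero_apply, map_add, map_sub, map_neg, map_zero, sub_zero, zero_sub, add_zero, zero_add, neg_zero, neg_neg, sub_self, r1, r2, r3] <;> abel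
  have d2 : qpN G ((1 - S) * T * (1 + S) - T) := by
    refine qpN_sub c2 hT ?_ ?_
    · refine LinearMap.ext fun m => ?_
      simp only [Module.End.mul_apply, LinearMap.add_apply, LinearMap.sub_apply, LinearMap.neg_apply, Module.End.one_apply, LinearMap.zero_apply, map_add, map_sub, map_neg, map_zero, sub_zero, zero_sub, add_zero, zero_add, neg_zero, neg_neg, sub_self, r1, r2, r3] <;> abel
    · refine LinearMap.ext fun m => ?_
      simp only [Module.End.mul_apply, LinearMap.add_apply, LinearMap.sub_apply, LinearMap.neg_apply, Module.End.one_apply, LinearMap.zero_apply, map_add, map_sub, map_neg, map_zero, sub_zero, zero_sub, add_zero, zero_add, neg_zero, neg_neg, sub_self, r1, r2, r3] <;> abel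
  have p12 : ((1 + S) * T * (1 - S) - T) * ((1 - S) * T * (1 + S) - T) = 0 := by
    refine LinearMap.ext fun m => ?_
    simp only [Module.End.mul_apply, LinearMap.add_apply, LinearMap.sub_apply, LinearMap.neg_apply, Module.End.one_apply, LinearMap.zero_apply, map_add, map_sub, map_neg, map_zero, sub_zero, zero_sub, add_zero, zero_add, neg_zero, neg_neg, sub_self, r1, r2, r3] <;> abel
  have p21 : ((1 - S) * T * (1 + S) - T) * ((1 + S) * T * (1 - S) - T) = 0 := by
    refine LinearMap.ext fun m => ?_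
    simp only [Module.End.mul_apply, LinearMap.add_apply, LinearMap.sub_apply, LinearMap.neg_apply, Module.End.one_apply, LinearMap.zero_apply, map_add, map_sub, map_neg, map_zero, sub_zero, zero_sub, add_zero, zero_add, neg_zero, neg_neg, sub_self, r1, r2, r3] <;> abel
  have s1 := qpN_add d1 d2 p12 p21
  have s2 := qpN_sub d1 d2 p12 p21
  have e1 : (1 + S) * T * (1 - S) - T + ((1 - S) * T * (1 + S) - T) = (-2 : k) • (S * T * S) := by
    rw [neg_smul, two_smul]; noncomm_ring
  have e2 : (1 + S) * T * (1 - S) - T - ((1 - S) * T * (1 + S) - T) = (2 : k) • (S * T - T * S) := by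
    rw [two_smul]; noncomm_ring
  rw [e1] at s1
  rw [e2] at s2
  have hm2 : (-2 : k) ≠ 0 := neg_ne_zero.mpr h2
  constructor
  · have := qpN_smul s2 (2 : k)⁻¹
    rwa [smul_smul, inv_mul_cancel₀ h2, one_smul] at this
  · have := qpN_smul s1 (-2 : k)⁻¹
    rwa [smul_smul, inv_mul_cancel₀ hm2, one_smul] at this

theorem qp_min_not_null {d : ℕ}
    (hpart : ∀ T : Module.End k M, qpMin G d T → ∃ Y : Module.End k M, qpMin G d Y ∧
      ¬ ∃ n : ℕ, (T * Y + Y * T) ^ n = 0)
    {T : Module.End k M} (hT : qpMin G d T) : ¬ qpNl G d T := by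
  intro h
  obtain ⟨Y, hY, hnil⟩ := hpart T hT
  apply hnil
  refine ⟨2, ?_⟩
  have r1 : ∀ m : M, T (T m) = 0 := fun m => qp_pt hT.1.1 m
  have r2 : ∀ m : M, Y (Y m) = 0 := fun m => qp_pt hY.1.1 m
  have r3 : ∀ m : M, Y (T (Y m)) = 0 := fun m => qp_pt (h Y hY) m
  rw [pow_two]
  refine LinearMap.ext fun m => ?_
  simp only [Module.End.mul_apply, LinearMap.add_apply, LinearMap.sub_apply, LinearMap.neg_apply, Module.End.one_apply, LinearMap.zero_apply, map_add, map_sub, map_neg, map_zero, sub_zero, zero_sub, add_zero, zero_add, neg_zero, neg_neg, sub_self, r1, r2, r3] <;> abel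

/-- for an element in the null space, `S T S = 0` for all minimal `T` -/
theorem qp_null_STS [FiniteDimensional k M] (h2 : (2 : k) ≠ 0) {d : ℕ}
    (hmin : ∀ N : Module.End k M, qpN G N → N ≠ 0 → d ≤ Module.finrank k (LinearMap.range N))
    (hpart : ∀ T : Module.End k M, qpMin G d T → ∃ Y : Module.End k M, qpMin G d Y ∧
      ¬ ∃ n : ℕ, (T * Y + Y * T) ^ n = 0)
    {S T : Module.End k M} (hS : qpN G S) (hSl : qpNl G d S) (hT : qpMin G d T) :
    S * T * S = 0 ∧ qpN G (S * T - T * S) ∧ qpNl G d (S * T - T * S) := by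
  have h0 : T * S * T = 0 := hSl T hT
  obtain ⟨hV, hU⟩ := qp_null_basic h2 hS hT.1 h0
  have hVl : qpNl G d (S * T - T * S) := by
    have := qpNl_smul (qpNl_comm h2 hSl hT.1).1 (-1)
    rwa [neg_one_smul, neg_sub] at this
  refine ⟨?_, hV, hVl⟩
  have hUl : qpNl G d (S * T * S) := by
    have h3 := (qpNl_comm h2 hVl hS).1
    have e : S * (S * T - T * S) - (S * T - T * S) * S = (-2 : k) • (S * T * S) := by
      have r1 : ∀ m : M, S (S m) = 0 := fun m => qp_pt hS.1 m
      rw [neg_smul, two_smul]
      refine LinearMap.ext fun m => ?_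
      simp only [Module.End.mul_apply, LinearMap.add_apply, LinearMap.sub_apply, LinearMap.neg_apply, Module.End.one_apply, LinearMap.zero_apply, map_add, map_sub, map_neg, map_zero, sub_zero, zero_sub, add_zero, zero_add, neg_zero, neg_neg, sub_self, r1] <;> abel
    rw [e] at h3
    have hm2 : (-2 : k) ≠ 0 := neg_ne_zero.mpr h2
    have := qpNl_smul h3 (-2 : k)⁻¹
    rwa [smul_smul, inv_mul_cancel₀ hm2, one_smul] at this
  by_contra hne
  have hge := hmin _ hU hne
  have hle : Module.finrank k (LinearMap.range (S * T * S)) ≤ d := by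
    rw [← hT.2]; exact qp_rank_mul3_le S T S
  exact qp_min_not_null hpart ⟨hU, le_antisymm hle hge⟩ hUl

/-- normalised partners -/
theorem qp_norm_partner [FiniteDimensional k M] (hk2 : ringChar k ≠ 2) (hk3 : Nat.card k ≠ 3) {d : ℕ}
    (hmin : ∀ N : Module.End k M, qpN G N → N ≠ 0 → d ≤ Module.finrank k (LinearMap.range N))
    (hpart : ∀ T : Module.End k M, qpMin G d T → ∃ Y : Module.End k M, qpMin G d Y ∧
      ¬ ∃ n : ℕ, (T * Y + Y * T) ^ n = 0)
    {T : Module.End k M} (hT : qpMin G d T) (hT0 : T ≠ 0) :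
    ∃ W : Module.End k M, qpMin G d W ∧ T * W * T = T ∧ W * T * W = W := by
  obtain ⟨Y, hY, hnil⟩ := hpart T hT
  obtain ⟨q, S⟩ := qp_setup_exists hk2 hk3 hmin hT.1 hY.1 hT.2 hY.2 hnil
  obtain ⟨B', hNB', i1, i2, hr, hkk⟩ := qp_inv_partner S
  have hB'0 : B' ≠ 0 := by
    rintro rfl
    apply hT0
    rw [← i1]
    simp
  refine ⟨B', ⟨hNB', le_antisymm ?_ (hmin B' hNB' hB'0)⟩, i1, i2⟩
  rw [← hY.2]
  exact Submodule.finrank_mono hr

/-- an element of the null space commutes with all minimal elements -/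
theorem qp_null_central [FiniteDimensional k M] (hk2 : ringChar k ≠ 2) (hk3 : Nat.card k ≠ 3) {d : ℕ}
    (hmin : ∀ N : Module.End k M, qpN G N → N ≠ 0 → d ≤ Module.finrank k (LinearMap.range N))
    (hpart : ∀ T : Module.End k M, qpMin G d T → ∃ Y : Module.End k M, qpMin G d Y ∧
      ¬ ∃ n : ℕ, (T * Y + Y * T) ^ n = 0)
    {S Y : Module.End k M} (hS : qpN G S) (hSl : qpNl G d S) (hY : qpMin G d Y) (hY0 : Y ≠ 0) :
    S * Y = Y * S := by
  have h2 : (2 : k) ≠ 0 := Ring.two_ne_zero hk2
  have hYSY : Y * S * Y = 0 := hSl Y hY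
  obtain ⟨hSYS, hD, hDl⟩ := qp_null_STS h2 hmin hpart hS hSl hY
  obtain ⟨D, hDdef⟩ : ∃ D, D = S * Y - Y * S := ⟨_, rfl⟩
  rw [← hDdef] at hD hDl
  have hY' : qpMin G d (Y + D) := by
    have := qpMin_conj hY hS 1
    rw [one_smul] at this
    have e : (1 + S) * Y * (1 - S) = Y + D := by
      rw [hDdef]
      have : (1 + S) * Y * (1 - S) = Y + (S * Y - Y * S) - S * Y * S := by noncomm_ring
      rw [this, hSYS, sub_zero]
    rwa [e] at this
  obtain ⟨W, hW, w1, w2⟩ := qp_norm_partner hk2 hk3 hmin hpart hY hY0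
  have hDWD : D * W * D = 0 := (qp_null_STS h2 hmin hpart hD hDl hW).1
  have hWDW : W * D * W = 0 := hDl W hW
  have key2 : W * (Y + D) * W = W := by
    rw [mul_add, add_mul, w2, hWDW, add_zero]
  have key3 : (Y + D) * W * (Y + D) = Y + D :=
    qp_idem_fix (by rw [hY'.2, hW.2]) key2
  have key1 : (Y + D) * W * (Y + D) = Y + (Y * W * D + D * W * Y) := by
    have : (Y + D) * W * (Y + D) = Y * W * Y + (Y * W * D + D * W * Y) + D * W * D := by noncomm_ring
    rw [this, w1, hDWD, add_zero]
  have hDeq : D = Y * W * D + D * W * Y := by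
    have := key3.symm.trans key1
    exact add_left_cancel this
  have hrk : Module.finrank k (LinearMap.range D) ≤ d := by
    have h1 := qp_rank_add_le (Y * W * D) (D * W * Y)
    rw [← hDeq] at h1
    have h3 : Module.finrank k (LinearMap.range (Y * W * D)) ≤ Module.finrank k (LinearMap.range (W * D)) := by
      have e : LinearMap.range (Y * W * D) = (LinearMap.range (W * D)).map Y := by
        rw [mul_assoc, Module.End.mul_eq_comp, LinearMap.range_comp]
      rw [e]; exact Submodule.finrank_map_le Y _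
    have h4 : Module.finrank k (LinearMap.range (D * W * Y)) ≤ Module.finrank k (LinearMap.range (D * W)) := by
      refine Submodule.finrank_mono ?_
      rw [Module.End.mul_eq_comp (D * W)]; exact LinearMap.range_comp_le_range _ _
    have h5 := qp_rank_frob hDWD
    rw [hW.2] at h5
    omega
  have hD0 : D = 0 := by
    by_contra hne
    exact qp_min_not_null hpart ⟨hD, le_antisymm hrk (hmin D hD hne)⟩ hDl
  rw [hD0] at hDdef
  exact sub_eq_zero.mp hDdef.symm

end qp30a

end Cfsg.Agent.Lib.helper85
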