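import Cfsg.Agent.Lib.helper85.QP30

set_option autoImplicit false
set_option linter.unusedSimpArgs false
set_option linter.unusedVariables false
set_option linter.unreachableTactic false
set_option linter.unusedTactic false
set_option linter.unnecessarySeqFocus false

namespace Cfsg.Agent.Lib.helper85

open Polynomial

section qp31a
variable {k : Type*} [Field k] {M : Type*} [AddCommGroup M] [Module k M]
variable {G : Subgroup (LinearMap.GeneralLinearGroup k M)}

/-- torus elements of a normalised pair -/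
theorem qp_torus {A W : Module.End k M} (hA : qpN G A) (hW : qpN G W) (h1 : A * W * A = A)
    (h2 : W * A * W = W) {t t' : k} (ht : t * t' = 1) :
    ∃ h ∈ G, ((h : LinearMap.GeneralLinearGroup k M) : Module.End k M) =
        1 + (t - 1) • (A * W) + (t' - 1) • (W * A) ∧
      ((h⁻¹ : LinearMap.GeneralLinearGroup k M) : Module.End k M) =
        1 + (t' - 1) • (A * W) + (t - 1) • (W * A) := by
  have ht' : t' * t = 1 := by rw [mul_comm]; exact ht
  have hA' := qpN_smul hA t
  have hW' := qpN_smul hW t'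
  have e1 : (t • A) * (t' • W) * (t • A) = t • A := by
    rw [smul_mul_smul_comm, smul_mul_smul_comm, h1, ht, one_mul]
  have e2 : (t' • W) * (t • A) * (t' • W) = t' • W := by
    rw [smul_mul_smul_comm, smul_mul_smul_comm, h2, ht', one_mul]
  obtain ⟨n1, hn1, v1, v1'⟩ := qp_weyl_elt hA' hW' e1 e2
  obtain ⟨n0, hn0, v0, v0'⟩ := qp_weyl_elt hA hW h1 h2
  rw [smul_mul_smul_comm, smul_mul_smul_comm, ht, ht', one_smul, one_smul] at v1 v1'
  have r1 : ∀ m : M, A (A m) = 0 := fun m => qp_pt hA.1 m
  have r2 : ∀ m : M, W (W m) = 0 := fun m => qp_pt hW.1 m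
  have r3 : ∀ m : M, A (W (A m)) = A m := fun m => qp_pt h1 m
  have r4 : ∀ m : M, W (A (W m)) = W m := fun m => qp_pt h2 m
  refine ⟨n1 * n0⁻¹, G.mul_mem hn1 (G.inv_mem hn0), ?_, ?_⟩
  · rw [Units.val_mul, v1, v0']
    refine LinearMap.ext fun m => ?_
    simp only [Module.End.mul_apply, LinearMap.add_apply, LinearMap.sub_apply, LinearMap.neg_apply, Module.End.one_apply, LinearMap.zero_apply, map_add, map_sub, map_neg, map_zero, sub_zero, zero_sub, add_zero, zero_add, neg_zero, neg_neg, sub_self, LinearMap.smul_apply, map_smul, smul_add, smul_sub, smul_neg, smul_zero, smul_smul, r1, r2, r3, r4] <;> module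
  · have e : (n1 * n0⁻¹)⁻¹ = n0 * n1⁻¹ := by group
    rw [e, Units.val_mul, v0, v1']
    refine LinearMap.ext fun m => ?_
    simp only [Module.End.mul_apply, LinearMap.add_apply, LinearMap.sub_apply, LinearMap.neg_apply, Module.End.one_apply, LinearMap.zero_apply, map_add, map_sub, map_neg, map_zero, sub_zero, zero_sub, add_zero, zero_add, neg_zero, neg_neg, sub_self, LinearMap.smul_apply, map_smul, smul_add, smul_sub, smul_neg, smul_zero, smul_smul, r1, r2, r3, r4] <;> module

/-- the quotient of two torus elements with the same first member -/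
theorem qp_torus_pair {A W₁ W₂ : Module.End k M} (hA : qpN G A) (hW₁ : qpN G W₁) (hW₂ : qpN G W₂)
    (h1 : A * W₁ * A = A) (h2 : W₁ * A * W₁ = W₁) (h3 : A * W₂ * A = A) (h4 : W₂ * A * W₂ = W₂)
    {t t' : k} (ht : t * t' = 1) :
    ∃ g ∈ G, ((g : LinearMap.GeneralLinearGroup k M) : Module.End k M) =
      1 + (t - 1) • (A * W₁ - W₁ * A - (A * W₂ - W₂ * A)) + ((t - 1) * (t - 1)) • (A * W₁ * W₂ * A) := by
  obtain ⟨g1, hg1, v1, -⟩ := qp_torus hA hW₁ h1 h2 ht
  obtain ⟨g2, hg2, -, v2⟩ := qp_torus hA hW₂ h3 h4 ht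
  have r1 : ∀ m : M, A (A m) = 0 := fun m => qp_pt hA.1 m
  have r3 : ∀ m : M, A (W₁ (A m)) = A m := fun m => qp_pt h1 m
  have r4 : ∀ m : M, A (W₂ (A m)) = A m := fun m => qp_pt h3 m
  have q1 : (t - 1) * (t' - 1) = 2 - t - t' := by linear_combination ht
  have q2 : (t' - 1) * (t - 1) = 2 - t - t' := by linear_combination ht
  refine ⟨g1 * g2⁻¹, G.mul_mem hg1 (G.inv_mem hg2), ?_⟩
  rw [Units.val_mul, v1, v2]
  refine LinearMap.ext fun m => ?_
  simp only [Module.End.mul_apply, LinearMap.add_apply, LinearMap.sub_apply, LinearMap.neg_apply, Module.End.one_apply, LinearMap.zero_apply, map_add, map_sub, map_neg, map_zero, sub_zero, zero_sub, add_zero, zero_add, neg_zero, neg_neg, sub_self, LinearMap.smul_apply, map_smul, smul_add, smul_sub, smul_neg, smul_zero, smul_smul, r1, r3, r4, q1, q2] <;> module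

/-- the partner family -/
def qpW (S T r : Module.End k M) (s : k) : Module.End k M :=
  r * ((s * s) • T + s • (S * T - T * S) - S * T * S)

theorem qp_peel_alg {S T r : Module.End k M} (hS : S * S = 0) (hT : T * T = 0) (hrS : r * S = S * r)
    (hrT : r * T = T * r) (hrel : r * (T * S * T * S * T) = -T) (s : k) :
    T * qpW S T r s * T = T ∧ qpW S T r s * T * qpW S T r s = qpW S T r s ∧
    T * qpW S T r s - qpW S T r s * T - (T * qpW S T r (-s) - qpW S T r (-s) * T) =
      (4 * s) • (r * T * S * T) ∧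
    T * qpW S T r s * qpW S T r (-s) * T = (2 * s) • (r * T * S * T) ∧
    (r * T * S * T) * (r * T * S * T) = 0 ∧ (r * T * S * T) * S * (r * T * S * T) = -(r * T * S * T) := by
  have r1 : ∀ m : M, S (S m) = 0 := fun m => qp_pt hS m
  have r2 : ∀ m : M, T (T m) = 0 := fun m => qp_pt hT m
  have r3 : ∀ m : M, S (r m) = r (S m) := fun m => (qp_pt hrS m).symm
  have r4 : ∀ m : M, T (r m) = r (T m) := fun m => (qp_pt hrT m).symm
  have r5 : ∀ m : M, r (T (S (T (S (T m))))) = -(T m) := fun m => qp_pt hrel m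
  have r6 : ∀ m : M, r (S (T (S (T (S (T m)))))) = -(S (T m)) := by
    intro m; rw [← r3, r5, map_neg]
  unfold qpW
  refine ⟨?_, ?_, ?_, ?_, ?_, ?_⟩
  · refine LinearMap.ext fun m => ?_
    simp only [Module.End.mul_apply, LinearMap.add_apply, LinearMap.sub_apply, LinearMap.neg_apply, Module.End.one_apply, LinearMap.zero_apply, map_add, map_sub, map_neg, map_zero, sub_zero, zero_sub, add_zero, zero_add, neg_zero, neg_neg, sub_self, LinearMap.smul_apply, map_smul, smul_add, smul_sub, smul_neg, smul_zero, smul_smul, r1, r2, r3, r4, r5, r6] <;> module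
  · refine LinearMap.ext fun m => ?_
    simp only [Module.End.mul_apply, LinearMap.add_apply, LinearMap.sub_apply, LinearMap.neg_apply, Module.End.one_apply, LinearMap.zero_apply, map_add, map_sub, map_neg, map_zero, sub_zero, zero_sub, add_zero, zero_add, neg_zero, neg_neg, sub_self, LinearMap.smul_apply, map_smul, smul_add, smul_sub, smul_neg, smul_zero, smul_smul, r1, r2, r3, r4, r5, r6] <;> module
  · refine LinearMap.ext fun m => ?_
    simp only [Module.End.mul_apply, LinearMap.add_apply, LinearMap.sub_apply, LinearMap.neg_apply, Module.End.one_apply, LinearMap.zero_apply, map_add, map_sub, map_neg, map_zero, sub_zero, zero_sub, add_zero, zero_add, neg_zero, neg_neg, sub_self, LinearMap.smul_apply, map_smul, smul_add, smul_sub, smul_neg, smul_zero, smul_smul, r1, r2, r3, r4, r5, r6] <;> module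
  · refine LinearMap.ext fun m => ?_
    simp only [Module.End.mul_apply, LinearMap.add_apply, LinearMap.sub_apply, LinearMap.neg_apply, Module.End.one_apply, LinearMap.zero_apply, map_add, map_sub, map_neg, map_zero, sub_zero, zero_sub, add_zero, zero_add, neg_zero, neg_neg, sub_self, LinearMap.smul_apply, map_smul, smul_add, smul_sub, smul_neg, smul_zero, smul_smul, r1, r2, r3, r4, r5, r6] <;> module
  · refine LinearMap.ext fun m => ?_
    simp only [Module.End.mul_apply, LinearMap.add_apply, LinearMap.sub_apply, LinearMap.neg_apply, Module.End.one_apply, LinearMap.zero_apply, map_add, map_sub, map_neg, map_zero, sub_zero, zero_sub, add_zero, zero_add, neg_zero, neg_neg, sub_self, LinearMap.smul_apply, map_smul, smul_add, smul_sub, smul_neg, smul_zero, smul_smul, r1, r2, r3, r4, r5, r6] <;> module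
  · refine LinearMap.ext fun m => ?_
    simp only [Module.End.mul_apply, LinearMap.add_apply, LinearMap.sub_apply, LinearMap.neg_apply, Module.End.one_apply, LinearMap.zero_apply, map_add, map_sub, map_neg, map_zero, sub_zero, zero_sub, add_zero, zero_add, neg_zero, neg_neg, sub_self, LinearMap.smul_apply, map_smul, smul_add, smul_sub, smul_neg, smul_zero, smul_smul, r1, r2, r3, r4, r5, r6] <;> module

theorem qp_peel_conj {S T r : Module.End k M} (hS : S * S = 0) (hrS : r * S = S * r) (c : k) :
    (1 + c • S) * (r * T) * (1 - c • S) = r * (T + c • (S * T - T * S) - (c * c) • (S * T * S)) := by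
  have r1 : ∀ m : M, S (S m) = 0 := fun m => qp_pt hS m
  have r3 : ∀ m : M, S (r m) = r (S m) := fun m => (qp_pt hrS m).symm
  refine LinearMap.ext fun m => ?_
  simp only [Module.End.mul_apply, LinearMap.add_apply, LinearMap.sub_apply, LinearMap.neg_apply, Module.End.one_apply, LinearMap.zero_apply, map_add, map_sub, map_neg, map_zero, sub_zero, zero_sub, add_zero, zero_add, neg_zero, neg_neg, sub_self, LinearMap.smul_apply, map_smul, smul_add, smul_sub, smul_neg, smul_zero, smul_smul, r1, r3] <;> module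

/-- the data attached to a minimal `T` and a square-zero `S` with `T S T ≠ 0` -/
theorem qp_peel_setup [FiniteDimensional k M] (hk2 : ringChar k ≠ 2) (hk3 : Nat.card k ≠ 3) {d : ℕ}
    (hmin : ∀ N : Module.End k M, qpN G N → N ≠ 0 → d ≤ Module.finrank k (LinearMap.range N))
    {S T : Module.End k M} (hS : qpN G S) (hT : qpMin G d T) (hne : T * S * T ≠ 0) :
    ∃ r : Module.End k M, r * S = S * r ∧ r * T = T * r ∧ r * (T * S * T * S * T) = -T ∧ qpN G (r * T) := by
  have h2 : (2 : k) ≠ 0 := Ring.two_ne_zero hk2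
  have hSS := hS.1
  have hTT := hT.1.1
  obtain ⟨T₁, hT₁⟩ : ∃ T₁, T₁ = T - (1 : k) • (T * S - S * T) - ((1 : k) * 1) • ((T * S + S * T) * S) :=
    ⟨_, rfl⟩
  have hN₁ : qpN G T₁ := by
    have := qpN_conj hT.1 hS 1
    rwa [qp_conj_formula hSS, ← hT₁] at this
  have hr₁ : Module.finrank k (LinearMap.range T₁) = d := by
    have := qp_rank_conj (qp_add_mul_sub hSS 1) (qp_sub_mul_add hSS 1) T
    rwa [qp_conj_formula hSS, ← hT₁, hT.2] at this
  have hz : T * T₁ + T₁ * T = -((T * S + S * T) * (T * S + S * T)) := by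
    have := qp_conj_z hTT hSS (1 : k)
    rw [← hT₁, mul_one, one_smul] at this
    exact this
  have hnil : ¬ ∃ n : ℕ, (T * T₁ + T₁ * T) ^ n = 0 := by
    rintro ⟨n, hn⟩
    rw [hz, neg_pow, neg_one_pow_mul_eq_zero_iff] at hn
    have h3 : (T * S + S * T) ^ (2 * n) = 0 := by rw [pow_mul, pow_two]; exact hn
    have h4 := qp_unip_gen h2 hmin hT.1 hS hT.2 h3
    apply hne
    rw [add_mul, mul_assoc S T T, hTT, mul_zero, add_zero] at h4
    exact h4
  obtain ⟨q, St⟩ := qp_setup_exists hk2 hk3 hmin hT.1 hN₁ hT.2 hr₁ hnil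
  obtain ⟨f₀, hf₀, γ, hγ, hΦ, h10, h01, h00⟩ := qp_weyl_exists St
  obtain ⟨e1, -⟩ := qp_weyl_inv2 St hγ hΦ h10 h01 h00
  have hN := qpSpan_N St hf₀
  have hcS : qpEv T T₁ f₀ * S = S * qpEv T T₁ f₀ := by
    have hc : Commute (qpZ T T₁) S := by
      have : qpZ T T₁ = -((T * S + S * T) * (T * S + S * T)) := hz
      rw [this]
      have hzS : Commute (T * S + S * T) S := qpZ_comm_B hSS
      exact (hzS.mul_left hzS).neg_left
    exact (qp_comm_aeval hc f₀).eq
  have hcT : qpEv T T₁ f₀ * T = T * qpEv T T₁ f₀ := (qpEv_comm_A hTT f₀).symm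
  rw [map_sub, map_one, map_mul, qpEv_X, hz] at e1
  obtain ⟨r, hrdef⟩ : ∃ r, r = qpEv T T₁ f₀ := ⟨_, rfl⟩
  rw [← hrdef] at e1 hN hcS hcT
  refine ⟨r, hcS, hcT, ?_, hN⟩
  have r1 : ∀ m : M, S (S m) = 0 := fun m => qp_pt hSS m
  have r2 : ∀ m : M, T (T m) = 0 := fun m => qp_pt hTT m
  have r3 : ∀ m : M, r (S m) = S (r m) := fun m => qp_pt hcS m
  have r4 : ∀ m : M, r (T m) = T (r m) := fun m => qp_pt hcT m
  refine LinearMap.ext fun m => ?_
  have e3 := qp_pt e1 m
  simp only [Module.End.mul_apply, LinearMap.add_apply, LinearMap.sub_apply, LinearMap.neg_apply, Module.End.one_apply, LinearMap.zero_apply, map_add, map_sub, map_neg, map_zero, sub_zero, zero_sub, add_zero, zero_add, neg_zero, neg_neg, sub_self, r1, r2, r3, r4] at e3 ⊢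
  linear_combination (norm := module) e3

end qp31a

end Cfsg.Agent.Lib.helper85
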