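import Cfsg.Agent.Lib.helper85.QP31

set_option autoImplicit false
set_option linter.unusedSimpArgs false
set_option linter.unusedVariables false
set_option linter.unreachableTactic false
set_option linter.unusedTactic false
set_option linter.unnecessarySeqFocus false

namespace Cfsg.Agent.Lib.helper85

open Polynomial

section qp32a
variable {k : Type*} [Field k] {M : Type*} [AddCommGroup M] [Module k M]
variable {G : Subgroup (LinearMap.GeneralLinearGroup k M)}

/-- a minimal element `T₁` with `T₁ S T₁ = T₁` -/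
theorem qp_peel_elem [FiniteDimensional k M] (hk2 : ringChar k ≠ 2) (hk3 : Nat.card k ≠ 3) {d : ℕ}
    (hmin : ∀ N : Module.End k M, qpN G N → N ≠ 0 → d ≤ Module.finrank k (LinearMap.range N))
    {S T : Module.End k M} (hS : qpN G S) (hT : qpMin G d T) (hne : T * S * T ≠ 0) :
    ∃ T₁ : Module.End k M, qpMin G d T₁ ∧ T₁ ≠ 0 ∧ T₁ * S * T₁ = T₁ := by
  obtain ⟨r, hrS, hrT, hrel, hNrT⟩ := qp_peel_setup hk2 hk3 hmin hS hT hne
  have hSS := hS.1
  have hTT := hT.1.1
  have hT0 : T ≠ 0 := by rintro rfl; exact hne (by simp)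
  have hWN : ∀ s : k, s ≠ 0 → qpN G (qpW S T r s) := by
    intro s hs
    have h1 := qpN_smul (qpN_conj hNrT hS s⁻¹) (s * s)
    rw [qp_peel_conj hSS hrS] at h1
    have e : (s * s) • (r * (T + s⁻¹ • (S * T - T * S) - (s⁻¹ * s⁻¹) • (S * T * S))) = qpW S T r s := by
      unfold qpW
      rw [← mul_smul_comm, smul_sub, smul_add, smul_smul, smul_smul]
      have a1 : s * s * s⁻¹ = s := by field_simp
      have a2 : s * s * (s⁻¹ * s⁻¹) = 1 := by field_simp
      rw [a1, a2, one_smul]
    rwa [e] at h1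
  obtain ⟨t, ht0, ht1⟩ := qp_exists_t hk2 hk3
  have htt : t * t⁻¹ = 1 := mul_inv_cancel₀ ht0
  have h2 : (2 : k) ≠ 0 := Ring.two_ne_zero hk2
  have hd1 : t * t - 1 ≠ 0 := sub_ne_zero.mpr ht1
  have hc0 : 2 * (t * t - 1) ≠ 0 := mul_ne_zero h2 hd1
  obtain ⟨N₁, hN₁⟩ : ∃ N₁, N₁ = r * T * S * T := ⟨_, rfl⟩
  have hfam : ∀ x : k, ∃ g ∈ G,
      ((g : LinearMap.GeneralLinearGroup k M) : Module.End k M) = 1 + x • N₁ := by
    intro x
    by_cases hx : x = 0
    · exact ⟨1, G.one_mem, by rw [hx, zero_smul, add_zero]; rfl⟩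
    · obtain ⟨s, hs⟩ : ∃ s, s = x / (2 * (t * t - 1)) := ⟨_, rfl⟩
      have hs0 : s ≠ 0 := by rw [hs]; exact div_ne_zero hx hc0
      have hms0 : -s ≠ 0 := neg_ne_zero.mpr hs0
      obtain ⟨a1, a2, a3, a4, -, -⟩ := qp_peel_alg hSS hTT hrS hrT hrel s
      obtain ⟨b1, b2, -, -, -, -⟩ := qp_peel_alg hSS hTT hrS hrT hrel (-s)
      obtain ⟨g, hg, vg⟩ := qp_torus_pair hT.1 (hWN s hs0) (hWN (-s) hms0) a1 a2 b1 b2 htt
      refine ⟨g, hg, ?_⟩
      rw [vg, a3, a4, ← hN₁, smul_smul, smul_smul, add_assoc, ← add_smul]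
      congr 2
      have hx' : s * (2 * (t * t - 1)) = x := by rw [hs]; exact div_mul_cancel₀ x hc0
      rw [← hx']; ring
  obtain ⟨-, -, -, -, a5, a6⟩ := qp_peel_alg hSS hTT hrS hrT hrel 0
  rw [← hN₁] at a5 a6
  have hNN : qpN G N₁ := ⟨a5, hfam⟩
  have hN0 : N₁ ≠ 0 := by
    intro h0
    apply hT0
    have : r * (T * S * T * S * T) = N₁ * S * T := by rw [hN₁]; simp only [mul_assoc]
    rw [this, h0, zero_mul, zero_mul] at hrel
    exact neg_eq_zero.mp hrel.symm
  have hrk : Module.finrank k (LinearMap.range N₁) = d := by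
    refine le_antisymm ?_ (hmin N₁ hNN hN0)
    rw [← hT.2]
    refine Submodule.finrank_mono ?_
    have : N₁ = T * (r * S * T) := by rw [hN₁, hrT]; simp only [mul_assoc]
    rw [this, Module.End.mul_eq_comp]; exact LinearMap.range_comp_le_range _ _
  refine ⟨-N₁, ⟨?_, ?_⟩, neg_ne_zero.mpr hN0, ?_⟩
  · have := qpN_smul hNN (-1); rwa [neg_one_smul] at this
  · rw [LinearMap.range_neg]; exact hrk
  · simp only [neg_mul, mul_neg, neg_neg]; exact a6

/-- peeling off a minimal element -/
theorem qp_peel [FiniteDimensional k M] {d : ℕ} {S T₁ : Module.End k M} (hS : qpN G S)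
    (hT₁ : qpMin G d T₁) (hT0 : T₁ ≠ 0) (h : T₁ * S * T₁ = T₁) :
    qpMin G d (S * T₁ * S) ∧ qpN G (S - S * T₁ * S) ∧
      Module.finrank k (LinearMap.range (S - S * T₁ * S)) < Module.finrank k (LinearMap.range S) := by
  have r1 : ∀ m : M, S (S m) = 0 := fun m => qp_pt hS.1 m
  have r2 : ∀ m : M, T₁ (T₁ m) = 0 := fun m => qp_pt hT₁.1.1 m
  have r3 : ∀ m : M, T₁ (S (T₁ m)) = T₁ m := fun m => qp_pt h m
  have hT' := qpN_conj hT₁.1 hS 1
  have hU' := qpMin_conj hT₁ hT' 1
  simp only [one_smul] at hT' hU'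
  have e : (1 + (1 + S) * T₁ * (1 - S)) * T₁ * (1 - (1 + S) * T₁ * (1 - S)) = -(S * T₁ * S) := by
    refine LinearMap.ext fun m => ?_
    simp only [Module.End.mul_apply, LinearMap.add_apply, LinearMap.sub_apply, LinearMap.neg_apply, Module.End.one_apply, LinearMap.zero_apply, map_add, map_sub, map_neg, map_zero, sub_zero, zero_sub, add_zero, zero_add, neg_zero, neg_neg, sub_self, r1, r2, r3] <;> abel
  rw [e] at hU'
  have hU : qpMin G d (S * T₁ * S) := by
    refine ⟨?_, ?_⟩
    · have := qpN_smul hU'.1 (-1); rwa [neg_one_smul, neg_neg] at this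
    · have := hU'.2; rwa [LinearMap.range_neg] at this
  have hSU : S * (S * T₁ * S) = 0 := by
    refine LinearMap.ext fun m => ?_
    simp only [Module.End.mul_apply, LinearMap.add_apply, LinearMap.sub_apply, LinearMap.neg_apply, Module.End.one_apply, LinearMap.zero_apply, map_add, map_sub, map_neg, map_zero, sub_zero, zero_sub, add_zero, zero_add, neg_zero, neg_neg, sub_self, r1, r2, r3] <;> abel
  have hUS : S * T₁ * S * S = 0 := by
    refine LinearMap.ext fun m => ?_
    simp only [Module.End.mul_apply, LinearMap.add_apply, LinearMap.sub_apply, LinearMap.neg_apply, Module.End.one_apply, LinearMap.zero_apply, map_add, map_sub, map_neg, map_zero, sub_zero, zero_sub, add_zero, zero_add, neg_zero, neg_neg, sub_self, r1, r2, r3] <;> abel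
  refine ⟨hU, qpN_sub hS hU.1 hSU hUS, ?_⟩
  refine Submodule.finrank_lt_finrank_of_lt (lt_of_le_not_ge ?_ ?_)
  · rintro x ⟨m, rfl⟩
    refine ⟨m - T₁ (S m), ?_⟩
    simp only [Module.End.mul_apply, LinearMap.add_apply, LinearMap.sub_apply, LinearMap.neg_apply, Module.End.one_apply, LinearMap.zero_apply, map_add, map_sub, map_neg, map_zero, sub_zero, zero_sub, add_zero, zero_add, neg_zero, neg_neg, sub_self, r1, r2, r3]
  · intro hle
    apply hT0
    have hTS : T₁ * S = 0 := by
      refine LinearMap.ext fun m => ?_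
      have hm : (S * T₁ * S) m ∈ LinearMap.range S := ⟨T₁ (S m), rfl⟩
      obtain ⟨a, ha⟩ := hle hm
      have h5 := congrArg T₁ ha
      simp only [Module.End.mul_apply, LinearMap.add_apply, LinearMap.sub_apply, LinearMap.neg_apply, Module.End.one_apply, LinearMap.zero_apply, map_add, map_sub, map_neg, map_zero, sub_zero, zero_sub, add_zero, zero_add, neg_zero, neg_neg, sub_self, r1, r2, r3] at h5
      show T₁ (S m) = 0
      first
        | exact h5.symm
        | exact h5
    rw [← h, hTS, zero_mul]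

/-- the induction: every square-zero element of the group lies in a subgroup containing the minimal
elements and the elements commuting with all of them -/
theorem qp_cocentral_aux [FiniteDimensional k M] (hk2 : ringChar k ≠ 2) (hk3 : Nat.card k ≠ 3) {d : ℕ}
    (hmin : ∀ N : Module.End k M, qpN G N → N ≠ 0 → d ≤ Module.finrank k (LinearMap.range N))
    (hpart : ∀ T : Module.End k M, qpMin G d T → ∃ Y : Module.End k M, qpMin G d Y ∧
      ¬ ∃ n : ℕ, (T * Y + Y * T) ^ n = 0)
    (hd : d ≠ 0) (H : Subgroup (LinearMap.GeneralLinearGroup k M))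
    (hH1 : ∀ T : Module.End k M, qpMin G d T → ∀ g : LinearMap.GeneralLinearGroup k M,
      ((g : LinearMap.GeneralLinearGroup k M) : Module.End k M) = 1 + T → g ∈ H)
    (hH2 : ∀ g ∈ G, (∀ T : Module.End k M, qpMin G d T →
      ((g : LinearMap.GeneralLinearGroup k M) : Module.End k M) * T =
        T * ((g : LinearMap.GeneralLinearGroup k M) : Module.End k M)) → g ∈ H) :
    ∀ n : ℕ, ∀ S : Module.End k M, qpN G S → Module.finrank k (LinearMap.range S) = n →
      ∀ g : LinearMap.GeneralLinearGroup k M,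
        ((g : LinearMap.GeneralLinearGroup k M) : Module.End k M) = 1 + S → g ∈ H := by
  intro n
  induction n using Nat.strong_induction_on with
  | _ n ih =>
    intro S hS hn g hg
    have hgG : g ∈ G := by
      obtain ⟨g', hg', e⟩ := hS.2 1
      have : g = g' := Units.ext (by rw [hg, e, one_smul])
      rw [this]; exact hg'
    by_cases hnl : qpNl G d S
    · refine hH2 g hgG (fun T hT => ?_)
      have hT0 : T ≠ 0 := by
        rintro rfl
        apply hd
        rw [← hT.2, LinearMap.range_zero, finrank_bot]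
      have hc := qp_null_central hk2 hk3 hmin hpart hS hnl hT hT0
      rw [hg, add_mul, mul_add, one_mul, mul_one, hc]
    · unfold qpNl at hnl
      push Not at hnl
      obtain ⟨T, hT, hne⟩ := hnl
      obtain ⟨T₁, hT₁, hT₁0, hrel⟩ := qp_peel_elem hk2 hk3 hmin hS hT hne
      obtain ⟨hU, hS', hlt⟩ := qp_peel hS hT₁ hT₁0 hrel
      obtain ⟨u, huG, hu⟩ := hU.1.2 1
      obtain ⟨g', hg'G, hg'⟩ := hS'.2 1
      rw [one_smul] at hu hg'
      have h1 : g' ∈ H := ih _ (by rw [← hn]; exact hlt) _ hS' rfl g' hg'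
      have h2 : u ∈ H := hH1 _ hU u hu
      have e : g = g' * u := by
        refine Units.ext ?_
        rw [Units.val_mul, hg, hg', hu]
        have r1 : ∀ m : M, S (S m) = 0 := fun m => qp_pt hS.1 m
        refine LinearMap.ext fun m => ?_
        simp only [Module.End.mul_apply, LinearMap.add_apply, LinearMap.sub_apply, LinearMap.neg_apply, Module.End.one_apply, LinearMap.zero_apply, map_add, map_sub, map_neg, map_zero, sub_zero, zero_sub, add_zero, zero_add, neg_zero, neg_neg, sub_self, r1] <;> abel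
      rw [e]
      exact H.mul_mem h1 h2

end qp32a

end Cfsg.Agent.Lib.helper85
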