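import Cfsg.Agent.Lib.helper85.QP32

set_option autoImplicit false
set_option linter.unusedSimpArgs false
set_option linter.unusedVariables false

namespace Cfsg.Agent.Lib.helper85

universe u

section qp33a
variable {k : Type u} [Field k] {M : Type u} [AddCommGroup M] [Module k M]
variable {G : Subgroup (LinearMap.GeneralLinearGroup k M)}

theorem qp_min_exists (h : (Cfsg.quadraticElements G).Nonempty) :
    ∃ σ₀, σ₀ ∈ Cfsg.minimalQuadraticElements G := by
  classical
  obtain ⟨σ, hσ⟩ := h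
  have hex : ∃ n : ℕ, ∃ τ ∈ Cfsg.quadraticElements G, Cfsg.commutatorRank τ = n := ⟨_, σ, hσ, rfl⟩
  obtain ⟨τ, hτ, hn⟩ := Nat.find_spec hex
  refine ⟨τ, hτ, fun τ' hτ' => ?_⟩
  rw [hn]
  exact Nat.find_min' hex ⟨τ', hτ', rfl⟩

theorem qp_root_sup_le (G : Subgroup (LinearMap.GeneralLinearGroup k M)) :
    (⨆ A ∈ Cfsg.quadraticRootSubgroups G, A) ≤ G := by
  refine iSup₂_le fun A hA => ?_
  obtain ⟨σ, hσ, rfl⟩ := hA
  exact (Subgroup.closure_le _).mpr (fun x hx => hx.1.1.1)

/-- `G = G₀ C_G(G₀)` -/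
theorem qp_cocentral_final [FiniteDimensional k M] (hk2 : ringChar k ≠ 2) (hk3 : Nat.card k ≠ 3)
    (hG : Cfsg.IsQuadraticPair G) :
    (⨆ A ∈ Cfsg.quadraticRootSubgroups G, A) ⊔
      (G ⊓ Subgroup.centralizer ((⨆ A ∈ Cfsg.quadraticRootSubgroups G, A :
        Subgroup (LinearMap.GeneralLinearGroup k M)) : Set (LinearMap.GeneralLinearGroup k M))) = G := by
  obtain ⟨G₀, hG₀⟩ : ∃ G₀, G₀ = ⨆ A ∈ Cfsg.quadraticRootSubgroups G, A := ⟨_, rfl⟩
  rw [← hG₀]
  have hG₀G : G₀ ≤ G := by rw [hG₀]; exact qp_root_sup_le G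
  refine le_antisymm (sup_le hG₀G inf_le_left) ?_
  have hcl : Subgroup.closure (Cfsg.quadraticElements G) ≤
      G₀ ⊔ (G ⊓ Subgroup.centralizer (G₀ : Set (LinearMap.GeneralLinearGroup k M))) := by
    refine (Subgroup.closure_le _).mpr ?_
    intro σ hσ
    obtain ⟨σ₀, hσ₀⟩ := qp_min_exists ⟨σ, hσ⟩
    have hmin := qp_hmin_of_min hσ₀
    have hd : Cfsg.commutatorRank σ₀ ≠ 0 := by
      intro h0
      have hb : LinearMap.range (((σ₀ : LinearMap.GeneralLinearGroup k M) : M →ₗ[k] M) - 1) = ⊥ :=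
        Submodule.finrank_eq_zero.mp h0
      exact hσ₀.1.2.1.2 (LinearMap.range_eq_bot.mp hb)
    have hT0 : ∀ T : Module.End k M, qpMin G (Cfsg.commutatorRank σ₀) T → T ≠ 0 := by
      rintro T hT rfl
      apply hd
      rw [← hT.2, LinearMap.range_zero, finrank_bot]
    have hunit : ∀ T : Module.End k M, qpMin G (Cfsg.commutatorRank σ₀) T →
        ∀ b : LinearMap.GeneralLinearGroup k M,
          ((b : LinearMap.GeneralLinearGroup k M) : Module.End k M) = 1 + T →
          b ∈ Cfsg.minimalQuadraticElements G :=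
      fun T hT b hb => qp_min_of_N hσ₀ hT.1 (hT0 T hT) hT.2 hb
    have hminN : ∀ τ ∈ Cfsg.minimalQuadraticElements G,
        qpMin G (Cfsg.commutatorRank σ₀) (((τ : LinearMap.GeneralLinearGroup k M) : Module.End k M) - 1) :=
      fun τ hτ => ⟨qpN_of_quad hτ.1, le_antisymm (hτ.2 σ₀ hσ₀.1) (hσ₀.2 τ hτ.1)⟩
    have hpart : ∀ T : Module.End k M, qpMin G (Cfsg.commutatorRank σ₀) T →
        ∃ Y : Module.End k M, qpMin G (Cfsg.commutatorRank σ₀) Y ∧ ¬ ∃ n : ℕ, (T * Y + Y * T) ^ n = 0 := by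
      intro T hT
      obtain ⟨b, hbG, hb⟩ := hT.1.2 1
      rw [one_smul] at hb
      have hbm := hunit T hT b hb
      obtain ⟨τ, hτ, hnil⟩ := qp_partner_exists hk2 hk3 hG hbm
      have e : ((b : LinearMap.GeneralLinearGroup k M) : Module.End k M) - 1 = T := by
        rw [hb]; exact add_sub_cancel_left 1 T
      rw [e] at hnil
      exact ⟨_, hminN τ hτ, hnil⟩
    have hH1 : ∀ T : Module.End k M, qpMin G (Cfsg.commutatorRank σ₀) T →
        ∀ g : LinearMap.GeneralLinearGroup k M,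
          ((g : LinearMap.GeneralLinearGroup k M) : Module.End k M) = 1 + T →
          g ∈ G₀ ⊔ (G ⊓ Subgroup.centralizer (G₀ : Set (LinearMap.GeneralLinearGroup k M))) := by
      intro T hT g hg
      have hgm := hunit T hT g hg
      have h1 : g ∈ Cfsg.sameActionSubgroup G g := Subgroup.subset_closure (qp_self_class hgm)
      have h2 : Cfsg.sameActionSubgroup G g ≤ G₀ := by
        rw [hG₀]
        exact le_iSup₂ (f := fun (A : Subgroup (LinearMap.GeneralLinearGroup k M))
          (_ : A ∈ Cfsg.quadraticRootSubgroups G) => A) (Cfsg.sameActionSubgroup G g) ⟨g, hgm, rfl⟩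
      exact (le_sup_left : G₀ ≤ _) (h2 h1)
    have hH2 : ∀ g ∈ G, (∀ T : Module.End k M, qpMin G (Cfsg.commutatorRank σ₀) T →
        ((g : LinearMap.GeneralLinearGroup k M) : Module.End k M) * T =
          T * ((g : LinearMap.GeneralLinearGroup k M) : Module.End k M)) →
        g ∈ G₀ ⊔ (G ⊓ Subgroup.centralizer (G₀ : Set (LinearMap.GeneralLinearGroup k M))) := by
      intro g hgG hc
      refine (le_sup_right : (G ⊓ Subgroup.centralizer (G₀ : Set (LinearMap.GeneralLinearGroup k M))) ≤ _) ?_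
      refine Subgroup.mem_inf.mpr ⟨hgG, ?_⟩
      have hK : G₀ ≤ Subgroup.centralizer ({g} : Set (LinearMap.GeneralLinearGroup k M)) := by
        rw [hG₀]
        refine iSup₂_le fun A hA => ?_
        obtain ⟨σ', hσ', rfl⟩ := hA
        refine (Subgroup.closure_le _).mpr ?_
        intro x hx
        have hxm : x ∈ Cfsg.minimalQuadraticElements G := hx.1
        have h3 := hc _ (hminN x hxm)
        refine Subgroup.mem_centralizer_iff.mpr ?_
        intro y hy
        rw [Set.mem_singleton_iff] at hy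
        rw [hy]
        refine Units.ext ?_
        rw [Units.val_mul, Units.val_mul]
        rw [mul_sub, sub_mul, mul_one, one_mul] at h3
        exact sub_left_injective h3
      refine Subgroup.mem_centralizer_iff.mpr ?_
      intro h hh
      have := Subgroup.mem_centralizer_iff.mp (hK hh) g (Set.mem_singleton g)
      exact this.symm
    exact qp_cocentral_aux hk2 hk3 hmin hpart hd _ hH1 hH2 _ _ (qpN_of_quad hσ) rfl σ qp_val_of_sub
  rw [hG.2] at hcl
  exact hcl

end qp33a

end Cfsg.Agent.Lib.helper85
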