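import Cfsg.Agent.Lib.helper85.Quasi

set_option autoImplicit false
set_option linter.unusedVariables false

namespace Cfsg.Agent.Lib.helper85

open Cfsg
open scoped commutatorElement

section qp34
variable {G : Type*} [Group G] {S : Set (Subgroup G)}

/-- Variant of the normal subgroup dichotomy with a direct hypothesis replacing the
centralizing members condition. -/
theorem normal_dichotomy_of_hyps2 (hS : IsRootSubgroupSet S) (h2 : ∃ A ∈ S, ∃ B ∈ S, A ≠ B)
    (h1 : IsConnectedFamily (FAdj S) S)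
    (h2' : ∀ N : Subgroup G, N.Normal → (∀ A ∈ S, ∀ a ∈ A, a ∈ N → a = 1) →
      (∀ A ∈ S, ∀ n ∈ N, A ≤ Subgroup.centralizer ((conjBy A n : Subgroup G) : Set G)) →
      N ≤ Subgroup.center G)
    (h3 : IsDegenerateRootSet S → ∀ A ∈ S, 3 < ENat.card A)
    (h4 : ∀ A ∈ S, ∀ B ∈ rankOnePartners S A, IsSpecialRankOnePair A B)
    (N : Subgroup G) (hN : N.Normal) : N ≤ Subgroup.center G ∨ N = ⊤ := by
  have hperf := perfect_of_hyps hS h2 h1 h3 h4
  have hcommS : ∀ A ∈ S, ∀ x ∈ A, ∀ y ∈ A, x * y = y * x :=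
    fun A hA => isMulCommutative_iff_of_setLike.mp (hS.commutative A hA)
  have hdich : ∀ A ∈ S, ∀ B ∈ S, IsRankOnePair A B →
      (∃ m ∈ N, B = conjBy A m) ∨
        N ⊓ (A ⊔ B) ≤ Subgroup.centralizer ((A ⊔ B : Subgroup G) : Set G) := by
    intro A hA B hB hAB
    have hnorm : ∀ x ∈ A ⊔ B, ∀ n ∈ N ⊓ (A ⊔ B), x * n * x⁻¹ ∈ N ⊓ (A ⊔ B) := by
      intro x hx n hn
      rw [Subgroup.mem_inf] at hn ⊢
      exact ⟨hN.conj_mem n hn.1 x, mul_mem (mul_mem hx hn.2) (inv_mem hx)⟩
    rcases rop_normal_dichotomy hAB inf_le_right hnorm with ⟨m, hm, hBm⟩ | hc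
    · exact Or.inl ⟨m, (Subgroup.mem_inf.mp hm).1, hBm⟩
    · exact Or.inr hc
  have hnocent : ∀ D ∈ S, ∀ C ∈ S, IsRankOnePair D C →
      N ⊓ (D ⊔ C) ≤ Subgroup.centralizer ((D ⊔ C : Subgroup G) : Set G) →
      (∀ d ∈ D, ∀ c ∈ C, d * c * d⁻¹ * c⁻¹ ∈ N) → False := by
    intro D hD C hC hDC hK hcomm
    obtain ⟨d, hd, hd1⟩ := rop_exists_ne_one hDC
    obtain ⟨c, hc, hc1, hR⟩ := hDC.cond_left d hd hd1
    have hz : ⁅c, d⁆ ∈ N ⊓ (D ⊔ C) := by
      rw [Subgroup.mem_inf]
      constructor
      · have := N.inv_mem (hcomm d hd c hc)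
        have e : ⁅c, d⁆ = (d * c * d⁻¹ * c⁻¹)⁻¹ := by rw [commutatorElement_def]; group
        rw [e]; exact this
      · rw [commutatorElement_def]
        exact mul_mem (mul_mem (mul_mem (Subgroup.mem_sup_right hc) (Subgroup.mem_sup_left hd))
          (inv_mem (Subgroup.mem_sup_right hc))) (inv_mem (Subgroup.mem_sup_left hd))
    have hz' := hK hz
    rw [Subgroup.mem_centralizer_iff] at hz'
    exact rop_no_central_commutator hDC (hS.commutative D hD) hd hc hc1 hR
      (hz' d (Subgroup.mem_sup_left hd)).symm (hz' c (Subgroup.mem_sup_right hc)).symm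
  by_cases hI : ∃ A ∈ S, ∃ a ∈ A, a ≠ 1 ∧ a ∈ N
  · right
    obtain ⟨A, hA, a, ha, ha1, haN⟩ := hI
    have hall : ∀ C ∈ S, ∃ c ∈ C, c ≠ 1 ∧ c ∈ N := by
      intro C hC
      obtain ⟨g, rfl⟩ := conj_of_reach (h1 A hA C hC)
      refine ⟨g * a * g⁻¹, conj_mem_conjBy ha, ?_, hN.conj_mem a haN g⟩
      intro h
      apply ha1
      calc a = g⁻¹ * (g * a * g⁻¹) * g := by group
        _ = 1 := by rw [h]; group
    have hcol : ∀ C ∈ S, ∀ D ∈ S, IsRankOnePair C D → D ≤ N ⊔ C := by
      intro C hC D hD hCD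
      obtain ⟨c, hc, hc1, hcN⟩ := hall C hC
      rcases hdich C hC D hD hCD with ⟨m, hm, hDm⟩ | hK
      · intro d hd
        rw [hDm] at hd
        obtain ⟨c', hc', hdc⟩ := conj_mod hN hm hd
        have : d = (d * c'⁻¹) * c' := by group
        rw [this]
        exact mul_mem (Subgroup.mem_sup_left hdc) (Subgroup.mem_sup_right hc')
      · exfalso
        have hcK : c ∈ N ⊓ (C ⊔ D) := Subgroup.mem_inf.mpr ⟨hcN, Subgroup.mem_sup_left hc⟩
        have hcz := hK hcK
        rw [Subgroup.mem_centralizer_iff] at hcz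
        exact hc1 (rop_eq_one_of_mem_normalizer hCD hc
          (mem_normalizer_of_forall_comm (fun d hd => (hcz d (Subgroup.mem_sup_right hd)).symm)))
    have hreach : ∀ C, Relation.ReflTransGen (FAdj S) A C → N ⊔ C = N ⊔ A := by
      intro C hr
      induction hr with
      | refl => rfl
      | tail _ hstep ih =>
        rw [← ih]
        apply le_antisymm
        · exact sup_le le_sup_left (hcol _ hstep.1 _ hstep.2.1 hstep.2.2)
        · exact sup_le le_sup_left (hcol _ hstep.2.1 _ hstep.1 (RankOnePair_symm hstep.2.2))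
    have htop : N ⊔ A = ⊤ := by
      rw [eq_top_iff, ← hS.generates]
      apply iSup₂_le
      intro C hC
      rw [← hreach C (h1 A hA C hC)]
      exact le_sup_right
    have hcomm : commutator G ≤ N := by
      rw [commutator_def, Subgroup.commutator_le]
      intro x _ y _
      have hmem : ∀ z : G, ∃ a ∈ A, z * a⁻¹ ∈ N := by
        intro z
        have hz : z ∈ N ⊔ A := by rw [htop]; trivial
        have := hN
        have hz' : z ∈ ((N ⊔ A : Subgroup G) : Set G) := hz
        rw [Subgroup.normal_mul] at hz'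
        obtain ⟨ν, hν, a, ha, rfl⟩ := hz'
        exact ⟨a, ha, by simpa using hν⟩
      obtain ⟨a, ha, hxa⟩ := hmem x
      obtain ⟨a', ha', hya⟩ := hmem y
      rw [commutatorElement_def]
      exact comm_mem_normal hN hxa hya (hcommS A hA a ha a' ha')
    rw [hperf] at hcomm
    exact top_le_iff.mp hcomm
  · push Not at hI
    have hII : ∀ A ∈ S, ∀ a ∈ A, a ∈ N → a = 1 := by
      intro A hA a ha haN
      by_contra h
      exact hI A hA a ha h haN
    have hnotle : ∀ D ∈ S, ¬ D ≤ N := by
      intro D hD hle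
      obtain ⟨d, hd, hd1⟩ := exists_ne_one_of_ne_bot (hS.ne_bot D hD)
      exact hd1 (hII D hD d hd (hle hd))
    have hnocol : ∀ A ∈ S, ∀ B ∈ S, IsRankOnePair A B → ∀ m ∈ N, B ≠ conjBy A m := by
      intro A hA B hB hAB m hm hBm
      have hBmod : ∀ b ∈ B, ∃ a ∈ A, b * a⁻¹ ∈ N := by
        intro b hb
        rw [hBm] at hb
        exact conj_mod hN hm hb
      obtain ⟨a₀, ha₀, ha₀1⟩ := rop_exists_ne_one hAB
      by_cases hdeg : IsDegenerateRootSet S
      · have hsp := sp_of_special hS hA hB (h4 A hA B ⟨hB, hAB⟩)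
        have hmod : ∀ x ∈ A ⊔ B, ∃ a ∈ A, x * a⁻¹ ∈ N := by
          intro x hx
          refine sup_induction (P := fun x => ∃ a ∈ A, x * a⁻¹ ∈ N) ?_ ?_ ?_ ?_ hx
          · intro a ha
            exact ⟨a, ha, by rw [mul_inv_cancel]; exact N.one_mem⟩
          · exact hBmod
          · exact ⟨1, A.one_mem, by simp⟩
          · rintro x y ⟨a, ha, hxa⟩ ⟨a', ha', hya⟩
            refine ⟨a * a', A.mul_mem ha ha', ?_⟩
            have : x * y * (a * a')⁻¹ = (x * a⁻¹) * (a * (y * a'⁻¹) * a⁻¹) := by group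
            rw [this]
            exact N.mul_mem hxa (hN.conj_mem _ hya a)
        have := hN
        have hker := hsp.le_ker_of_comm (h3 hdeg A hA) (QuotientGroup.mk' N) (by
          intro x hx y hy
          obtain ⟨a, ha, hxa⟩ := hmod x hx
          obtain ⟨a', ha', hya⟩ := hmod y hy
          have := comm_mem_normal hN hxa hya (hcommS A hA a ha a' ha')
          have e : (QuotientGroup.mk' N) (x * y * x⁻¹ * y⁻¹) = 1 :=
            (QuotientGroup.eq_one_iff _).mpr this
          rw [map_mul, map_mul, map_mul, map_inv, map_inv, mul_inv_eq_one,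
            mul_inv_eq_iff_eq_mul] at e
          exact e)
        exact ha₀1 (hII A hA a₀ ha₀ ((QuotientGroup.eq_one_iff a₀).mp (hker a₀ ha₀)))
      · unfold IsDegenerateRootSet at hdeg
        push Not at hdeg
        obtain ⟨E₀, hE₀, F₀, hF₀, hcc₀⟩ := hdeg
        obtain ⟨g, hg⟩ := conj_of_reach (h1 _ hcc₀.1 A hA)
        have hE : conjBy E₀ g ∈ S := hS.conj_mem _ hE₀ g
        have hF : conjBy F₀ g ∈ S := hS.conj_mem _ hF₀ g
        have hEF : ⁅conjBy E₀ g, conjBy F₀ g⁆ = A := by
          rw [hg]; exact (Subgroup.map_commutator E₀ F₀ _).symm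
        obtain ⟨E, hEdef⟩ : ∃ E, E = conjBy E₀ g := ⟨_, rfl⟩
        obtain ⟨F, hFdef⟩ : ∃ F, F = conjBy F₀ g := ⟨_, rfl⟩
        rw [← hEdef] at hE
        rw [← hFdef] at hF
        rw [← hEdef, ← hFdef] at hEF
        have hcc : RootCommutatorCase S E F :=
          comm_case_of_mem hS hE hF (by rw [hEF]; exact hA)
        have hAE : ∀ a ∈ A, ∀ e ∈ E, a * e = e * a :=
          fun a ha e he => cc_comm_left hcc he (by rw [hEF]; exact ha)
        have hAF : ∀ a ∈ A, ∀ f ∈ F, a * f = f * a :=
          fun a ha f hf => cc_comm_right hcc hf (by rw [hEF]; exact ha)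
        have hEno : (∀ e ∈ E, ∃ a ∈ A, e * a⁻¹ ∈ N) → False := by
          intro hmod
          apply hnotle A hA
          rw [← hEF, Subgroup.commutator_le]
          intro e he f hf
          obtain ⟨a, ha, hea⟩ := hmod e he
          rw [commutatorElement_def]
          exact comm_mem_normal hN hea (by rw [mul_inv_cancel]; exact N.one_mem) (hAF a ha f hf)
        have hFno : (∀ f ∈ F, ∃ a ∈ A, f * a⁻¹ ∈ N) → False := by
          intro hmod
          apply hnotle A hA
          rw [← hEF, Subgroup.commutator_le]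
          intro e he f hf
          obtain ⟨a, ha, hfa⟩ := hmod f hf
          rw [commutatorElement_def]
          exact comm_mem_normal hN (by rw [mul_inv_cancel]; exact N.one_mem) hfa
            (hAE a ha e he).symm
        have hBcomm : ∀ E' ∈ S, (∀ a ∈ A, ∀ e ∈ E', a * e = e * a) →
            ((∀ e ∈ E', ∃ a ∈ A, e * a⁻¹ ∈ N) → False) →
            ∀ b ∈ B, ∀ e ∈ E', b * e = e * b := by
          intro E' hE' hAE' hno
          have hcommN : ∀ b ∈ B, ∀ e ∈ E', b * e * b⁻¹ * e⁻¹ ∈ N := by
            intro b hb e he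
            obtain ⟨a, ha, hba⟩ := hBmod b hb
            exact comm_mem_normal hN hba (by rw [mul_inv_cancel]; exact N.one_mem)
              (hAE' a ha e he)
          rcases hS.pair B hB E' hE' with h | h | h
          · intro b hb e he
            exact mul_comm_of_commutator_eq_bot h hb he
          · exfalso
            rcases hdich B hB E' hE' h with ⟨m', hm', hE'm⟩ | hK
            · apply hno
              intro e he
              rw [hE'm] at he
              obtain ⟨b, hb, heb⟩ := conj_mod hN hm' he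
              obtain ⟨a, ha, hba⟩ := hBmod b hb
              refine ⟨a, ha, ?_⟩
              have : e * a⁻¹ = (e * b⁻¹) * (b * a⁻¹) := by group
              rw [this]
              exact N.mul_mem heb hba
            · exact hnocent B hB E' hE' h hK hcommN
          · exfalso
            apply hnotle _ h.1
            rw [Subgroup.commutator_le]
            intro b hb e he
            rw [commutatorElement_def]
            exact hcommN b hb e he
        have hBE := hBcomm E hE hAE hEno
        have hBF := hBcomm F hF hAF hFno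
        have hle : ⁅E, F⁆ ≤ Subgroup.centralizer (B : Set G) := by
          rw [Subgroup.commutator_le]
          intro e he f hf
          have heB : e ∈ Subgroup.centralizer (B : Set G) := by
            rw [Subgroup.mem_centralizer_iff]
            intro b hb
            exact hBE b hb e he
          have hfB : f ∈ Subgroup.centralizer (B : Set G) := by
            rw [Subgroup.mem_centralizer_iff]
            intro b hb
            exact hBF b hb f hf
          rw [commutatorElement_def]
          exact mul_mem (mul_mem (mul_mem heB hfB) (inv_mem heB)) (inv_mem hfB)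
        rw [hEF] at hle
        have ha₀c := hle ha₀
        rw [Subgroup.mem_centralizer_iff] at ha₀c
        exact ha₀1 (rop_eq_one_of_mem_normalizer hAB ha₀
          (mem_normalizer_of_forall_comm (fun b hb => (ha₀c b hb).symm)))
    left
    apply h2' N hN hII
    intro A hA n hn
    have hC : conjBy A n ∈ S := hS.conj_mem A hA n
    obtain ⟨C, hCdef⟩ : ∃ C, C = conjBy A n := ⟨_, rfl⟩
    rw [← hCdef] at hC ⊢
    have hCmod : ∀ c ∈ C, ∃ a ∈ A, c * a⁻¹ ∈ N := by
      intro c hc
      rw [hCdef] at hc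
      exact conj_mod hN hn hc
    have gen : ∀ A₁ ∈ S, ∀ C₁ ∈ S, (∀ c ∈ C₁, ∃ a ∈ A₁, c * a⁻¹ ∈ N) → ∀ D ∈ S,
        D ≤ Subgroup.centralizer (A₁ : Set G) → D ≤ Subgroup.centralizer (C₁ : Set G) := by
      intro A₁ hA₁ C₁ hC₁ hmod D hD hDA
      have hda : ∀ d ∈ D, ∀ a ∈ A₁, d * a = a * d := by
        intro d hd a ha
        have := hDA hd
        rw [Subgroup.mem_centralizer_iff] at this
        exact (this a ha).symm
      have hcommN : ∀ d ∈ D, ∀ c ∈ C₁, d * c * d⁻¹ * c⁻¹ ∈ N := by
        intro d hd c hc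
        obtain ⟨a, ha, hca⟩ := hmod c hc
        exact comm_mem_normal hN (by rw [mul_inv_cancel]; exact N.one_mem) hca (hda d hd a ha)
      rcases hS.pair D hD C₁ hC₁ with h | h | h
      · exact Subgroup.commutator_eq_bot_iff_le_centralizer.mp h
      · exfalso
        rcases hdich D hD C₁ hC₁ h with ⟨m, hm, hCm⟩ | hK
        · exact hnocol D hD C₁ hC₁ h m hm hCm
        · exact hnocent D hD C₁ hC₁ h hK hcommN
      · exfalso
        apply hnotle _ h.1
        rw [Subgroup.commutator_le]
        intro d hd c hc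
        rw [commutatorElement_def]
        exact hcommN d hd c hc
    refine gen A hA C hC hCmod A hA ?_
    intro a ha
    rw [Subgroup.mem_centralizer_iff]
    intro b hb
    exact hcommS A hA b hb a ha

/-- quasisimplicity from the variant dichotomy -/
theorem quasi_of_hyps2 (hS : IsRootSubgroupSet S) (h2 : ∃ A ∈ S, ∃ B ∈ S, A ≠ B)
    (h1 : IsConnectedFamily (FAdj S) S)
    (h2' : ∀ N : Subgroup G, N.Normal → (∀ A ∈ S, ∀ a ∈ A, a ∈ N → a = 1) →
      (∀ A ∈ S, ∀ n ∈ N, A ≤ Subgroup.centralizer ((conjBy A n : Subgroup G) : Set G)) →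
      N ≤ Subgroup.center G)
    (h3 : IsDegenerateRootSet S → ∀ A ∈ S, 3 < ENat.card A)
    (h4 : ∀ A ∈ S, ∀ B ∈ rankOnePartners S A, IsSpecialRankOnePair A B) :
    IsQuasisimple G := by
  have hperf := perfect_of_hyps hS h2 h1 h3 h4
  have hnt : Nontrivial G := by
    obtain ⟨A, hA, -⟩ := h2
    obtain ⟨a, -, ha1⟩ := exists_ne_one_of_ne_bot (hS.ne_bot A hA)
    exact ⟨⟨a, 1, ha1⟩⟩
  exact isQuasisimple_of_normal_dichotomy hperf hnt
    (normal_dichotomy_of_hyps2 hS h2 h1 h2' h3 h4)

end qp34

end Cfsg.Agent.Lib.helper85
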