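import Cfsg.Agent.Lib.helper85.QP28
import Cfsg.Agent.Lib.helper85.RootSub7
import Cfsg.Agent.Lib.helper85.RootSub6
import Cfsg.Agent.S5029

set_option autoImplicit false
set_option linter.unusedVariables false

namespace Cfsg.Agent.Lib.helper85

open Cfsg
open scoped commutatorElement

section qp35
variable {H : Type*} [Group H]

/-- the root subgroup axioms for a set of subgroups of an ambient group (no generation),
together with the existence of rank one partners -/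
structure RootAmb (S : Set (Subgroup H)) : Prop where
  comm : ∀ A ∈ S, IsMulCommutative A
  ne_bot : ∀ A ∈ S, A ≠ ⊥
  conj : ∀ A ∈ S, ∀ g ∈ (⨆ B ∈ S, B), conjBy A g ∈ S
  pair : ∀ A ∈ S, ∀ B ∈ S, ⁅A, B⁆ = ⊥ ∨ IsRankOnePair A B ∨ RootCommutatorCase S A B
  partner : ∀ A ∈ S, ∃ B ∈ S, IsRankOnePair A B

variable {S : Set (Subgroup H)}

theorem RootAmb.le (h : RootAmb S) {A : Subgroup H} (hA : A ∈ S) : A ≤ ⨆ B ∈ S, B :=
  le_biSup (fun B => B) hA

theorem RootAmb.toSet (h : RootAmb S) :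
    IsRootSubgroupSet ((fun A : Subgroup H => A.subgroupOf (⨆ B ∈ S, B)) '' S) :=
  root_subgroupOf' h.comm h.ne_bot h.conj h.pair

theorem amb_rop_up (h : RootAmb S) {A B : Subgroup H} (hA : A ∈ S) (hB : B ∈ S)
    (hr : IsRankOnePair (A.subgroupOf (⨆ B ∈ S, B)) (B.subgroupOf (⨆ B ∈ S, B))) :
    IsRankOnePair A B := by
  rcases h.pair A hA B hB with h0 | h1 | h2
  · exact absurd (comm_subgroupOf_eq_bot _ h0)
      (rop_comm_ne_bot hr (comm_subgroupOf _ (h.comm B hB)))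
  · exact h1
  · exact (rop_not_cc hr (comm_subgroupOf _ (h.comm A hA))
      (cc_subgroupOf (h.le hA) (h.le hB) h2)).elim

theorem amb_sub_inj (h : RootAmb S) {A B : Subgroup H} (hA : A ∈ S) (hB : B ∈ S)
    (e : A.subgroupOf (⨆ B ∈ S, B) = B.subgroupOf (⨆ B ∈ S, B)) : A = B := by
  have := Subgroup.subgroupOf_inj.mp e
  rwa [inf_of_le_left (h.le hA), inf_of_le_left (h.le hB)] at this

theorem amb_reach_up (h : RootAmb S) {X Y : Subgroup ↥(⨆ B ∈ S, B)}
    (hXY : Relation.ReflTransGen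
      (FAdj ((fun A : Subgroup H => A.subgroupOf (⨆ B ∈ S, B)) '' S)) X Y) :
    ∀ A ∈ S, X = A.subgroupOf (⨆ B ∈ S, B) →
      ∃ B ∈ S, Y = B.subgroupOf (⨆ B ∈ S, B) ∧ Relation.ReflTransGen (FAdj S) A B := by
  induction hXY with
  | refl => exact fun A hA hX => ⟨A, hA, hX, Relation.ReflTransGen.refl⟩
  | tail _ hstep ih =>
    intro A hA hX
    obtain ⟨B, hB, hY, hAB⟩ := ih A hA hX
    obtain ⟨-, ⟨C, hC, hCe⟩, hrop⟩ := hstep
    rw [hY, ← hCe] at hrop
    exact ⟨C, hC, hCe.symm, hAB.tail ⟨hB, hC, amb_rop_up h hB hC hrop⟩⟩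

theorem amb_reach_down (h : RootAmb S) {A B : Subgroup H}
    (hAB : Relation.ReflTransGen (FAdj S) A B) :
    Relation.ReflTransGen (FAdj ((fun A : Subgroup H => A.subgroupOf (⨆ B ∈ S, B)) '' S))
      (A.subgroupOf (⨆ B ∈ S, B)) (B.subgroupOf (⨆ B ∈ S, B)) := by
  induction hAB with
  | refl => exact Relation.ReflTransGen.refl
  | tail _ hstep ih =>
    exact ih.tail ⟨⟨_, hstep.1, rfl⟩, ⟨_, hstep.2.1, rfl⟩,
      rop_subgroupOf hstep.2.2 (h.le hstep.1) (h.le hstep.2.1)⟩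

/-- if the commutator of two members is a member, it is joined to the first by a path of
rank one pairs -/
theorem amb_comm_reach (h : RootAmb S) {A B : Subgroup H} (hA : A ∈ S) (hB : B ∈ S)
    (hC : ⁅A, B⁆ ∈ S) : Relation.ReflTransGen (FAdj S) A ⁅A, B⁆ := by
  by_contra hnr
  have hS' := h.toSet
  have hA' : A.subgroupOf (⨆ B ∈ S, B) ∈
      (fun A : Subgroup H => A.subgroupOf (⨆ B ∈ S, B)) '' S := ⟨A, hA, rfl⟩
  have hB' : B.subgroupOf (⨆ B ∈ S, B) ∈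
      (fun A : Subgroup H => A.subgroupOf (⨆ B ∈ S, B)) '' S := ⟨B, hB, rfl⟩
  have hce : ⁅A.subgroupOf (⨆ B ∈ S, B), B.subgroupOf (⨆ B ∈ S, B)⁆ =
      (⁅A, B⁆).subgroupOf (⨆ B ∈ S, B) := commutator_subgroupOf (h.le hA) (h.le hB)
  have hC' : ⁅A.subgroupOf (⨆ B ∈ S, B), B.subgroupOf (⨆ B ∈ S, B)⁆ ∈
      (fun A : Subgroup H => A.subgroupOf (⨆ B ∈ S, B)) '' S := ⟨⁅A, B⁆, hC, hce.symm⟩
  obtain ⟨D, hD, hAD⟩ := h.partner A hA
  obtain ⟨D₂, hD₂, hCD⟩ := h.partner _ hC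
  have hD' : D.subgroupOf (⨆ B ∈ S, B) ∈
      (fun A : Subgroup H => A.subgroupOf (⨆ B ∈ S, B)) '' S := ⟨D, hD, rfl⟩
  have hD₂' : D₂.subgroupOf (⨆ B ∈ S, B) ∈
      (fun A : Subgroup H => A.subgroupOf (⨆ B ∈ S, B)) '' S := ⟨D₂, hD₂, rfl⟩
  have hAD' := rop_subgroupOf hAD (h.le hA) (h.le hD)
  have hniso := not_isolated_of_partner hA' hD' hAD'
  have hline := (Cfsg.Agent.S5029.result hS' hniso hA' hB' hC').2.2.1
  have hCD' := rop_subgroupOf hCD (h.le hC) (h.le hD₂)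
  rw [← hce] at hCD'
  refine no_line_partner_across hS' hC' hA' hD₂' hCD' hD' hAD' ?_ hline
  intro hr
  rw [hce] at hr
  obtain ⟨B₁, hB₁, hAe, hreach⟩ := amb_reach_up h hr _ hC rfl
  have := amb_sub_inj h hA hB₁ hAe
  subst this
  exact hnr (reach_symm hreach)

/-- the subgroup of elements whose conjugation preserves the family -/
def stabFam (c : Set (Subgroup H)) : Subgroup H where
  carrier := {g | ∀ A ∈ c, conjBy A g ∈ c ∧ conjBy A g⁻¹ ∈ c}
  mul_mem' := by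
    intro g h hg hh A hA
    constructor
    · have := (hg _ (hh A hA).1).1
      rwa [conjBy_conjBy] at this
    · have := (hh _ (hg A hA).2).2
      rw [conjBy_conjBy] at this
      rwa [mul_inv_rev]
  one_mem' := by
    intro A hA
    rw [inv_one, conjBy_one]; exact ⟨hA, hA⟩
  inv_mem' := by
    intro g hg A hA
    rw [inv_inv]; exact ⟨(hg A hA).2, (hg A hA).1⟩

theorem mem_stabFam {c : Set (Subgroup H)} {g : H} :
    g ∈ stabFam c ↔ ∀ A ∈ c, conjBy A g ∈ c ∧ conjBy A g⁻¹ ∈ c := Iff.rfl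

theorem amb_reach_conj (h : RootAmb S) {A B : Subgroup H}
    (hAB : Relation.ReflTransGen (FAdj S) A B) {g : H} (hg : g ∈ ⨆ B ∈ S, B) :
    Relation.ReflTransGen (FAdj S) (conjBy A g) (conjBy B g) := by
  induction hAB with
  | refl => exact Relation.ReflTransGen.refl
  | tail _ hstep ih =>
    exact ih.tail ⟨h.conj _ hstep.1 g hg, h.conj _ hstep.2.1 g hg, rop_conj hstep.2.2 g⟩

theorem amb_conj_reach (h : RootAmb S) {A B : Subgroup H} (hB : B ∈ S)
    (hAB : Relation.ReflTransGen (FAdj S) A B) {b : H} (hb : b ∈ B) :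
    Relation.ReflTransGen (FAdj S) A (conjBy A b) := by
  have h1 := amb_reach_conj h hAB (h.le hB hb)
  rw [conjBy_of_mem hb] at h1
  exact hAB.trans (reach_symm h1)

theorem amb_comp_stab (h : RootAmb S) (A₀ : Subgroup H) :
    (⨆ B ∈ componentOf (FAdj S) S A₀, B) ≤ stabFam (componentOf (FAdj S) S A₀) := by
  refine iSup₂_le ?_
  intro B hB b hb
  rw [mem_stabFam]
  intro A hA
  have hAB : Relation.ReflTransGen (FAdj S) A B := (reach_symm hA.2).trans hB.2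
  have key : ∀ b' ∈ B, conjBy A b' ∈ componentOf (FAdj S) S A₀ := fun b' hb' =>
    ⟨h.conj A hA.1 b' (h.le hB.1 hb'), hA.2.trans (amb_conj_reach h hB.1 hAB hb')⟩
  exact ⟨key b hb, key b⁻¹ (B.inv_mem hb)⟩

theorem amb_comp_pair (h : RootAmb S) (A₀ : Subgroup H) :
    ∀ A ∈ componentOf (FAdj S) S A₀, ∀ B ∈ componentOf (FAdj S) S A₀,
      ⁅A, B⁆ = ⊥ ∨ IsRankOnePair A B ∨ RootCommutatorCase (componentOf (FAdj S) S A₀) A B := by
  intro A hA B hB
  rcases h.pair A hA.1 B hB.1 with h0 | h1 | h2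
  · exact Or.inl h0
  · exact Or.inr (Or.inl h1)
  · exact Or.inr (Or.inr ⟨⟨h2.1, hA.2.trans (amb_comm_reach h hA.1 hB.1 h2.1)⟩, h2.2.1,
      h2.2.2.1, h2.2.2.2⟩)

/-- members in different components commute -/
theorem amb_comp_comm (h : RootAmb S) (A₀ : Subgroup H) {A B : Subgroup H}
    (hA : A ∈ componentOf (FAdj S) S A₀) (hB : B ∈ S) (hBc : B ∉ componentOf (FAdj S) S A₀) :
    ⁅A, B⁆ = ⊥ := by
  rcases h.pair A hA.1 B hB with h0 | h1 | h2
  · exact h0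
  · exact absurd ⟨hB, hA.2.tail ⟨hA.1, hB, h1⟩⟩ hBc
  · exfalso
    have r1 := amb_comm_reach h hA.1 hB h2.1
    have hC2 : ⁅B, A⁆ ∈ S := by rw [Subgroup.commutator_comm]; exact h2.1
    have r2 := amb_comm_reach h hB hA.1 hC2
    rw [Subgroup.commutator_comm] at r2
    exact hBc ⟨hB, (hA.2.trans r1).trans (reach_symm r2)⟩

theorem amb_comp (h : RootAmb S) (A₀ : Subgroup H) :
    RootAmb (componentOf (FAdj S) S A₀) := by
  refine ⟨fun A hA => h.comm A hA.1, fun A hA => h.ne_bot A hA.1, ?_, amb_comp_pair h A₀, ?_⟩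
  · intro A hA g hg
    exact (mem_stabFam.mp (amb_comp_stab h A₀ hg) A hA).1
  · intro A hA
    obtain ⟨D, hD, hAD⟩ := h.partner A hA.1
    exact ⟨D, ⟨hD, hA.2.tail ⟨hA.1, hD, hAD⟩⟩, hAD⟩

theorem amb_comp_conn (A₀ : Subgroup H) {A B : Subgroup H}
    (hA : A ∈ componentOf (FAdj S) S A₀) (hAB : Relation.ReflTransGen (FAdj S) A B) :
    Relation.ReflTransGen (FAdj (componentOf (FAdj S) S A₀)) A B ∧
      B ∈ componentOf (FAdj S) S A₀ := by
  induction hAB with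
  | refl => exact ⟨Relation.ReflTransGen.refl, hA⟩
  | tail _ hstep ih =>
    have hY : _ ∈ componentOf (FAdj S) S A₀ := ⟨hstep.2.1, ih.2.2.tail hstep⟩
    exact ⟨ih.1.tail ⟨ih.2, hY, hstep.2.2⟩, hY⟩

/-- a connected family satisfying the ambient axioms is a class of root subgroups of the
subgroup it generates -/
theorem amb_class (h : RootAmb S)
    (hconn : ∀ A ∈ S, ∀ B ∈ S, Relation.ReflTransGen (FAdj S) A B) (hne : S.Nonempty) :
    IsConnectedFamily (FAdj ((fun A : Subgroup H => A.subgroupOf (⨆ B ∈ S, B)) '' S))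
      ((fun A : Subgroup H => A.subgroupOf (⨆ B ∈ S, B)) '' S) ∧
    (∃ A ∈ (fun A : Subgroup H => A.subgroupOf (⨆ B ∈ S, B)) '' S,
      ∃ B ∈ (fun A : Subgroup H => A.subgroupOf (⨆ B ∈ S, B)) '' S, A ≠ B) ∧
    IsRootSubgroupClass ((fun A : Subgroup H => A.subgroupOf (⨆ B ∈ S, B)) '' S) := by
  have hconn' : IsConnectedFamily
      (FAdj ((fun A : Subgroup H => A.subgroupOf (⨆ B ∈ S, B)) '' S))
      ((fun A : Subgroup H => A.subgroupOf (⨆ B ∈ S, B)) '' S) := by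
    rintro _ ⟨A, hA, rfl⟩ _ ⟨B, hB, rfl⟩
    exact amb_reach_down h (hconn A hA B hB)
  refine ⟨hconn', ?_, h.toSet, ?_, ?_⟩
  · obtain ⟨A, hA⟩ := hne
    obtain ⟨D, hD, hAD⟩ := h.partner A hA
    exact ⟨_, ⟨A, hA, rfl⟩, _, ⟨D, hD, rfl⟩, (rop_subgroupOf hAD (h.le hA) (h.le hD)).ne⟩
  · obtain ⟨A, hA⟩ := hne
    exact ⟨_, ⟨A, hA, rfl⟩⟩
  · intro A hA B hB
    exact conj_of_reach (hconn' A hA B hB)

theorem conjBy_le_of_le {A K : Subgroup H} (hA : A ≤ K) {x : H} (hx : x ∈ K) :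
    conjBy A x ≤ K := by
  intro y hy
  rw [mem_conjBy] at hy
  have : y = x * (x⁻¹ * y * x) * x⁻¹ := by group
  rw [this]
  exact K.mul_mem (K.mul_mem hx (hA hy)) (K.inv_mem hx)

theorem special_subgroupOf' {A B K : Subgroup H} (hA : A ≤ K) (hB : B ≤ K)
    (h : IsSpecialRankOnePair A B) : IsSpecialRankOnePair (A.subgroupOf K) (B.subgroupOf K) := by
  refine ⟨rop_subgroupOf h.1 hA hB, ?_⟩
  intro a ha ha1 b hb hb1 hrel
  apply Subtype.ext
  have ha' : (a : H) ∈ A := Subgroup.mem_subgroupOf.mp ha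
  have hb' : (b : H) ∈ B := Subgroup.mem_subgroupOf.mp hb
  have hrel' : conjBy A (b : H)⁻¹ = conjBy B (a : H)⁻¹ := by
    rw [conjBy_subgroupOf, conjBy_subgroupOf] at hrel
    have h0 := Subgroup.subgroupOf_inj.mp hrel
    have h1 : conjBy A ((b⁻¹ : ↥K) : H) ≤ K := conjBy_le_of_le hA (b⁻¹).2
    have h2 : conjBy B ((a⁻¹ : ↥K) : H) ≤ K := conjBy_le_of_le hB (a⁻¹).2
    rw [inf_of_le_left h1, inf_of_le_left h2] at h0
    simpa using h0
  have := h.2 a ha' (fun e => ha1 (Subtype.ext e)) b hb' (fun e => hb1 (Subtype.ext e)) hrel'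
  simpa using this

end qp35

end Cfsg.Agent.Lib.helper85
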