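import Mathlib
import Cfsg.Prelude.Def_RootSubgroups

set_option autoImplicit false
set_option linter.unusedVariables false
set_option linter.unusedSimpArgs false

namespace Cfsg.Agent.Lib.helper85

section qp36
variable {k : Type*} [Field k] {M : Type*} [AddCommGroup M] [Module k M]

theorem gl_mul_apply (g h : LinearMap.GeneralLinearGroup k M) (m : M) :
    ((g * h : LinearMap.GeneralLinearGroup k M) : Module.End k M) m =
      (g : Module.End k M) ((h : Module.End k M) m) := by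
  rw [Units.val_mul, Module.End.mul_apply]

theorem gl_inv_apply_self (g : LinearMap.GeneralLinearGroup k M) (m : M) :
    ((g⁻¹ : LinearMap.GeneralLinearGroup k M) : Module.End k M) ((g : Module.End k M) m) = m := by
  rw [← gl_mul_apply, inv_mul_cancel, Units.val_one, Module.End.one_apply]

theorem gl_fix_inv {g : LinearMap.GeneralLinearGroup k M} {m : M}
    (h : (g : Module.End k M) m = m) :
    ((g⁻¹ : LinearMap.GeneralLinearGroup k M) : Module.End k M) m = m := by
  conv_lhs => rw [← h]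
  exact gl_inv_apply_self g m

theorem gl_conj_sq {g a : LinearMap.GeneralLinearGroup k M}
    (hsq : ((a : Module.End k M) - 1) * ((a : Module.End k M) - 1) = 0) :
    (((g * a * g⁻¹ : LinearMap.GeneralLinearGroup k M) : Module.End k M) - 1) *
      (((g * a * g⁻¹ : LinearMap.GeneralLinearGroup k M) : Module.End k M) - 1) = 0 := by
  have e : ((g * a * g⁻¹ : LinearMap.GeneralLinearGroup k M) : Module.End k M) - 1 =
      (g : Module.End k M) * ((a : Module.End k M) - 1) *
        ((g⁻¹ : LinearMap.GeneralLinearGroup k M) : Module.End k M) := by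
    rw [Units.val_mul, Units.val_mul, mul_sub, sub_mul, mul_one, Units.mul_inv]
  rw [e]
  calc (g : Module.End k M) * ((a : Module.End k M) - 1) *
        ((g⁻¹ : LinearMap.GeneralLinearGroup k M) : Module.End k M) *
        ((g : Module.End k M) * ((a : Module.End k M) - 1) *
        ((g⁻¹ : LinearMap.GeneralLinearGroup k M) : Module.End k M))
      = (g : Module.End k M) * (((a : Module.End k M) - 1) *
        (((g⁻¹ : LinearMap.GeneralLinearGroup k M) : Module.End k M) * (g : Module.End k M)) *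
        ((a : Module.End k M) - 1)) *
        ((g⁻¹ : LinearMap.GeneralLinearGroup k M) : Module.End k M) := by
        simp only [mul_assoc]
    _ = 0 := by rw [Units.inv_mul, mul_one, hsq, mul_zero, zero_mul]

theorem qp_cube_zero {X Y : Module.End k M} (hX : X * X = 0) (hY : Y * Y = 0)
    (hXY : X * Y = Y * X) :
    ((1 + X) * (1 - Y) - 1) * ((1 + X) * (1 - Y) - 1) * ((1 + X) * (1 - Y) - 1) = 0 := by
  have r1 : ∀ m : M, X (X m) = 0 := fun m => by
    have := congrArg (fun f : Module.End k M => f m) hX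
    simpa [Module.End.mul_apply] using this
  have r2 : ∀ m : M, Y (Y m) = 0 := fun m => by
    have := congrArg (fun f : Module.End k M => f m) hY
    simpa [Module.End.mul_apply] using this
  have r3 : ∀ m : M, Y (X m) = X (Y m) := fun m => by
    have := congrArg (fun f : Module.End k M => f m) hXY
    simpa [Module.End.mul_apply] using this.symm
  refine LinearMap.ext fun m => ?_
  simp only [Module.End.mul_apply, LinearMap.add_apply, LinearMap.sub_apply, LinearMap.neg_apply,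
    Module.End.one_apply, LinearMap.zero_apply, map_add, map_sub, map_neg, map_zero, sub_zero,
    zero_sub, add_zero, zero_add, neg_zero, neg_neg, sub_self, r1, r2, r3]

/-- common kernel of a commuting family of operators with vanishing cubes on a nonzero
invariant subspace -/
theorem common_ker_aux [FiniteDimensional k M] (U : Set (Module.End k M))
    (hcomm : ∀ u ∈ U, ∀ v ∈ U, u * v = v * u) (hnil : ∀ u ∈ U, u * u * u = 0) :
    ∀ n : ℕ, ∀ L : Submodule k M, Module.finrank k L = n → L ≠ ⊥ →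
      (∀ u ∈ U, ∀ x ∈ L, u x ∈ L) → ∃ x ∈ L, x ≠ 0 ∧ ∀ u ∈ U, u x = 0 := by
  intro n
  induction n using Nat.strong_induction_on with
  | _ n ih =>
    intro L hn hL hinv
    by_cases hall : ∀ u ∈ U, ∀ x ∈ L, u x = 0
    · obtain ⟨x, hx, hx0⟩ := Submodule.exists_mem_ne_zero_of_ne_bot hL
      exact ⟨x, hx, hx0, fun u hu => hall u hu x hx⟩
    · push Not at hall
      obtain ⟨u₀, hu₀, x₀, hx₀, hne⟩ := hall
      have hlt : L ⊓ LinearMap.ker u₀ < L := by
        refine lt_of_le_of_ne inf_le_left ?_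
        intro e
        have h1 : x₀ ∈ L ⊓ LinearMap.ker u₀ := by rw [e]; exact hx₀
        exact hne (LinearMap.mem_ker.mp (Submodule.mem_inf.mp h1).2)
      have hne' : L ⊓ LinearMap.ker u₀ ≠ ⊥ := by
        have h3 : u₀ (u₀ (u₀ x₀)) = 0 := by
          have := congrArg (fun f : Module.End k M => f x₀) (hnil u₀ hu₀)
          simpa [Module.End.mul_apply] using this
        by_cases h2 : u₀ (u₀ x₀) = 0
        · intro e
          have h1 : u₀ x₀ ∈ L ⊓ LinearMap.ker u₀ :=
            Submodule.mem_inf.mpr ⟨hinv u₀ hu₀ x₀ hx₀, LinearMap.mem_ker.mpr h2⟩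
          rw [e, Submodule.mem_bot] at h1
          exact hne h1
        · intro e
          have h1 : u₀ (u₀ x₀) ∈ L ⊓ LinearMap.ker u₀ :=
            Submodule.mem_inf.mpr ⟨hinv u₀ hu₀ _ (hinv u₀ hu₀ x₀ hx₀), LinearMap.mem_ker.mpr h3⟩
          rw [e, Submodule.mem_bot] at h1
          exact h2 h1
      have hinv' : ∀ u ∈ U, ∀ x ∈ L ⊓ LinearMap.ker u₀, u x ∈ L ⊓ LinearMap.ker u₀ := by
        intro u hu x hx
        obtain ⟨hx1, hx2⟩ := Submodule.mem_inf.mp hx
        refine Submodule.mem_inf.mpr ⟨hinv u hu x hx1, ?_⟩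
        rw [LinearMap.mem_ker]
        have h1 : u₀ (u x) = u (u₀ x) := by
          have := congrArg (fun f : Module.End k M => f x) (hcomm u₀ hu₀ u hu)
          simpa [Module.End.mul_apply] using this
        rw [h1, LinearMap.mem_ker.mp hx2, map_zero]
      have hlt' : Module.finrank k ↥(L ⊓ LinearMap.ker u₀) < n := by
        rw [← hn]; exact Submodule.finrank_lt_finrank_of_lt hlt
      obtain ⟨x, hx, hx0, hxu⟩ := ih _ hlt' _ rfl hne' hinv'
      exact ⟨x, (Submodule.mem_inf.mp hx).1, hx0, hxu⟩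

/-- a minimal nonzero invariant subspace -/
theorem exists_min_invariant [FiniteDimensional k M] (N : Subgroup (LinearMap.GeneralLinearGroup k M))
    (hM : ∃ m : M, m ≠ 0) :
    ∃ L : Submodule k M, L ≠ ⊥ ∧ (∀ n ∈ N, ∀ x ∈ L, (n : Module.End k M) x ∈ L) ∧
      ∀ L' : Submodule k M, L' ≤ L → L' ≠ ⊥ →
        (∀ n ∈ N, ∀ x ∈ L', (n : Module.End k M) x ∈ L') → L' = L := by
  classical
  have hex : ∃ d : ℕ, ∃ L : Submodule k M, L ≠ ⊥ ∧
      (∀ n ∈ N, ∀ x ∈ L, (n : Module.End k M) x ∈ L) ∧ Module.finrank k L = d := by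
    refine ⟨_, ⊤, ?_, fun _ _ _ _ => Submodule.mem_top, rfl⟩
    obtain ⟨m, hm⟩ := hM
    intro h
    have : m ∈ (⊤ : Submodule k M) := Submodule.mem_top
    rw [h, Submodule.mem_bot] at this
    exact hm this
  obtain ⟨L, hL, hinv, hd⟩ := Nat.find_spec hex
  refine ⟨L, hL, hinv, ?_⟩
  intro L' hle hL' hinv'
  have hmin := Nat.find_min' hex ⟨L', hL', hinv', rfl⟩
  rw [← hd] at hmin
  exact Submodule.eq_of_le_of_finrank_le hle hmin

/-- the commutators of a normal subgroup with a suitable quadratic element act trivially on a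
minimal invariant subspace -/
theorem normal_fix_min [FiniteDimensional k M] {N : Subgroup (LinearMap.GeneralLinearGroup k M)}
    {b : LinearMap.GeneralLinearGroup k M}
    (hbN : ∀ n ∈ N, b * n * b⁻¹ ∈ N)
    (hsq : ((b : Module.End k M) - 1) * ((b : Module.End k M) - 1) = 0)
    (hc : ∀ n ∈ N, (n * b * n⁻¹) * b = b * (n * b * n⁻¹))
    {L : Submodule k M} (hL : L ≠ ⊥) (hinv : ∀ n ∈ N, ∀ x ∈ L, (n : Module.End k M) x ∈ L)
    (hmin : ∀ L' : Submodule k M, L' ≤ L → L' ≠ ⊥ →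
        (∀ n ∈ N, ∀ x ∈ L', (n : Module.End k M) x ∈ L') → L' = L) :
    ∀ n ∈ N, ∀ l ∈ L,
      ((n * b * n⁻¹ * b⁻¹ : LinearMap.GeneralLinearGroup k M) : Module.End k M) l = l := by
  have hqN : ∀ n ∈ N, n * b * n⁻¹ * b⁻¹ ∈ N := by
    intro n hn
    have h1 := hbN n⁻¹ (N.inv_mem hn)
    have h2 : n * b * n⁻¹ * b⁻¹ = n * (b * n⁻¹ * b⁻¹) := by group
    rw [h2]
    exact N.mul_mem hn h1
  have hcc : ∀ n ∈ N, ∀ n' ∈ N, Commute (n * b * n⁻¹) (n' * b * n'⁻¹) := by
    intro n hn n' hn'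
    have h := hc (n'⁻¹ * n) (N.mul_mem (N.inv_mem hn') hn)
    show (n * b * n⁻¹) * (n' * b * n'⁻¹) = (n' * b * n'⁻¹) * (n * b * n⁻¹)
    calc (n * b * n⁻¹) * (n' * b * n'⁻¹)
        = n' * (((n'⁻¹ * n) * b * (n'⁻¹ * n)⁻¹) * b) * n'⁻¹ := by group
      _ = n' * (b * ((n'⁻¹ * n) * b * (n'⁻¹ * n)⁻¹)) * n'⁻¹ := by rw [h]
      _ = (n' * b * n'⁻¹) * (n * b * n⁻¹) := by group
  have hcb : ∀ n ∈ N, Commute (n * b * n⁻¹) b := fun n hn => hc n hn
  have hqq : ∀ n ∈ N, ∀ n' ∈ N, Commute (n * b * n⁻¹ * b⁻¹) (n' * b * n'⁻¹ * b⁻¹) := by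
    intro n hn n' hn'
    have h1 : Commute (n * b * n⁻¹) (n' * b * n'⁻¹ * b⁻¹) :=
      (hcc n hn n' hn').mul_right (hcb n hn).inv_right
    have h2 : Commute b⁻¹ (n' * b * n'⁻¹ * b⁻¹) :=
      ((hcb n' hn').symm.inv_left).mul_right (Commute.refl _)
    exact h1.mul_left h2
  obtain ⟨U, hU⟩ : ∃ U : Set (Module.End k M), U = {u | ∃ n ∈ N,
      u = ((n * b * n⁻¹ * b⁻¹ : LinearMap.GeneralLinearGroup k M) : Module.End k M) - 1} :=
    ⟨_, rfl⟩
  have hUc : ∀ u ∈ U, ∀ v ∈ U, u * v = v * u := by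
    intro u hu v hv
    rw [hU] at hu hv
    obtain ⟨n, hn, rfl⟩ := hu
    obtain ⟨n', hn', rfl⟩ := hv
    have h : ((n * b * n⁻¹ * b⁻¹ : LinearMap.GeneralLinearGroup k M) : Module.End k M) *
        ((n' * b * n'⁻¹ * b⁻¹ : LinearMap.GeneralLinearGroup k M) : Module.End k M) =
        ((n' * b * n'⁻¹ * b⁻¹ : LinearMap.GeneralLinearGroup k M) : Module.End k M) *
        ((n * b * n⁻¹ * b⁻¹ : LinearMap.GeneralLinearGroup k M) : Module.End k M) := by
      rw [← Units.val_mul, ← Units.val_mul, (hqq n hn n' hn').eq]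
    generalize ((n * b * n⁻¹ * b⁻¹ : LinearMap.GeneralLinearGroup k M) : Module.End k M) = P at h ⊢
    generalize ((n' * b * n'⁻¹ * b⁻¹ : LinearMap.GeneralLinearGroup k M) : Module.End k M) = Q
      at h ⊢
    calc (P - 1) * (Q - 1) = P * Q - P - Q + 1 := by noncomm_ring
      _ = Q * P - P - Q + 1 := by rw [h]
      _ = (Q - 1) * (P - 1) := by noncomm_ring
  have hbY : ((b⁻¹ : LinearMap.GeneralLinearGroup k M) : Module.End k M) =
      1 - ((b : Module.End k M) - 1) := by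
    apply Units.inv_eq_of_mul_eq_one_right
    calc (b : Module.End k M) * (1 - ((b : Module.End k M) - 1))
        = 1 - ((b : Module.End k M) - 1) * ((b : Module.End k M) - 1) := by noncomm_ring
      _ = 1 := by rw [hsq, sub_zero]
  have hUn : ∀ u ∈ U, u * u * u = 0 := by
    intro u hu
    rw [hU] at hu
    obtain ⟨n, hn, rfl⟩ := hu
    have hX := gl_conj_sq (g := n) hsq
    have hXY : (((n * b * n⁻¹ : LinearMap.GeneralLinearGroup k M) : Module.End k M) - 1) *
        ((b : Module.End k M) - 1) = ((b : Module.End k M) - 1) *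
        (((n * b * n⁻¹ : LinearMap.GeneralLinearGroup k M) : Module.End k M) - 1) := by
      have h : ((n * b * n⁻¹ : LinearMap.GeneralLinearGroup k M) : Module.End k M) *
          (b : Module.End k M) = (b : Module.End k M) *
          ((n * b * n⁻¹ : LinearMap.GeneralLinearGroup k M) : Module.End k M) := by
        rw [← Units.val_mul, ← Units.val_mul, (hcb n hn).eq]
      generalize ((n * b * n⁻¹ : LinearMap.GeneralLinearGroup k M) : Module.End k M) = P at h ⊢
      generalize (b : Module.End k M) = Q at h ⊢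
      calc (P - 1) * (Q - 1) = P * Q - P - Q + 1 := by noncomm_ring
        _ = Q * P - P - Q + 1 := by rw [h]
        _ = (Q - 1) * (P - 1) := by noncomm_ring
    have e : ((n * b * n⁻¹ * b⁻¹ : LinearMap.GeneralLinearGroup k M) : Module.End k M) - 1 =
        (1 + (((n * b * n⁻¹ : LinearMap.GeneralLinearGroup k M) : Module.End k M) - 1)) *
          (1 - ((b : Module.End k M) - 1)) - 1 := by
      rw [Units.val_mul (n * b * n⁻¹) b⁻¹, hbY, add_sub_cancel]
    rw [e]
    exact qp_cube_zero hX hsq hXY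
  have hUinv : ∀ u ∈ U, ∀ x ∈ L, u x ∈ L := by
    intro u hu x hx
    rw [hU] at hu
    obtain ⟨n, hn, rfl⟩ := hu
    rw [LinearMap.sub_apply, Module.End.one_apply]
    exact L.sub_mem (hinv _ (hqN n hn) x hx) hx
  obtain ⟨x, hxL, hx0, hxU⟩ := common_ker_aux U hUc hUn _ L rfl hL hUinv
  obtain ⟨F, hF⟩ : ∃ F : Submodule k M, F = L ⊓ ⨅ n ∈ N, LinearMap.ker
      (((n * b * n⁻¹ * b⁻¹ : LinearMap.GeneralLinearGroup k M) : Module.End k M) - 1) :=
    ⟨_, rfl⟩
  have hmemF : ∀ m : M, m ∈ F ↔ m ∈ L ∧ ∀ n ∈ N,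
      ((n * b * n⁻¹ * b⁻¹ : LinearMap.GeneralLinearGroup k M) : Module.End k M) m = m := by
    intro m
    rw [hF]
    simp only [Submodule.mem_inf, Submodule.mem_iInf, LinearMap.mem_ker, LinearMap.sub_apply,
      Module.End.one_apply, sub_eq_zero]
  have hFL : F = L := by
    apply hmin F
    · rw [hF]; exact inf_le_left
    · intro e
      have h1 : x ∈ F := by
        rw [hmemF]
        refine ⟨hxL, fun n hn => ?_⟩
        have := hxU _ (by rw [hU]; exact ⟨n, hn, rfl⟩)
        rwa [LinearMap.sub_apply, Module.End.one_apply, sub_eq_zero] at this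
      rw [e, Submodule.mem_bot] at h1
      exact hx0 h1
    · intro n' hn' m hm
      rw [hmemF] at hm ⊢
      refine ⟨hinv n' hn' m hm.1, fun n hn => ?_⟩
      have h1 := hm.2 (n'⁻¹ * n) (N.mul_mem (N.inv_mem hn') hn)
      have h2 := gl_fix_inv (hm.2 n'⁻¹ (N.inv_mem hn'))
      have h3 : n * b * n⁻¹ * b⁻¹ * n' =
          n' * ((n'⁻¹ * n) * b * (n'⁻¹ * n)⁻¹ * b⁻¹) * (n'⁻¹ * b * n'⁻¹⁻¹ * b⁻¹)⁻¹ := by group
      rw [← gl_mul_apply, h3, gl_mul_apply, gl_mul_apply, h2, h1]
  intro n hn l hl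
  rw [← hFL, hmemF] at hl
  exact hl.2 n hn

/-- Let `N` be normalized by the irreducible group `G` and let `a ∈ G` be quadratic such that
`a` commutes with all its conjugates under `N`. Then `N` centralizes `a`. -/
theorem normal_centralizes [FiniteDimensional k M]
    {G N : Subgroup (LinearMap.GeneralLinearGroup k M)}
    (hirr : Cfsg.IsIrreducibleFor G)
    (hNG : ∀ g ∈ G, ∀ n ∈ N, g * n * g⁻¹ ∈ N)
    {a : LinearMap.GeneralLinearGroup k M} (ha : a ∈ G)
    (hsq : ((a : Module.End k M) - 1) * ((a : Module.End k M) - 1) = 0)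
    (hc : ∀ n ∈ N, (n * a * n⁻¹) * a = a * (n * a * n⁻¹)) :
    ∀ n ∈ N, n * a = a * n := by
  obtain ⟨L, hL, hinv, hmin⟩ := exists_min_invariant N hirr.1
  obtain ⟨F, hF⟩ : ∃ F : Submodule k M, F = ⨅ g ∈ G, ⨅ n ∈ N, LinearMap.ker
      (((n * (g * a * g⁻¹) * n⁻¹ * (g * a * g⁻¹)⁻¹ : LinearMap.GeneralLinearGroup k M) :
        Module.End k M) - 1) := ⟨_, rfl⟩
  have hmemF : ∀ m : M, m ∈ F ↔ ∀ g ∈ G, ∀ n ∈ N,
      ((n * (g * a * g⁻¹) * n⁻¹ * (g * a * g⁻¹)⁻¹ : LinearMap.GeneralLinearGroup k M) :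
        Module.End k M) m = m := by
    intro m
    rw [hF]
    simp only [Submodule.mem_iInf, LinearMap.mem_ker, LinearMap.sub_apply,
      Module.End.one_apply, sub_eq_zero]
  have hLF : L ≤ F := by
    intro l hl
    rw [hmemF]
    intro g hg n hn
    have hbG : g * a * g⁻¹ ∈ G := G.mul_mem (G.mul_mem hg ha) (G.inv_mem hg)
    refine normal_fix_min (b := g * a * g⁻¹) (fun n hn => hNG _ hbG n hn) (gl_conj_sq hsq) ?_ hL
      hinv hmin n hn l hl
    intro n hn
    have hmem : g⁻¹ * n * g ∈ N := by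
      have := hNG g⁻¹ (G.inv_mem hg) n hn
      rwa [inv_inv] at this
    have h := hc _ hmem
    calc n * (g * a * g⁻¹) * n⁻¹ * (g * a * g⁻¹)
        = g * (((g⁻¹ * n * g) * a * (g⁻¹ * n * g)⁻¹) * a) * g⁻¹ := by group
      _ = g * (a * ((g⁻¹ * n * g) * a * (g⁻¹ * n * g)⁻¹)) * g⁻¹ := by rw [h]
      _ = (g * a * g⁻¹) * (n * (g * a * g⁻¹) * n⁻¹) := by group
  have hFinv : ∀ h ∈ G, ∀ w ∈ F, (h : M →ₗ[k] M) w ∈ F := by
    intro h hh w hw
    rw [hmemF] at hw ⊢
    intro g hg n hn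
    have hmem : h⁻¹ * n * h ∈ N := by
      have := hNG h⁻¹ (G.inv_mem hh) n hn
      rwa [inv_inv] at this
    have h1 := hw (h⁻¹ * g) (G.mul_mem (G.inv_mem hh) hg) _ hmem
    have h3 : n * (g * a * g⁻¹) * n⁻¹ * (g * a * g⁻¹)⁻¹ * h =
        h * ((h⁻¹ * n * h) * ((h⁻¹ * g) * a * (h⁻¹ * g)⁻¹) * (h⁻¹ * n * h)⁻¹ *
          ((h⁻¹ * g) * a * (h⁻¹ * g)⁻¹)⁻¹) := by group
    rw [← gl_mul_apply, h3, gl_mul_apply, h1]
  have hFtop : F = ⊤ := by
    rcases hirr.2 F hFinv with h | h
    · exfalso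
      apply hL
      rw [eq_bot_iff, ← h]
      exact hLF
    · exact h
  intro n hn
  have h1 : ∀ m : M, ((n * (1 * a * 1⁻¹) * n⁻¹ * (1 * a * 1⁻¹)⁻¹ :
      LinearMap.GeneralLinearGroup k M) : Module.End k M) m = m := by
    intro m
    have hm : m ∈ F := by rw [hFtop]; exact Submodule.mem_top
    exact (hmemF m).mp hm 1 G.one_mem n hn
  have h2 : n * (1 * a * 1⁻¹) * n⁻¹ * (1 * a * 1⁻¹)⁻¹ = 1 := by
    apply Units.ext
    apply LinearMap.ext
    intro m
    rw [h1 m, Units.val_one, Module.End.one_apply]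
  calc n * a = (n * (1 * a * 1⁻¹) * n⁻¹ * (1 * a * 1⁻¹)⁻¹) * (a * n) := by group
    _ = a * n := by rw [h2, one_mul]

end qp36

end Cfsg.Agent.Lib.helper85
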