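import Cfsg.Agent.Lib.helper85.QP33
import Cfsg.Agent.Lib.helper85.QP34
import Cfsg.Agent.Lib.helper85.QP35
import Cfsg.Agent.Lib.helper85.QP36

set_option autoImplicit false
set_option linter.unusedVariables false
set_option linter.unusedSimpArgs false

namespace Cfsg.Agent.Lib.helper85

open Cfsg
open scoped commutatorElement

universe u v

section qp37gen
variable {H : Type*} [Group H] {S : Set (Subgroup H)}

theorem comp_outside_centralizer (hamb : RootAmb S) (A₀ : Subgroup H) {B : Subgroup H}
    (hB : B ∈ S) (hBc : B ∉ componentOf (FAdj S) S A₀) :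
    B ≤ Subgroup.centralizer
      ((⨆ A ∈ componentOf (FAdj S) S A₀, A : Subgroup H) : Set H) := by
  rw [Subgroup.le_centralizer_iff]
  refine iSup₂_le fun A hA => ?_
  exact Subgroup.commutator_eq_bot_iff_le_centralizer.mp (amb_comp_comm hamb A₀ hA hB hBc)

theorem qp_comp_eq {A₁ A₂ B : Subgroup H} (h1 : B ∈ componentOf (FAdj S) S A₁)
    (h2 : B ∈ componentOf (FAdj S) S A₂) :
    componentOf (FAdj S) S A₁ = componentOf (FAdj S) S A₂ :=
  (component_eq_of_reach h1.2).trans (component_eq_of_reach h2.2).symm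

end qp37gen

section qp37
variable {k : Type u} [Field k] {M : Type u} [AddCommGroup M] [Module k M]
variable {G : Subgroup (LinearMap.GeneralLinearGroup k M)}

/-- the root subgroups of a quadratic pair satisfy the ambient axioms -/
theorem qp_amb [FiniteDimensional k M] (hk2 : ringChar k ≠ 2) (hk3 : Nat.card k ≠ 3)
    (hG : Cfsg.IsQuadraticPair G) : RootAmb (Cfsg.quadraticRootSubgroups G) := by
  refine ⟨?_, ?_, ?_, ?_, ?_⟩
  · rintro _ ⟨σ, hσ, rfl⟩
    exact qp_same_comm hσ
  · rintro _ ⟨σ, hσ, rfl⟩ h
    have h1 : σ ∈ Cfsg.sameActionSubgroup G σ := Subgroup.subset_closure (qp_self_class hσ)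
    rw [h, Subgroup.mem_bot] at h1
    apply hσ.1.2.1.2
    rw [h1, Units.val_one, sub_self]
  · rintro _ ⟨σ, hσ, rfl⟩ g hg
    have hgG := qp_root_sup_le G hg
    exact ⟨g * σ * g⁻¹, qp_conj_min hσ hgG, qp_conjBy_same hσ hgG⟩
  · rintro _ ⟨σ, hσ, rfl⟩ _ ⟨τ, hτ, rfl⟩
    rcases qp_tricho hk2 hk3 hG hσ hτ with ⟨-, h | h⟩ | ⟨-, h⟩
    · exact Or.inl h
    · exact Or.inr (Or.inr h)
    · exact Or.inr (Or.inl h)
  · rintro _ ⟨σ, hσ, rfl⟩
    obtain ⟨τ, hτ, hnn⟩ := qp_partner_exists hk2 hk3 hG hσ
    rcases qp_tricho hk2 hk3 hG hσ hτ with ⟨hz, -⟩ | ⟨-, h⟩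
    · exact (hnn hz).elim
    · exact ⟨_, ⟨τ, hτ, rfl⟩, h⟩

theorem qp_G_le [FiniteDimensional k M] (hk2 : ringChar k ≠ 2) (hk3 : Nat.card k ≠ 3)
    (hG : Cfsg.IsQuadraticPair G) (X : Subgroup (LinearMap.GeneralLinearGroup k M))
    (h1 : ∀ B ∈ Cfsg.quadraticRootSubgroups G, B ≤ X)
    (h2 : G ⊓ Subgroup.centralizer ((⨆ A ∈ Cfsg.quadraticRootSubgroups G, A :
        Subgroup (LinearMap.GeneralLinearGroup k M)) : Set (LinearMap.GeneralLinearGroup k M)) ≤ X) :
    G ≤ X :=
  le_trans (le_of_eq (qp_cocentral_final hk2 hk3 hG).symm) (sup_le (iSup₂_le h1) h2)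

theorem qp_root_sq [FiniteDimensional k M] {A : Subgroup (LinearMap.GeneralLinearGroup k M)}
    (hA : A ∈ Cfsg.quadraticRootSubgroups G) {a : LinearMap.GeneralLinearGroup k M} (ha : a ∈ A) :
    ((a : Module.End k M) - 1) * ((a : Module.End k M) - 1) = 0 := by
  obtain ⟨σ, hσ, rfl⟩ := hA
  rcases (qp_same_mem hσ a).mp ha with h | rfl
  · exact h.1.1.2.1.1
  · rw [Units.val_one, sub_self, mul_zero]

/-- `G` preserves every component under conjugation -/
theorem qp_G_stab [FiniteDimensional k M] (hk2 : ringChar k ≠ 2) (hk3 : Nat.card k ≠ 3)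
    (hG : Cfsg.IsQuadraticPair G) (A₀ : Subgroup (LinearMap.GeneralLinearGroup k M)) :
    G ≤ stabFam (componentOf (FAdj (Cfsg.quadraticRootSubgroups G))
      (Cfsg.quadraticRootSubgroups G) A₀) := by
  have hamb := qp_amb hk2 hk3 hG
  have hfix : ∀ g : LinearMap.GeneralLinearGroup k M,
      (∀ A ∈ componentOf (FAdj (Cfsg.quadraticRootSubgroups G)) (Cfsg.quadraticRootSubgroups G) A₀,
        ∀ a ∈ A, g * a = a * g) →
      g ∈ stabFam (componentOf (FAdj (Cfsg.quadraticRootSubgroups G))
        (Cfsg.quadraticRootSubgroups G) A₀) := by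
    intro g hg
    rw [mem_stabFam]
    intro A hA
    have e1 : conjBy A g = A := conjBy_eq_self_of_commute (hg A hA)
    have e2 : conjBy A g⁻¹ = A := conjBy_eq_self_of_commute (fun a ha => by
      have := hg A hA a ha
      calc g⁻¹ * a = g⁻¹ * (a * g) * g⁻¹ := by group
        _ = g⁻¹ * (g * a) * g⁻¹ := by rw [this]
        _ = a * g⁻¹ := by group)
    rw [e1, e2]; exact ⟨hA, hA⟩
  refine qp_G_le hk2 hk3 hG _ ?_ ?_
  · intro B hB
    by_cases hBc : B ∈ componentOf (FAdj (Cfsg.quadraticRootSubgroups G))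
        (Cfsg.quadraticRootSubgroups G) A₀
    · exact (le_biSup (fun B => B) hBc).trans (amb_comp_stab hamb A₀)
    · intro b hb
      apply hfix
      intro A hA a ha
      have := comp_outside_centralizer hamb A₀ hB hBc hb
      rw [Subgroup.mem_centralizer_iff] at this
      exact (this a ((le_biSup (fun B => B) hA) ha)).symm
  · intro g hg
    apply hfix
    intro A hA a ha
    have := (Subgroup.mem_inf.mp hg).2
    rw [Subgroup.mem_centralizer_iff] at this
    exact (this a ((le_biSup (fun B => B) hA.1) ha)).symm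

/-- a subgroup of a component subgroup normalized by it is normalized by `G` -/
theorem qp_G_norm [FiniteDimensional k M] (hk2 : ringChar k ≠ 2) (hk3 : Nat.card k ≠ 3)
    (hG : Cfsg.IsQuadraticPair G) (A₀ : Subgroup (LinearMap.GeneralLinearGroup k M))
    {N₁ : Subgroup (LinearMap.GeneralLinearGroup k M)}
    (hle : N₁ ≤ ⨆ A ∈ componentOf (FAdj (Cfsg.quadraticRootSubgroups G))
      (Cfsg.quadraticRootSubgroups G) A₀, A)
    (hnorm : ∀ x ∈ (⨆ A ∈ componentOf (FAdj (Cfsg.quadraticRootSubgroups G))
      (Cfsg.quadraticRootSubgroups G) A₀, A), ∀ n ∈ N₁, x * n * x⁻¹ ∈ N₁) :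
    ∀ g ∈ G, ∀ n ∈ N₁, g * n * g⁻¹ ∈ N₁ := by
  have hamb := qp_amb hk2 hk3 hG
  have key : G ≤ Subgroup.normalizer (N₁ : Set (LinearMap.GeneralLinearGroup k M)) := by
    have hcen : ∀ g : LinearMap.GeneralLinearGroup k M, (∀ n ∈ N₁, g * n = n * g) →
        g ∈ Subgroup.normalizer (N₁ : Set (LinearMap.GeneralLinearGroup k M)) := by
      intro g hg
      rw [Subgroup.mem_normalizer_iff]
      intro n
      constructor
      · intro hn
        have : g * n * g⁻¹ = n := by rw [hg n hn]; group
        rw [this]; exact hn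
      · intro hn
        have e := hg _ hn
        have e2 : g * (g * n * g⁻¹) = g * n := by rw [e]; group
        have e3 : n = g * n * g⁻¹ := (mul_left_cancel e2).symm
        rw [e3]; exact hn
    refine qp_G_le hk2 hk3 hG _ ?_ ?_
    · intro B hB
      by_cases hBc : B ∈ componentOf (FAdj (Cfsg.quadraticRootSubgroups G))
          (Cfsg.quadraticRootSubgroups G) A₀
      · intro b hb
        have hbK := (le_biSup (fun B => B) hBc) hb
        rw [Subgroup.mem_normalizer_iff]
        intro n
        constructor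
        · exact fun hn => hnorm b hbK n hn
        · intro hn
          have := hnorm b⁻¹ (inv_mem hbK) _ hn
          have e : b⁻¹ * (b * n * b⁻¹) * b⁻¹⁻¹ = n := by group
          rwa [e] at this
      · intro b hb
        apply hcen
        intro n hn
        have := comp_outside_centralizer hamb A₀ hB hBc hb
        rw [Subgroup.mem_centralizer_iff] at this
        exact (this n (hle hn)).symm
    · intro g hg
      apply hcen
      intro n hn
      have := (Subgroup.mem_inf.mp hg).2
      rw [Subgroup.mem_centralizer_iff] at this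
      refine (this n ?_).symm
      have hsub : (⨆ A ∈ componentOf (FAdj (Cfsg.quadraticRootSubgroups G))
          (Cfsg.quadraticRootSubgroups G) A₀, A) ≤ ⨆ A ∈ Cfsg.quadraticRootSubgroups G, A :=
        iSup₂_le fun A hA => le_biSup (fun B => B) hA.1
      exact hsub (hle hn)
  intro g hg n hn
  exact (Subgroup.mem_normalizer_iff.mp (key hg) n).mp hn

/-- nonzero products of elements from different components -/
theorem qp_fin_aux [FiniteDimensional k M] (hk2 : ringChar k ≠ 2) (hk3 : Nat.card k ≠ 3)
    (hG : Cfsg.IsQuadraticPair G) :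
    ∀ l : List (Set (Subgroup (LinearMap.GeneralLinearGroup k M))), l.Nodup →
      (∀ c ∈ l, ∃ A ∈ Cfsg.quadraticRootSubgroups G,
        c = componentOf (FAdj (Cfsg.quadraticRootSubgroups G)) (Cfsg.quadraticRootSubgroups G) A) →
      ∃ P : Module.End k M, P ≠ 0 ∧
        (∀ A₁ ∈ Cfsg.quadraticRootSubgroups G,
          componentOf (FAdj (Cfsg.quadraticRootSubgroups G)) (Cfsg.quadraticRootSubgroups G) A₁ ∉ l →
          ∀ A ∈ componentOf (FAdj (Cfsg.quadraticRootSubgroups G)) (Cfsg.quadraticRootSubgroups G) A₁,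
          ∀ x ∈ A, (x : Module.End k M) * P = P * (x : Module.End k M)) ∧
        Module.finrank k (LinearMap.range P) + l.length ≤ Module.finrank k M := by
  have hamb := qp_amb hk2 hk3 hG
  intro l
  induction l with
  | nil =>
    intro _ _
    refine ⟨1, ?_, fun _ _ _ _ _ _ _ => by rw [mul_one, one_mul], ?_⟩
    · obtain ⟨m, hm⟩ := hG.1.1
      intro h
      apply hm
      have := congrArg (fun f : Module.End k M => f m) h
      simpa using this
    · simp only [List.length_nil, add_zero]
      exact Submodule.finrank_le _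
  | cons c l ih =>
    intro hnd hmem
    rw [List.nodup_cons] at hnd
    obtain ⟨P, hP0, hPc, hPr⟩ := ih hnd.2 (fun c' hc' => hmem c' (List.mem_cons_of_mem _ hc'))
    obtain ⟨A₁, hA₁, hcA⟩ := hmem c List.mem_cons_self
    subst hcA
    have hPc1 := hPc A₁ hA₁ hnd.1
    have hex : ∃ A ∈ componentOf (FAdj (Cfsg.quadraticRootSubgroups G))
        (Cfsg.quadraticRootSubgroups G) A₁, ∃ x ∈ A, ((x : Module.End k M) - 1) * P ≠ 0 := by
      by_contra hcon
      push Not at hcon
      obtain ⟨Kc, hKc⟩ : ∃ Kc : Submodule k M, Kc = ⨅ A ∈ componentOf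
          (FAdj (Cfsg.quadraticRootSubgroups G)) (Cfsg.quadraticRootSubgroups G) A₁,
          ⨅ x ∈ A, LinearMap.ker ((x : Module.End k M) - 1) := ⟨_, rfl⟩
      have hmemK : ∀ m : M, m ∈ Kc ↔ ∀ A ∈ componentOf (FAdj (Cfsg.quadraticRootSubgroups G))
          (Cfsg.quadraticRootSubgroups G) A₁, ∀ x ∈ A, (x : Module.End k M) m = m := by
        intro m
        rw [hKc]
        simp only [Submodule.mem_iInf, LinearMap.mem_ker, LinearMap.sub_apply,
          Module.End.one_apply, sub_eq_zero]
      have hKinv : ∀ g ∈ G, ∀ w ∈ Kc, (g : M →ₗ[k] M) w ∈ Kc := by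
        intro g hg w hw
        rw [hmemK] at hw ⊢
        intro A hA x hx
        have hst := mem_stabFam.mp (qp_G_stab hk2 hk3 hG A₁ hg) A hA
        have hx' : g⁻¹ * x * g ∈ conjBy A g⁻¹ := by
          rw [mem_conjBy]
          have : g⁻¹⁻¹ * (g⁻¹ * x * g) * g⁻¹ = x := by group
          rw [this]; exact hx
        have h1 := hw _ hst.2 _ hx'
        have h3 : x * g = g * (g⁻¹ * x * g) := by group
        rw [← gl_mul_apply, h3, gl_mul_apply, h1]
      rcases hG.1.2 Kc hKinv with h | h
      · apply hP0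
        apply LinearMap.ext
        intro m
        have hPm : P m ∈ Kc := by
          rw [hmemK]
          intro A hA x hx
          have := congrArg (fun f : Module.End k M => f m) (hcon A hA x hx)
          simp only [Module.End.mul_apply, LinearMap.sub_apply, Module.End.one_apply,
            LinearMap.zero_apply] at this
          exact sub_eq_zero.mp this
        rw [h, Submodule.mem_bot] at hPm
        rw [hPm, LinearMap.zero_apply]
      · have hA₁c : A₁ ∈ componentOf (FAdj (Cfsg.quadraticRootSubgroups G))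
            (Cfsg.quadraticRootSubgroups G) A₁ := ⟨hA₁, Relation.ReflTransGen.refl⟩
        obtain ⟨x, hx, hx1⟩ := exists_ne_one_of_ne_bot (hamb.ne_bot A₁ hA₁)
        apply hx1
        apply Units.ext
        apply LinearMap.ext
        intro m
        have hm : m ∈ Kc := by rw [h]; exact Submodule.mem_top
        rw [(hmemK m).mp hm A₁ hA₁c x hx, Units.val_one, Module.End.one_apply]
    obtain ⟨A, hA, x, hx, hne⟩ := hex
    have hxP := hPc1 A hA x hx
    have hsq := qp_root_sq hA.1 hx
    refine ⟨((x : Module.End k M) - 1) * P, hne, ?_, ?_⟩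
    · intro A₂ hA₂ hnot B hB y hy
      rw [List.mem_cons, not_or] at hnot
      have hyP := hPc A₂ hA₂ hnot.2 B hB y hy
      have hBc : B ∉ componentOf (FAdj (Cfsg.quadraticRootSubgroups G))
          (Cfsg.quadraticRootSubgroups G) A₁ := fun hB1 => hnot.1 (qp_comp_eq hB hB1)
      have hcomm := amb_comp_comm hamb A₁ hA hB.1 hBc
      have hyx : (y : Module.End k M) * (x : Module.End k M) =
          (x : Module.End k M) * (y : Module.End k M) := by
        rw [← Units.val_mul, ← Units.val_mul]
        congr 1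
        exact (mul_comm_of_commutator_eq_bot hcomm hx hy).symm
      generalize (y : Module.End k M) = Y at hyP hyx ⊢
      generalize (x : Module.End k M) = X at hyx ⊢
      calc Y * ((X - 1) * P) = (Y * X - Y) * P := by noncomm_ring
        _ = (X * Y - Y) * P := by rw [hyx]
        _ = (X - 1) * (Y * P) := by noncomm_ring
        _ = (X - 1) * (P * Y) := by rw [hyP]
        _ = (X - 1) * P * Y := by rw [mul_assoc]
    · have hle : LinearMap.range (((x : Module.End k M) - 1) * P) ≤ LinearMap.range P := by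
        have e : ((x : Module.End k M) - 1) * P = P * ((x : Module.End k M) - 1) := by
          rw [sub_mul, mul_sub, hxP, one_mul, mul_one]
        rw [e]
        rintro _ ⟨m, rfl⟩
        exact ⟨((x : Module.End k M) - 1) m, rfl⟩
      have hlt : LinearMap.range (((x : Module.End k M) - 1) * P) < LinearMap.range P := by
        refine lt_of_le_of_ne hle ?_
        intro e
        apply hne
        apply LinearMap.ext
        intro m
        have hm : P m ∈ LinearMap.range (((x : Module.End k M) - 1) * P) := by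
          rw [e]; exact ⟨m, rfl⟩
        obtain ⟨m', hm'⟩ := hm
        have h1 : ((x : Module.End k M) - 1) (P m) = 0 := by
          rw [← hm']
          have := congrArg (fun f : Module.End k M => f (P m')) hsq
          simpa [Module.End.mul_apply] using this
        simpa [Module.End.mul_apply] using h1
      have := Submodule.finrank_lt_finrank_of_lt hlt
      simp only [List.length_cons]
      omega

/-- there are finitely many components -/
theorem qp_comps_finite [FiniteDimensional k M] (hk2 : ringChar k ≠ 2) (hk3 : Nat.card k ≠ 3)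
    (hG : Cfsg.IsQuadraticPair G) :
    {c : Set (Subgroup (LinearMap.GeneralLinearGroup k M)) |
      ∃ A ∈ Cfsg.quadraticRootSubgroups G,
        c = componentOf (FAdj (Cfsg.quadraticRootSubgroups G)) (Cfsg.quadraticRootSubgroups G) A}.Finite := by
  classical
  by_contra hinf
  obtain ⟨t, ht, hcard⟩ := Set.Infinite.exists_subset_card_eq hinf (Module.finrank k M + 1)
  obtain ⟨P, -, -, hr⟩ := qp_fin_aux hk2 hk3 hG t.toList t.nodup_toList
    (fun c hc => ht (Finset.mem_coe.mpr (Finset.mem_toList.mp hc)))
  rw [Finset.length_toList, hcard] at hr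
  omega

end qp37

end Cfsg.Agent.Lib.helper85
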