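import Cfsg.Agent.Lib.helper85.QP37

set_option autoImplicit false
set_option linter.unusedVariables false
set_option linter.unusedSimpArgs false

namespace Cfsg.Agent.Lib.helper85

open Cfsg
open scoped commutatorElement

universe u

section qp38
variable {k : Type u} [Field k] {M : Type u} [AddCommGroup M] [Module k M]
variable {G : Subgroup (LinearMap.GeneralLinearGroup k M)}

theorem qp_card_root [FiniteDimensional k M] (hk2 : ringChar k ≠ 2) (hk3 : Nat.card k ≠ 3)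
    {σ : LinearMap.GeneralLinearGroup k M} (hσ : σ ∈ Cfsg.minimalQuadraticElements G) :
    3 < ENat.card ↥(Cfsg.sameActionSubgroup G σ) := by
  have hN := qpN_of_quad hσ.1
  have hN0 : ((σ : Module.End k M) - 1) ≠ 0 := hσ.1.2.1.2
  choose g hgG hgv using hN.2
  have hmem : ∀ c : k, g c ∈ Cfsg.sameActionSubgroup G σ := by
    intro c
    by_cases hc : c = 0
    · have : g c = 1 := Units.ext (by rw [hgv c, hc, zero_smul, add_zero, Units.val_one])
      rw [this]; exact Subgroup.one_mem _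
    · apply Subgroup.subset_closure
      exact qp_mem_class hσ (qpN_smul hN c) (LinearMap.ker_smul _ _ hc)
        (LinearMap.range_smul _ _ hc) (hgv c)
  have hinj : Function.Injective
      (fun c : k => (⟨g c, hmem c⟩ : ↥(Cfsg.sameActionSubgroup G σ))) := by
    intro c c' h
    have h1 : g c = g c' := congrArg Subtype.val h
    have h2 : (1 : Module.End k M) + c • ((σ : Module.End k M) - 1) =
        1 + c' • ((σ : Module.End k M) - 1) := by
      rw [← hgv c, ← hgv c', h1]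
    have h3 : (c - c') • ((σ : Module.End k M) - 1) = 0 := by
      rw [sub_smul]; exact sub_eq_zero.mpr (add_left_cancel h2)
    rcases smul_eq_zero.mp h3 with h4 | h4
    · exact sub_eq_zero.mp h4
    · exact absurd h4 hN0
  exact lt_of_lt_of_le (qp_card_gt (K := k) hk2 hk3) (ENat.card_le_card_of_injective hinj)

theorem qp_special_of_rop [FiniteDimensional k M] (hk2 : ringChar k ≠ 2) (hk3 : Nat.card k ≠ 3)
    (hG : Cfsg.IsQuadraticPair G) {σ τ : LinearMap.GeneralLinearGroup k M}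
    (hσ : σ ∈ Cfsg.minimalQuadraticElements G) (hτ : τ ∈ Cfsg.minimalQuadraticElements G)
    (hrop : IsRankOnePair (Cfsg.sameActionSubgroup G σ) (Cfsg.sameActionSubgroup G τ)) :
    IsSpecialRankOnePair (Cfsg.sameActionSubgroup G σ) (Cfsg.sameActionSubgroup G τ) := by
  rcases qp_tricho hk2 hk3 hG hσ hτ with ⟨hz, h | h⟩ | ⟨hz, -⟩
  · exact absurd h (rop_comm_ne_bot hrop (qp_same_comm hτ))
  · exact (rop_not_cc hrop (qp_same_comm hσ) h).elim
  · obtain ⟨hVK, hWK⟩ := qp_nondeg hk2 hk3 hσ hτ hz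
    exact qp_rank_one hk2 hk3 hσ hτ (qp_same_mem hσ) (qp_same_mem hτ) (qp_same_comm hσ)
      (qp_same_comm hτ) hVK hWK

/-- a normal subgroup of a component subgroup whose conjugates of root subgroups commute with
the root subgroups is central -/
theorem qp_h2_aux [FiniteDimensional k M] (hirr : Cfsg.IsIrreducibleFor G)
    {c : Set (Subgroup (LinearMap.GeneralLinearGroup k M))}
    {K : Subgroup (LinearMap.GeneralLinearGroup k M)}
    (hcG : ∀ A ∈ c, A ≤ G)
    (hsq : ∀ A ∈ c, ∀ a ∈ A, ((a : Module.End k M) - 1) * ((a : Module.End k M) - 1) = 0)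
    (hnormG : ∀ N₁ : Subgroup (LinearMap.GeneralLinearGroup k M), N₁ ≤ K →
      (∀ x ∈ K, ∀ n ∈ N₁, x * n * x⁻¹ ∈ N₁) → ∀ g ∈ G, ∀ n ∈ N₁, g * n * g⁻¹ ∈ N₁)
    (hcK : ∀ A ∈ c, A ≤ K) (hKc : K ≤ ⨆ B ∈ c, B)
    (N : Subgroup ↥K) (hN : N.Normal)
    (hcen : ∀ A ∈ c, ∀ n ∈ N, A.subgroupOf K ≤
      Subgroup.centralizer ((conjBy (A.subgroupOf K) n : Subgroup ↥K) : Set ↥K)) :
    N ≤ Subgroup.center ↥K := by
  intro n hn
  obtain ⟨N₁, hN₁⟩ : ∃ N₁, N₁ = N.map K.subtype := ⟨_, rfl⟩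
  have hN₁K : N₁ ≤ K := by
    rw [hN₁]
    rintro _ ⟨x, -, rfl⟩
    exact x.2
  have hN₁norm : ∀ x ∈ K, ∀ m ∈ N₁, x * m * x⁻¹ ∈ N₁ := by
    intro x hx m hm
    rw [hN₁] at hm ⊢
    obtain ⟨n₀, hn₀, rfl⟩ := hm
    exact ⟨⟨x, hx⟩ * n₀ * ⟨x, hx⟩⁻¹, hN.conj_mem n₀ hn₀ ⟨x, hx⟩, by simp⟩
  have hNG := hnormG N₁ hN₁K hN₁norm
  have hnN₁ : (n : LinearMap.GeneralLinearGroup k M) ∈ N₁ := by
    rw [hN₁]; exact ⟨n, hn, rfl⟩
  have hcomm : ∀ A ∈ c, ∀ a ∈ A, (n : LinearMap.GeneralLinearGroup k M) * a =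
      a * (n : LinearMap.GeneralLinearGroup k M) := by
    intro A hA a ha
    refine normal_centralizes hirr hNG (hcG A hA ha) (hsq A hA a ha) ?_
      (n : LinearMap.GeneralLinearGroup k M) hnN₁
    intro m hm
    rw [hN₁] at hm
    obtain ⟨n₀, hn₀, rfl⟩ := hm
    have h1 := hcen A hA n₀ hn₀
    have ha' : (⟨a, hcK A hA ha⟩ : ↥K) ∈ A.subgroupOf K := Subgroup.mem_subgroupOf.mpr ha
    have h2 := h1 ha'
    rw [Subgroup.mem_centralizer_iff] at h2
    have h3 := h2 (n₀ * ⟨a, hcK A hA ha⟩ * n₀⁻¹) (conj_mem_conjBy ha')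
    have h4 := congrArg Subtype.val h3
    simpa using h4
  rw [Subgroup.mem_center_iff]
  intro g
  have hg : (g : LinearMap.GeneralLinearGroup k M) ∈ Subgroup.centralizer
      ({(n : LinearMap.GeneralLinearGroup k M)} : Set (LinearMap.GeneralLinearGroup k M)) := by
    have hle : (⨆ B ∈ c, B) ≤ Subgroup.centralizer
        ({(n : LinearMap.GeneralLinearGroup k M)} : Set (LinearMap.GeneralLinearGroup k M)) := by
      refine iSup₂_le fun A hA a ha => ?_
      rw [Subgroup.mem_centralizer_iff]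
      intro h hh
      rw [Set.mem_singleton_iff] at hh
      rw [hh]; exact hcomm A hA a ha
    exact hle (hKc g.2)
  rw [Subgroup.mem_centralizer_iff] at hg
  apply Subtype.ext
  exact (hg (n : LinearMap.GeneralLinearGroup k M) rfl).symm

/-- the properties of a component -/
theorem qp_comp_props [FiniteDimensional k M] (hk2 : ringChar k ≠ 2) (hk3 : Nat.card k ≠ 3)
    (hG : Cfsg.IsQuadraticPair G) {A₀ : Subgroup (LinearMap.GeneralLinearGroup k M)}
    (hA₀ : A₀ ∈ Cfsg.quadraticRootSubgroups G)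
    (c : Set (Subgroup (LinearMap.GeneralLinearGroup k M)))
    (hcdef : c = componentOf (FAdj (Cfsg.quadraticRootSubgroups G))
      (Cfsg.quadraticRootSubgroups G) A₀) :
    IsQuasisimple ↥(⨆ A ∈ c, A) ∧
    IsRootSubgroupClass ((fun A : Subgroup (LinearMap.GeneralLinearGroup k M) =>
      A.subgroupOf (⨆ B ∈ c, B)) '' c) ∧
    ∀ A ∈ c, ∀ B ∈ rankOnePartners c A,
      ∃ A₁ B₁ : Subgroup (LinearMap.GeneralLinearGroup k M), A₁ ≤ A ∧ B₁ ≤ B ∧
        ∃ (k₁ : Type u) (_ : Field k₁), 3 < ENat.card k₁ ∧ IsPSL2PairOver k₁ A₁ B₁ := by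
  subst hcdef
  have hamb := qp_amb hk2 hk3 hG
  have hc := amb_comp hamb A₀
  have hA₀c : A₀ ∈ componentOf (FAdj (Cfsg.quadraticRootSubgroups G))
      (Cfsg.quadraticRootSubgroups G) A₀ := ⟨hA₀, Relation.ReflTransGen.refl⟩
  have hconn : ∀ A ∈ componentOf (FAdj (Cfsg.quadraticRootSubgroups G))
      (Cfsg.quadraticRootSubgroups G) A₀,
      ∀ B ∈ componentOf (FAdj (Cfsg.quadraticRootSubgroups G)) (Cfsg.quadraticRootSubgroups G) A₀,
      Relation.ReflTransGen (FAdj (componentOf (FAdj (Cfsg.quadraticRootSubgroups G))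
        (Cfsg.quadraticRootSubgroups G) A₀)) A B := by
    intro A hA B hB
    exact (amb_comp_conn A₀ hA ((reach_symm hA.2).trans hB.2)).1
  obtain ⟨h1', h2', hclass⟩ := amb_class hc hconn ⟨A₀, hA₀c⟩
  refine ⟨?_, hclass, ?_⟩
  · refine quasi_of_hyps2 hclass.1 h2' h1' ?_ ?_ ?_
    · intro N hN _ hcen
      refine qp_h2_aux hG.1 (c := componentOf (FAdj (Cfsg.quadraticRootSubgroups G))
        (Cfsg.quadraticRootSubgroups G) A₀) ?_ ?_ ?_ ?_ le_rfl N hN ?_
      · intro A hA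
        exact (le_biSup (fun B => B) hA.1).trans (qp_root_sup_le G)
      · intro A hA a ha
        exact qp_root_sq hA.1 ha
      · intro N₁ hle hnorm
        exact qp_G_norm hk2 hk3 hG A₀ hle hnorm
      · intro A hA
        exact hc.le hA
      · intro A hA n hn
        exact hcen _ ⟨A, hA, rfl⟩ n hn
    · rintro - _ ⟨A, hA, rfl⟩
      obtain ⟨σ, hσ, hAe⟩ := hA.1
      have e := Subgroup.subgroupOfEquivOfLe (hc.le hA)
      rw [ENat.card_congr e.toEquiv, hAe]
      exact qp_card_root hk2 hk3 hσ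
    · rintro _ ⟨A, hA, rfl⟩ _ ⟨⟨B, hB, rfl⟩, hr⟩
      have hr' := amb_rop_up hc hA hB hr
      obtain ⟨σ, hσ, hAe⟩ := hA.1
      obtain ⟨τ, hτ, hBe⟩ := hB.1
      refine special_subgroupOf' (hc.le hA) (hc.le hB) ?_
      rw [hAe, hBe] at hr' ⊢
      exact qp_special_of_rop hk2 hk3 hG hσ hτ hr'
  · intro A hA B hB
    exact (qp_root_final hk2 hk3 hG).2.2 A hA.1 B ⟨hB.1.1, hB.2⟩

end qp38

section qp38final

/-- the root subgroups of a quadratic pair split into finitely many classes -/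
theorem qp_split_final {k : Type u} [Field k] (hk2 : ringChar k ≠ 2) (hk3 : Nat.card k ≠ 3)
    {M : Type u} [AddCommGroup M] [Module k M] [FiniteDimensional k M]
    {G : Subgroup (LinearMap.GeneralLinearGroup k M)} (hG : Cfsg.IsQuadraticPair G) :
    ∃ (r : ℕ) (part : Fin r → Set (Subgroup (LinearMap.GeneralLinearGroup k M))),
      (⋃ i, part i) = Cfsg.quadraticRootSubgroups G ∧ (∀ i j, i ≠ j → Disjoint (part i) (part j)) ∧ (∀ i, (part i).Nonempty) ∧
      (∀ i j, i ≠ j → ⁅(⨆ A ∈ part i, A), (⨆ A ∈ part j, A)⁆ = ⊥) ∧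
      (∀ i, Cfsg.IsQuasisimple ↥(⨆ A ∈ part i, A) ∧
        Cfsg.IsRootSubgroupClass ((fun A : Subgroup (LinearMap.GeneralLinearGroup k M) => A.subgroupOf (⨆ B ∈ part i, B)) '' (part i)) ∧
        ∀ A ∈ part i, ∀ B ∈ Cfsg.rankOnePartners (part i) A, ∃ A₀ B₀ : Subgroup (LinearMap.GeneralLinearGroup k M), A₀ ≤ A ∧ B₀ ≤ B ∧
          ∃ (k₁ : Type u) (_ : Field k₁), 3 < ENat.card k₁ ∧ Cfsg.IsPSL2PairOver k₁ A₀ B₀) := by
  classical
  have hamb := qp_amb hk2 hk3 hG
  have hfin := qp_comps_finite hk2 hk3 hG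
  obtain ⟨comps, hcomps⟩ : ∃ comps : Set (Set (Subgroup (LinearMap.GeneralLinearGroup k M))),
      comps = {c | ∃ A ∈ Cfsg.quadraticRootSubgroups G,
        c = componentOf (FAdj (Cfsg.quadraticRootSubgroups G)) (Cfsg.quadraticRootSubgroups G) A} :=
    ⟨_, rfl⟩
  rw [← hcomps] at hfin
  have hmemc : ∀ c, c ∈ comps ↔ ∃ A ∈ Cfsg.quadraticRootSubgroups G,
      c = componentOf (FAdj (Cfsg.quadraticRootSubgroups G)) (Cfsg.quadraticRootSubgroups G) A := by
    intro c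
    rw [hcomps]
    exact Iff.rfl
  have hF : Finite ↥comps := hfin.to_subtype
  obtain ⟨e⟩ : Nonempty (↥comps ≃ Fin (Nat.card ↥comps)) := ⟨Finite.equivFin ↥comps⟩
  obtain ⟨part, hpartdef⟩ : ∃ part : Fin (Nat.card ↥comps) →
      Set (Subgroup (LinearMap.GeneralLinearGroup k M)),
      part = fun i => ((e.symm i : ↥comps) : Set (Subgroup (LinearMap.GeneralLinearGroup k M))) :=
    ⟨_, rfl⟩
  have hpart : ∀ i, ∃ A ∈ Cfsg.quadraticRootSubgroups G, part i =
      componentOf (FAdj (Cfsg.quadraticRootSubgroups G)) (Cfsg.quadraticRootSubgroups G) A := by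
    intro i
    have := (hmemc _).mp (e.symm i).2
    rw [hpartdef]
    exact this
  have hinj : ∀ i j, part i = part j → i = j := by
    intro i j h
    rw [hpartdef] at h
    exact e.symm.injective (Subtype.ext h)
  have hsurj : ∀ A ∈ Cfsg.quadraticRootSubgroups G, ∃ i, part i =
      componentOf (FAdj (Cfsg.quadraticRootSubgroups G)) (Cfsg.quadraticRootSubgroups G) A := by
    intro A hA
    have hc : componentOf (FAdj (Cfsg.quadraticRootSubgroups G)) (Cfsg.quadraticRootSubgroups G) A ∈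
        comps := (hmemc _).mpr ⟨A, hA, rfl⟩
    refine ⟨e ⟨_, hc⟩, ?_⟩
    rw [hpartdef]
    simp only [Equiv.symm_apply_apply]
  refine ⟨Nat.card ↥comps, part, ?_, ?_, ?_, ?_, ?_⟩
  · ext A
    simp only [Set.mem_iUnion]
    constructor
    · rintro ⟨i, hi⟩
      obtain ⟨A₁, hA₁, hp⟩ := hpart i
      rw [hp] at hi
      exact hi.1
    · intro hA
      obtain ⟨i, hi⟩ := hsurj A hA
      exact ⟨i, by rw [hi]; exact ⟨hA, Relation.ReflTransGen.refl⟩⟩
  · intro i j hij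
    obtain ⟨A₁, hA₁, hp₁⟩ := hpart i
    obtain ⟨A₂, hA₂, hp₂⟩ := hpart j
    rw [Set.disjoint_left]
    intro B hB₁ hB₂
    apply hij
    apply hinj
    rw [hp₁] at hB₁ ⊢
    rw [hp₂] at hB₂ ⊢
    exact qp_comp_eq hB₁ hB₂
  · intro i
    obtain ⟨A₁, hA₁, hp⟩ := hpart i
    exact ⟨A₁, by rw [hp]; exact ⟨hA₁, Relation.ReflTransGen.refl⟩⟩
  · intro i j hij
    obtain ⟨A₁, hA₁, hp₁⟩ := hpart i
    obtain ⟨A₂, hA₂, hp₂⟩ := hpart j
    have hne : part i ≠ part j := fun h => hij (hinj i j h)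
    rw [Subgroup.commutator_eq_bot_iff_le_centralizer]
    refine iSup₂_le fun A hA => ?_
    rw [Subgroup.le_centralizer_iff]
    refine iSup₂_le fun B hB => ?_
    rw [← Subgroup.commutator_eq_bot_iff_le_centralizer, Subgroup.commutator_comm]
    rw [hp₁] at hA hne
    rw [hp₂] at hB hne
    apply amb_comp_comm hamb A₁ hA hB.1
    intro hB1
    exact hne (qp_comp_eq hB hB1).symm
  · intro i
    obtain ⟨A₁, hA₁, hp⟩ := hpart i
    exact qp_comp_props hk2 hk3 hG hA₁ _ hp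

end qp38final

end Cfsg.Agent.Lib.helper85
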