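import Cfsg.Agent.Lib.helper85.QP38

set_option autoImplicit false
set_option linter.unusedVariables false
set_option linter.unusedSimpArgs false

namespace Cfsg.Agent.Lib.helper85

open Cfsg
open scoped commutatorElement

universe u

section qp39gen
variable {k : Type*} [Field k] {M : Type*} [AddCommGroup M] [Module k M]

/-- the subgroup of elements preserving a subspace together with their inverses -/
def stabSub (W : Submodule k M) : Subgroup (LinearMap.GeneralLinearGroup k M) where
  carrier := {g | (∀ w ∈ W, (g : Module.End k M) w ∈ W) ∧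
    ∀ w ∈ W, ((g⁻¹ : LinearMap.GeneralLinearGroup k M) : Module.End k M) w ∈ W}
  mul_mem' := by
    intro g h hg hh
    refine ⟨fun w hw => ?_, fun w hw => ?_⟩
    · rw [gl_mul_apply]; exact hg.1 _ (hh.1 w hw)
    · rw [mul_inv_rev, gl_mul_apply]; exact hh.2 _ (hg.2 w hw)
  one_mem' := by
    refine ⟨fun w hw => ?_, fun w hw => ?_⟩
    · rw [Units.val_one, Module.End.one_apply]; exact hw
    · rw [inv_one, Units.val_one, Module.End.one_apply]; exact hw
  inv_mem' := by
    intro g hg
    refine ⟨hg.2, ?_⟩
    rw [inv_inv]; exact hg.1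

theorem mem_stabSub {W : Submodule k M} {g : LinearMap.GeneralLinearGroup k M} :
    g ∈ stabSub W ↔ (∀ w ∈ W, (g : Module.End k M) w ∈ W) ∧
      ∀ w ∈ W, ((g⁻¹ : LinearMap.GeneralLinearGroup k M) : Module.End k M) w ∈ W := Iff.rfl

/-- the translates of a nonzero subspace under `K` span the module when the irreducible group is
generated by `K` and a subgroup commuting with `K` and preserving the subspace -/
theorem orbit_span_top {G K Z : Subgroup (LinearMap.GeneralLinearGroup k M)} (hirr : Cfsg.IsIrreducibleFor G)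
    (hsup : G ≤ K ⊔ Z) (hZK : ∀ z ∈ Z, ∀ g ∈ K, z * g = g * z)
    {V : Submodule k M} (hV : V ≠ ⊥) (hZV : ∀ z ∈ Z, ∀ v ∈ V, (z : Module.End k M) v ∈ V) :
    (⨆ g ∈ K, V.map ((g : LinearMap.GeneralLinearGroup k M) : Module.End k M)) = ⊤ := by
  obtain ⟨W, hW⟩ : ∃ W, W = ⨆ g ∈ K, V.map ((g : LinearMap.GeneralLinearGroup k M) : Module.End k M) := ⟨_, rfl⟩
  rw [← hW]
  have hKW : ∀ x ∈ K, ∀ w ∈ W, (x : Module.End k M) w ∈ W := by
    intro x hx
    have : W ≤ W.comap (x : Module.End k M) := by
      conv_lhs => rw [hW]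
      refine iSup₂_le fun g hg => ?_
      rintro _ ⟨v, hv, rfl⟩
      rw [Submodule.mem_comap, hW]
      have h1 : (x : Module.End k M) ((g : Module.End k M) v) ∈
          V.map ((x * g : LinearMap.GeneralLinearGroup k M) : Module.End k M) := ⟨v, hv, by rw [gl_mul_apply]⟩
      exact (le_biSup (fun g : LinearMap.GeneralLinearGroup k M => V.map (g : Module.End k M)) (K.mul_mem hx hg)) h1
    exact fun w hw => this hw
  have hZW : ∀ z ∈ Z, ∀ w ∈ W, (z : Module.End k M) w ∈ W := by
    intro z hz
    have : W ≤ W.comap (z : Module.End k M) := by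
      conv_lhs => rw [hW]
      refine iSup₂_le fun g hg => ?_
      rintro _ ⟨v, hv, rfl⟩
      rw [Submodule.mem_comap, hW]
      have h1 : (z : Module.End k M) ((g : Module.End k M) v) ∈
          V.map ((g : LinearMap.GeneralLinearGroup k M) : Module.End k M) := by
        refine ⟨(z : Module.End k M) v, hZV z hz v hv, ?_⟩
        rw [← gl_mul_apply, ← gl_mul_apply, hZK z hz g hg]
      exact (le_biSup (fun g : LinearMap.GeneralLinearGroup k M => V.map (g : Module.End k M)) hg) h1
    exact fun w hw => this hw
  have hGW : G ≤ stabSub W := by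
    refine hsup.trans (sup_le ?_ ?_)
    · intro x hx
      exact ⟨hKW x hx, hKW x⁻¹ (K.inv_mem hx)⟩
    · intro z hz
      exact ⟨hZW z hz, hZW z⁻¹ (Z.inv_mem hz)⟩
  rcases hirr.2 W (fun g hg w hw => (hGW hg).1 w hw) with h | h
  · exfalso
    apply hV
    rw [eq_bot_iff, ← h, hW]
    have h1 : V.map ((1 : LinearMap.GeneralLinearGroup k M) : Module.End k M) ≤
        ⨆ g ∈ K, V.map ((g : LinearMap.GeneralLinearGroup k M) : Module.End k M) :=
      le_biSup (fun g : LinearMap.GeneralLinearGroup k M => V.map (g : Module.End k M)) K.one_mem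
    refine le_trans ?_ h1
    intro v hv
    exact ⟨v, hv, by rw [Units.val_one, Module.End.one_apply]⟩
  · exact h

theorem kill_of_commute {G K Z : Subgroup (LinearMap.GeneralLinearGroup k M)} (hirr : Cfsg.IsIrreducibleFor G)
    (hsup : G ≤ K ⊔ Z) (hZK : ∀ z ∈ Z, ∀ g ∈ K, z * g = g * z)
    {V : Submodule k M} (hV : V ≠ ⊥) (hZV : ∀ z ∈ Z, ∀ v ∈ V, (z : Module.End k M) v ∈ V)
    {X : Module.End k M} (hXK : ∀ g ∈ K, X * (g : Module.End k M) = (g : Module.End k M) * X)
    (hXV : ∀ v ∈ V, X v = 0) : X = 0 := by
  have htop := orbit_span_top hirr hsup hZK hV hZV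
  have hker : (⨆ g ∈ K, V.map ((g : LinearMap.GeneralLinearGroup k M) : Module.End k M)) ≤ LinearMap.ker X := by
    refine iSup₂_le fun g hg => ?_
    rintro _ ⟨v, hv, rfl⟩
    rw [LinearMap.mem_ker, ← Module.End.mul_apply, hXK g hg, Module.End.mul_apply, hXV v hv,
      map_zero]
  rw [htop] at hker
  exact LinearMap.ker_eq_top.mp (top_le_iff.mp hker)

end qp39gen

section qp39
variable {k : Type u} [Field k] {M : Type u} [AddCommGroup M] [Module k M]
variable {G : Subgroup (LinearMap.GeneralLinearGroup k M)}

/-- every quadratic element centralizes the group generated by the root subgroups or lies in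
the subgroup generated by one component -/
theorem qp_K1 [FiniteDimensional k M] (hk2 : ringChar k ≠ 2) (hk3 : Nat.card k ≠ 3)
    (hG : Cfsg.IsQuadraticPair G) {σ : LinearMap.GeneralLinearGroup k M} (hσ : σ ∈ Cfsg.quadraticElements G) :
    σ ∈ Subgroup.centralizer ((⨆ A ∈ Cfsg.quadraticRootSubgroups G, A : Subgroup (LinearMap.GeneralLinearGroup k M)) : Set (LinearMap.GeneralLinearGroup k M)) ∨
      ∃ A₀ ∈ Cfsg.quadraticRootSubgroups G, σ ∈ ⨆ B ∈ componentOf (FAdj (Cfsg.quadraticRootSubgroups G)) (Cfsg.quadraticRootSubgroups G) A₀, B := by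
  have hamb := qp_amb hk2 hk3 hG
  obtain ⟨σ₀, hσ₀⟩ := qp_min_exists ⟨σ, hσ⟩
  have hmin := qp_hmin_of_min hσ₀
  have hd : Cfsg.commutatorRank σ₀ ≠ 0 := by
    intro h0
    have hb : LinearMap.range (((σ₀ : LinearMap.GeneralLinearGroup k M) : M →ₗ[k] M) - 1) = ⊥ :=
      Submodule.finrank_eq_zero.mp h0
    exact hσ₀.1.2.1.2 (LinearMap.range_eq_bot.mp hb)
  have hT0 : ∀ T : Module.End k M, qpMin G (Cfsg.commutatorRank σ₀) T → T ≠ 0 := by
    rintro T hT rfl
    apply hd
    rw [← hT.2, LinearMap.range_zero, finrank_bot]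
  have hunit : ∀ T : Module.End k M, qpMin G (Cfsg.commutatorRank σ₀) T →
      ∀ b : LinearMap.GeneralLinearGroup k M,
        ((b : LinearMap.GeneralLinearGroup k M) : Module.End k M) = 1 + T →
        b ∈ Cfsg.minimalQuadraticElements G :=
    fun T hT b hb => qp_min_of_N hσ₀ hT.1 (hT0 T hT) hT.2 hb
  have hminN : ∀ τ ∈ Cfsg.minimalQuadraticElements G,
      qpMin G (Cfsg.commutatorRank σ₀) (((τ : LinearMap.GeneralLinearGroup k M) : Module.End k M) - 1) :=
    fun τ hτ => ⟨qpN_of_quad hτ.1, le_antisymm (hτ.2 σ₀ hσ₀.1) (hσ₀.2 τ hτ.1)⟩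
  have hpart : ∀ T : Module.End k M, qpMin G (Cfsg.commutatorRank σ₀) T →
      ∃ Y : Module.End k M, qpMin G (Cfsg.commutatorRank σ₀) Y ∧ ¬ ∃ n : ℕ, (T * Y + Y * T) ^ n = 0 := by
    intro T hT
    obtain ⟨b, hbG, hb⟩ := hT.1.2 1
    rw [one_smul] at hb
    have hbm := hunit T hT b hb
    obtain ⟨τ, hτ, hnil⟩ := qp_partner_exists hk2 hk3 hG hbm
    have e : ((b : LinearMap.GeneralLinearGroup k M) : Module.End k M) - 1 = T := by
      rw [hb]; exact add_sub_cancel_left 1 T
    rw [e] at hnil
    exact ⟨_, hminN τ hτ, hnil⟩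
  have hZ : ∀ u ∈ Cfsg.minimalQuadraticElements G, ∀ X : Module.End k M,
      X * ((u : Module.End k M) - 1) = 0 →
      (∀ g ∈ (⨆ B ∈ componentOf (FAdj (Cfsg.quadraticRootSubgroups G)) (Cfsg.quadraticRootSubgroups G) (Cfsg.sameActionSubgroup G u), B), X * (g : Module.End k M) = (g : Module.End k M) * X) →
      X = 0 := by
    intro u hu X hXU hXK
    obtain ⟨K, hK⟩ : ∃ K, K = ⨆ B ∈ componentOf (FAdj (Cfsg.quadraticRootSubgroups G)) (Cfsg.quadraticRootSubgroups G) (Cfsg.sameActionSubgroup G u), B := ⟨_, rfl⟩
    rw [← hK] at hXK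
    have hAc : Cfsg.sameActionSubgroup G u ∈ componentOf (FAdj (Cfsg.quadraticRootSubgroups G)) (Cfsg.quadraticRootSubgroups G) (Cfsg.sameActionSubgroup G u) :=
      ⟨⟨u, hu, rfl⟩, Relation.ReflTransGen.refl⟩
    have huK : u ∈ K := by
      rw [hK]
      exact (le_biSup (fun B => B) hAc) (Subgroup.subset_closure (qp_self_class hu))
    have hsup : G ≤ K ⊔ Subgroup.centralizer (K : Set (LinearMap.GeneralLinearGroup k M)) := by
      refine qp_G_le hk2 hk3 hG _ ?_ ?_
      · intro B hB
        by_cases hBc : B ∈ componentOf (FAdj (Cfsg.quadraticRootSubgroups G)) (Cfsg.quadraticRootSubgroups G) (Cfsg.sameActionSubgroup G u)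
        · rw [hK]; exact (le_biSup (fun B => B) hBc).trans le_sup_left
        · rw [hK]; exact (comp_outside_centralizer hamb _ hB hBc).trans le_sup_right
      · refine le_trans ?_ le_sup_right
        intro g hg
        have h1 := (Subgroup.mem_inf.mp hg).2
        rw [Subgroup.mem_centralizer_iff] at h1 ⊢
        intro h hh
        refine h1 h ?_
        rw [hK] at hh
        have hsub : (⨆ A ∈ componentOf (FAdj (Cfsg.quadraticRootSubgroups G)) (Cfsg.quadraticRootSubgroups G) (Cfsg.sameActionSubgroup G u), A) ≤ ⨆ A ∈ Cfsg.quadraticRootSubgroups G, A :=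
          iSup₂_le fun A hA => le_biSup (fun B => B) hA.1
        exact hsub hh
    refine kill_of_commute hG.1 hsup ?_
      (V := LinearMap.range ((u : Module.End k M) - 1)) ?_ ?_ hXK ?_
    · intro z hz g hg
      rw [Subgroup.mem_centralizer_iff] at hz
      exact (hz g hg).symm
    · intro h
      exact hu.1.2.1.2 (LinearMap.range_eq_bot.mp h)
    · intro z hz v hv
      obtain ⟨m, rfl⟩ := hv
      rw [Subgroup.mem_centralizer_iff] at hz
      have h1 := hz u huK
      refine ⟨(z : Module.End k M) m, ?_⟩
      have h2 : (u : Module.End k M) * (z : Module.End k M) =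
          (z : Module.End k M) * (u : Module.End k M) := by
        rw [← Units.val_mul, ← Units.val_mul, h1]
      have h3 := congrArg (fun f : Module.End k M => f m) h2
      simp only [Module.End.mul_apply] at h3
      simp only [LinearMap.sub_apply, Module.End.one_apply, map_sub, h3]
    · rintro v ⟨m, rfl⟩
      have := congrArg (fun f : Module.End k M => f m) hXU
      simpa [Module.End.mul_apply] using this
  have key : ∀ n : ℕ, ∀ S : Module.End k M, qpN G S →
      Module.finrank k (LinearMap.range S) = n → ∀ g : LinearMap.GeneralLinearGroup k M,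
      ((g : LinearMap.GeneralLinearGroup k M) : Module.End k M) = 1 + S →
      g ∈ Subgroup.centralizer ((⨆ A ∈ Cfsg.quadraticRootSubgroups G, A : Subgroup (LinearMap.GeneralLinearGroup k M)) : Set (LinearMap.GeneralLinearGroup k M)) ∨
        ∃ A₀ ∈ Cfsg.quadraticRootSubgroups G, g ∈ ⨆ B ∈ componentOf (FAdj (Cfsg.quadraticRootSubgroups G)) (Cfsg.quadraticRootSubgroups G) A₀, B := by
    intro n
    induction n using Nat.strong_induction_on with
    | _ n ih =>
      intro S hS hn g hg
      by_cases hnl : qpNl G (Cfsg.commutatorRank σ₀) S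
      · left
        have hc : ∀ T : Module.End k M, qpMin G (Cfsg.commutatorRank σ₀) T →
            ((g : LinearMap.GeneralLinearGroup k M) : Module.End k M) * T = T * ((g : LinearMap.GeneralLinearGroup k M) : Module.End k M) := by
          intro T hT
          have hc := qp_null_central hk2 hk3 hmin hpart hS hnl hT (hT0 T hT)
          rw [hg, add_mul, mul_add, one_mul, mul_one, hc]
        have hK : (⨆ A ∈ Cfsg.quadraticRootSubgroups G, A) ≤ Subgroup.centralizer ({g} : Set (LinearMap.GeneralLinearGroup k M)) := by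
          refine iSup₂_le fun A hA => ?_
          obtain ⟨σ', hσ', rfl⟩ := hA
          refine (Subgroup.closure_le _).mpr ?_
          intro x hx
          have hxm : x ∈ Cfsg.minimalQuadraticElements G := hx.1
          have h3 := hc _ (hminN x hxm)
          refine Subgroup.mem_centralizer_iff.mpr ?_
          intro y hy
          rw [Set.mem_singleton_iff] at hy
          rw [hy]
          refine Units.ext ?_
          rw [Units.val_mul, Units.val_mul]
          rw [mul_sub, sub_mul, mul_one, one_mul] at h3
          exact sub_left_injective h3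
        refine Subgroup.mem_centralizer_iff.mpr ?_
        intro h hh
        have := Subgroup.mem_centralizer_iff.mp (hK hh) g (Set.mem_singleton g)
        exact this.symm
      · unfold qpNl at hnl
        push Not at hnl
        obtain ⟨T, hT, hne⟩ := hnl
        obtain ⟨T₁, hT₁, hT₁0, hrel⟩ := qp_peel_elem hk2 hk3 hmin hS hT hne
        obtain ⟨hU, hS', hlt⟩ := qp_peel hS hT₁ hT₁0 hrel
        obtain ⟨u, huG, hu⟩ := hU.1.2 1
        obtain ⟨g', hg'G, hg'⟩ := hS'.2 1
        rw [one_smul] at hu hg'
        have hum := hunit _ hU u hu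
        have r1 : ∀ m : M, S (S m) = 0 := fun m => qp_pt hS.1 m
        have e : g = g' * u := by
          refine Units.ext ?_
          rw [Units.val_mul, hg, hg', hu]
          refine LinearMap.ext fun m => ?_
          simp only [Module.End.mul_apply, LinearMap.add_apply, LinearMap.sub_apply, LinearMap.neg_apply, Module.End.one_apply, LinearMap.zero_apply, map_add, map_sub, map_neg, map_zero, sub_zero, zero_sub, add_zero, zero_add, neg_zero, neg_neg, sub_self, r1] <;> abel
        have huU : (u : Module.End k M) - 1 = S * T₁ * S := by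
          rw [hu]; exact add_sub_cancel_left 1 _
        have hSU : (S - S * T₁ * S) * (S * T₁ * S) = 0 := by
          refine LinearMap.ext fun m => ?_
          simp only [Module.End.mul_apply, LinearMap.sub_apply, LinearMap.zero_apply, map_sub,
            map_zero, sub_zero, sub_self, r1]
        have hA : Cfsg.sameActionSubgroup G u ∈ Cfsg.quadraticRootSubgroups G := ⟨u, hum, rfl⟩
        have huA : u ∈ Cfsg.sameActionSubgroup G u := Subgroup.subset_closure (qp_self_class hum)
        have hAc : Cfsg.sameActionSubgroup G u ∈ componentOf (FAdj (Cfsg.quadraticRootSubgroups G)) (Cfsg.quadraticRootSubgroups G) (Cfsg.sameActionSubgroup G u) :=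
          ⟨hA, Relation.ReflTransGen.refl⟩
        have huK : u ∈ ⨆ B ∈ componentOf (FAdj (Cfsg.quadraticRootSubgroups G)) (Cfsg.quadraticRootSubgroups G) (Cfsg.sameActionSubgroup G u), B := (le_biSup (fun B => B) hAc) huA
        have hfin : (∀ h ∈ (⨆ B ∈ componentOf (FAdj (Cfsg.quadraticRootSubgroups G)) (Cfsg.quadraticRootSubgroups G) (Cfsg.sameActionSubgroup G u), B), g' * h = h * g') →
            (g ∈ Subgroup.centralizer ((⨆ A ∈ Cfsg.quadraticRootSubgroups G, A : Subgroup (LinearMap.GeneralLinearGroup k M)) : Set (LinearMap.GeneralLinearGroup k M)) ∨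
              ∃ A₀ ∈ Cfsg.quadraticRootSubgroups G, g ∈ ⨆ B ∈ componentOf (FAdj (Cfsg.quadraticRootSubgroups G)) (Cfsg.quadraticRootSubgroups G) A₀, B) := by
          intro hcom
          have hS0 : S - S * T₁ * S = 0 := by
            refine hZ u hum _ (by rw [huU]; exact hSU) ?_
            intro h hh
            have h1 := hcom h hh
            have h2 : (g' : Module.End k M) * (h : Module.End k M) =
                (h : Module.End k M) * (g' : Module.End k M) := by
              rw [← Units.val_mul, ← Units.val_mul, h1]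
            rw [hg', add_mul, mul_add, one_mul, mul_one] at h2
            exact add_left_cancel h2
          have hg'1 : g' = 1 := Units.ext (by rw [hg', hS0, add_zero, Units.val_one])
          right
          refine ⟨_, hA, ?_⟩
          rw [e, hg'1, one_mul]
          exact huK
        rcases ih _ (by rw [← hn]; exact hlt) _ hS' rfl g' hg' with h1 | ⟨A₁, hA₁, h1⟩
        · apply hfin
          intro h hh
          rw [Subgroup.mem_centralizer_iff] at h1
          have hsub : (⨆ B ∈ componentOf (FAdj (Cfsg.quadraticRootSubgroups G)) (Cfsg.quadraticRootSubgroups G) (Cfsg.sameActionSubgroup G u), B) ≤ ⨆ A ∈ Cfsg.quadraticRootSubgroups G, A :=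
            iSup₂_le fun A hA => le_biSup (fun B => B) hA.1
          exact (h1 h (hsub hh)).symm
        · by_cases hsame : Cfsg.sameActionSubgroup G u ∈ componentOf (FAdj (Cfsg.quadraticRootSubgroups G)) (Cfsg.quadraticRootSubgroups G) A₁
          · right
            refine ⟨A₁, hA₁, ?_⟩
            rw [e]
            exact Subgroup.mul_mem _ h1 ((le_biSup (fun B => B) hsame) huA)
          · apply hfin
            intro h hh
            have hle : (⨆ B ∈ componentOf (FAdj (Cfsg.quadraticRootSubgroups G)) (Cfsg.quadraticRootSubgroups G) (Cfsg.sameActionSubgroup G u), B) ≤ Subgroup.centralizer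
                ((⨆ B ∈ componentOf (FAdj (Cfsg.quadraticRootSubgroups G)) (Cfsg.quadraticRootSubgroups G) A₁, B : Subgroup (LinearMap.GeneralLinearGroup k M)) : Set (LinearMap.GeneralLinearGroup k M)) := by
              refine iSup₂_le fun B hB => ?_
              refine comp_outside_centralizer hamb A₁ hB.1 ?_
              intro hB1
              apply hsame
              rw [qp_comp_eq hB1 hB]
              exact hAc
            have := hle hh
            rw [Subgroup.mem_centralizer_iff] at this
            exact this g' h1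
  exact key _ _ (qpN_of_quad hσ) rfl σ qp_val_of_sub

end qp39

end Cfsg.Agent.Lib.helper85
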