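import Cfsg.Agent.Lib.helper85.QP2

set_option autoImplicit false
set_option linter.unusedSimpArgs false

namespace Cfsg.Agent.Lib.helper85

open Polynomial
open scoped commutatorElement

section qp5a
variable {K : Type*} [Field K]

/-- `SL₂` over a field with an element `t ≠ 0`, `t² ≠ 1` is perfect -/
theorem qp_perfect (t : K) (ht : t ≠ 0) (ht2 : t * t ≠ 1) :
    ⁅(⊤ : Subgroup (Matrix.SpecialLinearGroup (Fin 2) K)), (⊤ : Subgroup (Matrix.SpecialLinearGroup (Fin 2) K))⁆
      = ⊤ := by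
  rw [eq_top_iff]
  intro g _
  have hs : t * t - 1 ≠ 0 := sub_ne_zero.mpr ht2
  refine dk_gen_top (⊤ : Subfield K) _ ?_ ?_ ⟨trivial, trivial, trivial, trivial⟩
  · intro x _
    obtain ⟨y, rfl⟩ : ∃ y, x = (t * t - 1) * y := ⟨x / (t * t - 1), by rw [mul_div_cancel₀ _ hs]⟩
    have e : dkU ((t * t - 1) * y) = ⁅dkMk t 0 0 t⁻¹ (by field_simp; ring), dkU y⁆ := by
      rw [commutatorElement_def, dk_conj_U (by simp), dkU_inv, dkU_mul]
      congr 1
      simp only [dkMk_00]
      ring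
    rw [e]
    exact Subgroup.commutator_mem_commutator trivial trivial
  · intro x _
    obtain ⟨y, rfl⟩ : ∃ y, x = (t * t - 1) * y := ⟨x / (t * t - 1), by rw [mul_div_cancel₀ _ hs]⟩
    have h1 : t * t⁻¹ = 1 := mul_inv_cancel₀ ht
    have e : dkL ((t * t - 1) * y) = ⁅dkMk t⁻¹ 0 0 t (by field_simp; ring), dkL y⁆ := by
      rw [commutatorElement_def]
      apply dk_ext
      · simp [ht]
      · simp
      · simp only [dk_mul10, dk_mul11, dk_mul00, dk_mul01, dk_inv00, dk_inv01, dk_inv10, dk_inv11, dkMk_00,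
          dkMk_01, dkMk_10, dkMk_11, dkL_00, dkL_01, dkL_10, dkL_11]
        linear_combination y * h1
      · simp [ht]
    rw [e]
    exact Subgroup.commutator_mem_commutator trivial trivial

end qp5a

section qp5b
variable {k : Type*} [Field k]

theorem qp_root_ne (q : k[X]) (hqX : ¬ q ∣ X) : AdjoinRoot.root q ≠ 0 := by
  rw [← AdjoinRoot.mk_X, Ne, AdjoinRoot.mk_eq_zero]
  exact hqX

theorem qp_adjoin_top (q : k[X]) [Fact (Irreducible q)] :
    IntermediateField.adjoin k ({AdjoinRoot.root q} : Set (AdjoinRoot q)) = ⊤ := by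
  rw [eq_top_iff]
  intro x _
  obtain ⟨p, rfl⟩ := AdjoinRoot.mk_surjective x
  rw [← AdjoinRoot.aeval_eq]
  exact dk_aeval_mem _ p

/-- the reduction map -/
noncomputable def qpRed (q : k[X]) :
    Matrix.SpecialLinearGroup (Fin 2) k[X] →* Matrix.SpecialLinearGroup (Fin 2) (AdjoinRoot q) :=
  Matrix.SpecialLinearGroup.map (AdjoinRoot.mk q)

theorem qpRed_apply (q : k[X]) (g : Matrix.SpecialLinearGroup (Fin 2) k[X]) (i j : Fin 2) :
    (qpRed q g).1 i j = AdjoinRoot.mk q (g.1 i j) := qm_map_apply _ g i j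

theorem qp_dickson (hk2 : ringChar k ≠ 2) (hk3 : Nat.card k ≠ 3) (q : k[X]) [Fact (Irreducible q)]
    (hqX : ¬ q ∣ X) : (qpGam k).map (qpRed q) = ⊤ := by
  have hq0 : q ≠ 0 := (Fact.out : Irreducible q).ne_zero
  have h60 := Cfsg.Agent.S5060.result hk2 hk3 (AdjoinRoot.root q) (AdjoinRoot.isAlgebraic_root hq0)
    (qp_root_ne q hqX)
  rw [qp_adjoin_top] at h60
  rw [eq_top_iff]
  have htop : (⊤ : Subgroup (Matrix.SpecialLinearGroup (Fin 2) (AdjoinRoot q))) ≤ Subgroup.closure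
      ({g : Matrix.SpecialLinearGroup (Fin 2) (AdjoinRoot q) | ∃ c : k,
          (g : Matrix (Fin 2) (Fin 2) (AdjoinRoot q)) = !![1, algebraMap k (AdjoinRoot q) c; 0, 1]} ∪
        {g : Matrix.SpecialLinearGroup (Fin 2) (AdjoinRoot q) | ∃ c : k,
          (g : Matrix (Fin 2) (Fin 2) (AdjoinRoot q)) =
            !![1, 0; algebraMap k (AdjoinRoot q) c * AdjoinRoot.root q, 1]}) := by
    intro g _
    have := Set.ext_iff.mp h60 g
    exact this.mpr (fun i j => trivial)
  refine le_trans htop ?_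
  unfold qpGam
  rw [MonoidHom.map_closure]
  apply Subgroup.closure_mono
  rintro g (⟨c, hc⟩ | ⟨c, hc⟩)
  · refine ⟨qpU c, Or.inl ⟨c, rfl⟩, ?_⟩
    apply qm_ext
    · rw [qpRed_apply, qpU_00, hc, map_one]; rfl
    · rw [qpRed_apply, qpU_01, hc, AdjoinRoot.mk_C, AdjoinRoot.algebraMap_eq]; rfl
    · rw [qpRed_apply, qpU_10, hc, map_zero]; rfl
    · rw [qpRed_apply, qpU_11, hc, map_one]; rfl
  · refine ⟨qpL c, Or.inr ⟨c, rfl⟩, ?_⟩
    apply qm_ext
    · rw [qpRed_apply, qpL_00, hc, map_one]; rfl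
    · rw [qpRed_apply, qpL_01, hc, map_zero]; rfl
    · rw [qpRed_apply, qpL_10, hc, map_mul, AdjoinRoot.mk_C, AdjoinRoot.mk_X, AdjoinRoot.algebraMap_eq,
        mul_comm]; rfl
    · rw [qpRed_apply, qpL_11, hc, map_one]; rfl

theorem qp_dickson_surj (hk2 : ringChar k ≠ 2) (hk3 : Nat.card k ≠ 3) (q : k[X]) [Fact (Irreducible q)]
    (hqX : ¬ q ∣ X) (y : Matrix.SpecialLinearGroup (Fin 2) (AdjoinRoot q)) :
    ∃ g ∈ qpGam k, qpRed q g = y := by
  have : y ∈ (qpGam k).map (qpRed q) := by rw [qp_dickson hk2 hk3 q hqX]; trivial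
  obtain ⟨g, hg, rfl⟩ := this
  exact ⟨g, hg, rfl⟩

/-- an element of the base field different from `0, 1, -1` -/
theorem qp_exists_t (hk2 : ringChar k ≠ 2) (hk3 : Nat.card k ≠ 3) : ∃ t : k, t ≠ 0 ∧ t * t ≠ 1 := by
  classical
  have h2 : (2 : k) ≠ 0 := Ring.two_ne_zero hk2
  by_contra hcon
  have hall : ∀ t : k, t = 0 ∨ t = 1 ∨ t = -1 := by
    intro t
    by_contra ht
    apply hcon
    refine ⟨t, fun h => ht (Or.inl h), fun h => ht ?_⟩
    have : (t - 1) * (t + 1) = 0 := by linear_combination h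
    rcases mul_eq_zero.mp this with h1 | h1
    · exact Or.inr (Or.inl (by linear_combination h1))
    · exact Or.inr (Or.inr (by linear_combination h1))
  apply hk3
  have hne : (1 : k) ≠ -1 := by
    intro h
    apply h2
    linear_combination h
  have hfin : Finite k := by
    apply Finite.of_surjective (fun i : Fin 3 => if i = 0 then (0 : k) else if i = 1 then 1 else -1)
    intro t
    rcases hall t with h | h | h
    · exact ⟨0, by simp [h]⟩
    · exact ⟨1, by simp [h]⟩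
    · exact ⟨2, by simp [h]⟩
  have : Fintype k := Fintype.ofFinite k
  have hs : (Finset.univ : Finset k) = {0, 1, -1} := by
    ext t
    simp only [Finset.mem_univ, Finset.mem_insert, Finset.mem_singleton, true_iff]
    exact hall t
  rw [Nat.card_eq_fintype_card, ← Finset.card_univ, hs]
  rw [Finset.card_insert_of_notMem, Finset.card_insert_of_notMem, Finset.card_singleton]
  · simp [hne]
  · simp only [Finset.mem_insert, Finset.mem_singleton, not_or]
    exact ⟨zero_ne_one, (neg_ne_zero.mpr (one_ne_zero (α := k))).symm⟩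

/-- deep elements of the group with prescribed reduction -/
theorem qp_deep (hk2 : ringChar k ≠ 2) (hk3 : Nat.card k ≠ 3) (q : k[X]) [Fact (Irreducible q)]
    (hqX : ¬ q ∣ X) (N : ℕ) :
    ∃ g ∈ qpGam k, X ^ N ∣ g.1 1 0 ∧ X ^ N ∣ g.1 0 0 - 1 ∧ q ∣ g.1 1 0 ∧
      ∃ t : k, t * t ≠ 1 ∧ q ∣ g.1 0 0 - C t := by
  obtain ⟨t, ht0, ht1⟩ := qp_exists_t hk2 hk3
  have hinj : Function.Injective (algebraMap k (AdjoinRoot q)) := (algebraMap k (AdjoinRoot q)).injective
  have ht0' : algebraMap k (AdjoinRoot q) t ≠ 0 := by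
    rwa [Ne, map_eq_zero]
  have ht1' : algebraMap k (AdjoinRoot q) t * algebraMap k (AdjoinRoot q) t ≠ 1 := by
    rw [← map_mul, ← map_one (algebraMap k (AdjoinRoot q))]
    exact fun h => ht1 (hinj h)
  have hperf := qp_perfect _ ht0' ht1'
  have hmap := qpD_map (qpRed q) (qp_dickson hk2 hk3 q hqX) hperf (N + 1)
  have hy : dkMk (algebraMap k (AdjoinRoot q) t) 0 0 (algebraMap k (AdjoinRoot q) t)⁻¹
      (by field_simp; ring) ∈ (qpD k (N + 1)).map (qpRed q) := by rw [hmap]; trivial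
  obtain ⟨g, hg, hgy⟩ := hy
  have hcong := qpD_cong N hg
  rw [qpCong_mem] at hcong
  have hpow : (X : k[X]) ^ N ∣ X ^ (2 ^ N) := pow_dvd_pow X (Nat.lt_two_pow_self).le
  refine ⟨g, qpD_le _ hg, ?_, ?_, ?_, t, ht1, ?_⟩
  · have := hcong 1 0
    rw [Matrix.sub_apply, Matrix.one_apply_ne (by decide), sub_zero] at this
    exact dvd_trans hpow this
  · have := hcong 0 0
    rw [Matrix.sub_apply, Matrix.one_apply_eq] at this
    exact dvd_trans hpow this
  · have h10 := congrArg (fun y : Matrix.SpecialLinearGroup (Fin 2) (AdjoinRoot q) => y.1 1 0) hgy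
    simp only [qpRed_apply, dkMk_10] at h10
    rw [← AdjoinRoot.mk_eq_zero, h10]
  · have h00 := congrArg (fun y : Matrix.SpecialLinearGroup (Fin 2) (AdjoinRoot q) => y.1 0 0) hgy
    simp only [qpRed_apply, dkMk_00] at h00
    rw [← AdjoinRoot.mk_eq_zero, map_sub, h00, AdjoinRoot.mk_C, AdjoinRoot.algebraMap_eq, sub_self]

end qp5b

end Cfsg.Agent.Lib.helper85
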