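import Cfsg.Agent.Lib.helper85.QP3
import Cfsg.Agent.Lib.helper85.QP5

set_option autoImplicit false
set_option linter.unusedSimpArgs false

namespace Cfsg.Agent.Lib.helper85

open Polynomial

section qp4a
variable {k : Type*} [Field k] {M : Type*} [AddCommGroup M] [Module k M]

theorem qpEv_swap (A B : Module.End k M) : qpEv B A = qpEv A B := by
  unfold qpEv qpZ; rw [add_comm]

theorem qpT_congr (A B : Module.End k M) {p1 p2 p3 p4 q1 q2 q3 q4 : k[X]} (h1 : p1 = q1) (h2 : p2 = q2)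
    (h3 : p3 = q3) (h4 : p4 = q4) : qpT A B p1 p2 p3 p4 = qpT A B q1 q2 q3 q4 := by
  rw [h1, h2, h3, h4]

theorem qpT_add (A B : Module.End k M) (p1 p2 p3 p4 q1 q2 q3 q4 : k[X]) :
    qpT A B p1 p2 p3 p4 + qpT A B q1 q2 q3 q4 = qpT A B (p1 + q1) (p2 + q2) (p3 + q3) (p4 + q4) := by
  unfold qpT; simp only [map_add, add_mul]; abel

theorem qpT_sub (A B : Module.End k M) (p1 p2 p3 p4 q1 q2 q3 q4 : k[X]) :
    qpT A B p1 p2 p3 p4 - qpT A B q1 q2 q3 q4 = qpT A B (p1 - q1) (p2 - q2) (p3 - q3) (p4 - q4) := by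
  unfold qpT; simp only [map_sub, sub_mul]; abel

theorem qpT_ev (A B : Module.End k M) (p : k[X]) : qpT A B p 0 0 0 = qpEv A B p := by
  unfold qpT; simp

theorem qpT_A (A B : Module.End k M) : qpT A B 0 1 0 0 = A := by
  unfold qpT; simp

theorem qpT_B (A B : Module.End k M) : qpT A B 0 0 1 0 = B := by
  unfold qpT; simp

theorem qpT_evA (A B : Module.End k M) (p : k[X]) : qpT A B 0 p 0 0 = qpEv A B p * A := by
  unfold qpT; simp

theorem qpT_evB (A B : Module.End k M) (p : k[X]) : qpT A B 0 0 p 0 = qpEv A B p * B := by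
  unfold qpT; simp

theorem qpT_evAB (A B : Module.End k M) (p : k[X]) : qpT A B 0 0 0 p = qpEv A B p * (A * B) := by
  unfold qpT; simp

theorem qpT_split (A B : Module.End k M) (p1 p2 p3 p4 : k[X]) :
    qpT A B p1 p2 p3 p4 = qpEv A B p1 + qpEv A B p2 * A + qpEv A B p3 * B + qpEv A B p4 * (A * B) := rfl

theorem qpEv_C (A B : Module.End k M) (c : k) (W : Module.End k M) : qpEv A B (C c) * W = c • W := by
  unfold qpEv
  rw [aeval_C, Algebra.algebraMap_eq_smul_one, smul_mul_assoc, one_mul]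

theorem qpEv_mulX (A B : Module.End k M) (p : k[X]) :
    qpEv A B (X * p) = (A * B + B * A) * qpEv A B p := by
  rw [map_mul, qpEv_X]

theorem qpEv_comm_ev (A B : Module.End k M) (p p' : k[X]) :
    qpEv A B p * qpEv A B p' = qpEv A B p' * qpEv A B p := by
  rw [← map_mul, ← map_mul, mul_comm]

theorem qp_cA' {A B : Module.End k M} (hA : A * A = 0) (p : k[X]) (W : Module.End k M) :
    A * (qpEv A B p * W) = qpEv A B p * (A * W) := by
  rw [← mul_assoc, qpEv_comm_A hA, mul_assoc]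

theorem qp_cB' {A B : Module.End k M} (hB : B * B = 0) (p : k[X]) (W : Module.End k M) :
    B * (qpEv A B p * W) = qpEv A B p * (B * W) := by
  rw [← mul_assoc, qpEv_comm_B hB, mul_assoc]

theorem qp_ee (A B : Module.End k M) (p p' : k[X]) (W : Module.End k M) :
    qpEv A B p * (qpEv A B p' * W) = qpEv A B (p * p') * W := by
  rw [← mul_assoc, ← map_mul]

theorem qp_ee0 (A B : Module.End k M) (p p' : k[X]) : qpEv A B p * qpEv A B p' = qpEv A B (p * p') := by
  rw [← map_mul]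

theorem qp_AA' {A : Module.End k M} (hA : A * A = 0) (W : Module.End k M) : A * (A * W) = 0 := by
  rw [← mul_assoc, hA, zero_mul]

theorem qp_BA0 (A B : Module.End k M) : B * A = qpEv A B X - A * B := by
  rw [qpEv_X]; abel

theorem qp_BA' (A B : Module.End k M) (W : Module.End k M) :
    B * (A * W) = qpEv A B X * W - A * (B * W) := by
  rw [← mul_assoc, qp_BA0 A B, sub_mul, mul_assoc]

/-- `A * T` -/
theorem qpT_Al {A B : Module.End k M} (hA : A * A = 0) (hB : B * B = 0) (p1 p2 p3 p4 : k[X]) :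
    A * qpT A B p1 p2 p3 p4 = qpT A B 0 p1 0 p3 := by
  have h := qpT_mul hA hB 0 1 0 0 p1 p2 p3 p4
  rw [qpT_A] at h
  rw [h]
  exact qpT_congr A B (by ring) (by ring) (by ring) (by ring)

/-- `T * A` -/
theorem qpT_Ar {A B : Module.End k M} (hA : A * A = 0) (hB : B * B = 0) (p1 p2 p3 p4 : k[X]) :
    qpT A B p1 p2 p3 p4 * A = qpT A B (X * p3) (p1 + X * p4) 0 (-p3) := by
  have h := qpT_mul hA hB p1 p2 p3 p4 0 1 0 0
  rw [qpT_A] at h
  rw [h]
  exact qpT_congr A B (by ring) (by ring) (by ring) (by ring)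

/-- `B * T` -/
theorem qpT_Bl {A B : Module.End k M} (hA : A * A = 0) (hB : B * B = 0) (p1 p2 p3 p4 : k[X]) :
    B * qpT A B p1 p2 p3 p4 = qpT A B (X * p2) 0 (p1 + X * p4) (-p2) := by
  have h := qpT_mul hA hB 0 0 1 0 p1 p2 p3 p4
  rw [qpT_B] at h
  rw [h]
  exact qpT_congr A B (by ring) (by ring) (by ring) (by ring)

/-- `T * B` -/
theorem qpT_Br {A B : Module.End k M} (hA : A * A = 0) (hB : B * B = 0) (p1 p2 p3 p4 : k[X]) :
    qpT A B p1 p2 p3 p4 * B = qpT A B 0 0 p1 p2 := by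
  have h := qpT_mul hA hB p1 p2 p3 p4 0 0 1 0
  rw [qpT_B] at h
  rw [h]
  exact qpT_congr A B (by ring) (by ring) (by ring) (by ring)

theorem qpPhi_eq (A B : Module.End k M) {g : Matrix.SpecialLinearGroup (Fin 2) k[X]} {c' p4 : k[X]}
    (hc : g.1 1 0 = X * c') (h4 : g.1 0 0 - g.1 1 1 = X * p4) :
    qpPhi A B g.1 = qpT A B (g.1 1 1) (g.1 0 1) c' p4 := by
  unfold qpPhi; rw [hc, h4, qp_divX_X_mul, qp_divX_X_mul]

theorem qpPhi_inv_eq (A B : Module.End k M) {g : Matrix.SpecialLinearGroup (Fin 2) k[X]} {c' p4 : k[X]}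
    (hc : g.1 1 0 = X * c') (h4 : g.1 0 0 - g.1 1 1 = X * p4) :
    qpPhi A B (g⁻¹).1 = qpT A B (g.1 0 0) (-(g.1 0 1)) (-c') (-p4) := by
  have e1 : g.1 1 1 - g.1 0 0 = X * (-p4) := by rw [mul_neg, ← h4]; ring
  have e2 : -(X * c') = X * (-c') := by ring
  unfold qpPhi
  rw [qm_inv11, qm_inv01, qm_inv10, qm_inv00, hc, e1, e2, qp_divX_X_mul, qp_divX_X_mul]

theorem qpPhi_U (A B : Module.End k M) (c : k) : qpPhi A B (qpU c).1 = 1 + c • A := by
  have h4 : (qpU c).1 0 0 - (qpU c).1 1 1 = X * 0 := by rw [qpU_00, qpU_11]; ring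
  have hc : (qpU c).1 1 0 = X * 0 := by rw [qpU_10]; ring
  rw [qpPhi_eq A B hc h4, qpU_11, qpU_01, qpT_split, map_one, map_zero, zero_mul, zero_mul, add_zero, add_zero,
    qpEv_C]

theorem qpPhi_L (A B : Module.End k M) (c : k) : qpPhi A B (qpL c).1 = 1 + c • B := by
  have h4 : (qpL c).1 0 0 - (qpL c).1 1 1 = X * 0 := by rw [qpL_00, qpL_11]; ring
  have hc : (qpL c).1 1 0 = X * C c := by rw [qpL_10]
  rw [qpPhi_eq A B hc h4, qpL_11, qpL_01, qpT_split, map_one, map_zero, zero_mul, zero_mul, add_zero, add_zero,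
    qpEv_C]

theorem qpPhi_mul_inv {A B : Module.End k M} (hA : A * A = 0) (hB : B * B = 0)
    {g : Matrix.SpecialLinearGroup (Fin 2) k[X]} (hg : qpOrd g.1) :
    qpPhi A B g.1 * qpPhi A B (g⁻¹).1 = 1 := by
  rw [← qpPhi_mul hA hB hg (qpOrd_inv hg), qm_mul_inv, qpPhi_one]

theorem qpPhi_inv_mul {A B : Module.End k M} (hA : A * A = 0) (hB : B * B = 0)
    {g : Matrix.SpecialLinearGroup (Fin 2) k[X]} (hg : qpOrd g.1) :
    qpPhi A B (g⁻¹).1 * qpPhi A B g.1 = 1 := by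
  rw [← qpPhi_mul hA hB (qpOrd_inv hg) hg, qm_inv_mul, qpPhi_one]

/-- the conjugate of `A` by the image of `g` -/
noncomputable def qpCj (A B : Module.End k M) (g : Matrix.SpecialLinearGroup (Fin 2) k[X]) : Module.End k M :=
  qpPhi A B g.1 * A * qpPhi A B (g⁻¹).1

theorem qpCj_eq {A B : Module.End k M} (hA : A * A = 0) (hB : B * B = 0)
    {g : Matrix.SpecialLinearGroup (Fin 2) k[X]} (hg : qpOrd g.1) {c' : k[X]} (hc : g.1 1 0 = X * c') :
    qpCj A B g = qpT A B (g.1 0 0 * g.1 1 0) (g.1 0 0 ^ 2) (-(c' * g.1 1 0)) (-(2 * g.1 0 0 * c')) := by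
  obtain ⟨p4, h4⟩ := hg.2
  have ha : g.1 0 0 = g.1 1 1 + X * p4 := by rw [← h4]; ring
  unfold qpCj
  rw [qpPhi_eq A B hc h4, qpPhi_inv_eq A B hc h4, qpT_Ar hA hB, qpT_mul hA hB, hc, ha]
  exact qpT_congr A B (by ring) (by ring) (by ring) (by ring)

theorem qpCj_anti {A B : Module.End k M} (hA : A * A = 0) (hB : B * B = 0)
    {g : Matrix.SpecialLinearGroup (Fin 2) k[X]} (hg : qpOrd g.1) :
    A * qpCj A B g + qpCj A B g * A = -(qpEv A B (g.1 1 0 ^ 2)) := by
  obtain ⟨c', hc⟩ := hg.1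
  rw [qpCj_eq hA hB hg hc, qpT_Al hA hB, qpT_Ar hA hB, qpT_add, ← map_neg, ← qpT_ev, hc]
  exact qpT_congr A B (by ring) (by ring) (by ring) (by ring)

theorem qpCj_comm {A B : Module.End k M} (hA : A * A = 0) (hB : B * B = 0)
    {g : Matrix.SpecialLinearGroup (Fin 2) k[X]} (hg : qpOrd g.1) {c' : k[X]} (hc : g.1 1 0 = X * c') :
    A * qpCj A B g - qpCj A B g * A =
      qpEv A B (g.1 1 0 ^ 2) +
        (2 : k) • (qpEv A B (g.1 0 0 * g.1 1 0) * A - qpEv A B (g.1 1 0 * c') * (A * B)) := by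
  have e : qpEv A B (g.1 1 0 ^ 2) +
      (2 : k) • (qpEv A B (g.1 0 0 * g.1 1 0) * A - qpEv A B (g.1 1 0 * c') * (A * B)) =
      qpT A B (g.1 1 0 ^ 2) (C 2 * (g.1 0 0 * g.1 1 0)) 0 (-(C 2 * (g.1 1 0 * c'))) := by
    rw [qpT_split, map_zero, zero_mul, add_zero, map_neg, neg_mul, ← sub_eq_add_neg,
      map_mul (qpEv A B) (C 2) (g.1 0 0 * g.1 1 0), map_mul (qpEv A B) (C 2) (g.1 1 0 * c'),
      mul_assoc, mul_assoc, qpEv_C, qpEv_C, smul_sub, add_sub_assoc]
  rw [e, qpCj_eq hA hB hg hc, qpT_Al hA hB, qpT_Ar hA hB, qpT_sub, hc]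
  refine qpT_congr A B (by ring) ?_ (by ring) ?_
  · rw [show (C (2 : k) : k[X]) = 2 from rfl]; ring
  · rw [show (C (2 : k) : k[X]) = 2 from rfl]; ring

end qp4a

section qp4b
variable {k : Type*} [Field k] {M : Type*} [AddCommGroup M] [Module k M]
variable {G : Subgroup (LinearMap.GeneralLinearGroup k M)}

theorem qpN_conjG {N : Module.End k M} (h : qpN G N) {u : LinearMap.GeneralLinearGroup k M} (hu : u ∈ G) :
    qpN G ((u : Module.End k M) * N * ((u⁻¹ : LinearMap.GeneralLinearGroup k M) : Module.End k M)) := by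
  refine ⟨?_, fun c => ?_⟩
  · calc (u : Module.End k M) * N * ((u⁻¹ : LinearMap.GeneralLinearGroup k M) : Module.End k M) *
          ((u : Module.End k M) * N * ((u⁻¹ : LinearMap.GeneralLinearGroup k M) : Module.End k M))
        = (u : Module.End k M) * N * (((u⁻¹ : LinearMap.GeneralLinearGroup k M) : Module.End k M) *
            (u : Module.End k M)) * N * ((u⁻¹ : LinearMap.GeneralLinearGroup k M) : Module.End k M) := by
          simp only [mul_assoc]
      _ = 0 := by rw [Units.inv_mul, mul_one, mul_assoc (u : Module.End k M) N N, h.1, mul_zero, zero_mul]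
  · obtain ⟨g, hg, hg'⟩ := h.2 c
    refine ⟨u * g * u⁻¹, G.mul_mem (G.mul_mem hu hg) (G.inv_mem hu), ?_⟩
    rw [Units.val_mul, Units.val_mul, hg', mul_add, add_mul, mul_one, Units.mul_inv, mul_smul_comm,
      smul_mul_assoc]

theorem qpPhi_memG {A B : Module.End k M} (hNA : qpN G A) (hNB : qpN G B)
    {g : Matrix.SpecialLinearGroup (Fin 2) k[X]} (hg : g ∈ qpGam k) :
    ∃ h ∈ G, ((h : LinearMap.GeneralLinearGroup k M) : Module.End k M) = qpPhi A B g.1 := by
  unfold qpGam at hg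
  induction hg using Subgroup.closure_induction with
  | mem x hx =>
    rcases hx with ⟨c, rfl⟩ | ⟨c, rfl⟩
    · obtain ⟨h, hh, e⟩ := hNA.2 c
      exact ⟨h, hh, by rw [e, qpPhi_U]⟩
    · obtain ⟨h, hh, e⟩ := hNB.2 c
      exact ⟨h, hh, by rw [e, qpPhi_L]⟩
  | one => exact ⟨1, G.one_mem, by rw [Units.val_one, Matrix.SpecialLinearGroup.coe_one, qpPhi_one]⟩
  | mul x y hx hy ihx ihy =>
    obtain ⟨h1, hh1, e1⟩ := ihx
    obtain ⟨h2, hh2, e2⟩ := ihy
    refine ⟨h1 * h2, G.mul_mem hh1 hh2, ?_⟩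
    rw [Units.val_mul, e1, e2, Matrix.SpecialLinearGroup.coe_mul,
      qpPhi_mul hNA.1 hNB.1 (qpGam_ord hx) (qpGam_ord hy)]
  | inv x hx ih =>
    obtain ⟨h1, hh1, e1⟩ := ih
    refine ⟨h1⁻¹, G.inv_mem hh1, ?_⟩
    have : (h1 : Module.End k M) * qpPhi A B (x⁻¹).1 = 1 := by
      rw [e1, qpPhi_mul_inv hNA.1 hNB.1 (qpGam_ord hx)]
    calc ((h1⁻¹ : LinearMap.GeneralLinearGroup k M) : Module.End k M)
        = ((h1⁻¹ : LinearMap.GeneralLinearGroup k M) : Module.End k M) *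
            ((h1 : Module.End k M) * qpPhi A B (x⁻¹).1) := by rw [this, mul_one]
      _ = qpPhi A B (x⁻¹).1 := by rw [← mul_assoc, Units.inv_mul, one_mul]

theorem qpPhi_memG' {A B : Module.End k M} (hNA : qpN G A) (hNB : qpN G B)
    {g : Matrix.SpecialLinearGroup (Fin 2) k[X]} (hg : g ∈ qpGam k) :
    ∃ h ∈ G, ((h : LinearMap.GeneralLinearGroup k M) : Module.End k M) = qpPhi A B g.1 ∧
      ((h⁻¹ : LinearMap.GeneralLinearGroup k M) : Module.End k M) = qpPhi A B (g⁻¹).1 := by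
  obtain ⟨h, hh, e⟩ := qpPhi_memG hNA hNB hg
  refine ⟨h, hh, e, ?_⟩
  have : (h : Module.End k M) * qpPhi A B (g⁻¹).1 = 1 := by
    rw [e, qpPhi_mul_inv hNA.1 hNB.1 (qpGam_ord hg)]
  calc ((h⁻¹ : LinearMap.GeneralLinearGroup k M) : Module.End k M)
      = ((h⁻¹ : LinearMap.GeneralLinearGroup k M) : Module.End k M) *
          ((h : Module.End k M) * qpPhi A B (g⁻¹).1) := by rw [this, mul_one]
    _ = qpPhi A B (g⁻¹).1 := by rw [← mul_assoc, Units.inv_mul, one_mul]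

theorem qpCj_N {A B : Module.End k M} (hNA : qpN G A) (hNB : qpN G B)
    {g : Matrix.SpecialLinearGroup (Fin 2) k[X]} (hg : g ∈ qpGam k) : qpN G (qpCj A B g) := by
  obtain ⟨h, hh, e1, e2⟩ := qpPhi_memG' hNA hNB hg
  have := qpN_conjG hNA hh
  rwa [e1, e2] at this

theorem qpCj_rank [FiniteDimensional k M] {A B : Module.End k M} (hA : A * A = 0) (hB : B * B = 0)
    {g : Matrix.SpecialLinearGroup (Fin 2) k[X]} (hg : g ∈ qpGam k) :
    Module.finrank k (LinearMap.range (qpCj A B g)) = Module.finrank k (LinearMap.range A) :=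
  qp_rank_conj (qpPhi_mul_inv hA hB (qpGam_ord hg)) (qpPhi_inv_mul hA hB (qpGam_ord hg)) A

theorem qpEv_A_apply {A B : Module.End k M} (hA : A * A = 0) (p : k[X]) (m : M) :
    qpEv A B p (A m) = A (qpEv A B p m) := by
  have := congrArg (fun f : Module.End k M => f m) (qpEv_comm_A (B := B) hA p)
  simpa using this.symm

theorem qpEv_B_apply {A B : Module.End k M} (hB : B * B = 0) (p : k[X]) (m : M) :
    qpEv A B p (B m) = B (qpEv A B p m) := by
  have := congrArg (fun f : Module.End k M => f m) (qpEv_comm_B (A := A) hB p)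
  simpa using this.symm

theorem qp_coprime_ker (A B : Module.End k M) {p p' : k[X]} (h : IsCoprime p p') {m : M}
    (h1 : qpEv A B p m = 0) (h2 : qpEv A B p' m = 0) : m = 0 := by
  obtain ⟨u, v, huv⟩ := h
  have := congrArg (fun r => qpEv A B r m) huv
  simp only [map_add, map_mul, map_one, LinearMap.add_apply, Module.End.mul_apply, Module.End.one_apply, h1, h2,
    map_zero, add_zero] at this
  exact this.symm

theorem qp_dvd_ker (A B : Module.End k M) {p p' : k[X]} (h : p ∣ p') {m : M} (h1 : qpEv A B p m = 0) :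
    qpEv A B p' m = 0 := by
  obtain ⟨r, rfl⟩ := h
  rw [mul_comm, map_mul, Module.End.mul_apply, h1, map_zero]

theorem qp_dvd_zero (A B : Module.End k M) {p p' : k[X]} (h : p ∣ p') {W : Module.End k M}
    (h1 : qpEv A B p * W = 0) : qpEv A B p' * W = 0 := by
  obtain ⟨r, rfl⟩ := h
  rw [mul_comm, map_mul, mul_assoc, h1, mul_zero]

theorem qp_z_of_A {A B : Module.End k M} (hA : A * A = 0) (hB : B * B = 0) {p : k[X]}
    (h : qpEv A B p * A = 0) : qpEv A B (X * p) = 0 := by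
  have hA0 : A * qpEv A B p = 0 := by rw [qpEv_comm_A hA, h]
  have e1 : A * (B * qpEv A B p) = 0 := by rw [qpEv_comm_B hB, ← mul_assoc, hA0, zero_mul]
  have e2 : B * (A * qpEv A B p) = 0 := by rw [hA0, mul_zero]
  rw [qpEv_mulX, add_mul, mul_assoc, mul_assoc, e1, e2, add_zero]

theorem qp_LAq {A B : Module.End k M} (hB : B * B = 0) {q : k[X]} (hqX : IsCoprime q X)
    {m₀ : M} (hm0 : m₀ ≠ 0) (hq0 : qpEv A B q m₀ = 0) : ∃ m, qpEv A B q m = 0 ∧ A m ≠ 0 := by
  by_contra hcon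
  have hcon' : ∀ m, qpEv A B q m = 0 → A m = 0 := by
    intro m hm
    by_contra h
    exact hcon ⟨m, hm, h⟩
  have h1 : A m₀ = 0 := hcon' m₀ hq0
  have h2 : A (B m₀) = 0 := hcon' (B m₀) (by rw [qpEv_B_apply hB, hq0, map_zero])
  have hz : qpEv A B X m₀ = 0 := by
    rw [qpEv_X, LinearMap.add_apply, Module.End.mul_apply, Module.End.mul_apply, h1, h2, map_zero, add_zero]
  exact hm0 (qp_coprime_ker A B hqX hq0 hz)

theorem qp_stab [FiniteDimensional k M] (z : Module.End k M) {n j : ℕ} (hn : Module.finrank k M ≤ n)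
    {Y : Module.End k M} (h : z ^ (n + j) * Y = 0) : z ^ n * Y = 0 := by
  ext m
  have h1 : Y m ∈ LinearMap.ker (z ^ (n + j)) := by
    rw [LinearMap.mem_ker]
    have := congrArg (fun f : Module.End k M => f m) h
    simpa using this
  have h2 := Module.End.ker_pow_le_ker_pow_finrank z (n + j) h1
  rw [LinearMap.mem_ker] at h2
  obtain ⟨i, rfl⟩ := Nat.exists_eq_add_of_le hn
  rw [Module.End.mul_apply, add_comm, pow_add, Module.End.mul_apply, h2, map_zero]
  rfl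

theorem qp_stab_ev [FiniteDimensional k M] (A B : Module.End k M) {n j : ℕ} (hn : Module.finrank k M ≤ n)
    {p : k[X]} (h : qpEv A B (X ^ (n + j) * p) = 0) : qpEv A B (X ^ n * p) = 0 := by
  rw [map_mul, map_pow] at h ⊢
  exact qp_stab _ hn h

theorem qp_rank_lt [FiniteDimensional k M] {P A : Module.End k M} {m : M} (hv0 : A m ≠ 0)
    (hPv : P (A m) = 0) :
    Module.finrank k (LinearMap.range (P * A)) < Module.finrank k (LinearMap.range A) := by
  let f : ↥(LinearMap.range A) →ₗ[k] M := P ∘ₗ (LinearMap.range A).subtype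
  have hr : LinearMap.range f = LinearMap.range (P * A) := by
    rw [Module.End.mul_eq_comp, LinearMap.range_comp, LinearMap.range_comp, Submodule.range_subtype]
  have hk : 0 < Module.finrank k (LinearMap.ker f) := by
    rw [Module.finrank_pos_iff_exists_ne_zero]
    refine ⟨⟨⟨A m, ⟨m, rfl⟩⟩, ?_⟩, ?_⟩
    · rw [LinearMap.mem_ker]; exact hPv
    · intro h
      apply hv0
      have := congrArg (fun x : ↥(LinearMap.ker f) => ((x : ↥(LinearMap.range A)) : M)) h
      simpa using this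
  have := LinearMap.finrank_range_add_finrank_ker f
  rw [hr] at this
  omega

theorem qp_L1 [FiniteDimensional k M] {d : ℕ} (h2 : (2 : k) ≠ 0)
    (hmin : ∀ N : Module.End k M, qpN G N → N ≠ 0 → d ≤ Module.finrank k (LinearMap.range N))
    {A B : Module.End k M} (hNA : qpN G A) (hNB : qpN G B)
    (rA : Module.finrank k (LinearMap.range A) = d)
    {g : Matrix.SpecialLinearGroup (Fin 2) k[X]} (hg : g ∈ qpGam k) {n : ℕ}
    (hnil : qpEv A B (g.1 1 0) ^ n = 0) :
    qpEv A B (g.1 1 0 ^ 2) * A = 0 ∧ qpN G (A * qpCj A B g - qpCj A B g * A) := by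
  have hN' := qpCj_N hNA hNB hg
  have hr' : Module.finrank k (LinearMap.range (qpCj A B g)) = d := by
    rw [qpCj_rank hNA.1 hNB.1 hg, rA]
  have hz := qpCj_anti hNA.1 hNB.1 (qpGam_ord hg)
  have hpow : (A * qpCj A B g + qpCj A B g * A) ^ n = 0 := by
    rw [hz, neg_pow, map_pow, ← pow_mul, mul_comm 2 n, pow_mul, hnil, zero_pow two_ne_zero, mul_zero]
  obtain ⟨u1, u2⟩ := qp_unip h2 hmin hNA hN' rA hr' hpow
  refine ⟨?_, qpN_comm hNA hN' u1 u2⟩
  rw [hz, neg_mul, neg_eq_zero] at u1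
  exact u1

theorem qp_L2 [FiniteDimensional k M] {d : ℕ} (h2 : (2 : k) ≠ 0)
    (hmin : ∀ N : Module.End k M, qpN G N → N ≠ 0 → d ≤ Module.finrank k (LinearMap.range N))
    {A B : Module.End k M} (hA : A * A = 0) (hB : B * B = 0)
    (rA : Module.finrank k (LinearMap.range A) = d)
    {g : Matrix.SpecialLinearGroup (Fin 2) k[X]} (hg : g ∈ qpGam k) {c' : k[X]} (hc : g.1 1 0 = X * c')
    {n : ℕ} (hnil : qpEv A B (g.1 1 0) ^ n = 0) (h0 : qpEv A B (g.1 1 0 ^ 2) = 0)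
    (hD : qpN G (A * qpCj A B g - qpCj A B g * A)) : qpEv A B (g.1 1 0) * A = 0 := by
  rw [qpCj_comm hA hB (qpGam_ord hg) hc, h0, zero_add] at hD
  have cA : ∀ p, A * qpEv A B p = qpEv A B p * A := qpEv_comm_A hA
  have cB : ∀ p, B * qpEv A B p = qpEv A B p * B := qpEv_comm_B hB
  have hY : qpEv A B (g.1 0 0 * g.1 1 0) * A - qpEv A B (g.1 1 0 * c') * (A * B) =
      qpEv A B (g.1 1 0) * A * (qpEv A B (g.1 0 0) - qpEv A B c' * B) := by
    rw [mul_comm (g.1 0 0) (g.1 1 0)]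
    simp only [mul_sub, mul_assoc, qpEv_comm_A hA, qp_cA' hA, qp_ee, qp_ee0]
  have hY0 : qpEv A B (g.1 0 0 * g.1 1 0) * A - qpEv A B (g.1 1 0 * c') * (A * B) = 0 := by
    by_contra hne
    have hne2 : (2 : k) • (qpEv A B (g.1 0 0 * g.1 1 0) * A - qpEv A B (g.1 1 0 * c') * (A * B)) ≠ 0 :=
      smul_ne_zero h2 hne
    have hd := hmin _ hD hne2
    have hle : LinearMap.range ((2 : k) • (qpEv A B (g.1 0 0 * g.1 1 0) * A -
        qpEv A B (g.1 1 0 * c') * (A * B))) ≤ LinearMap.range (qpEv A B (g.1 1 0) * A) := by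
      rw [hY, ← mul_smul_comm]
      exact LinearMap.range_comp_le_range _ _
    have hd2 := le_trans hd (Submodule.finrank_mono hle)
    rw [← rA] at hd2
    have hA0 := qp_nil_zero (cA (g.1 1 0)).symm hnil hd2
    apply hne
    rw [hA0, mul_zero, zero_mul, mul_zero, sub_zero]
  rw [hY] at hY0
  have hW : (qpEv A B (g.1 0 0) - qpEv A B c' * B) * (qpEv A B (g.1 0 0) + qpEv A B c' * B) =
      qpEv A B (g.1 0 0 ^ 2) := by
    simp only [sub_mul, mul_add, mul_assoc, qpEv_comm_B hB, qp_cB' hB, qp_ee, qp_ee0, hB, mul_zero]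
    let _ : Module k[X] (Module.End k M) := Module.compHom _ (qpEv A B).toRingHom
    have hs : ∀ (p : k[X]) (W : Module.End k M), qpEv A B p * W = p • W := fun _ _ => rfl
    have hs1 : ∀ (p : k[X]), qpEv A B p = p • (1 : Module.End k M) := fun p => (mul_one _).symm
    simp only [hs]
    simp only [hs1]
    module
  have h1 : qpEv A B (g.1 1 0 * g.1 0 0 ^ 2) * A = 0 := by
    have := congrArg (fun f => f * (qpEv A B (g.1 0 0) + qpEv A B c' * B)) hY0
    simp only [zero_mul] at this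
    rw [mul_assoc, hW, mul_assoc, cA, ← mul_assoc, ← map_mul] at this
    exact this
  have hdet := qm_det g
  have key : g.1 1 0 = g.1 1 1 ^ 2 * (g.1 1 0 * g.1 0 0 ^ 2) -
      (2 * g.1 0 1 + g.1 0 1 ^ 2 * g.1 1 0) * g.1 1 0 ^ 2 := by
    linear_combination (-(g.1 1 0 * (g.1 0 0 * g.1 1 1 + g.1 0 1 * g.1 1 0 + 1))) * hdet
  have := congrArg (qpEv A B) key
  rw [this, map_sub, sub_mul, map_mul, mul_assoc, h1, mul_zero, map_mul (qpEv A B) _ (g.1 1 0 ^ 2), h0, mul_zero,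
    zero_mul, sub_zero]

end qp4b

section qp4c
variable {k : Type*} [Field k] {M : Type*} [AddCommGroup M] [Module k M]
variable {G : Subgroup (LinearMap.GeneralLinearGroup k M)}

/-- the standing hypotheses for a pair -/
structure QpSetup (G : Subgroup (LinearMap.GeneralLinearGroup k M)) (d : ℕ) (q : k[X])
    (A B : Module.End k M) : Prop where
  hk2 : ringChar k ≠ 2
  hk3 : Nat.card k ≠ 3
  hq : Irreducible q
  hqX : IsCoprime q X
  hmin : ∀ N : Module.End k M, qpN G N → N ≠ 0 → d ≤ Module.finrank k (LinearMap.range N)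
  hNA : qpN G A
  hNB : qpN G B
  rA : Module.finrank k (LinearMap.range A) = d
  rB : Module.finrank k (LinearMap.range B) = d
  hMq : ∃ m : M, m ≠ 0 ∧ qpEv A B q m = 0
  hT4 : ∀ g ∈ qpGam k, q ∣ g.1 1 0 → ∃ n : ℕ, qpEv A B (g.1 1 0) ^ n = 0

theorem QpSetup.symm {d : ℕ} {q : k[X]} {A B : Module.End k M} (S : QpSetup G d q A B) :
    QpSetup G d q B A where
  hk2 := S.hk2
  hk3 := S.hk3
  hq := S.hq
  hqX := S.hqX
  hmin := S.hmin
  hNA := S.hNB
  hNB := S.hNA
  rA := S.rB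
  rB := S.rA
  hMq := by rw [qpEv_swap]; exact S.hMq
  hT4 := by rw [qpEv_swap]; exact S.hT4

theorem QpSetup.h2 {d : ℕ} {q : k[X]} {A B : Module.End k M} (S : QpSetup G d q A B) : (2 : k) ≠ 0 :=
  Ring.two_ne_zero S.hk2

theorem QpSetup.hqX' {d : ℕ} {q : k[X]} {A B : Module.End k M} (S : QpSetup G d q A B) : ¬ q ∣ X :=
  fun h => S.hq.not_isUnit (S.hqX.isUnit_of_dvd' (dvd_refl q) h)

/-- `z` is injective on the range of `A` -/
theorem qp_Z1 [FiniteDimensional k M] {d : ℕ} {q : k[X]} {A B : Module.End k M} (S : QpSetup G d q A B) :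
    ∀ m : M, qpEv A B X (A m) = 0 → A m = 0 := by
  intro m hm
  by_contra hne
  have hF : Fact (Irreducible q) := ⟨S.hq⟩
  obtain ⟨g, hg, hX1, hX2, hq1, t, ht, hq2⟩ := qp_deep S.hk2 S.hk3 q S.hqX' (Module.finrank k M + 1)
  have hA := S.hNA.1
  have hB := S.hNB.1
  obtain ⟨c₀, hc₀⟩ := hX1
  have hc : g.1 1 0 = X * (X ^ Module.finrank k M * c₀) := by rw [hc₀, pow_succ]; ring
  obtain ⟨n, hnil⟩ := S.hT4 g hg hq1
  obtain ⟨l1, l2⟩ := qp_L1 S.h2 S.hmin S.hNA S.hNB S.rA hg hnil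
  have hz0 : qpEv A B (X * g.1 1 0 ^ 2) = 0 := qp_z_of_A hA hB l1
  have e1 : X * g.1 1 0 ^ 2 = X ^ (2 * (Module.finrank k M + 1) + 1) * c₀ ^ 2 := by rw [hc₀]; ring
  have e2 : g.1 1 0 ^ 2 = X ^ (2 * (Module.finrank k M + 1)) * c₀ ^ 2 := by rw [hc₀]; ring
  have h0 : qpEv A B (g.1 1 0 ^ 2) = 0 := by
    rw [e2]
    exact qp_stab_ev A B (by omega) (by rw [← e1]; exact hz0)
  have l3 := qp_L2 S.h2 S.hmin hA hB S.rA hg hc hnil h0 l2
  have hz1 : qpEv A B (X * g.1 1 0) = 0 := qp_z_of_A hA hB l3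
  have e3 : X * g.1 1 0 = X ^ (Module.finrank k M + 2) * c₀ := by rw [hc₀]; ring
  have hc'0 : qpEv A B (X ^ Module.finrank k M * c₀) = 0 :=
    qp_stab_ev A B (le_refl _) (by rw [← e3]; exact hz1)
  have hc0 : qpEv A B (g.1 1 0) = 0 := by rw [hc, map_mul, hc'0, mul_zero]
  have hCj : qpCj A B g = qpEv A B (g.1 0 0 ^ 2) * A := by
    rw [qpCj_eq hA hB (qpGam_ord hg) hc, qpT_split]
    simp only [map_mul, map_neg, hc0, hc'0, mul_zero, zero_mul, neg_zero, add_zero, zero_add]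
  have hN' := qpCj_N S.hNA S.hNB hg
  rw [hCj] at hN'
  have hsub := qpN_sub hN' S.hNA (by rw [mul_assoc, hA, mul_zero])
    (by rw [← mul_assoc, qpEv_comm_A hA, mul_assoc, hA, mul_zero])
  have e4 : qpEv A B (g.1 0 0 ^ 2) * A - A = qpEv A B (g.1 0 0 ^ 2 - 1) * A := by
    rw [map_sub, map_one, sub_mul, one_mul]
  rw [e4] at hsub
  obtain ⟨r, hr⟩ : X ∣ g.1 0 0 ^ 2 - 1 := by
    have : g.1 0 0 ^ 2 - 1 = (g.1 0 0 - 1) * (g.1 0 0 + 1) := by ring
    rw [this]
    exact dvd_mul_of_dvd_left (dvd_trans (dvd_pow_self X (Nat.succ_ne_zero _)) hX2) _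
  have hP : qpEv A B (g.1 0 0 ^ 2 - 1) (A m) = 0 := by
    rw [hr, mul_comm, map_mul, Module.End.mul_apply, hm, map_zero]
  have hlt := qp_rank_lt hne hP
  have hzero : qpEv A B (g.1 0 0 ^ 2 - 1) * A = 0 := by
    by_contra h
    have := S.hmin _ hsub h
    rw [S.rA] at hlt
    omega
  obtain ⟨m₀, hm₀, hq0⟩ := S.hMq
  obtain ⟨m₁, hm₁, hAm₁⟩ := qp_LAq hB S.hqX hm₀ hq0
  obtain ⟨s, hs⟩ := hq2
  have e5 : g.1 0 0 ^ 2 - 1 = C (t * t - 1) + q * (s * (g.1 0 0 + C t)) := by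
    rw [C_sub, C_mul, C_1]
    linear_combination (g.1 0 0 + C t) * hs
  have h5 : qpEv A B (g.1 0 0 ^ 2 - 1) m₁ = (t * t - 1) • m₁ := by
    rw [e5, map_add, LinearMap.add_apply, mul_comm q, map_mul, Module.End.mul_apply, hm₁, map_zero, add_zero]
    unfold qpEv
    rw [aeval_C]
    rfl
  have h6 := congrArg (fun f : Module.End k M => f m₁) hzero
  simp only [Module.End.mul_apply, LinearMap.zero_apply] at h6
  rw [qpEv_A_apply hA, h5, map_smul] at h6
  rcases smul_eq_zero.mp h6 with h | h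
  · exact ht (by linear_combination h)
  · exact hAm₁ h

end qp4c

section qp4d
variable {k : Type*} [Field k] {M : Type*} [AddCommGroup M] [Module k M]
variable {G : Subgroup (LinearMap.GeneralLinearGroup k M)}

theorem qp_cancelX {A B : Module.End k M} (hA : A * A = 0)
    (Z1 : ∀ m : M, qpEv A B X (A m) = 0 → A m = 0) {p : k[X]} (h : qpEv A B (X * p) * A = 0) :
    qpEv A B p * A = 0 := by
  ext m
  have h' := congrArg (fun f : Module.End k M => f m) h
  simp only [Module.End.mul_apply, LinearMap.zero_apply, map_mul] at h'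
  rw [Module.End.mul_apply, LinearMap.zero_apply, qpEv_A_apply hA]
  apply Z1
  rw [← qpEv_A_apply hA]
  exact h'

theorem qp_cancelXB {A B : Module.End k M} (hB : B * B = 0)
    (Z2 : ∀ m : M, qpEv A B X (B m) = 0 → B m = 0) {p : k[X]} (h : qpEv A B (X * p) * B = 0) :
    qpEv A B p * B = 0 := by
  ext m
  have h' := congrArg (fun f : Module.End k M => f m) h
  simp only [Module.End.mul_apply, LinearMap.zero_apply, map_mul] at h'
  rw [Module.End.mul_apply, LinearMap.zero_apply, qpEv_B_apply hB]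
  apply Z2
  rw [← qpEv_B_apply hB]
  exact h'

theorem qp_z_of_B {A B : Module.End k M} (hA : A * A = 0) (hB : B * B = 0) {p : k[X]}
    (h : qpEv A B p * B = 0) : qpEv A B (X * p) = 0 := by
  have := qp_z_of_A (A := B) (B := A) hB hA (p := p) (by rw [qpEv_swap]; exact h)
  rwa [qpEv_swap] at this

theorem qp_Z2 [FiniteDimensional k M] {d : ℕ} {q : k[X]} {A B : Module.End k M} (S : QpSetup G d q A B) :
    ∀ m : M, qpEv A B X (B m) = 0 → B m = 0 := by
  have := qp_Z1 S.symm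
  rwa [qpEv_swap] at this

theorem qp_coreA [FiniteDimensional k M] {d : ℕ} {q : k[X]} {A B : Module.End k M} (S : QpSetup G d q A B)
    {g : Matrix.SpecialLinearGroup (Fin 2) k[X]} (hg : g ∈ qpGam k) (hq1 : q ∣ g.1 1 0) {c' : k[X]}
    (hc : g.1 1 0 = X * c') : qpEv A B c' * A = 0 := by
  have hA := S.hNA.1
  have hB := S.hNB.1
  have Z1 := qp_Z1 S
  obtain ⟨n, hnil⟩ := S.hT4 g hg hq1
  obtain ⟨l1, l2⟩ := qp_L1 S.h2 S.hmin S.hNA S.hNB S.rA hg hnil
  have e1 : g.1 1 0 ^ 2 = X * (X * c' ^ 2) := by rw [hc]; ring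
  have a1 : qpEv A B (c' ^ 2) * A = 0 := qp_cancelX hA Z1 (qp_cancelX hA Z1 (by rw [← e1]; exact l1))
  have h0 : qpEv A B (g.1 1 0 ^ 2) = 0 := by
    rw [e1, map_mul, qp_z_of_A hA hB a1, mul_zero]
  have l3 := qp_L2 S.h2 S.hmin hA hB S.rA hg hc hnil h0 l2
  exact qp_cancelX hA Z1 (by rw [← hc]; exact l3)

theorem qp_core [FiniteDimensional k M] {d : ℕ} {q : k[X]} {A B : Module.End k M} (S : QpSetup G d q A B)
    {g : Matrix.SpecialLinearGroup (Fin 2) k[X]} (hg : g ∈ qpGam k) (hq1 : q ∣ g.1 1 0) {c' : k[X]}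
    (hc : g.1 1 0 = X * c') : qpEv A B c' * A = 0 ∧ qpEv A B c' * B = 0 := by
  refine ⟨qp_coreA S hg hq1 hc, ?_⟩
  have := qp_coreA S.symm hg hq1 hc
  rwa [qpEv_swap] at this

theorem qp_core_c [FiniteDimensional k M] {d : ℕ} {q : k[X]} {A B : Module.End k M} (S : QpSetup G d q A B)
    {g : Matrix.SpecialLinearGroup (Fin 2) k[X]} (hg : g ∈ qpGam k) (hq1 : q ∣ g.1 1 0) :
    qpEv A B (g.1 1 0) = 0 := by
  obtain ⟨c', hc⟩ := (qpGam_ord hg).1
  rw [hc]
  exact qp_z_of_A S.hNA.1 S.hNB.1 (qp_coreA S hg hq1 hc)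

theorem qp_core_conj [FiniteDimensional k M] {d : ℕ} {q : k[X]} {A B : Module.End k M}
    (S : QpSetup G d q A B) {g : Matrix.SpecialLinearGroup (Fin 2) k[X]} (hg : g ∈ qpGam k)
    (hq1 : q ∣ g.1 1 0) : qpCj A B g = qpEv A B (g.1 0 0 ^ 2) * A := by
  obtain ⟨c', hc⟩ := (qpGam_ord hg).1
  have a2 := qp_coreA S hg hq1 hc
  have hc0 := qp_core_c S hg hq1
  have t1 : qpEv A B (g.1 0 0 * g.1 1 0) = 0 := by rw [map_mul, hc0, mul_zero]
  have t3 : qpEv A B (-(c' * g.1 1 0)) * B = 0 := by rw [map_neg, map_mul, hc0, mul_zero, neg_zero, zero_mul]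
  have t4 : qpEv A B (-(2 * g.1 0 0 * c')) * (A * B) = 0 := by
    rw [map_neg, map_mul, neg_mul, mul_assoc, ← mul_assoc (qpEv A B c'), a2, zero_mul, mul_zero, neg_zero]
  rw [qpCj_eq S.hNA.1 S.hNB.1 (qpGam_ord hg) hc, qpT_split, t1, t3, t4, zero_add, add_zero, add_zero]

theorem qpT_AsA {A B : Module.End k M} (hA : A * A = 0) (hB : B * B = 0) (p1 p2 p3 p4 : k[X]) :
    A * qpT A B p1 p2 p3 p4 * A = qpEv A B (X * p3) * A := by
  rw [qpT_Al hA hB, qpT_Ar hA hB, ← qpT_evA]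
  exact qpT_congr A B (by ring) (by ring) (by ring) (by ring)

theorem qpT_BsB {A B : Module.End k M} (hA : A * A = 0) (hB : B * B = 0) (p1 p2 p3 p4 : k[X]) :
    B * qpT A B p1 p2 p3 p4 * B = qpEv A B (X * p2) * B := by
  rw [qpT_Bl hA hB, qpT_Br hA hB, ← qpT_evB]

theorem qpEv_C2 (A B : Module.End k M) (h2 : (2 : k) ≠ 0) {p : k[X]} {W : Module.End k M}
    (h : qpEv A B (C 2 * p) * W = 0) : qpEv A B p * W = 0 := by
  rw [map_mul, mul_assoc, qpEv_C] at h
  exact (smul_eq_zero.mp h).resolve_left h2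

end qp4d

section qp4e
variable {k : Type*} [Field k] {M : Type*} [AddCommGroup M] [Module k M]

theorem qp_weyl_trick {A B : Module.End k M} (hA : A * A = 0) (hB : B * B = 0) (h2 : (2 : k) ≠ 0)
    (Z1 : ∀ m : M, qpEv A B X (A m) = 0 → A m = 0) (Z2 : ∀ m : M, qpEv A B X (B m) = 0 → B m = 0)
    {f₀ d' b c' p4 P' : k[X]}
    (hstar : qpT A B d' b c' p4 =
      qpT A B P' (-(C 2 * ((1 - X * f₀) * f₀))) (C 2 * ((1 - X * f₀) * (C 2 - X * f₀))) 0)
    (hcA : qpEv A B c' * A = 0) (hpB : qpEv A B (p4 - b) * B = 0) :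
    qpEv A B (1 - X * f₀) * A = 0 ∧ qpEv A B (1 - X * f₀) * B = 0 := by
  have cA := qpEv_comm_A (B := B) hA
  have cB := qpEv_comm_B (A := A) hB
  obtain ⟨R', hR'⟩ : ∃ R' : k[X], R' = -(C 2 * ((1 - X * f₀) * f₀)) := ⟨_, rfl⟩
  rw [← hR'] at hstar
  have s1 : qpEv A B ((1 - X * f₀) * (C 2 - X * f₀)) * A = 0 := by
    have h := congrArg (fun T => A * T * A) hstar
    simp only [qpT_AsA hA hB] at h
    rw [map_mul (qpEv A B) X c', mul_assoc, hcA, mul_zero] at h
    exact qpEv_C2 A B h2 (qp_cancelX hA Z1 h.symm)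
  have s2 : qpEv A B (R' - b) * B = 0 := by
    have h := congrArg (fun T => B * T * B) hstar
    simp only [qpT_BsB hA hB] at h
    apply qp_cancelXB hB Z2
    rw [mul_sub, map_sub, sub_mul, h, sub_self]
  have s2' : qpEv A B R' * (A * B) = qpEv A B b * (A * B) := by
    have h' : qpEv A B (R' - b) * (A * B) = 0 := by
      rw [← mul_assoc, ← cA, mul_assoc, s2, mul_zero]
    rw [map_sub, sub_mul] at h'
    exact sub_eq_zero.mp h'
  have s3 : qpEv A B P' * B = qpEv A B d' * B := by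
    have h := congrArg (fun T => T * B) hstar
    simp only [qpT_Br hA hB] at h
    simp only [qpT_split, map_zero, zero_mul, zero_add, add_zero] at h
    rw [s2'] at h
    exact (add_right_cancel h).symm
  have s4 : qpEv A B p4 * B = 0 := by
    have h := congrArg (fun T => B * T) hstar
    simp only [qpT_Bl hA hB] at h
    simp only [qpT_split, map_zero, zero_mul, add_zero, mul_zero] at h
    have hXR : qpEv A B (X * R') = qpEv A B (X * b) := by
      have := qp_z_of_B hA hB s2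
      rw [mul_sub, map_sub] at this
      exact sub_eq_zero.mp this
    have e1 : qpEv A B (d' + X * p4) * B = qpEv A B d' * B + qpEv A B (X * p4) * B := by
      rw [map_add, add_mul]
    have e2 : qpEv A B (-b) * (A * B) = -(qpEv A B b * (A * B)) := by rw [map_neg, neg_mul]
    have e3 : qpEv A B (-R') * (A * B) = -(qpEv A B R' * (A * B)) := by rw [map_neg, neg_mul]
    rw [e1, e2, e3, hXR, s3, s2'] at h
    apply qp_cancelXB hB Z2
    linear_combination (norm := abel) h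
  have s5 : qpEv A B b * B = 0 := by
    rw [map_sub, sub_mul, s4, zero_sub, neg_eq_zero] at hpB
    exact hpB
  have s6 : qpEv A B R' * B = 0 := by
    rw [map_sub, sub_mul, s5, sub_zero] at s2
    exact s2
  have s7 : qpEv A B ((1 - X * f₀) * f₀) * B = 0 := by
    rw [hR', map_neg, neg_mul, neg_eq_zero] at s6
    exact qpEv_C2 A B h2 s6
  have e4 : (1 - X * f₀) * (X * f₀) = X * ((1 - X * f₀) * f₀) := by ring
  have e5 : C 2 * (1 - X * f₀) = (1 - X * f₀) * (C 2 - X * f₀) + (1 - X * f₀) * (X * f₀) := by ring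
  have t1 : qpEv A B ((1 - X * f₀) * (C 2 - X * f₀)) * (A * B) = 0 := by rw [← mul_assoc, s1, zero_mul]
  have t2 : qpEv A B ((1 - X * f₀) * (X * f₀)) * (A * B) = 0 := by
    rw [e4, ← mul_assoc, ← cA, mul_assoc, map_mul, mul_assoc, s7, mul_zero, mul_zero]
  have t4 : qpEv A B (1 - X * f₀) * (A * B) = 0 := by
    apply qpEv_C2 A B h2
    rw [e5, map_add, add_mul, t1, t2, add_zero]
  have u1 : qpEv A B ((1 - X * f₀) * (C 2 - X * f₀)) * (B * A) = 0 := by
    rw [← mul_assoc, ← cB, mul_assoc, s1, mul_zero]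
  have u2 : qpEv A B ((1 - X * f₀) * (X * f₀)) * (B * A) = 0 := by
    rw [e4, map_mul, mul_assoc, ← mul_assoc (qpEv A B ((1 - X * f₀) * f₀)) B A, s7, zero_mul, mul_zero]
  have u4 : qpEv A B (1 - X * f₀) * (B * A) = 0 := by
    apply qpEv_C2 A B h2
    rw [e5, map_add, add_mul, u1, u2, add_zero]
  have hABA : A * B * A = qpEv A B X * A := by
    rw [mul_assoc, qp_BA0 A B, mul_sub, ← mul_assoc A A B, hA, zero_mul, sub_zero, cA]
  have hBAB : B * A * B = qpEv A B X * B := by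
    rw [qp_BA0 A B, sub_mul, mul_assoc A B B, hB, mul_zero, sub_zero]
  constructor
  · apply qp_cancelX hA Z1
    rw [mul_comm X (1 - X * f₀), map_mul, mul_assoc, ← hABA, ← mul_assoc, t4, zero_mul]
  · apply qp_cancelXB hB Z2
    rw [mul_comm X (1 - X * f₀), map_mul, mul_assoc, ← hBAB, ← mul_assoc, u4, zero_mul]

end qp4e

section qp4f
variable {k : Type*} [Field k]

theorem qpRed_U (q : k[X]) [Fact (Irreducible q)] (c : k) :
    qpRed q (qpU c) = dkU (algebraMap k (AdjoinRoot q) c) := by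
  apply dk_ext
  · rw [qpRed_apply, qpU_00, map_one]; rfl
  · rw [qpRed_apply, qpU_01, AdjoinRoot.mk_C, AdjoinRoot.algebraMap_eq]; rfl
  · rw [qpRed_apply, qpU_10, map_zero]; rfl
  · rw [qpRed_apply, qpU_11, map_one]; rfl

theorem qpRed_L (q : k[X]) [Fact (Irreducible q)] (c : k) :
    qpRed q (qpL c) = dkL (AdjoinRoot.root q * algebraMap k (AdjoinRoot q) c) := by
  apply dk_ext
  · rw [qpRed_apply, qpL_00, map_one]; rfl
  · rw [qpRed_apply, qpL_01, map_zero]; rfl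
  · rw [qpRed_apply, qpL_10, map_mul, AdjoinRoot.mk_C, AdjoinRoot.mk_X, AdjoinRoot.algebraMap_eq]; rfl
  · rw [qpRed_apply, qpL_11, map_one]; rfl

theorem qp_two_squares {K : Type*} [Field K] [Algebra k K] (h2 : (2 : k) ≠ 0) (y : K) :
    ∃ s₁ s₂ : k, ∃ t₁ t₂ : K, t₁ ≠ 0 ∧ t₂ ≠ 0 ∧
      y = algebraMap k K s₁ * (t₁ * t₁) + algebraMap k K s₂ * (t₂ * t₂) := by
  have h2K : (2 : K) ≠ 0 := by
    have : algebraMap k K 2 ≠ 0 := (map_ne_zero (algebraMap k K)).mpr h2
    rwa [map_ofNat] at this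
  by_cases h1 : y = 1
  · exact ⟨1, 0, 1, 1, one_ne_zero, one_ne_zero, by rw [h1]; simp⟩
  by_cases h1' : y = -1
  · exact ⟨-1, 0, 1, 1, one_ne_zero, one_ne_zero, by rw [h1']; simp⟩
  refine ⟨1, -1, (y + 1) / 2, (y - 1) / 2, ?_, ?_, ?_⟩
  · refine div_ne_zero (fun h => h1' ?_) h2K
    linear_combination h
  · refine div_ne_zero (fun h => h1 ?_) h2K
    linear_combination h
  · rw [map_neg, map_one]
    field_simp
    ring

theorem qp_weyl_red {K : Type*} [Field K] (x y : K) (hxy : x * y = 1) :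
    (dkL x * dkU (-y) * dkL x) * (dkL x * dkU (-y) * dkL x) = dkMk (-1) 0 0 (-1) (by ring) := by
  apply dk_ext
  · simp only [dk_mul00, dk_mul01, dk_mul10, dk_mul11, dkL_00, dkL_01, dkL_10, dkL_11, dkU_00, dkU_01, dkU_10,
      dkU_11, dkMk_00]
    linear_combination (2 * (x * y - 1)) * hxy
  · simp only [dk_mul00, dk_mul01, dk_mul10, dk_mul11, dkL_00, dkL_01, dkL_10, dkL_11, dkU_00, dkU_01, dkU_10,
      dkU_11, dkMk_01]
    linear_combination (2 * y) * hxy
  · simp only [dk_mul00, dk_mul01, dk_mul10, dk_mul11, dkL_00, dkL_01, dkL_10, dkL_11, dkU_00, dkU_01, dkU_10,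
      dkU_11, dkMk_10]
    linear_combination (-2 * x * (2 - x * y)) * hxy
  · simp only [dk_mul00, dk_mul01, dk_mul10, dk_mul11, dkL_00, dkL_01, dkL_10, dkL_11, dkU_00, dkU_01, dkU_10,
      dkU_11, dkMk_11]
    linear_combination (2 * (x * y - 1)) * hxy

end qp4f

end Cfsg.Agent.Lib.helper85
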