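import Cfsg.Agent.Lib.helper85.QP39

set_option autoImplicit false
set_option linter.unusedVariables false
set_option linter.unusedSimpArgs false

namespace Cfsg.Agent.Lib.helper85

open Cfsg
open scoped commutatorElement

universe u

section qp40grp

theorem quasi_of_mulEquiv' {H K : Type*} [Group H] [Group K] (e : H ≃* K)
    (h : Cfsg.IsQuasisimple H) : Cfsg.IsQuasisimple K := by
  obtain ⟨hp, hs⟩ := h
  refine ⟨Group.IsPerfect.ofSurjective (f := e.toMonoidHom) e.surjective, ?_⟩
  have hc : (Subgroup.center H).map (e : H →* K) = Subgroup.center K := by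
    ext y
    rw [Subgroup.mem_map]
    constructor
    · rintro ⟨x, hx, rfl⟩
      have hx' : x ∈ Subgroup.center H := hx
      rw [Subgroup.mem_center_iff] at hx' ⊢
      intro g
      obtain ⟨g', rfl⟩ := e.surjective g
      have := hx' g'
      show e g' * e x = e x * e g'
      rw [← map_mul, ← map_mul, this]
    · intro hy
      have hmem : e.symm y ∈ Subgroup.center H := by
        rw [Subgroup.mem_center_iff] at hy ⊢
        intro g
        apply e.injective
        rw [map_mul, map_mul, MulEquiv.apply_symm_apply]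
        exact hy (e g)
      exact ⟨e.symm y, hmem, by simp⟩
  exact (QuotientGroup.congr (Subgroup.center H) (Subgroup.center K) e hc).symm.isSimpleGroup

theorem stabFam_conjBy_sup {H : Type*} [Group H] {c : Set (Subgroup H)} {g : H}
    (hg : g ∈ stabFam c) : conjBy (⨆ B ∈ c, B) g = ⨆ B ∈ c, B := by
  have hle : ∀ x : H, x ∈ stabFam c → conjBy (⨆ B ∈ c, B) x ≤ ⨆ B ∈ c, B := by
    intro x hx
    show (⨆ B ∈ c, B).map (MulAut.conj x).toMonoidHom ≤ _
    rw [Subgroup.map_iSup]
    refine iSup_le fun B => ?_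
    rw [Subgroup.map_iSup]
    refine iSup_le fun hB => ?_
    exact le_biSup (fun B => B) ((mem_stabFam.mp hx) B hB).1
  refine le_antisymm (hle g hg) ?_
  have h1 := conjBy_mono (hle g⁻¹ (inv_mem hg)) g
  rw [conjBy_conjBy, mul_inv_cancel, conjBy_one] at h1
  exact h1

end qp40grp

section qp40res
variable {k : Type*} [Field k] {M : Type*} [AddCommGroup M] [Module k M]

theorem gl_apply_inv_self (g : LinearMap.GeneralLinearGroup k M) (m : M) :
    (g : Module.End k M) (((g⁻¹ : LinearMap.GeneralLinearGroup k M) : Module.End k M) m) = m := by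
  rw [← gl_mul_apply, mul_inv_cancel, Units.val_one, Module.End.one_apply]

/-- restriction of a subgroup stabilizing a subspace -/
def resHom (G' : Subgroup (LinearMap.GeneralLinearGroup k M)) (L : Submodule k M)
    (hL : ∀ g ∈ G', ∀ x ∈ L, (g : Module.End k M) x ∈ L) :
    ↥G' →* LinearMap.GeneralLinearGroup k ↥L where
  toFun g := ⟨((g : LinearMap.GeneralLinearGroup k M) : Module.End k M).restrict (hL g g.2),
    (((g : LinearMap.GeneralLinearGroup k M)⁻¹ : LinearMap.GeneralLinearGroup k M) :
      Module.End k M).restrict (hL _ (G'.inv_mem g.2)),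
    by
      apply LinearMap.ext
      intro x
      apply Subtype.ext
      exact gl_apply_inv_self _ _,
    by
      apply LinearMap.ext
      intro x
      apply Subtype.ext
      exact gl_inv_apply_self _ _⟩
  map_one' := by
    apply Units.ext
    apply LinearMap.ext
    intro x
    apply Subtype.ext
    show ((1 : LinearMap.GeneralLinearGroup k M) : Module.End k M) (x : M) = (x : M)
    rw [Units.val_one, Module.End.one_apply]
  map_mul' := by
    intro g h
    apply Units.ext
    apply LinearMap.ext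
    intro x
    apply Subtype.ext
    show (((g : LinearMap.GeneralLinearGroup k M) * (h : LinearMap.GeneralLinearGroup k M) :
      LinearMap.GeneralLinearGroup k M) : Module.End k M) (x : M) =
      ((g : LinearMap.GeneralLinearGroup k M) : Module.End k M)
        (((h : LinearMap.GeneralLinearGroup k M) : Module.End k M) (x : M))
    rw [gl_mul_apply]

theorem resHom_coe (G' : Subgroup (LinearMap.GeneralLinearGroup k M)) (L : Submodule k M)
    (hL : ∀ g ∈ G', ∀ x ∈ L, (g : Module.End k M) x ∈ L) (g : ↥G') (x : ↥L) :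
    ((((resHom G' L hL g : LinearMap.GeneralLinearGroup k ↥L) : Module.End k ↥L) x : ↥L) : M) =
      ((g : LinearMap.GeneralLinearGroup k M) : Module.End k M) (x : M) := rfl

theorem resHom_sub_one_apply (G' : Subgroup (LinearMap.GeneralLinearGroup k M)) (L : Submodule k M)
    (hL : ∀ g ∈ G', ∀ x ∈ L, (g : Module.End k M) x ∈ L) (g : ↥G') (x : ↥L) :
    (((((resHom G' L hL g : LinearMap.GeneralLinearGroup k ↥L) : Module.End k ↥L) - 1) x : ↥L) : M) =
      (((g : LinearMap.GeneralLinearGroup k M) : Module.End k M) - 1) (x : M) := rfl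

/-- pull back of a subgroup along a homomorphism from a subgroup -/
def pullSub {N : Type*} [Group N] {G' : Subgroup (LinearMap.GeneralLinearGroup k M)} (ρ : ↥G' →* N)
    (H : Subgroup N) : Subgroup (LinearMap.GeneralLinearGroup k M) :=
  (H.comap ρ).map G'.subtype

theorem mem_pullSub {N : Type*} [Group N] {G' : Subgroup (LinearMap.GeneralLinearGroup k M)}
    {ρ : ↥G' →* N} {H : Subgroup N} {y : LinearMap.GeneralLinearGroup k M} :
    y ∈ pullSub ρ H ↔ ∃ x : ↥G', ρ x ∈ H ∧ (x : LinearMap.GeneralLinearGroup k M) = y := by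
  constructor
  · rintro ⟨x, hx, rfl⟩
    exact ⟨x, hx, rfl⟩
  · rintro ⟨x, hx, rfl⟩
    exact ⟨x, hx, rfl⟩

theorem qp_quad_of_qpN {G : Subgroup (LinearMap.GeneralLinearGroup k M)} {N : Module.End k M}
    (hN : qpN G N) (hN0 : N ≠ 0) {g : LinearMap.GeneralLinearGroup k M}
    (hg : (g : Module.End k M) = 1 + N) : g ∈ Cfsg.quadraticElements G := by
  have e' : ((g : LinearMap.GeneralLinearGroup k M) : M →ₗ[k] M) - 1 = N := by
    rw [show ((g : LinearMap.GeneralLinearGroup k M) : M →ₗ[k] M) = 1 + N from hg]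
    exact add_sub_cancel_left 1 N
  have hgG : g ∈ G := by
    obtain ⟨g', hg', e⟩ := hN.2 1
    have : g = g' := Units.ext (by rw [hg, e, one_smul])
    rw [this]; exact hg'
  refine ⟨hgG, ⟨?_, ?_⟩, ?_⟩
  · rw [e']; exact hN.1
  · rw [e']; exact hN0
  · rintro τ ⟨c, hc⟩
    rw [e'] at hc
    obtain ⟨g', hg', e⟩ := hN.2 c
    have : τ = g' := Units.ext (by rw [hc, e])
    rw [this]; exact hg'

end qp40res

section qp40
variable {k : Type u} [Field k] {M : Type u} [AddCommGroup M] [Module k M]
variable {G : Subgroup (LinearMap.GeneralLinearGroup k M)}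

theorem qp_comp_le (G : Subgroup (LinearMap.GeneralLinearGroup k M))
    (A₀ : Subgroup (LinearMap.GeneralLinearGroup k M)) :
    (⨆ B ∈ componentOf (FAdj (Cfsg.quadraticRootSubgroups G)) (Cfsg.quadraticRootSubgroups G) A₀, B) ≤
      ⨆ A ∈ Cfsg.quadraticRootSubgroups G, A :=
  iSup₂_le fun B hB => le_biSup (fun B => B) hB.1

theorem qp_comp_closure (A₀ : Subgroup (LinearMap.GeneralLinearGroup k M)) :
    Subgroup.closure (Cfsg.quadraticElements G ∩
      ((⨆ B ∈ componentOf (FAdj (Cfsg.quadraticRootSubgroups G)) (Cfsg.quadraticRootSubgroups G) A₀, B :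
        Subgroup (LinearMap.GeneralLinearGroup k M)) : Set (LinearMap.GeneralLinearGroup k M))) =
      ⨆ B ∈ componentOf (FAdj (Cfsg.quadraticRootSubgroups G)) (Cfsg.quadraticRootSubgroups G) A₀, B := by
  refine le_antisymm ((Subgroup.closure_le _).mpr Set.inter_subset_right) ?_
  refine iSup₂_le fun B hB => ?_
  obtain ⟨σ, hσ, hBe⟩ := hB.1
  rw [hBe]
  show Subgroup.closure (Cfsg.sameActionClass G σ) ≤ _
  refine Subgroup.closure_mono ?_
  intro x hx
  refine ⟨hx.1.1, (le_biSup (fun B => B) hB) ?_⟩
  rw [hBe]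
  exact Subgroup.subset_closure hx

theorem qp_comp_sup_comm [FiniteDimensional k M] (hk2 : ringChar k ≠ 2) (hk3 : Nat.card k ≠ 3)
    (hG : Cfsg.IsQuadraticPair G) {A₁ A₂ : Subgroup (LinearMap.GeneralLinearGroup k M)}
    (hne : componentOf (FAdj (Cfsg.quadraticRootSubgroups G)) (Cfsg.quadraticRootSubgroups G) A₁ ≠
      componentOf (FAdj (Cfsg.quadraticRootSubgroups G)) (Cfsg.quadraticRootSubgroups G) A₂) :
    ⁅(⨆ B ∈ componentOf (FAdj (Cfsg.quadraticRootSubgroups G)) (Cfsg.quadraticRootSubgroups G) A₁, B),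
      (⨆ B ∈ componentOf (FAdj (Cfsg.quadraticRootSubgroups G)) (Cfsg.quadraticRootSubgroups G) A₂, B)⁆ =
      ⊥ := by
  have hamb := qp_amb hk2 hk3 hG
  rw [Subgroup.commutator_eq_bot_iff_le_centralizer]
  refine iSup₂_le fun A hA => ?_
  rw [Subgroup.le_centralizer_iff]
  refine iSup₂_le fun B hB => ?_
  rw [← Subgroup.commutator_eq_bot_iff_le_centralizer, Subgroup.commutator_comm]
  apply amb_comp_comm hamb A₁ hA hB.1
  intro hB1
  exact hne (qp_comp_eq hB1 hB)

end qp40

end Cfsg.Agent.Lib.helper85
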