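import Cfsg.Agent.Lib.helper85.QP40

set_option autoImplicit false
set_option linter.unusedVariables false
set_option linter.unusedSimpArgs false

namespace Cfsg.Agent.Lib.helper85

open Cfsg
open scoped commutatorElement

universe u

section qp41
variable {k : Type u} [Field k] {M : Type u} [AddCommGroup M] [Module k M]
variable {G G₀ G' : Subgroup (LinearMap.GeneralLinearGroup k M)} {L : Submodule k M}

/-- the setting of the restriction to a minimal invariant subspace of the subgroup generated by
the quadratic elements centralizing `G₀` -/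
structure QPRes (G G₀ G' : Subgroup (LinearMap.GeneralLinearGroup k M)) (L : Submodule k M) : Prop where
  irr : Cfsg.IsIrreducibleFor G
  le : G' ≤ G
  comm : ∀ x ∈ G', ∀ g ∈ G₀, x * g = g * x
  sup : G ≤ G₀ ⊔ G'
  ne_bot : L ≠ ⊥
  inv : ∀ x ∈ G', ∀ l ∈ L, (x : Module.End k M) l ∈ L
  min : ∀ L' : Submodule k M, L' ≤ L → L' ≠ ⊥ →
    (∀ x ∈ G', ∀ l ∈ L', (x : Module.End k M) l ∈ L') → L' = L
  gen : G' = Subgroup.closure (Cfsg.quadraticElements G ∩
    (Subgroup.centralizer (G₀ : Set (LinearMap.GeneralLinearGroup k M)) : Set (LinearMap.GeneralLinearGroup k M)))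

theorem QPRes.faithful (h : QPRes G G₀ G' L) {X : Module.End k M}
    (hX : ∀ g ∈ G₀, X * (g : Module.End k M) = (g : Module.End k M) * X) (hXL : ∀ l ∈ L, X l = 0) : X = 0 :=
  kill_of_commute h.irr h.sup h.comm h.ne_bot h.inv hX hXL

theorem QPRes.comm_val (h : QPRes G G₀ G' L) {x : LinearMap.GeneralLinearGroup k M} (hx : x ∈ G') {g : LinearMap.GeneralLinearGroup k M} (hg : g ∈ G₀) :
    (x : Module.End k M) * (g : Module.End k M) = (g : Module.End k M) * (x : Module.End k M) := by
  rw [← Units.val_mul, ← Units.val_mul, h.comm x hx g hg]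

theorem QPRes.comm_sub (h : QPRes G G₀ G' L) {x : LinearMap.GeneralLinearGroup k M} (hx : x ∈ G') {g : LinearMap.GeneralLinearGroup k M} (hg : g ∈ G₀) :
    ((x : Module.End k M) - 1) * (g : Module.End k M) = (g : Module.End k M) * ((x : Module.End k M) - 1) := by
  rw [sub_mul, mul_sub, one_mul, mul_one, h.comm_val hx hg]

theorem QPRes.inj (h : QPRes G G₀ G' L) : Function.Injective (resHom G' L h.inv) := by
  rw [injective_iff_map_eq_one]
  intro x hx
  have h0 : ((x : LinearMap.GeneralLinearGroup k M) : Module.End k M) - 1 = 0 := by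
    refine h.faithful (fun g hg => h.comm_sub x.2 hg) ?_
    intro l hl
    have h1 : ((((((resHom G' L h.inv) x : LinearMap.GeneralLinearGroup k ↥L) : Module.End k ↥L) - 1) ⟨l, hl⟩ : ↥L) : M) = 0 := by
      rw [hx, Units.val_one, sub_self]; rfl
    rw [resHom_sub_one_apply] at h1
    exact h1
  apply Subtype.ext
  apply Units.ext
  show ((x : LinearMap.GeneralLinearGroup k M) : Module.End k M) = ((1 : LinearMap.GeneralLinearGroup k M) : Module.End k M)
  rw [Units.val_one]
  exact sub_eq_zero.mp h0

theorem QPRes.irr_res (h : QPRes G G₀ G' L) : Cfsg.IsIrreducibleFor (resHom G' L h.inv).range := by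
  constructor
  · obtain ⟨l, hl, hl0⟩ := Submodule.exists_mem_ne_zero_of_ne_bot h.ne_bot
    exact ⟨⟨l, hl⟩, fun e => hl0 (congrArg Subtype.val e)⟩
  · intro W hW
    by_cases hW0 : W = ⊥
    · exact Or.inl hW0
    · right
      have hmap : W.map L.subtype = L := by
        apply h.min
        · rintro _ ⟨w, -, rfl⟩
          exact w.2
        · intro e
          apply hW0
          rw [eq_bot_iff]
          intro w hw
          have h1 : (w : M) ∈ W.map L.subtype := ⟨w, hw, rfl⟩
          rw [e, Submodule.mem_bot] at h1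
          rw [Submodule.mem_bot]
          exact Subtype.ext h1
        · rintro x hx _ ⟨w, hw, rfl⟩
          exact ⟨(((resHom G' L h.inv) ⟨x, hx⟩ : LinearMap.GeneralLinearGroup k ↥L) : Module.End k ↥L) w, hW _ ⟨⟨x, hx⟩, rfl⟩ w hw, rfl⟩
      rw [eq_top_iff]
      intro l _
      have h1 : (l : M) ∈ W.map L.subtype := by rw [hmap]; exact l.2
      obtain ⟨w, hw, hwl⟩ := h1
      have h2 : w = l := Subtype.ext hwl
      rw [← h2]; exact hw

theorem QPRes.down (h : QPRes G G₀ G' L) {z : LinearMap.GeneralLinearGroup k M} (hzq : z ∈ Cfsg.quadraticElements G)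
    (hz : z ∈ G') :
    (resHom G' L h.inv) ⟨z, hz⟩ ∈ Cfsg.quadraticElements (resHom G' L h.inv).range := by
  refine ⟨⟨_, rfl⟩, ⟨?_, ?_⟩, ?_⟩
  · apply LinearMap.ext
    intro l
    apply Subtype.ext
    rw [Module.End.mul_apply, resHom_sub_one_apply, resHom_sub_one_apply]
    have := congrArg (fun f : Module.End k M => f (l : M)) hzq.2.1.1
    simpa [Module.End.mul_apply] using this
  · intro e
    apply hzq.2.1.2
    refine h.faithful (fun g hg => h.comm_sub hz hg) ?_
    intro l hl
    have h1 : ((((((resHom G' L h.inv) ⟨z, hz⟩ : LinearMap.GeneralLinearGroup k ↥L) : Module.End k ↥L) - 1) ⟨l, hl⟩ : ↥L) : M) = 0 := by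
      rw [e]; rfl
    rw [resHom_sub_one_apply] at h1
    exact h1
  · rintro τ' ⟨c, hc⟩
    have hN := qpN_of_quad hzq
    obtain ⟨zc, hzcG, hzcv⟩ := hN.2 c
    have hzcG' : zc ∈ G' := by
      rw [h.gen]
      by_cases hc0 : c = 0
      · have : zc = 1 := Units.ext (by rw [hzcv, hc0, zero_smul, add_zero, Units.val_one])
        rw [this]; exact Subgroup.one_mem _
      · apply Subgroup.subset_closure
        refine ⟨qp_quad_of_qpN (qpN_smul hN c) ?_ hzcv, ?_⟩
        · intro e0
          rcases smul_eq_zero.mp e0 with h1 | h1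
          · exact hc0 h1
          · exact hzq.2.1.2 h1
        · show zc ∈ Subgroup.centralizer (G₀ : Set (LinearMap.GeneralLinearGroup k M))
          rw [Subgroup.mem_centralizer_iff]
          intro g hg
          have hzg : (z : Module.End k M) * (g : Module.End k M) = (g : Module.End k M) * (z : Module.End k M) := h.comm_val hz hg
          apply Units.ext
          rw [Units.val_mul, Units.val_mul, hzcv, mul_add, add_mul, mul_one, one_mul,
            mul_smul_comm, smul_mul_assoc, mul_sub, sub_mul, mul_one, one_mul, hzg]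
    refine ⟨⟨zc, hzcG'⟩, ?_⟩
    apply Units.ext
    apply LinearMap.ext
    intro l
    apply Subtype.ext
    have e1 : (((τ' : Module.End k ↥L) l : ↥L) : M) = (l : M) + c • (((z : Module.End k M) - 1) (l : M)) := by
      rw [hc]; rfl
    have e2 : (((((resHom G' L h.inv) ⟨zc, hzcG'⟩ : LinearMap.GeneralLinearGroup k ↥L) : Module.End k ↥L) l : ↥L) : M) =
        (l : M) + c • (((z : Module.End k M) - 1) (l : M)) := by
      rw [resHom_coe]
      show (zc : Module.End k M) (l : M) = _
      rw [hzcv]; rfl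
    rw [e1, e2]

theorem QPRes.gen_res (h : QPRes G G₀ G' L) :
    Subgroup.closure (Cfsg.quadraticElements (resHom G' L h.inv).range) = (resHom G' L h.inv).range := by
  refine le_antisymm ((Subgroup.closure_le _).mpr (fun x hx => hx.1)) ?_
  have key : ∀ z ∈ Subgroup.closure (Cfsg.quadraticElements G ∩
      (Subgroup.centralizer (G₀ : Set (LinearMap.GeneralLinearGroup k M)) : Set (LinearMap.GeneralLinearGroup k M))),
      ∀ hz : z ∈ G', (resHom G' L h.inv) ⟨z, hz⟩ ∈
        Subgroup.closure (Cfsg.quadraticElements (resHom G' L h.inv).range) := by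
    intro z hzc
    induction hzc using Subgroup.closure_induction with
    | mem z hz' =>
      intro hz
      exact Subgroup.subset_closure (h.down hz'.1 hz)
    | one =>
      intro hz
      have e0 : (⟨1, hz⟩ : ↥G') = 1 := rfl
      rw [e0, map_one]; exact Subgroup.one_mem _
    | mul x y hx hy ihx ihy =>
      intro hz
      have hx' : x ∈ G' := by rw [h.gen]; exact hx
      have hy' : y ∈ G' := by rw [h.gen]; exact hy
      have e0 : (⟨x * y, hz⟩ : ↥G') = ⟨x, hx'⟩ * ⟨y, hy'⟩ := rfl
      rw [e0, map_mul]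
      exact Subgroup.mul_mem _ (ihx hx') (ihy hy')
    | inv x hx ihx =>
      intro hz
      have hx' : x ∈ G' := by rw [h.gen]; exact hx
      have e0 : (⟨x⁻¹, hz⟩ : ↥G') = ⟨x, hx'⟩⁻¹ := rfl
      rw [e0, map_inv]
      exact Subgroup.inv_mem _ (ihx hx')
  rintro _ ⟨x, rfl⟩
  have hx : (x : LinearMap.GeneralLinearGroup k M) ∈ Subgroup.closure (Cfsg.quadraticElements G ∩
      (Subgroup.centralizer (G₀ : Set (LinearMap.GeneralLinearGroup k M)) : Set (LinearMap.GeneralLinearGroup k M))) := by
    rw [← h.gen]; exact x.2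
  exact key x hx x.2

theorem QPRes.lift (h : QPRes G G₀ G' L) {x : ↥G'}
    (hx : (resHom G' L h.inv) x ∈ Cfsg.quadraticElements (resHom G' L h.inv).range) :
    (x : LinearMap.GeneralLinearGroup k M) ∈ Cfsg.quadraticElements G := by
  obtain ⟨-, ⟨hsq, hne⟩, hfam⟩ := hx
  have hX1 : (((x : LinearMap.GeneralLinearGroup k M) : Module.End k M) - 1) * (((x : LinearMap.GeneralLinearGroup k M) : Module.End k M) - 1) = 0 := by
    refine h.faithful ?_ ?_
    · intro g hg
      have hc1 := h.comm_sub x.2 hg
      rw [mul_assoc, hc1, ← mul_assoc, hc1, mul_assoc]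
    · intro l hl
      have h1 : (((((((resHom G' L h.inv) x : LinearMap.GeneralLinearGroup k ↥L) : Module.End k ↥L) - 1) *
          ((((resHom G' L h.inv) x : LinearMap.GeneralLinearGroup k ↥L) : Module.End k ↥L) - 1)) ⟨l, hl⟩ : ↥L) : M) = 0 := by
        rw [hsq]; rfl
      exact h1
  have hX0 : ((x : LinearMap.GeneralLinearGroup k M) : Module.End k M) - 1 ≠ 0 := by
    intro e
    apply hne
    apply LinearMap.ext
    intro l
    apply Subtype.ext
    rw [resHom_sub_one_apply, e]
    rfl
  refine ⟨h.le x.2, ⟨hX1, hX0⟩, ?_⟩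
  rintro τ ⟨c, hc⟩
  obtain ⟨τ', hτ'⟩ : ∃ τ' : LinearMap.GeneralLinearGroup k ↥L, (τ' : Module.End k ↥L) =
      1 + c • ((((resHom G' L h.inv) x : LinearMap.GeneralLinearGroup k ↥L) : Module.End k ↥L) - 1) :=
    ⟨⟨1 + c • ((((resHom G' L h.inv) x : LinearMap.GeneralLinearGroup k ↥L) : Module.End k ↥L) - 1), 1 - c • ((((resHom G' L h.inv) x : LinearMap.GeneralLinearGroup k ↥L) : Module.End k ↥L) - 1),
      qp_add_mul_sub hsq c, qp_sub_mul_add hsq c⟩, rfl⟩
  obtain ⟨xc, hxc⟩ := MonoidHom.mem_range.mp (hfam ⟨c, hτ'⟩)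
  have hX : ((xc : LinearMap.GeneralLinearGroup k M) : Module.End k M) - (1 + c • (((x : LinearMap.GeneralLinearGroup k M) : Module.End k M) - 1)) = 0 := by
    refine h.faithful ?_ ?_
    · intro g hg
      have hc1 := h.comm_sub x.2 hg
      have hc2 := h.comm_val xc.2 hg
      rw [sub_mul, mul_sub, add_mul, mul_add, one_mul, mul_one, smul_mul_assoc, mul_smul_comm,
        hc1, hc2]
    · intro l hl
      have e1 : ((xc : LinearMap.GeneralLinearGroup k M) : Module.End k M) l = l + c • ((((x : LinearMap.GeneralLinearGroup k M) : Module.End k M) - 1) l) := by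
        have e0 : (((((resHom G' L h.inv) xc : LinearMap.GeneralLinearGroup k ↥L) : Module.End k ↥L) ⟨l, hl⟩ : ↥L) : M) =
            l + c • ((((x : LinearMap.GeneralLinearGroup k M) : Module.End k M) - 1) l) := by
          rw [hxc, hτ']; rfl
        exact e0
      rw [LinearMap.sub_apply, LinearMap.add_apply, LinearMap.smul_apply, Module.End.one_apply,
        e1, sub_self]
  have e2 : τ = xc := Units.ext (by rw [hc]; exact (sub_eq_zero.mp hX).symm)
  rw [e2]
  exact h.le xc.2

end qp41

end Cfsg.Agent.Lib.helper85
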