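import Cfsg.Agent.Lib.helper85.QP41

set_option autoImplicit false
set_option linter.unusedVariables false
set_option linter.unusedSimpArgs false

namespace Cfsg.Agent.Lib.helper85

open Cfsg
open scoped commutatorElement

universe u

/-- the conclusion of the central product theorem, for a finite set of subgroups -/
def QPConc {k : Type*} [Field k] {M : Type*} [AddCommGroup M] [Module k M]
    (G : Subgroup (LinearMap.GeneralLinearGroup k M)) : Prop :=
  ∃ 𝒢 : Set (Subgroup (LinearMap.GeneralLinearGroup k M)), 𝒢.Finite ∧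
    (∀ H ∈ 𝒢, H ≤ G ∧ ∀ g ∈ G, conjBy H g = H) ∧
    (∀ H ∈ 𝒢, ∀ H' ∈ 𝒢, H ≠ H' → ⁅H, H'⁆ = ⊥) ∧ (⨆ H ∈ 𝒢, H) = G ∧
    (∀ H ∈ 𝒢, Cfsg.IsQuasisimple ↥H ∧
      Subgroup.closure (Cfsg.quadraticElements G ∩ (H : Set (LinearMap.GeneralLinearGroup k M))) = H) ∧
    Cfsg.quadraticElements G ⊆ ⋃ H ∈ 𝒢, (H : Set (LinearMap.GeneralLinearGroup k M))

section qp42
variable {k : Type u} [Field k] {M : Type u} [AddCommGroup M] [Module k M]
variable {G G₀ G' : Subgroup (LinearMap.GeneralLinearGroup k M)} {L : Submodule k M}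

theorem QPRes.concl (h : QPRes G G₀ G' L) (hG₀ : G₀ ≤ G)
    {𝒦 : Set (Subgroup (LinearMap.GeneralLinearGroup k M))} (h𝒦fin : 𝒦.Finite)
    (h𝒦1 : ∀ K ∈ 𝒦, K ≤ G₀ ∧ ∀ g ∈ G, conjBy K g = K)
    (h𝒦2 : ∀ K ∈ 𝒦, ∀ K' ∈ 𝒦, K ≠ K' → ⁅K, K'⁆ = ⊥)
    (h𝒦3 : G₀ ≤ ⨆ K ∈ 𝒦, K)
    (h𝒦4 : ∀ K ∈ 𝒦, Cfsg.IsQuasisimple ↥K ∧
      Subgroup.closure (Cfsg.quadraticElements G ∩ (K : Set (LinearMap.GeneralLinearGroup k M))) = K)
    (hK1 : ∀ σ ∈ Cfsg.quadraticElements G,
      σ ∈ Subgroup.centralizer (G₀ : Set (LinearMap.GeneralLinearGroup k M)) ∨ ∃ K ∈ 𝒦, σ ∈ K)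
    (hIH : QPConc (resHom G' L h.inv).range) : QPConc G := by
  obtain ⟨𝓗, hfin, hH1, hH2, hH3, hH4, hH5⟩ := hIH
  have hinj0 := h.inj
  have hdown0 : ∀ z, z ∈ Cfsg.quadraticElements G → ∀ hz : z ∈ G',
      (resHom G' L h.inv) ⟨z, hz⟩ ∈ Cfsg.quadraticElements (resHom G' L h.inv).range :=
    fun z h1 hz => h.down h1 hz
  have hlift0 : ∀ x : ↥G', (resHom G' L h.inv) x ∈
      Cfsg.quadraticElements (resHom G' L h.inv).range → (x : LinearMap.GeneralLinearGroup k M) ∈ Cfsg.quadraticElements G :=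
    fun x hx => h.lift hx
  obtain ⟨ρ, hρ⟩ : ∃ ρ, ρ = resHom G' L h.inv := ⟨_, rfl⟩
  rw [← hρ] at hH1 hH3 hH4 hH5 hinj0 hdown0 hlift0
  have hgen := h.gen
  have hcent : ∀ σ ∈ Cfsg.quadraticElements G, σ ∈ Subgroup.centralizer (G₀ : Set (LinearMap.GeneralLinearGroup k M)) →
      ∃ H ∈ 𝓗, σ ∈ pullSub ρ H := by
    intro σ hσ hσc
    have hσG' : σ ∈ G' := by rw [hgen]; exact Subgroup.subset_closure ⟨hσ, hσc⟩
    have h1 := hH5 (hdown0 σ hσ hσG')
    simp only [Set.mem_iUnion] at h1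
    obtain ⟨H, hH, hmem⟩ := h1
    exact ⟨H, hH, mem_pullSub.mpr ⟨⟨σ, hσG'⟩, hmem, rfl⟩⟩
  have hpullG' : ∀ H : Subgroup (LinearMap.GeneralLinearGroup k ↥L), pullSub ρ H ≤ G' := by
    intro H y hy
    obtain ⟨x, -, rfl⟩ := mem_pullSub.mp hy
    exact x.2
  refine ⟨𝒦 ∪ (fun H => pullSub ρ H) '' 𝓗, h𝒦fin.union (hfin.image _), ?_, ?_, ?_, ?_, ?_⟩
  · rintro P (hP | ⟨H, hH, rfl⟩)
    · exact ⟨(h𝒦1 P hP).1.trans hG₀, (h𝒦1 P hP).2⟩
    · refine ⟨(hpullG' H).trans h.le, ?_⟩
      have hG'le : ∀ x' ∈ G', conjBy (pullSub ρ H) x' ≤ pullSub ρ H := by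
        intro x' hx' y hy
        rw [mem_conjBy] at hy
        obtain ⟨x, hxH, hxe⟩ := mem_pullSub.mp hy
        refine mem_pullSub.mpr ⟨⟨x', hx'⟩ * x * ⟨x', hx'⟩⁻¹, ?_, ?_⟩
        · rw [map_mul, map_mul, map_inv]
          have e0 := (hH1 H hH).2 (ρ ⟨x', hx'⟩) ⟨_, rfl⟩
          have hmem := conj_mem_conjBy (g := ρ ⟨x', hx'⟩) hxH
          rw [e0] at hmem
          exact hmem
        · show x' * (x : LinearMap.GeneralLinearGroup k M) * x'⁻¹ = y
          rw [hxe]; group
      have hnorm : G ≤ Subgroup.normalizer ((pullSub ρ H : Subgroup (LinearMap.GeneralLinearGroup k M)) : Set (LinearMap.GeneralLinearGroup k M)) := by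
        refine h.sup.trans (sup_le ?_ ?_)
        · intro g hg
          apply mem_normalizer_of_forall_comm
          intro y hy
          exact (h.comm y (hpullG' H hy) g hg).symm
        · intro x' hx'
          rw [← conjBy_eq_self_iff]
          refine le_antisymm (hG'le x' hx') ?_
          have h1 := conjBy_mono (hG'le x'⁻¹ (G'.inv_mem hx')) x'
          rw [conjBy_conjBy, mul_inv_cancel, conjBy_one] at h1
          exact h1
      intro g hg
      exact conjBy_eq_self_iff.mpr (hnorm hg)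
  · rintro P (hP | ⟨H, hH, rfl⟩) P' (hP' | ⟨H', hH', rfl⟩) hne
    · exact h𝒦2 P hP P' hP' hne
    · apply comm_eq_bot_of_commute
      intro x hx y hy
      exact (h.comm y (hpullG' H' hy) x ((h𝒦1 P hP).1 hx)).symm
    · apply comm_eq_bot_of_commute
      intro x hx y hy
      exact h.comm x (hpullG' H hx) y ((h𝒦1 P' hP').1 hy)
    · have hHne : H ≠ H' := fun e => hne (by rw [e])
      have hc := hH2 H hH H' hH' hHne
      apply comm_eq_bot_of_commute
      intro y hy y' hy'
      obtain ⟨x, hx, rfl⟩ := mem_pullSub.mp hy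
      obtain ⟨x', hx', rfl⟩ := mem_pullSub.mp hy'
      have h1 := commute_of_comm_eq_bot hc _ hx _ hx'
      have h2 : x * x' = x' * x := hinj0 (by rw [map_mul, map_mul, h1])
      exact congrArg Subtype.val h2
  · apply le_antisymm
    · refine iSup₂_le ?_
      rintro P (hP | ⟨H, hH, rfl⟩)
      · exact (h𝒦1 P hP).1.trans hG₀
      · exact (hpullG' H).trans h.le
    · refine h.sup.trans (sup_le ?_ ?_)
      · refine h𝒦3.trans ?_
        exact biSup_mono (fun K hK => Or.inl hK)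
      · have hcl : Subgroup.closure (Cfsg.quadraticElements G ∩
            (Subgroup.centralizer (G₀ : Set (LinearMap.GeneralLinearGroup k M)) : Set (LinearMap.GeneralLinearGroup k M))) ≤
            ⨆ P ∈ 𝒦 ∪ (fun H => pullSub ρ H) '' 𝓗, P := by
          refine (Subgroup.closure_le _).mpr ?_
          rintro σ ⟨hσ, hσc⟩
          obtain ⟨H, hH, hmem⟩ := hcent σ hσ hσc
          have hPmem : pullSub ρ H ∈ 𝒦 ∪ (fun H => pullSub ρ H) '' 𝓗 := Or.inr ⟨H, hH, rfl⟩
          have hle := le_biSup (fun P => P) hPmem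
          exact hle hmem
        exact (le_of_eq hgen).trans hcl
  · rintro P (hP | ⟨H, hH, rfl⟩)
    · exact h𝒦4 P hP
    · have hHle : H ≤ ρ.range := (hH1 H hH).1
      constructor
      · have e1 : ↥(H.comap ρ) ≃* ↥((H.comap ρ).map ρ) :=
          Subgroup.equivMapOfInjective _ ρ hinj0
        have e2 : ↥((H.comap ρ).map ρ) ≃* ↥H :=
          MulEquiv.subgroupCongr (Subgroup.map_comap_eq_self hHle)
        have e3 : ↥(H.comap ρ) ≃* ↥(pullSub ρ H) :=
          Subgroup.equivMapOfInjective _ G'.subtype G'.subtype_injective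
        exact quasi_of_mulEquiv' ((e2.symm.trans e1.symm).trans e3) (hH4 H hH).1
      · refine le_antisymm ((Subgroup.closure_le _).mpr Set.inter_subset_right) ?_
        have key : ∀ y ∈ Subgroup.closure (Cfsg.quadraticElements ρ.range ∩
            (H : Set (LinearMap.GeneralLinearGroup k ↥L))), ∀ x : ↥G', ρ x = y →
            (x : LinearMap.GeneralLinearGroup k M) ∈ Subgroup.closure (Cfsg.quadraticElements G ∩
              ((pullSub ρ H : Subgroup (LinearMap.GeneralLinearGroup k M)) : Set (LinearMap.GeneralLinearGroup k M))) := by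
          intro y hy
          induction hy using Subgroup.closure_induction with
          | mem y hy =>
            intro x hx
            subst hx
            apply Subgroup.subset_closure
            exact ⟨hlift0 x hy.1, mem_pullSub.mpr ⟨x, hy.2, rfl⟩⟩
          | one =>
            intro x hx
            have e0 : x = 1 := hinj0 (by rw [hx, map_one])
            rw [e0]; exact Subgroup.one_mem _
          | mul y₁ y₂ hy₁ hy₂ ih₁ ih₂ =>
            intro x hx
            have hc := (hH4 H hH).2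
            rw [hc] at hy₁ hy₂
            obtain ⟨x₁, hx₁⟩ := MonoidHom.mem_range.mp (hHle hy₁)
            obtain ⟨x₂, hx₂⟩ := MonoidHom.mem_range.mp (hHle hy₂)
            have e0 : x = x₁ * x₂ := hinj0 (by rw [hx, map_mul, hx₁, hx₂])
            rw [e0]
            exact Subgroup.mul_mem _ (ih₁ x₁ hx₁) (ih₂ x₂ hx₂)
          | inv y hy ih =>
            intro x hx
            have hc := (hH4 H hH).2
            rw [hc] at hy
            obtain ⟨x₁, hx₁⟩ := MonoidHom.mem_range.mp (hHle hy)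
            have e0 : x = x₁⁻¹ := hinj0 (by rw [hx, map_inv, hx₁])
            rw [e0]
            exact Subgroup.inv_mem _ (ih x₁ hx₁)
        intro y hy
        obtain ⟨x, hxH, rfl⟩ := mem_pullSub.mp hy
        refine key (ρ x) ?_ x rfl
        rw [(hH4 H hH).2]
        exact hxH
  · intro σ hσ
    simp only [Set.mem_iUnion]
    rcases hK1 σ hσ with hc | ⟨K, hK, hσK⟩
    · obtain ⟨H, hH, hmem⟩ := hcent σ hσ hc
      exact ⟨pullSub ρ H, Or.inr ⟨H, hH, rfl⟩, hmem⟩
    · exact ⟨K, Or.inl hK, hσK⟩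

end qp42

section qp42main

theorem qp_central_aux {k : Type u} [Field k] (hk2 : ringChar k ≠ 2) (hk3 : Nat.card k ≠ 3) :
    ∀ n : ℕ, ∀ (M : Type u) [AddCommGroup M] [Module k M] [FiniteDimensional k M],
      Module.finrank k M = n → ∀ G : Subgroup (LinearMap.GeneralLinearGroup k M),
      Cfsg.IsQuadraticPair G → QPConc G := by
  intro n
  induction n using Nat.strong_induction_on with
  | _ n ih =>
    intro M _ _ _ hn G hG
    by_cases hQ : (Cfsg.quadraticElements G).Nonempty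
    · have hamb := qp_amb hk2 hk3 hG
      obtain ⟨σ₁, hσ₁⟩ := hQ
      obtain ⟨σ₀, hσ₀⟩ := qp_min_exists ⟨σ₁, hσ₁⟩
      obtain ⟨G₀, hG₀def⟩ : ∃ G₀, G₀ = ⨆ A ∈ Cfsg.quadraticRootSubgroups G, A := ⟨_, rfl⟩
      have hG₀G : G₀ ≤ G := by rw [hG₀def]; exact qp_root_sup_le G
      obtain ⟨G', hG'def⟩ : ∃ G', G' = Subgroup.closure (Cfsg.quadraticElements G ∩
          (Subgroup.centralizer (G₀ : Set (LinearMap.GeneralLinearGroup k M)) : Set (LinearMap.GeneralLinearGroup k M))) := ⟨_, rfl⟩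
      have hG'G : G' ≤ G := by
        rw [hG'def]; exact (Subgroup.closure_le _).mpr (fun x hx => hx.1.1)
      have hG'cent : G' ≤ Subgroup.centralizer (G₀ : Set (LinearMap.GeneralLinearGroup k M)) := by
        rw [hG'def]; exact (Subgroup.closure_le _).mpr (fun x hx => hx.2)
      have hcomm : ∀ x ∈ G', ∀ g ∈ G₀, x * g = g * x := by
        intro x hx g hg
        have h1 := hG'cent hx
        rw [Subgroup.mem_centralizer_iff] at h1
        exact (h1 g hg).symm
      obtain ⟨𝒦, h𝒦def⟩ : ∃ 𝒦 : Set (Subgroup (LinearMap.GeneralLinearGroup k M)),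
          𝒦 = (fun c : Set (Subgroup (LinearMap.GeneralLinearGroup k M)) => ⨆ B ∈ c, B) ''
            {c | ∃ A ∈ Cfsg.quadraticRootSubgroups G, c = componentOf (FAdj (Cfsg.quadraticRootSubgroups G)) (Cfsg.quadraticRootSubgroups G) A} := ⟨_, rfl⟩
      have h𝒦fin : 𝒦.Finite := by
        rw [h𝒦def]; exact (qp_comps_finite hk2 hk3 hG).image _
      have h𝒦mem : ∀ K ∈ 𝒦, ∃ A ∈ Cfsg.quadraticRootSubgroups G, K = ⨆ B ∈ componentOf (FAdj (Cfsg.quadraticRootSubgroups G)) (Cfsg.quadraticRootSubgroups G) A, B := by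
        intro K hK
        rw [h𝒦def] at hK
        obtain ⟨c, ⟨A, hA, rfl⟩, rfl⟩ := hK
        exact ⟨A, hA, rfl⟩
      have h𝒦of : ∀ A ∈ Cfsg.quadraticRootSubgroups G, (⨆ B ∈ componentOf (FAdj (Cfsg.quadraticRootSubgroups G)) (Cfsg.quadraticRootSubgroups G) A, B) ∈ 𝒦 := by
        intro A hA
        rw [h𝒦def]
        exact ⟨_, ⟨A, hA, rfl⟩, rfl⟩
      have hK1 : ∀ σ ∈ Cfsg.quadraticElements G,
          σ ∈ Subgroup.centralizer (G₀ : Set (LinearMap.GeneralLinearGroup k M)) ∨ ∃ K ∈ 𝒦, σ ∈ K := by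
        intro σ hσ
        rcases qp_K1 hk2 hk3 hG hσ with h1 | ⟨A, hA, h1⟩
        · left; rw [hG₀def]; exact h1
        · right; exact ⟨_, h𝒦of A hA, h1⟩
      have hsup : G ≤ G₀ ⊔ G' := by
        have hcl : Subgroup.closure (Cfsg.quadraticElements G) ≤ G₀ ⊔ G' := by
          refine (Subgroup.closure_le _).mpr ?_
          intro σ hσ
          rcases hK1 σ hσ with h1 | ⟨K, hK, h1⟩
          · refine (le_sup_right : G' ≤ G₀ ⊔ G') ?_
            rw [hG'def]
            exact Subgroup.subset_closure ⟨hσ, h1⟩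
          · obtain ⟨A, hA, rfl⟩ := h𝒦mem K hK
            refine (le_sup_left : G₀ ≤ G₀ ⊔ G') ?_
            rw [hG₀def]
            exact qp_comp_le G A h1
        exact (le_of_eq hG.2.symm).trans hcl
      obtain ⟨L, hL0, hLinv, hLmin⟩ := exists_min_invariant G' hG.1.1
      have hres : QPRes G G₀ G' L := ⟨hG.1, hG'G, hcomm, hsup, hL0, hLinv, hLmin, hG'def⟩
      have hLtop : L ≠ ⊤ := by
        intro hL
        have hU0 : ((σ₀ : Module.End k M) - 1) ≠ 0 := hσ₀.1.2.1.2
        have hUsq : ((σ₀ : Module.End k M) - 1) * ((σ₀ : Module.End k M) - 1) = 0 := hσ₀.1.2.1.1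
        have hσ₀G₀ : σ₀ ∈ G₀ := by
          rw [hG₀def]
          have hmem : Cfsg.sameActionSubgroup G σ₀ ∈ Cfsg.quadraticRootSubgroups G :=
            ⟨σ₀, hσ₀, rfl⟩
          have hle := le_biSup (fun B => B) hmem
          exact hle (Subgroup.subset_closure (qp_self_class hσ₀))
        have hker : LinearMap.ker ((σ₀ : Module.End k M) - 1) = L := by
          apply hLmin
          · rw [hL]; exact le_top
          · intro e
            apply hU0
            apply LinearMap.ext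
            intro m
            have h1 : ((σ₀ : Module.End k M) - 1) m ∈ LinearMap.ker ((σ₀ : Module.End k M) - 1) := by
              rw [LinearMap.mem_ker]
              have := congrArg (fun f : Module.End k M => f m) hUsq
              simpa [Module.End.mul_apply] using this
            rw [e, Submodule.mem_bot] at h1
            rw [h1, LinearMap.zero_apply]
          · intro x hx l hl
            rw [LinearMap.mem_ker] at hl ⊢
            have h1 : (σ₀ : Module.End k M) * (x : Module.End k M) = (x : Module.End k M) * (σ₀ : Module.End k M) := by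
              rw [← Units.val_mul, ← Units.val_mul, hcomm x hx σ₀ hσ₀G₀]
            have h2 := congrArg (fun f : Module.End k M => f l) h1
            simp only [Module.End.mul_apply] at h2
            rw [LinearMap.sub_apply, Module.End.one_apply] at hl ⊢
            rw [h2, ← map_sub, hl, map_zero]
        apply hU0
        rw [hL] at hker
        exact LinearMap.ker_eq_top.mp hker
      have hlt : Module.finrank k ↥L < n := by rw [← hn]; exact Submodule.finrank_lt hLtop
      have hpair : Cfsg.IsQuadraticPair (resHom G' L hres.inv).range :=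
        ⟨hres.irr_res, hres.gen_res⟩
      have hIH := ih _ hlt ↥L rfl _ hpair
      refine hres.concl hG₀G h𝒦fin ?_ ?_ ?_ ?_ hK1 hIH
      · intro K hK
        obtain ⟨A, hA, rfl⟩ := h𝒦mem K hK
        refine ⟨by rw [hG₀def]; exact qp_comp_le G A, ?_⟩
        intro g hg
        exact stabFam_conjBy_sup (qp_G_stab hk2 hk3 hG A hg)
      · intro K hK K' hK' hne
        obtain ⟨A, hA, rfl⟩ := h𝒦mem K hK
        obtain ⟨A', hA', rfl⟩ := h𝒦mem K' hK'
        apply qp_comp_sup_comm hk2 hk3 hG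
        intro e
        apply hne
        rw [e]
      · rw [hG₀def]
        refine iSup₂_le fun A hA => ?_
        have hAc : A ∈ componentOf (FAdj (Cfsg.quadraticRootSubgroups G)) (Cfsg.quadraticRootSubgroups G) A := ⟨hA, Relation.ReflTransGen.refl⟩
        exact (le_biSup (fun B => B) hAc).trans (le_biSup (fun K => K) (h𝒦of A hA))
      · intro K hK
        obtain ⟨A, hA, rfl⟩ := h𝒦mem K hK
        exact ⟨(qp_comp_props hk2 hk3 hG hA _ rfl).1, qp_comp_closure A⟩
    · have hGbot : G = ⊥ := by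
        have h0 : Cfsg.quadraticElements G = ∅ := Set.not_nonempty_iff_eq_empty.mp hQ
        have h1 := hG.2
        rw [h0, Subgroup.closure_empty] at h1
        exact h1.symm
      refine ⟨∅, Set.finite_empty, ?_, ?_, ?_, ?_, ?_⟩
      · intro H hH; exact ((Set.mem_empty_iff_false H).mp hH).elim
      · intro H hH; exact ((Set.mem_empty_iff_false H).mp hH).elim
      · rw [hGbot]; simp
      · intro H hH; exact ((Set.mem_empty_iff_false H).mp hH).elim
      · intro σ hσ; exact (hQ ⟨σ, hσ⟩).elim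

/-- the central product theorem -/
theorem qp_central_final {k : Type u} [Field k] (hk2 : ringChar k ≠ 2) (hk3 : Nat.card k ≠ 3)
    {M : Type u} [AddCommGroup M] [Module k M] [FiniteDimensional k M]
    {G : Subgroup (LinearMap.GeneralLinearGroup k M)} (hG : Cfsg.IsQuadraticPair G) :
    ∃ (s : ℕ) (Gi : Fin s → Subgroup (LinearMap.GeneralLinearGroup k M)),
      (∀ i, Gi i ≤ G ∧ ∀ g ∈ G, Cfsg.conjBy (Gi i) g = Gi i) ∧ (∀ i j, i ≠ j → ⁅Gi i, Gi j⁆ = ⊥) ∧ (⨆ i, Gi i) = G ∧
      (∀ i, Cfsg.IsQuasisimple ↥(Gi i) ∧ Subgroup.closure (Cfsg.quadraticElements G ∩ (Gi i : Set (LinearMap.GeneralLinearGroup k M))) = Gi i) ∧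
      Cfsg.quadraticElements G ⊆ ⋃ i, (Gi i : Set (LinearMap.GeneralLinearGroup k M)) := by
  obtain ⟨𝒢, hfin, h1, h2, h3, h4, h5⟩ := qp_central_aux hk2 hk3 _ M rfl G hG
  have hF : Finite ↥𝒢 := hfin.to_subtype
  obtain ⟨e⟩ : Nonempty (↥𝒢 ≃ Fin (Nat.card ↥𝒢)) := ⟨Finite.equivFin ↥𝒢⟩
  refine ⟨Nat.card ↥𝒢, fun i => ((e.symm i : ↥𝒢) : Subgroup (LinearMap.GeneralLinearGroup k M)), ?_, ?_, ?_, ?_, ?_⟩
  · intro i; exact h1 _ (e.symm i).2
  · intro i j hij
    apply h2 _ (e.symm i).2 _ (e.symm j).2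
    intro h
    exact hij (e.symm.injective (Subtype.ext h))
  · rw [← h3]
    apply le_antisymm
    · exact iSup_le fun i => le_biSup (fun H => H) (e.symm i).2
    · refine iSup₂_le fun H hH => ?_
      have e0 : ((e.symm (e ⟨H, hH⟩) : ↥𝒢) : Subgroup (LinearMap.GeneralLinearGroup k M)) = H := by
        rw [Equiv.symm_apply_apply]
      have e1 := le_iSup (fun i => ((e.symm i : ↥𝒢) : Subgroup (LinearMap.GeneralLinearGroup k M))) (e ⟨H, hH⟩)
      rw [e0] at e1
      exact e1
  · intro i; exact h4 _ (e.symm i).2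
  · intro σ hσ
    have h6 := h5 hσ
    simp only [Set.mem_iUnion] at h6 ⊢
    obtain ⟨H, hH, hmem⟩ := h6
    refine ⟨e ⟨H, hH⟩, ?_⟩
    rw [Equiv.symm_apply_apply]
    exact hmem

end qp42main

end Cfsg.Agent.Lib.helper85
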