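import Cfsg.Agent.Lib.helper85.QP4

set_option autoImplicit false
set_option linter.unusedSimpArgs false

namespace Cfsg.Agent.Lib.helper85

open Polynomial

section qp6a
variable {k : Type*} [Field k] {M : Type*} [AddCommGroup M] [Module k M]
variable {G : Subgroup (LinearMap.GeneralLinearGroup k M)}

theorem qpPhi_Lq (A B : Module.End k M) (c : k) : qpPhi A B (qpL c).1 = qpT A B 1 0 (C c) 0 := by
  have h4 : (qpL c).1 0 0 - (qpL c).1 1 1 = X * 0 := by rw [qpL_00, qpL_11]; ring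
  have hc : (qpL c).1 1 0 = X * C c := by rw [qpL_10]
  rw [qpPhi_eq A B hc h4, qpL_11, qpL_01]

theorem qpPhi_conjU {A B : Module.End k M} (hA : A * A = 0) (hB : B * B = 0)
    {g : Matrix.SpecialLinearGroup (Fin 2) k[X]} (hg : g ∈ qpGam k) (c : k) :
    qpPhi A B (g * qpU c * g⁻¹).1 = 1 + c • qpCj A B g := by
  rw [Matrix.SpecialLinearGroup.coe_mul, Matrix.SpecialLinearGroup.coe_mul,
    qpPhi_mul hA hB (qpOrd_mul (qpGam_ord hg) (qpGam_ord (qpU_mem c))) (qpGam_ord (inv_mem hg)),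
    qpPhi_mul hA hB (qpGam_ord hg) (qpGam_ord (qpU_mem c)), qpPhi_U, mul_add, add_mul, mul_one,
    qpPhi_mul_inv hA hB (qpGam_ord hg), mul_smul_comm, smul_mul_assoc]
  rfl

/-- polynomials acting on `A` like the square of a diagonal entry -/
def qpTset (q : k[X]) (A B : Module.End k M) : Set k[X] :=
  {f | ∃ g ∈ qpGam k, q ∣ g.1 1 0 ∧ qpEv A B f * A = qpEv A B (g.1 0 0 ^ 2) * A}

theorem qpTset_mul [FiniteDimensional k M] {d : ℕ} {q : k[X]} {A B : Module.End k M} (S : QpSetup G d q A B)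
    {f f' : k[X]} (hf : f ∈ qpTset q A B) (hf' : f' ∈ qpTset q A B) : f * f' ∈ qpTset q A B := by
  obtain ⟨g, hg, hq1, e⟩ := hf
  obtain ⟨g', hg', hq1', e'⟩ := hf'
  have hA := S.hNA.1
  refine ⟨g * g', mul_mem hg hg', ?_, ?_⟩
  · rw [qm_mul10]
    exact dvd_add (dvd_mul_of_dvd_left hq1 _) (dvd_mul_of_dvd_right hq1' _)
  · have hc0 := qp_core_c S hg' hq1'
    have e1 : (g * g').1 0 0 ^ 2 = g'.1 0 0 ^ 2 * g.1 0 0 ^ 2 +
        (2 * g.1 0 0 * g'.1 0 0 * g.1 0 1 + g.1 0 1 ^ 2 * g'.1 1 0) * g'.1 1 0 := by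
      rw [qm_mul00]; ring
    calc qpEv A B (f * f') * A = qpEv A B f * (qpEv A B f' * A) := by rw [map_mul, mul_assoc]
      _ = qpEv A B f * (qpEv A B (g'.1 0 0 ^ 2) * A) := by rw [e']
      _ = qpEv A B (g'.1 0 0 ^ 2) * (qpEv A B f * A) := by rw [← mul_assoc, qpEv_comm_ev, mul_assoc]
      _ = qpEv A B (g'.1 0 0 ^ 2) * (qpEv A B (g.1 0 0 ^ 2) * A) := by rw [e]
      _ = qpEv A B ((g * g').1 0 0 ^ 2) * A := by
        rw [e1, map_add, map_mul (qpEv A B) _ (g'.1 1 0), hc0, mul_zero, add_zero, map_mul, mul_assoc]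

theorem qpSpan_mul [FiniteDimensional k M] {d : ℕ} {q : k[X]} {A B : Module.End k M} (S : QpSetup G d q A B)
    {f f' : k[X]} (hf : f ∈ Submodule.span k (qpTset q A B)) (hf' : f' ∈ Submodule.span k (qpTset q A B)) :
    f * f' ∈ Submodule.span k (qpTset q A B) := by
  have h : f * f' ∈ Submodule.span k (qpTset q A B) * Submodule.span k (qpTset q A B) :=
    Submodule.mul_mem_mul hf hf'
  rw [Submodule.span_mul_span] at h
  refine Submodule.span_mono ?_ h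
  rintro _ ⟨x, hx, y, hy, rfl⟩
  exact qpTset_mul S hx hy

theorem qpTset_one (q : k[X]) (A B : Module.End k M) : (1 : k[X]) ∈ qpTset q A B :=
  ⟨1, one_mem _, by rw [qm_one10]; exact dvd_zero q, by rw [qm_one00, one_pow]⟩

theorem qpSpan_pow [FiniteDimensional k M] {d : ℕ} {q : k[X]} {A B : Module.End k M} (S : QpSetup G d q A B)
    {f : k[X]} (hf : f ∈ Submodule.span k (qpTset q A B)) (n : ℕ) :
    f ^ n ∈ Submodule.span k (qpTset q A B) := by
  induction n with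
  | zero => rw [pow_zero]; exact Submodule.subset_span (qpTset_one q A B)
  | succ n ih => rw [pow_succ]; exact qpSpan_mul S ih hf

theorem qpSpan_N [FiniteDimensional k M] {d : ℕ} {q : k[X]} {A B : Module.End k M} (S : QpSetup G d q A B)
    {f : k[X]} (hf : f ∈ Submodule.span k (qpTset q A B)) : qpN G (qpEv A B f * A) := by
  have hA := S.hNA.1
  induction hf using Submodule.span_induction with
  | mem x hx =>
    obtain ⟨g, hg, hq1, e⟩ := hx
    rw [e, ← qp_core_conj S hg hq1]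
    exact qpCj_N S.hNA S.hNB hg
  | zero => rw [map_zero, zero_mul]; exact qpN_zero G
  | add x y _ _ ihx ihy =>
    rw [map_add, add_mul]
    refine qpN_add ihx ihy ?_ ?_
    · rw [mul_assoc, ← mul_assoc A, qpEv_comm_A hA, mul_assoc, hA, mul_zero, mul_zero]
    · rw [mul_assoc, ← mul_assoc A, qpEv_comm_A hA, mul_assoc, hA, mul_zero, mul_zero]
  | smul a x _ ih =>
    rw [map_smul, smul_mul_assoc]
    exact qpN_smul ih a

end qp6a

section qp6b
variable {k : Type*} [Field k] {M : Type*} [AddCommGroup M] [Module k M]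
variable {G : Subgroup (LinearMap.GeneralLinearGroup k M)}

theorem qp_weyl_exists [FiniteDimensional k M] {d : ℕ} {q : k[X]} {A B : Module.End k M}
    (S : QpSetup G d q A B) :
    ∃ f₀ ∈ Submodule.span k (qpTset q A B), ∃ γ ∈ qpGam k, qpPhi A B γ.1 = qpT A B 1 (-f₀) 0 0 ∧
      q ∣ (qpL 1 * γ * qpL 1 * (qpL 1 * γ * qpL 1)).1 1 0 ∧
      q ∣ (qpL 1 * γ * qpL 1 * (qpL 1 * γ * qpL 1)).1 0 1 ∧
      q ∣ (qpL 1 * γ * qpL 1 * (qpL 1 * γ * qpL 1)).1 0 0 - (qpL 1 * γ * qpL 1 * (qpL 1 * γ * qpL 1)).1 1 1 := by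
  have hF : Fact (Irreducible q) := ⟨S.hq⟩
  have hA := S.hNA.1
  have hB := S.hNB.1
  have hx : AdjoinRoot.root q ≠ 0 := qp_root_ne q S.hqX'
  obtain ⟨s₁, s₂, t₁, t₂, ht₁, ht₂, hy⟩ := qp_two_squares (k := k) S.h2 (AdjoinRoot.root q)⁻¹
  obtain ⟨g₁, hg₁, hr₁⟩ := qp_dickson_surj S.hk2 S.hk3 q S.hqX'
    (dkMk t₁ 0 0 t₁⁻¹ (by rw [mul_inv_cancel₀ ht₁]; ring))
  obtain ⟨g₂, hg₂, hr₂⟩ := qp_dickson_surj S.hk2 S.hk3 q S.hqX'
    (dkMk t₂ 0 0 t₂⁻¹ (by rw [mul_inv_cancel₀ ht₂]; ring))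
  have hq₁ : q ∣ g₁.1 1 0 := by rw [← AdjoinRoot.mk_eq_zero, ← qpRed_apply, hr₁]; rfl
  have hq₂ : q ∣ g₂.1 1 0 := by rw [← AdjoinRoot.mk_eq_zero, ← qpRed_apply, hr₂]; rfl
  refine ⟨C s₁ * g₁.1 0 0 ^ 2 + C s₂ * g₂.1 0 0 ^ 2, ?_,
    g₂ * qpU (-s₂) * g₂⁻¹ * (g₁ * qpU (-s₁) * g₁⁻¹), ?_, ?_, ?_⟩
  · refine add_mem ?_ ?_
    · rw [C_mul']
      exact Submodule.smul_mem _ _ (Submodule.subset_span ⟨g₁, hg₁, hq₁, rfl⟩)
    · rw [C_mul']
      exact Submodule.smul_mem _ _ (Submodule.subset_span ⟨g₂, hg₂, hq₂, rfl⟩)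
  · exact mul_mem (mul_mem (mul_mem hg₂ (qpU_mem _)) (inv_mem hg₂))
      (mul_mem (mul_mem hg₁ (qpU_mem _)) (inv_mem hg₁))
  · rw [Matrix.SpecialLinearGroup.coe_mul,
      qpPhi_mul hA hB (qpGam_ord (mul_mem (mul_mem hg₂ (qpU_mem _)) (inv_mem hg₂)))
        (qpGam_ord (mul_mem (mul_mem hg₁ (qpU_mem _)) (inv_mem hg₁))),
      qpPhi_conjU hA hB hg₂, qpPhi_conjU hA hB hg₁, qp_core_conj S hg₂ hq₂, qp_core_conj S hg₁ hq₁]
    have e0 : qpEv A B (g₂.1 0 0 ^ 2) * A * (qpEv A B (g₁.1 0 0 ^ 2) * A) = 0 := by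
      rw [mul_assoc, ← mul_assoc A, qpEv_comm_A hA, mul_assoc, hA, mul_zero, mul_zero]
    have rhs : qpT A B 1 (-(C s₁ * g₁.1 0 0 ^ 2 + C s₂ * g₂.1 0 0 ^ 2)) 0 0 =
        1 - (s₁ • (qpEv A B (g₁.1 0 0 ^ 2) * A) + s₂ • (qpEv A B (g₂.1 0 0 ^ 2) * A)) := by
      rw [qpT_split, map_one, map_zero, zero_mul, zero_mul, add_zero, add_zero, map_neg, neg_mul, map_add,
        add_mul, map_mul (qpEv A B) (C s₁), map_mul (qpEv A B) (C s₂), mul_assoc, mul_assoc, qpEv_C, qpEv_C,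
        sub_eq_add_neg]
    rw [rhs]
    simp only [mul_add, add_mul, one_mul, mul_one, smul_mul_assoc, mul_smul_comm, e0, smul_zero, add_zero]
    module
  · have hredγ : qpRed q (g₂ * qpU (-s₂) * g₂⁻¹ * (g₁ * qpU (-s₁) * g₁⁻¹)) =
        dkU (-(AdjoinRoot.root q)⁻¹) := by
      simp only [map_mul, map_inv, hr₁, hr₂, qpRed_U]
      rw [dk_conj_U (by rfl), dk_conj_U (by rfl), dkU_mul]
      congr 1
      simp only [dkMk_00, map_neg]
      rw [hy]
      ring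
    have hredW : qpRed q (qpL 1 * (g₂ * qpU (-s₂) * g₂⁻¹ * (g₁ * qpU (-s₁) * g₁⁻¹)) * qpL 1 *
        (qpL 1 * (g₂ * qpU (-s₂) * g₂⁻¹ * (g₁ * qpU (-s₁) * g₁⁻¹)) * qpL 1)) =
        dkMk (-1) 0 0 (-1) (by ring) := by
      rw [map_mul, map_mul, map_mul, hredγ, qpRed_L, map_one, mul_one]
      exact qp_weyl_red _ _ (mul_inv_cancel₀ hx)
    refine ⟨?_, ?_, ?_⟩
    · rw [← AdjoinRoot.mk_eq_zero, ← qpRed_apply, hredW]; rfl
    · rw [← AdjoinRoot.mk_eq_zero, ← qpRed_apply, hredW]; rfl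
    · rw [← AdjoinRoot.mk_eq_zero, map_sub, ← qpRed_apply, ← qpRed_apply, hredW]
      exact sub_self _

end qp6b

section qp6c
variable {k : Type*} [Field k] {M : Type*} [AddCommGroup M] [Module k M]
variable {G : Subgroup (LinearMap.GeneralLinearGroup k M)}

theorem qp_weyl_inv [FiniteDimensional k M] {d : ℕ} {q : k[X]} {A B : Module.End k M}
    (S : QpSetup G d q A B) {f₀ : k[X]} {γ : Matrix.SpecialLinearGroup (Fin 2) k[X]} (hγ : γ ∈ qpGam k)
    (hΦ : qpPhi A B γ.1 = qpT A B 1 (-f₀) 0 0)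
    (h10 : q ∣ (qpL 1 * γ * qpL 1 * (qpL 1 * γ * qpL 1)).1 1 0)
    (h01 : q ∣ (qpL 1 * γ * qpL 1 * (qpL 1 * γ * qpL 1)).1 0 1)
    (h00 : q ∣ (qpL 1 * γ * qpL 1 * (qpL 1 * γ * qpL 1)).1 0 0 -
      (qpL 1 * γ * qpL 1 * (qpL 1 * γ * qpL 1)).1 1 1) :
    qpEv A B (1 - X * f₀) * A = 0 := by
  have hA := S.hNA.1
  have hB := S.hNB.1
  have Z1 := qp_Z1 S
  have Z2 := qp_Z2 S
  have hW : qpL 1 * γ * qpL 1 ∈ qpGam k := mul_mem (mul_mem (qpL_mem 1) hγ) (qpL_mem 1)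
  have hΦW : qpPhi A B (qpL 1 * γ * qpL 1).1 = qpT A B (1 - X * f₀) (-f₀) (C 2 - X * f₀) 0 := by
    rw [Matrix.SpecialLinearGroup.coe_mul, Matrix.SpecialLinearGroup.coe_mul,
      qpPhi_mul hA hB (qpOrd_mul (qpGam_ord (qpL_mem 1)) (qpGam_ord hγ)) (qpGam_ord (qpL_mem 1)),
      qpPhi_mul hA hB (qpGam_ord (qpL_mem 1)) (qpGam_ord hγ), hΦ, qpPhi_Lq, qpT_mul hA hB, qpT_mul hA hB]
    refine qpT_congr A B ?_ ?_ ?_ ?_
    · rw [C_1]; ring
    · rw [C_1]; ring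
    · rw [C_1, show (C (2 : k) : k[X]) = 2 from rfl]; ring
    · rw [C_1]; ring
  obtain ⟨g, hgdef⟩ : ∃ g, g = qpL 1 * γ * qpL 1 * (qpL 1 * γ * qpL 1) := ⟨_, rfl⟩
  rw [← hgdef] at h10 h01 h00
  have hg : g ∈ qpGam k := by rw [hgdef]; exact mul_mem hW hW
  obtain ⟨c', hc⟩ := (qpGam_ord hg).1
  obtain ⟨p4, h4⟩ := (qpGam_ord hg).2
  obtain ⟨cA, cB⟩ := qp_core S hg h10 hc
  have hqc' : q ∣ c' := S.hqX.dvd_of_dvd_mul_left (by rw [← hc]; exact h10)
  have hqp4 : q ∣ p4 := S.hqX.dvd_of_dvd_mul_left (by rw [← h4]; exact h00)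
  have hg' : qpL 1 * g * qpL (-1) ∈ qpGam k := mul_mem (mul_mem (qpL_mem 1) hg) (qpL_mem (-1))
  have hc' : (qpL 1 * g * qpL (-1)).1 1 0 = X * (c' + X * (p4 - g.1 0 1)) := by
    rw [qm_mul10, qm_mul10, qm_mul11, qpL_10, qpL_11, qpL_00, qpL_10, hc, C_neg, C_1]
    linear_combination X * h4
  have hq' : q ∣ (qpL 1 * g * qpL (-1)).1 1 0 := by
    rw [hc']
    exact dvd_mul_of_dvd_right (dvd_add hqc' (dvd_mul_of_dvd_right (dvd_sub hqp4 h01) _)) _
  obtain ⟨-, cB'⟩ := qp_core S hg' hq' hc'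
  have hpB : qpEv A B (p4 - g.1 0 1) * B = 0 := by
    apply qp_cancelXB hB Z2
    rw [map_add, add_mul, cB, zero_add] at cB'
    exact cB'
  have hstar : qpT A B (g.1 1 1) (g.1 0 1) c' p4 =
      qpT A B ((1 - X * f₀) ^ 2 - X * f₀ * (C 2 - X * f₀)) (-(C 2 * ((1 - X * f₀) * f₀)))
        (C 2 * ((1 - X * f₀) * (C 2 - X * f₀))) 0 := by
    rw [← qpPhi_eq A B hc h4, hgdef, Matrix.SpecialLinearGroup.coe_mul,
      qpPhi_mul hA hB (qpGam_ord hW) (qpGam_ord hW), hΦW, qpT_mul hA hB]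
    refine qpT_congr A B ?_ ?_ ?_ ?_
    · ring
    · rw [show (C (2 : k) : k[X]) = 2 from rfl]; ring
    · rw [show (C (2 : k) : k[X]) = 2 from rfl]; ring
    · ring
  exact (qp_weyl_trick hA hB S.h2 Z1 Z2 hstar cA hpB).1

theorem qp_evqA_of [FiniteDimensional k M] {d : ℕ} {q : k[X]} {A B : Module.End k M}
    (S : QpSetup G d q A B) {f₀ : k[X]} (hf₀ : f₀ ∈ Submodule.span k (qpTset q A B))
    (h : qpEv A B (1 - X * f₀) * A = 0) : qpEv A B q * A = 0 := by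
  have hA := S.hNA.1
  have hB := S.hNB.1
  have hXf : qpEv A B (X * f₀) * A = A := by
    rw [map_sub, map_one, sub_mul, one_mul] at h
    exact (sub_eq_zero.mp h).symm
  have hpow : ∀ j : ℕ, qpEv A B ((X * f₀) ^ j) * A = A := by
    intro j
    induction j with
    | zero => rw [pow_zero, map_one, one_mul]
    | succ j ih => rw [pow_succ, map_mul, mul_assoc, hXf, ih]
  obtain ⟨n, hn⟩ : ∃ n, n = q.natDegree := ⟨_, rfl⟩
  have hqsum : q = ∑ j ∈ Finset.range (n + 1), C (q.coeff j) * X ^ j := by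
    rw [hn]; exact as_sum_range_C_mul_X_pow q
  have hterm : ∀ j ∈ Finset.range (n + 1),
      qpEv A B (C (q.coeff j) * (f₀ ^ n * X ^ j)) * A = qpEv A B (C (q.coeff j) * f₀ ^ (n - j)) * A := by
    intro j hj
    have hjn : j ≤ n := Nat.lt_succ_iff.mp (Finset.mem_range.mp hj)
    have e : f₀ ^ n * X ^ j = f₀ ^ (n - j) * (X * f₀) ^ j := by
      conv_lhs => rw [← Nat.sub_add_cancel hjn, pow_add]
      rw [mul_pow]; ring
    rw [e, ← mul_assoc, map_mul, mul_assoc, hpow]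
  have hsum : qpEv A B (f₀ ^ n * q) * A =
      qpEv A B (∑ j ∈ Finset.range (n + 1), C (q.coeff j) * f₀ ^ (n - j)) * A := by
    have e : f₀ ^ n * q = ∑ j ∈ Finset.range (n + 1), C (q.coeff j) * (f₀ ^ n * X ^ j) := by
      conv_lhs => rw [hqsum]
      rw [Finset.mul_sum]
      apply Finset.sum_congr rfl
      intro j _
      ring
    rw [e, map_sum, Finset.sum_mul, map_sum, Finset.sum_mul]
    exact Finset.sum_congr rfl hterm
  have hmem : (∑ j ∈ Finset.range (n + 1), C (q.coeff j) * f₀ ^ (n - j)) ∈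
      Submodule.span k (qpTset q A B) := by
    refine Submodule.sum_mem _ fun j _ => ?_
    rw [C_mul']
    exact Submodule.smul_mem _ _ (qpSpan_pow S hf₀ _)
  have hN := qpSpan_N S hmem
  rw [← hsum] at hN
  obtain ⟨m₀, hm₀, hq0⟩ := S.hMq
  obtain ⟨m₁, hm₁, hAm₁⟩ := qp_LAq hB S.hqX hm₀ hq0
  have hP : qpEv A B (f₀ ^ n * q) (A m₁) = 0 := by
    rw [map_mul, Module.End.mul_apply, qpEv_A_apply hA, hm₁, map_zero, map_zero]
  have hlt := qp_rank_lt hAm₁ hP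
  have hzero : qpEv A B (f₀ ^ n * q) * A = 0 := by
    by_contra hne
    have := S.hmin _ hN hne
    rw [S.rA] at hlt
    omega
  have e2 : (X * f₀) ^ n * q = X ^ n * (f₀ ^ n * q) := by rw [mul_pow]; ring
  calc qpEv A B q * A = qpEv A B q * (qpEv A B ((X * f₀) ^ n) * A) := by rw [hpow]
    _ = qpEv A B ((X * f₀) ^ n * q) * A := by rw [← mul_assoc, ← map_mul, mul_comm]
    _ = qpEv A B (X ^ n) * (qpEv A B (f₀ ^ n * q) * A) := by rw [e2, map_mul, mul_assoc]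
    _ = 0 := by rw [hzero, mul_zero]

theorem qp_evqA [FiniteDimensional k M] {d : ℕ} {q : k[X]} {A B : Module.End k M}
    (S : QpSetup G d q A B) : qpEv A B q * A = 0 := by
  obtain ⟨f₀, hf₀, γ, hγ, hΦ, h10, h01, h00⟩ := qp_weyl_exists S
  exact qp_evqA_of S hf₀ (qp_weyl_inv S hγ hΦ h10 h01 h00)

theorem qp_evqB [FiniteDimensional k M] {d : ℕ} {q : k[X]} {A B : Module.End k M}
    (S : QpSetup G d q A B) : qpEv A B q * B = 0 := by
  have := qp_evqA S.symm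
  rwa [qpEv_swap] at this

end qp6c

section qp6d
variable {k : Type*} [Field k] {M : Type*} [AddCommGroup M] [Module k M]
variable {G : Subgroup (LinearMap.GeneralLinearGroup k M)}

theorem qp_dvd_of_ker (A B : Module.End k M) {q p : k[X]} (hq : Irreducible q) {v : M} (hv : v ≠ 0)
    (h1 : qpEv A B q v = 0) (h2 : qpEv A B p v = 0) : q ∣ p := by
  by_contra hnd
  exact hv (qp_coprime_ker A B ((hq.coprime_iff_not_dvd).mpr hnd) h1 h2)

theorem qp_ker_iff [FiniteDimensional k M] {d : ℕ} {q : k[X]} {A B : Module.End k M}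
    (S : QpSetup G d q A B) {g : Matrix.SpecialLinearGroup (Fin 2) k[X]} (hg : g ∈ qpGam k) :
    qpPhi A B g.1 = 1 ↔ (q ∣ g.1 0 0 - 1 ∧ q ∣ g.1 0 1 ∧ q ∣ g.1 1 0 ∧ q ∣ g.1 1 1 - 1) := by
  have hA := S.hNA.1
  have hB := S.hNB.1
  obtain ⟨c', hc⟩ := (qpGam_ord hg).1
  obtain ⟨p4, h4⟩ := (qpGam_ord hg).2
  constructor
  · intro h1
    have hT : qpT A B (g.1 1 1) (g.1 0 1) c' p4 = 1 := by rw [← qpPhi_eq A B hc h4]; exact h1
    have hEA : qpT A B (X * c') (g.1 1 1 + X * p4) 0 (-c') = A := by rw [← qpT_Ar hA hB, hT, one_mul]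
    have h1a : qpEv A B (X * c') * A = 0 := by
      have := congrArg (fun T => A * T) hEA
      simp only [qpT_Al hA hB] at this
      rw [hA, qpT_evA] at this
      exact this
    obtain ⟨m₀, hm₀, hq0⟩ := S.hMq
    obtain ⟨m₁, hm₁, hAm₁⟩ := qp_LAq hB S.hqX hm₀ hq0
    have hqAm : qpEv A B q (A m₁) = 0 := by rw [qpEv_A_apply hA, hm₁, map_zero]
    have h10 : q ∣ g.1 1 0 := by
      rw [hc]
      refine qp_dvd_of_ker A B S.hq hAm₁ hqAm ?_
      have := congrArg (fun f : Module.End k M => f m₁) h1a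
      simpa using this
    have hqc' : q ∣ c' := S.hqX.dvd_of_dvd_mul_left (by rw [← hc]; exact h10)
    have h00 : q ∣ g.1 0 0 - 1 := by
      refine qp_dvd_of_ker A B S.hq hAm₁ hqAm ?_
      have h := congrArg (fun f : Module.End k M => f m₁) hEA
      simp only [qpT_split, map_zero, zero_mul, add_zero, LinearMap.add_apply, Module.End.mul_apply] at h
      have t1 : qpEv A B (X * c') m₁ = 0 := qp_dvd_ker A B (by rw [← hc]; exact h10) hm₁
      have t2 : qpEv A B (-c') (A (B m₁)) = 0 := by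
        apply qp_dvd_ker A B ((dvd_neg).mpr hqc')
        rw [qpEv_A_apply hA, qpEv_B_apply hB, hm₁, map_zero, map_zero]
      rw [t1, t2, zero_add, add_zero] at h
      have e : g.1 0 0 - 1 = (g.1 1 1 + X * p4) - 1 := by rw [← h4]; ring
      rw [e, map_sub, map_one, LinearMap.sub_apply, h, Module.End.one_apply, sub_self]
    have hEB : qpT A B 0 0 (g.1 1 1) (g.1 0 1) = B := by rw [← qpT_Br hA hB, hT, one_mul]
    have h1b : qpEv A B (X * g.1 0 1) * B = 0 := by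
      have := congrArg (fun T => B * T) hEB
      simp only [qpT_Bl hA hB] at this
      rw [hB] at this
      rw [← qpT_evB, ← this]
      exact qpT_congr A B (by ring) rfl (by ring) (by ring)
    obtain ⟨m₂, hm₂, hBm₂⟩ := qp_LAq (A := B) (B := A) hA S.hqX hm₀ (by rw [qpEv_swap]; exact hq0)
    rw [qpEv_swap] at hm₂
    have hqBm : qpEv A B q (B m₂) = 0 := by rw [qpEv_B_apply hB, hm₂, map_zero]
    have h01 : q ∣ g.1 0 1 := by
      refine S.hqX.dvd_of_dvd_mul_left (qp_dvd_of_ker A B S.hq hBm₂ hqBm ?_)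
      have := congrArg (fun f : Module.End k M => f m₂) h1b
      simpa using this
    have h11 : q ∣ g.1 1 1 - 1 := by
      refine qp_dvd_of_ker A B S.hq hBm₂ hqBm ?_
      have h := congrArg (fun f : Module.End k M => f m₂) hEB
      simp only [qpT_split, map_zero, zero_mul, zero_add, LinearMap.add_apply, Module.End.mul_apply] at h
      have t : qpEv A B (g.1 0 1) (A (B m₂)) = 0 := by
        apply qp_dvd_ker A B h01
        rw [qpEv_A_apply hA, qpEv_B_apply hB, hm₂, map_zero, map_zero]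
      rw [t, add_zero] at h
      rw [map_sub, map_one, LinearMap.sub_apply, h, Module.End.one_apply, sub_self]
    exact ⟨h00, h01, h10, h11⟩
  · rintro ⟨h00, h01, h10, h11⟩
    obtain ⟨-, -, ⟨r₁, hr₁⟩⟩ := qpGam_ord1 hg
    have hqA := qp_evqA S
    have hqB := qp_evqB S
    have hqc' : q ∣ c' := S.hqX.dvd_of_dvd_mul_left (by rw [← hc]; exact h10)
    have hqp4 : q ∣ p4 := by
      refine S.hqX.dvd_of_dvd_mul_left ?_
      rw [← h4]
      have : g.1 0 0 - g.1 1 1 = (g.1 0 0 - 1) - (g.1 1 1 - 1) := by ring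
      rw [this]
      exact dvd_sub h00 h11
    obtain ⟨r₂, hr₂⟩ : q ∣ r₁ := S.hqX.dvd_of_dvd_mul_left (by rw [← hr₁]; exact h11)
    have hXq : qpEv A B (X * q) = 0 := qp_z_of_A hA hB hqA
    have e1 : qpEv A B (g.1 1 1) = 1 := by
      have : g.1 1 1 = 1 + X * q * r₂ := by rw [mul_assoc, ← hr₂, ← hr₁]; ring
      rw [this, map_add, map_one, map_mul, hXq, zero_mul, add_zero]
    rw [qpPhi_eq A B hc h4, qpT_split, e1, qp_dvd_zero A B h01 hqA, qp_dvd_zero A B hqc' hqB, ← mul_assoc,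
      qp_dvd_zero A B hqp4 hqA, zero_mul, add_zero, add_zero, add_zero]

end qp6d

end Cfsg.Agent.Lib.helper85
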