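import Cfsg.Prelude.Def_RootSubgroups
import Cfsg.Agent.Lib.helper85.QP6

set_option autoImplicit false
set_option linter.unusedSimpArgs false

namespace Cfsg.Agent.Lib.helper85

open Polynomial
open scoped commutatorElement

section qp7a
variable {k : Type*} [Field k] {M : Type*} [AddCommGroup M] [Module k M]
variable {G : Subgroup (LinearMap.GeneralLinearGroup k M)}

/-- the family `1 + c N` -/
def qpFam (N : Module.End k M) : Set (LinearMap.GeneralLinearGroup k M) :=
  {h | ∃ c : k, ((h : LinearMap.GeneralLinearGroup k M) : Module.End k M) = 1 + c • N}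

theorem qpFam_sub {N : Module.End k M} (h : qpN G N) :
    qpFam N ⊆ (G : Set (LinearMap.GeneralLinearGroup k M)) := by
  rintro x ⟨c, hc⟩
  obtain ⟨g, hg, e⟩ := h.2 c
  have : x = g := Units.ext (by rw [hc, e])
  rw [this]
  exact hg

/-- the group of elements `1 + a A + b B + c AB + d BA` in the nilpotent case -/
def qpUni (A B : Module.End k M) (hA : A * A = 0) (hB : B * B = 0) (h1 : A * (B * A) = 0)
    (h2 : B * (A * B) = 0) : Subgroup (LinearMap.GeneralLinearGroup k M) where
  carrier := {h | ∃ a b c d : k, ((h : LinearMap.GeneralLinearGroup k M) : Module.End k M) =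
    1 + a • A + b • B + c • (A * B) + d • (B * A)}
  one_mem' := ⟨0, 0, 0, 0, by simp⟩
  mul_mem' := by
    rintro x y ⟨a, b, c, d, hx⟩ ⟨a', b', c', d', hy⟩
    refine ⟨a + a', b + b', c + c' + a * b', d + d' + b * a', ?_⟩
    have AA' : ∀ W, A * (A * W) = 0 := by intro W; rw [← mul_assoc, hA, zero_mul]
    have BB' : ∀ W, B * (B * W) = 0 := by intro W; rw [← mul_assoc, hB, zero_mul]
    have h1' : ∀ W, A * (B * (A * W)) = 0 := by intro W; rw [← mul_assoc B, ← mul_assoc, h1, zero_mul]
    have h2' : ∀ W, B * (A * (B * W)) = 0 := by intro W; rw [← mul_assoc A, ← mul_assoc, h2, zero_mul]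
    rw [Units.val_mul, hx, hy]
    simp only [mul_add, add_mul, mul_one, one_mul, smul_mul_assoc, mul_smul_comm, smul_add, smul_smul, mul_assoc,
      hA, hB, AA', BB', h1, h2, h1', h2', smul_zero, mul_zero, zero_mul, add_zero, zero_add]
    module
  inv_mem' := by
    rintro x ⟨a, b, c, d, hx⟩
    refine ⟨-a, -b, -c + a * b, -d + b * a, ?_⟩
    have AA' : ∀ W, A * (A * W) = 0 := by intro W; rw [← mul_assoc, hA, zero_mul]
    have BB' : ∀ W, B * (B * W) = 0 := by intro W; rw [← mul_assoc, hB, zero_mul]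
    have h1' : ∀ W, A * (B * (A * W)) = 0 := by intro W; rw [← mul_assoc B, ← mul_assoc, h1, zero_mul]
    have h2' : ∀ W, B * (A * (B * W)) = 0 := by intro W; rw [← mul_assoc A, ← mul_assoc, h2, zero_mul]
    have key : (x : Module.End k M) * (1 + (-a) • A + (-b) • B + (-c + a * b) • (A * B) +
        (-d + b * a) • (B * A)) = 1 := by
      rw [hx]
      simp only [mul_add, add_mul, mul_one, one_mul, smul_mul_assoc, mul_smul_comm, smul_add, smul_smul,
        mul_assoc, hA, hB, AA', BB', h1, h2, h1', h2', smul_zero, mul_zero, zero_mul, add_zero, zero_add]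
      module
    calc ((x⁻¹ : LinearMap.GeneralLinearGroup k M) : Module.End k M)
        = ((x⁻¹ : LinearMap.GeneralLinearGroup k M) : Module.End k M) * ((x : Module.End k M) *
            (1 + (-a) • A + (-b) • B + (-c + a * b) • (A * B) + (-d + b * a) • (B * A))) := by
          rw [key, mul_one]
      _ = _ := by rw [← mul_assoc, Units.inv_mul, one_mul]

theorem qp_unipOn_iff (H : Subgroup (LinearMap.GeneralLinearGroup k M)) :
    Cfsg.IsUnipotentOn H ↔ ∃ n : ℕ, ∀ l : List (LinearMap.GeneralLinearGroup k M), (∀ g ∈ l, g ∈ H) →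
      l.length = n → (l.map (fun g : LinearMap.GeneralLinearGroup k M =>
        ((g : LinearMap.GeneralLinearGroup k M) : Module.End k M) - 1)).prod = 0 := by
  constructor
  · rintro ⟨n, hn⟩
    refine ⟨n, fun l hl hlen => ?_⟩
    have := hn l hl hlen
    simp only [bind_pure_comp, List.map_eq_map, List.map_map] at this
    exact this
  · rintro ⟨n, hn⟩
    refine ⟨n, fun l hl hlen => ?_⟩
    have := hn l hl hlen
    simp only [bind_pure_comp, List.map_eq_map, List.map_map]
    exact this

theorem qp_unip_of_nil {A B : Module.End k M} (hA : A * A = 0) (hB : B * B = 0)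
    (h1 : (A * B + B * A) * A = 0) (h2 : (A * B + B * A) * B = 0) :
    Cfsg.IsUnipotentOn (Subgroup.closure (qpFam A ∪ qpFam B)) := by
  have hABA : A * (B * A) = 0 := by
    rw [add_mul, mul_assoc B A A, hA, mul_zero, add_zero, mul_assoc] at h1
    exact h1
  have hBAB : B * (A * B) = 0 := by
    rw [add_mul, mul_assoc A B B, hB, mul_zero, zero_add, mul_assoc] at h2
    exact h2
  have hle : Subgroup.closure (qpFam A ∪ qpFam B) ≤ qpUni A B hA hB hABA hBAB := by
    rw [Subgroup.closure_le]
    rintro x (⟨c, hc⟩ | ⟨c, hc⟩)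
    · exact ⟨c, 0, 0, 0, by rw [hc]; simp⟩
    · exact ⟨0, c, 0, 0, by rw [hc]; simp⟩
  rw [qp_unipOn_iff]
  refine ⟨3, ?_⟩
  intro l hl hlen
  obtain ⟨x, y, z, rfl⟩ := List.length_eq_three.mp hlen
  obtain ⟨a, b, c, d, hx⟩ := hle (hl x (by simp))
  obtain ⟨a', b', c', d', hy⟩ := hle (hl y (by simp))
  obtain ⟨a'', b'', c'', d'', hz⟩ := hle (hl z (by simp))
  have AA' : ∀ W, A * (A * W) = 0 := by intro W; rw [← mul_assoc, hA, zero_mul]
  have BB' : ∀ W, B * (B * W) = 0 := by intro W; rw [← mul_assoc, hB, zero_mul]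
  have h1' : ∀ W, A * (B * (A * W)) = 0 := by intro W; rw [← mul_assoc B, ← mul_assoc, hABA, zero_mul]
  have h2' : ∀ W, B * (A * (B * W)) = 0 := by intro W; rw [← mul_assoc A, ← mul_assoc, hBAB, zero_mul]
  have ex : ((x : LinearMap.GeneralLinearGroup k M) : Module.End k M) - 1 =
      a • A + b • B + c • (A * B) + d • (B * A) := by
    rw [hx]; abel
  have ey : ((y : LinearMap.GeneralLinearGroup k M) : Module.End k M) - 1 =
      a' • A + b' • B + c' • (A * B) + d' • (B * A) := by
    rw [hy]; abel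
  have ez : ((z : LinearMap.GeneralLinearGroup k M) : Module.End k M) - 1 =
      a'' • A + b'' • B + c'' • (A * B) + d'' • (B * A) := by
    rw [hz]; abel
  simp only [List.map_cons, List.map_nil, List.prod_cons, List.prod_nil, mul_one]
  rw [ex, ey, ez]
  simp only [mul_add, add_mul, smul_mul_assoc, mul_smul_comm, smul_add, smul_smul, mul_assoc,
    hA, hB, AA', BB', hABA, hBAB, h1', h2', smul_zero, mul_zero, zero_mul, add_zero, zero_add]

end qp7a

section qp7b
variable {k : Type*} [Field k] {M : Type*} [AddCommGroup M] [Module k M]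

theorem qp_add_pow {R : Type*} [Ring R] {x y : R} (hxy : x * y = 0) (hyx : y * x = 0) (j : ℕ) :
    (x + y) ^ (j + 1) = x ^ (j + 1) + y ^ (j + 1) := by
  induction j with
  | zero => simp
  | succ j ih =>
    rw [pow_succ, ih, add_mul, mul_add, mul_add, pow_succ x (j + 1), pow_succ y (j + 1), pow_succ x j,
      pow_succ y j, mul_assoc (x ^ j) x y, hxy, mul_zero, mul_assoc (y ^ j) y x, hyx, mul_zero, add_zero,
      zero_add]

theorem qp_pair_pow {H : Subgroup (LinearMap.GeneralLinearGroup k M)} {n : ℕ}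
    (hn : ∀ l : List (LinearMap.GeneralLinearGroup k M), (∀ g ∈ l, g ∈ H) →
      l.length = n → (l.map (fun g : LinearMap.GeneralLinearGroup k M =>
        ((g : LinearMap.GeneralLinearGroup k M) : Module.End k M) - 1)).prod = 0)
    {σ σ' : LinearMap.GeneralLinearGroup k M} (hσ : σ ∈ H) (hσ' : σ' ∈ H) :
    ((((σ : LinearMap.GeneralLinearGroup k M) : Module.End k M) - 1) *
      (((σ' : LinearMap.GeneralLinearGroup k M) : Module.End k M) - 1)) ^ n = 0 := by
  have hfull : ∀ j : ℕ, ((List.replicate j [σ, σ']).flatten.map (fun g : LinearMap.GeneralLinearGroup k M =>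
      ((g : LinearMap.GeneralLinearGroup k M) : Module.End k M) - 1)).prod =
      ((((σ : LinearMap.GeneralLinearGroup k M) : Module.End k M) - 1) *
        (((σ' : LinearMap.GeneralLinearGroup k M) : Module.End k M) - 1)) ^ j := by
    intro j
    induction j with
    | zero => simp
    | succ j ih =>
      rw [List.replicate_succ, List.flatten_cons, List.map_append, List.prod_append, ih, pow_succ']
      simp [mul_assoc]
  have hmem : ∀ g ∈ (List.replicate n [σ, σ']).flatten, g ∈ H := by
    intro g hg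
    rw [List.mem_flatten] at hg
    obtain ⟨l, hl, hgl⟩ := hg
    rw [List.mem_replicate] at hl
    rw [hl.2] at hgl
    simp only [List.mem_cons, List.not_mem_nil, or_false] at hgl
    rcases hgl with rfl | rfl
    · exact hσ
    · exact hσ'
  have hlen : (List.replicate n [σ, σ']).flatten.length = 2 * n := by
    induction n with
    | zero => simp
    | succ n ih =>
      rw [List.replicate_succ, List.flatten_cons, List.length_append]
      simp
      omega
  have h1 := hn ((List.replicate n [σ, σ']).flatten.take n)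
    (fun g hg => hmem g (List.mem_of_mem_take hg)) (by rw [List.length_take, hlen]; omega)
  rw [← hfull n, ← List.take_append_drop n (List.replicate n [σ, σ']).flatten, List.map_append,
    List.prod_append, h1, zero_mul]

theorem qp_nil_of_unip {A A' : Module.End k M} (hA : A * A = 0) (hA' : A' * A' = 0)
    {σ σ' : LinearMap.GeneralLinearGroup k M}
    (hσ : ((σ : LinearMap.GeneralLinearGroup k M) : Module.End k M) = 1 + A)
    (hσ' : ((σ' : LinearMap.GeneralLinearGroup k M) : Module.End k M) = 1 + A')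
    {H : Subgroup (LinearMap.GeneralLinearGroup k M)} (hσH : σ ∈ H) (hσ'H : σ' ∈ H)
    (hU : Cfsg.IsUnipotentOn H) : ∃ n : ℕ, (A * A' + A' * A) ^ n = 0 := by
  rw [qp_unipOn_iff] at hU
  obtain ⟨n, hn⟩ := hU
  have h1 := qp_pair_pow hn hσH hσ'H
  have h2 := qp_pair_pow hn hσ'H hσH
  rw [hσ, hσ', add_sub_cancel_left, add_sub_cancel_left] at h1 h2
  refine ⟨n + 1, ?_⟩
  rw [qp_add_pow (by rw [mul_assoc, ← mul_assoc A', hA', zero_mul, mul_zero])
    (by rw [mul_assoc, ← mul_assoc A, hA, zero_mul, mul_zero]), pow_succ, pow_succ, h1, h2, zero_mul, zero_mul,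
    add_zero]

end qp7b

section qp7c
variable {k : Type*} [Field k] {M : Type*} [AddCommGroup M] [Module k M]

/-- `h` acts on the kernel of `q(z)` as `1 + p(z) A` -/
def qpAct (A B : Module.End k M) (q : k[X]) (h : LinearMap.GeneralLinearGroup k M) (p : k[X]) : Prop :=
  ∀ m : M, qpEv A B q m = 0 →
    ((h : LinearMap.GeneralLinearGroup k M) : Module.End k M) m = m + qpEv A B p (A m)

theorem qp_ker_stable {A B : Module.End k M} (hA : A * A = 0) (q p : k[X]) {m : M}
    (hm : qpEv A B q m = 0) : qpEv A B q (qpEv A B p (A m)) = 0 := by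
  have h1 : qpEv A B q (qpEv A B p (A m)) = qpEv A B p (qpEv A B q (A m)) := by
    have := congrArg (fun f : Module.End k M => f (A m)) (qpEv_comm_ev A B q p)
    simpa using this
  rw [h1, qpEv_A_apply hA, hm, map_zero, map_zero]

theorem qp_A_ev_A {A B : Module.End k M} (hA : A * A = 0) (p : k[X]) (m : M) :
    A (qpEv A B p (A m)) = 0 := by
  rw [← qpEv_A_apply hA]
  have : A (A m) = 0 := by
    have := congrArg (fun f : Module.End k M => f m) hA
    simpa using this
  rw [this, map_zero]

theorem qpAct_one (A B : Module.End k M) (q : k[X]) : qpAct A B q 1 0 := by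
  intro m _
  simp

theorem qpAct_mul {A B : Module.End k M} (hA : A * A = 0) {q : k[X]}
    {h h' : LinearMap.GeneralLinearGroup k M} {p p' : k[X]} (H : qpAct A B q h p) (H' : qpAct A B q h' p') :
    qpAct A B q (h * h') (p + p') := by
  intro m hm
  have hm' : qpEv A B q (m + qpEv A B p' (A m)) = 0 := by
    rw [map_add, hm, qp_ker_stable hA q p' hm, add_zero]
  rw [Units.val_mul, Module.End.mul_apply, H' m hm, H _ hm', map_add, qp_A_ev_A hA, add_zero, map_add,
    LinearMap.add_apply]
  abel

theorem qpAct_inv {A B : Module.End k M} (hA : A * A = 0) {q : k[X]}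
    {h : LinearMap.GeneralLinearGroup k M} {p : k[X]} (H : qpAct A B q h p) : qpAct A B q h⁻¹ (-p) := by
  intro m hm
  have hm' : qpEv A B q (m + qpEv A B (-p) (A m)) = 0 := by
    rw [map_add, hm, qp_ker_stable hA q (-p) hm, add_zero]
  have h1 := H _ hm'
  have e1 : A (m + qpEv A B (-p) (A m)) = A m := by rw [map_add, qp_A_ev_A hA, add_zero]
  have e2 : qpEv A B (-p) (A m) = -(qpEv A B p (A m)) := by rw [map_neg, LinearMap.neg_apply]
  rw [e1, e2] at h1
  have h2 : ((h : LinearMap.GeneralLinearGroup k M) : Module.End k M) (m + -(qpEv A B p (A m))) = m := by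
    rw [h1]; abel
  have h3 : ((h⁻¹ : LinearMap.GeneralLinearGroup k M) : Module.End k M)
      (((h : LinearMap.GeneralLinearGroup k M) : Module.End k M) (m + -(qpEv A B p (A m)))) =
      m + -(qpEv A B p (A m)) := by
    exact congrArg (fun f : Module.End k M => f (m + -(qpEv A B p (A m)))) (Units.inv_mul h)
  rw [h2] at h3
  rw [h3, e2]

/-- the subgroup of elements acting on the kernel of `q(z)` as some `1 + p(z) A` -/
def qpActGrp (A B : Module.End k M) (hA : A * A = 0) (q : k[X]) :
    Subgroup (LinearMap.GeneralLinearGroup k M) where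
  carrier := {h | ∃ p : k[X], qpAct A B q h p}
  one_mem' := ⟨0, qpAct_one A B q⟩
  mul_mem' := by
    rintro x y ⟨p, hp⟩ ⟨p', hp'⟩
    exact ⟨p + p', qpAct_mul hA hp hp'⟩
  inv_mem' := by
    rintro x ⟨p, hp⟩
    exact ⟨-p, qpAct_inv hA hp⟩

/-- the subgroup of elements acting trivially on the kernel of `q(z)` -/
def qpActTriv (A B : Module.End k M) (hA : A * A = 0) (q : k[X]) :
    Subgroup (LinearMap.GeneralLinearGroup k M) where
  carrier := {h | qpAct A B q h 0}
  one_mem' := qpAct_one A B q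
  mul_mem' := by
    intro x y hp hp'
    have := qpAct_mul hA hp hp'
    rwa [add_zero] at this
  inv_mem' := by
    intro x hp
    have := qpAct_inv hA hp
    rwa [neg_zero] at this

theorem qpAct_comm {A B : Module.End k M} (hA : A * A = 0) (q : k[X]) :
    ⁅qpActGrp A B hA q, qpActGrp A B hA q⁆ ≤ qpActTriv A B hA q := by
  rw [Subgroup.commutator_le]
  rintro x ⟨p, hp⟩ y ⟨p', hp'⟩
  rw [commutatorElement_def]
  have := qpAct_mul hA (qpAct_mul hA (qpAct_mul hA hp hp') (qpAct_inv hA hp)) (qpAct_inv hA hp')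
  have e : p + p' + -p + -p' = 0 := by ring
  rw [e] at this
  exact this

theorem qp_perfect_contra {A A' B : Module.End k M} (hA : A * A = 0) {q p : k[X]}
    (hA' : ∀ m : M, qpEv A B q m = 0 → A' m = qpEv A B p (A m))
    (hperf : ⁅Subgroup.closure (qpFam A ∪ qpFam A'), Subgroup.closure (qpFam A ∪ qpFam A')⁆ =
      Subgroup.closure (qpFam A ∪ qpFam A')) :
    ∀ m : M, qpEv A B q m = 0 → A m = 0 := by
  have hle : Subgroup.closure (qpFam A ∪ qpFam A') ≤ qpActGrp A B hA q := by
    rw [Subgroup.closure_le]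
    rintro x (⟨c, hc⟩ | ⟨c, hc⟩)
    · refine ⟨C c, fun m _ => ?_⟩
      rw [hc, LinearMap.add_apply, Module.End.one_apply, LinearMap.smul_apply]
      unfold qpEv
      rw [aeval_C]
      rfl
    · refine ⟨C c * p, fun m hm => ?_⟩
      rw [hc, LinearMap.add_apply, Module.End.one_apply, LinearMap.smul_apply, hA' m hm, map_mul,
        Module.End.mul_apply]
      unfold qpEv
      rw [aeval_C]
      rfl
  have hle2 : Subgroup.closure (qpFam A ∪ qpFam A') ≤ qpActTriv A B hA q := by
    rw [← hperf]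
    exact le_trans (Subgroup.commutator_mono hle hle) (qpAct_comm hA q)
  let σ : LinearMap.GeneralLinearGroup k M := ⟨1 + A, 1 - A,
    by have : (1 + A) * (1 - A) = 1 - A * A := by noncomm_ring
       rw [this, hA, sub_zero],
    by have : (1 - A) * (1 + A) = 1 - A * A := by noncomm_ring
       rw [this, hA, sub_zero]⟩
  have hσ : σ ∈ Subgroup.closure (qpFam A ∪ qpFam A') :=
    Subgroup.subset_closure (Or.inl ⟨1, by rw [one_smul]⟩)
  intro m hm
  have := hle2 hσ m hm
  rw [map_zero, LinearMap.zero_apply, add_zero] at this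
  have h2 : (1 + A : Module.End k M) m = m := this
  rw [LinearMap.add_apply, Module.End.one_apply] at h2
  exact add_eq_left.mp h2

end qp7c

section qp7d
variable {k : Type*} [Field k] {M : Type*} [AddCommGroup M] [Module k M]

/-- the measure used for the induction -/
noncomputable def qpNu (A B : Module.End k M) : ℕ :=
  Module.finrank k M - Module.finrank k (LinearMap.ker ((A * B + B * A) ^ Module.finrank k M))

theorem qpNu_lt [FiniteDimensional k M] {A B : Module.End k M} (hA : A * A = 0) (hB : B * B = 0)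
    {q : k[X]} (hqX : IsCoprime q X) (hMq : ∃ m : M, m ≠ 0 ∧ qpEv A B q m = 0)
    {g : Matrix.SpecialLinearGroup (Fin 2) k[X]} (hg : qpOrd g.1) (hq1 : q ∣ g.1 1 0) :
    qpNu A (qpCj A B g) < qpNu A B := by
  obtain ⟨m₀, hm₀, hq0⟩ := hMq
  obtain ⟨c', hc⟩ := hg.1
  have hpos : 0 < Module.finrank k M := Module.finrank_pos_iff_exists_ne_zero.mpr ⟨m₀, hm₀⟩
  have hz' : A * qpCj A B g + qpCj A B g * A = -(qpEv A B (g.1 1 0 ^ 2)) := qpCj_anti hA hB hg
  have hzpow : ∀ m : M, qpEv A B (g.1 1 0 ^ (2 * Module.finrank k M)) m = 0 →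
      ((A * qpCj A B g + qpCj A B g * A) ^ Module.finrank k M) m = 0 := by
    intro m hm
    rw [hz', neg_pow, ← map_pow, ← pow_mul, Module.End.mul_apply, hm, map_zero]
  have hle1 : LinearMap.ker ((A * B + B * A) ^ Module.finrank k M) ≤
      LinearMap.ker ((A * qpCj A B g + qpCj A B g * A) ^ Module.finrank k M) := by
    intro m hm
    rw [LinearMap.mem_ker] at hm ⊢
    apply hzpow
    have e : g.1 1 0 ^ (2 * Module.finrank k M) =
        (c' ^ (2 * Module.finrank k M) * X ^ Module.finrank k M) * X ^ Module.finrank k M := by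
      rw [hc, mul_pow]; ring
    rw [e, map_mul, Module.End.mul_apply, map_pow, qpEv_X, hm, map_zero]
  have hle2 : LinearMap.ker (qpEv A B q) ≤
      LinearMap.ker ((A * qpCj A B g + qpCj A B g * A) ^ Module.finrank k M) := by
    intro m hm
    rw [LinearMap.mem_ker] at hm ⊢
    apply hzpow
    exact qp_dvd_ker A B (dvd_trans hq1 (dvd_pow_self _ (by omega))) hm
  have hinf : LinearMap.ker ((A * B + B * A) ^ Module.finrank k M) ⊓ LinearMap.ker (qpEv A B q) = ⊥ := by
    rw [eq_bot_iff]
    rintro m ⟨h1, h2⟩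
    rw [SetLike.mem_coe, LinearMap.mem_ker] at h1 h2
    rw [Submodule.mem_bot]
    refine qp_coprime_ker A B (hqX.pow_right (n := Module.finrank k M)) h2 ?_
    rw [map_pow, qpEv_X]
    exact h1
  have hsum := Submodule.finrank_sup_add_finrank_inf_eq
    (LinearMap.ker ((A * B + B * A) ^ Module.finrank k M)) (LinearMap.ker (qpEv A B q))
  rw [hinf, finrank_bot, add_zero] at hsum
  have hq1' : 0 < Module.finrank k (LinearMap.ker (qpEv A B q)) := by
    rw [Module.finrank_pos_iff_exists_ne_zero]
    refine ⟨⟨m₀, hq0⟩, ?_⟩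
    intro h
    exact hm₀ (congrArg Subtype.val h)
  have hmono := Submodule.finrank_mono (sup_le hle1 hle2)
  have hK' := Submodule.finrank_le
    (LinearMap.ker ((A * qpCj A B g + qpCj A B g * A) ^ Module.finrank k M))
  unfold qpNu
  omega

theorem qp_exists_q [FiniteDimensional k M] (A B : Module.End k M)
    (hnil : ¬ ∃ n : ℕ, (A * B + B * A) ^ n = 0) :
    ∃ q : k[X], Irreducible q ∧ IsCoprime q X ∧ ∃ m : M, m ≠ 0 ∧ qpEv A B q m = 0 := by
  have hint : IsIntegral k (qpZ A B) := IsIntegral.of_finite k _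
  have hμ0 : minpoly k (qpZ A B) ≠ 0 := minpoly.ne_zero hint
  obtain ⟨μ', hμ, hnd⟩ := exists_eq_pow_rootMultiplicity_mul_and_not_dvd (minpoly k (qpZ A B)) hμ0 0
  rw [C_0, sub_zero] at hμ hnd
  have hμ'0 : μ' ≠ 0 := by
    rintro rfl
    rw [mul_zero] at hμ
    exact hμ0 hμ
  have hunit : ¬ IsUnit μ' := by
    intro hu
    apply hnil
    refine ⟨rootMultiplicity 0 (minpoly k (qpZ A B)), ?_⟩
    have h0 := minpoly.aeval k (qpZ A B)
    rw [hμ, map_mul, map_pow, aeval_X] at h0
    obtain ⟨u, hu'⟩ := hu.map (aeval (qpZ A B))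
    rw [← hu'] at h0
    have := congrArg (fun f => f * (↑u⁻¹ : Module.End k M)) h0
    simp only [mul_assoc, Units.mul_inv, mul_one, zero_mul] at this
    exact this
  obtain ⟨q, hq, hqμ'⟩ := WfDvdMonoid.exists_irreducible_factor hunit hμ'0
  have hqX : IsCoprime q X := by
    rw [hq.coprime_iff_not_dvd]
    intro h
    exact hnd (dvd_trans (hq.dvd_symm irreducible_X h) hqμ')
  refine ⟨q, hq, hqX, ?_⟩
  by_contra hcon
  obtain ⟨s, hs⟩ : q ∣ minpoly k (qpZ A B) := dvd_trans hqμ' (Dvd.intro_left _ hμ.symm)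
  have h0 : aeval (qpZ A B) s = 0 := by
    ext m
    by_contra hne
    apply hcon
    refine ⟨aeval (qpZ A B) s m, hne, ?_⟩
    have := congrArg (fun f : Module.End k M => f m) (minpoly.aeval k (qpZ A B))
    rw [hs, map_mul] at this
    exact this
  obtain ⟨r, hr⟩ := minpoly.dvd k (qpZ A B) h0
  have hs0 : s ≠ 0 := by
    rintro rfl
    rw [mul_zero] at hs
    exact hμ0 hs
  have : s * 1 = s * (q * r) := by
    rw [mul_one]
    conv_lhs => rw [hr, hs]
    ring
  have h1 := mul_left_cancel₀ hs0 this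
  exact hq.not_isUnit (IsUnit.of_mul_eq_one r h1.symm)

end qp7d

section qp7e
variable {k : Type*} [Field k] {M : Type*} [AddCommGroup M] [Module k M]
variable {G : Subgroup (LinearMap.GeneralLinearGroup k M)}

theorem qpRed_eq_one_iff (q : k[X]) (g : Matrix.SpecialLinearGroup (Fin 2) k[X]) :
    qpRed q g = 1 ↔ (q ∣ g.1 0 0 - 1 ∧ q ∣ g.1 0 1 ∧ q ∣ g.1 1 0 ∧ q ∣ g.1 1 1 - 1) := by
  constructor
  · intro h
    have e : ∀ i j, AdjoinRoot.mk q (g.1 i j) =
        (1 : Matrix.SpecialLinearGroup (Fin 2) (AdjoinRoot q)).1 i j := fun i j => by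
      rw [← qpRed_apply, h]
    refine ⟨?_, ?_, ?_, ?_⟩
    · rw [← AdjoinRoot.mk_eq_zero, map_sub, map_one, e, qm_one00, sub_self]
    · rw [← AdjoinRoot.mk_eq_zero, e, qm_one01]
    · rw [← AdjoinRoot.mk_eq_zero, e, qm_one10]
    · rw [← AdjoinRoot.mk_eq_zero, map_sub, map_one, e, qm_one11, sub_self]
  · rintro ⟨h00, h01, h10, h11⟩
    rw [← AdjoinRoot.mk_eq_zero] at h00 h01 h10 h11
    rw [map_sub, map_one, sub_eq_zero] at h00 h11
    apply qm_ext
    · rw [qpRed_apply, h00, qm_one00]
    · rw [qpRed_apply, h01, qm_one01]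
    · rw [qpRed_apply, h10, qm_one10]
    · rw [qpRed_apply, h11, qm_one11]

theorem qp_iso [FiniteDimensional k M] {d : ℕ} {q : k[X]} {A B : Module.End k M} (S : QpSetup G d q A B) :
    Nonempty (↥(Subgroup.closure (qpFam A ∪ qpFam B)) ≃*
      Matrix.SpecialLinearGroup (Fin 2) (AdjoinRoot q)) := by
  have hA := S.hNA.1
  have hB := S.hNB.1
  have hF : Fact (Irreducible q) := ⟨S.hq⟩
  let f₀ : ↥(qpGam k) →* Module.End k M :=
    { toFun := fun g => qpPhi A B g.1.1
      map_one' := qpPhi_one A B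
      map_mul' := fun g h => qpPhi_mul hA hB (qpGam_ord g.2) (qpGam_ord h.2) }
  let f : ↥(qpGam k) →* LinearMap.GeneralLinearGroup k M := f₀.toHomUnits
  have hfval : ∀ g : ↥(qpGam k),
      ((f g : LinearMap.GeneralLinearGroup k M) : Module.End k M) = qpPhi A B g.1.1 :=
    fun g => MonoidHom.coe_toHomUnits f₀ g
  have key : ∀ (y : Matrix.SpecialLinearGroup (Fin 2) k[X])
      (hy : y ∈ Subgroup.closure (Set.range (qpU (k := k)) ∪ Set.range (qpL (k := k)))),
      f ⟨y, hy⟩ ∈ Subgroup.closure (qpFam A ∪ qpFam B) := by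
    intro y hy
    induction hy using Subgroup.closure_induction with
    | mem x hx =>
      rcases hx with ⟨c, rfl⟩ | ⟨c, rfl⟩
      · exact Subgroup.subset_closure (Or.inl ⟨c, by rw [hfval]; exact qpPhi_U A B c⟩)
      · exact Subgroup.subset_closure (Or.inr ⟨c, by rw [hfval]; exact qpPhi_L A B c⟩)
    | one =>
      have h := one_mem (Subgroup.closure (qpFam A ∪ qpFam B))
      rw [← map_one f] at h
      exact h
    | mul x y hx hy ihx ihy =>
      have h := mul_mem ihx ihy
      rw [← map_mul] at h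
      exact h
    | inv x hx ih =>
      have h := inv_mem ih
      rw [← map_inv] at h
      exact h
  have hrange : f.range = Subgroup.closure (qpFam A ∪ qpFam B) := by
    apply le_antisymm
    · rintro _ ⟨x, rfl⟩
      exact key x.1 x.2
    · rw [Subgroup.closure_le]
      rintro h (⟨c, hc⟩ | ⟨c, hc⟩)
      · exact ⟨⟨qpU c, qpU_mem c⟩, Units.ext (by rw [hfval, hc]; exact qpPhi_U A B c)⟩
      · exact ⟨⟨qpL c, qpL_mem c⟩, Units.ext (by rw [hfval, hc]; exact qpPhi_L A B c)⟩
  let red : ↥(qpGam k) →* Matrix.SpecialLinearGroup (Fin 2) (AdjoinRoot q) :=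
    (qpRed q).comp (qpGam k).subtype
  have hsurj : Function.Surjective red := by
    intro y
    obtain ⟨g, hg, rfl⟩ := qp_dickson_surj S.hk2 S.hk3 q S.hqX' y
    exact ⟨⟨g, hg⟩, rfl⟩
  have hker : f.ker = red.ker := by
    ext x
    rw [MonoidHom.mem_ker, MonoidHom.mem_ker]
    have h1 : f x = 1 ↔ qpPhi A B x.1.1 = 1 := by
      rw [← hfval]
      constructor
      · intro h; rw [h]; rfl
      · intro h; exact Units.ext h
    rw [h1, qp_ker_iff S x.2]
    exact (qpRed_eq_one_iff q x.1).symm
  exact ⟨(MulEquiv.subgroupCongr hrange.symm).trans ((QuotientGroup.quotientKerEquivRange f).symm.trans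
    ((QuotientGroup.quotientMulEquivOfEq hker).trans (QuotientGroup.quotientKerEquivOfSurjective red hsurj)))⟩

theorem qp_main [FiniteDimensional k M] (hk2 : ringChar k ≠ 2) (hk3 : Nat.card k ≠ 3) {d : ℕ}
    (hmin : ∀ N : Module.End k M, qpN G N → N ≠ 0 → d ≤ Module.finrank k (LinearMap.range N)) :
    ∀ ν : ℕ, ∀ A B : Module.End k M, qpN G A → qpN G B → Module.finrank k (LinearMap.range A) = d →
      Module.finrank k (LinearMap.range B) = d → qpNu A B = ν →
      (Cfsg.IsUnipotentOn (Subgroup.closure (qpFam A ∪ qpFam B)) ∨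
        ∃ q : k[X], Irreducible q ∧ ¬ q ∣ X ∧
          Nonempty (↥(Subgroup.closure (qpFam A ∪ qpFam B)) ≃*
            Matrix.SpecialLinearGroup (Fin 2) (AdjoinRoot q))) := by
  intro ν
  induction ν using Nat.strong_induction_on with
  | _ ν ih =>
    intro A B hNA hNB rA rB hν
    have h2 : (2 : k) ≠ 0 := Ring.two_ne_zero hk2
    have hA := hNA.1
    have hB := hNB.1
    by_cases hnil : ∃ n : ℕ, (A * B + B * A) ^ n = 0
    · left
      obtain ⟨n, hn⟩ := hnil
      obtain ⟨h1, h2'⟩ := qp_unip h2 hmin hNA hNB rA rB hn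
      exact qp_unip_of_nil hA hB h1 h2'
    · right
      obtain ⟨q, hq, hqX, hMq⟩ := qp_exists_q A B hnil
      have hT4 : ∀ g ∈ qpGam k, q ∣ g.1 1 0 → ∃ n : ℕ, qpEv A B (g.1 1 0) ^ n = 0 := by
        intro g hg hq1
        have hlt := qpNu_lt hA hB hqX hMq (qpGam_ord hg) hq1
        rw [hν] at hlt
        have hN' := qpCj_N hNA hNB hg
        have hr' : Module.finrank k (LinearMap.range (qpCj A B g)) = d := by
          rw [qpCj_rank hA hB hg, rA]
        obtain ⟨σ, hσG, hσ⟩ := hNA.2 1
        obtain ⟨σ', hσ'G, hσ'⟩ := hN'.2 1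
        rw [one_smul] at hσ hσ'
        have hσH : σ ∈ Subgroup.closure (qpFam A ∪ qpFam (qpCj A B g)) :=
          Subgroup.subset_closure (Or.inl ⟨1, by rw [hσ, one_smul]⟩)
        have hσ'H : σ' ∈ Subgroup.closure (qpFam A ∪ qpFam (qpCj A B g)) :=
          Subgroup.subset_closure (Or.inr ⟨1, by rw [hσ', one_smul]⟩)
        rcases ih _ hlt A (qpCj A B g) hNA hN' rA hr' rfl with hU | ⟨q', hq', hq'X, ⟨e⟩⟩
        · obtain ⟨n, hn⟩ := qp_nil_of_unip hA hN'.1 hσ hσ' hσH hσ'H hU
          rw [qpCj_anti hA hB (qpGam_ord hg), neg_pow, neg_one_pow_mul_eq_zero_iff, ← map_pow, ← pow_mul] at hn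
          exact ⟨2 * n, by rw [← map_pow]; exact hn⟩
        · exfalso
          have hF : Fact (Irreducible q') := ⟨hq'⟩
          obtain ⟨t, ht0, ht1⟩ := qp_exists_t hk2 hk3
          have hperfK : ⁅(⊤ : Subgroup (Matrix.SpecialLinearGroup (Fin 2) (AdjoinRoot q'))),
              (⊤ : Subgroup (Matrix.SpecialLinearGroup (Fin 2) (AdjoinRoot q')))⁆ = ⊤ :=
            qp_perfect (algebraMap k (AdjoinRoot q') t) (by rwa [Ne, map_eq_zero])
              (by
                rw [← map_mul, ← map_one (algebraMap k (AdjoinRoot q'))]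
                exact fun h => ht1 ((algebraMap k (AdjoinRoot q')).injective h))
          have hperfH : ⁅(⊤ : Subgroup ↥(Subgroup.closure (qpFam A ∪ qpFam (qpCj A B g)))),
              (⊤ : Subgroup ↥(Subgroup.closure (qpFam A ∪ qpFam (qpCj A B g))))⁆ = ⊤ := by
            have := Subgroup.map_commutator
              (⊤ : Subgroup (Matrix.SpecialLinearGroup (Fin 2) (AdjoinRoot q'))) ⊤ e.symm.toMonoidHom
            rw [hperfK, Subgroup.map_top_of_surjective _ e.symm.surjective] at this
            exact this.symm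
          have hperf : ⁅Subgroup.closure (qpFam A ∪ qpFam (qpCj A B g)),
              Subgroup.closure (qpFam A ∪ qpFam (qpCj A B g))⁆ =
              Subgroup.closure (qpFam A ∪ qpFam (qpCj A B g)) := by
            have := Subgroup.map_commutator
              (⊤ : Subgroup ↥(Subgroup.closure (qpFam A ∪ qpFam (qpCj A B g)))) ⊤
              (Subgroup.closure (qpFam A ∪ qpFam (qpCj A B g))).subtype
            rw [hperfH, ← MonoidHom.range_eq_map, Subgroup.range_subtype] at this
            exact this.symm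
          obtain ⟨c', hc⟩ := (qpGam_ord hg).1
          have hqc' : q ∣ c' := hqX.dvd_of_dvd_mul_left (by rw [← hc]; exact hq1)
          have hA' : ∀ m : M, qpEv A B q m = 0 → qpCj A B g m = qpEv A B (g.1 0 0 ^ 2) (A m) := by
            intro m hm
            rw [qpCj_eq hA hB (qpGam_ord hg) hc, qpT_split]
            simp only [LinearMap.add_apply, Module.End.mul_apply]
            rw [qp_dvd_ker A B (dvd_mul_of_dvd_right hq1 _) hm,
              qp_dvd_ker A B ((dvd_neg).mpr (dvd_mul_of_dvd_right hq1 _))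
                (by rw [qpEv_B_apply hB, hm, map_zero]),
              qp_dvd_ker A B ((dvd_neg).mpr (dvd_mul_of_dvd_right hqc' _))
                (by rw [qpEv_A_apply hA, qpEv_B_apply hB, hm, map_zero, map_zero]),
              zero_add, add_zero, add_zero]
          have hall := qp_perfect_contra hA hA' hperf
          obtain ⟨m₀, hm₀, hq0⟩ := hMq
          obtain ⟨m₁, hm₁, hAm₁⟩ := qp_LAq hB hqX hm₀ hq0
          exact hAm₁ (hall m₁ hm₁)
      have S : QpSetup G d q A B := ⟨hk2, hk3, hq, hqX, hmin, hNA, hNB, rA, rB, hMq, hT4⟩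
      exact ⟨q, hq, S.hqX', qp_iso S⟩

end qp7e

end Cfsg.Agent.Lib.helper85
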