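import Cfsg.Agent.Lib.helper85.QP7

set_option autoImplicit false
set_option linter.unusedSimpArgs false

namespace Cfsg.Agent.Lib.helper85

open Polynomial

section qp8
variable {k : Type*} [Field k] {M : Type*} [AddCommGroup M] [Module k M]
variable {G : Subgroup (LinearMap.GeneralLinearGroup k M)}

theorem qpN_of_quad {σ : LinearMap.GeneralLinearGroup k M} (hσ : σ ∈ Cfsg.quadraticElements G) :
    qpN G (((σ : LinearMap.GeneralLinearGroup k M) : Module.End k M) - 1) := by
  obtain ⟨-, ⟨hsq, -⟩, hfam⟩ := hσ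
  refine ⟨hsq, fun c => ?_⟩
  have hN : (((σ : LinearMap.GeneralLinearGroup k M) : Module.End k M) - 1) *
      (((σ : LinearMap.GeneralLinearGroup k M) : Module.End k M) - 1) = 0 := hsq
  let u : LinearMap.GeneralLinearGroup k M :=
    ⟨1 + c • (((σ : LinearMap.GeneralLinearGroup k M) : Module.End k M) - 1),
      1 - c • (((σ : LinearMap.GeneralLinearGroup k M) : Module.End k M) - 1),
      by
        rw [mul_sub, add_mul, add_mul, one_mul, mul_one, one_mul, smul_mul_assoc, mul_smul_comm, hN, smul_zero,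
          smul_zero]
        abel,
      by
        rw [sub_mul, mul_add, mul_add, one_mul, mul_one, one_mul, smul_mul_assoc, mul_smul_comm, hN, smul_zero,
          smul_zero]
        abel⟩
  exact ⟨u, hfam ⟨c, rfl⟩, rfl⟩

theorem qp_hmin_of_min {σ : LinearMap.GeneralLinearGroup k M} (hσ : σ ∈ Cfsg.minimalQuadraticElements G) :
    ∀ N : Module.End k M, qpN G N → N ≠ 0 →
      Cfsg.commutatorRank σ ≤ Module.finrank k (LinearMap.range N) := by
  intro N hN hN0
  obtain ⟨g, hg, e⟩ := hN.2 1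
  rw [one_smul] at e
  have e' : ((g : LinearMap.GeneralLinearGroup k M) : M →ₗ[k] M) - 1 = N := by
    rw [show ((g : LinearMap.GeneralLinearGroup k M) : M →ₗ[k] M) = 1 + N from e]
    exact add_sub_cancel_left 1 N
  have hgq : g ∈ Cfsg.quadraticElements G := by
    refine ⟨hg, ⟨?_, ?_⟩, ?_⟩
    · rw [e']; exact hN.1
    · rw [e']; exact hN0
    · rintro x ⟨c, hc⟩
      rw [e'] at hc
      obtain ⟨g', hg', e2⟩ := hN.2 c
      have : x = g' := Units.ext (hc.trans e2.symm)
      rw [this]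
      exact hg'
  calc Cfsg.commutatorRank σ ≤ Cfsg.commutatorRank g := hσ.2 g hgq
    _ = Module.finrank k (LinearMap.range N) := by
      show Module.finrank k (LinearMap.range (((g : LinearMap.GeneralLinearGroup k M) : M →ₗ[k] M) - 1)) = _
      rw [e']

end qp8

/-- the quadratic pair theorem for two scalar families -/
theorem qp_final {k : Type*} [Field k] (hk2 : ringChar k ≠ 2) (hk3 : Nat.card k ≠ 3)
    {M : Type*} [AddCommGroup M] [Module k M] [FiniteDimensional k M]
    {G : Subgroup (LinearMap.GeneralLinearGroup k M)}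
    {σ τ : LinearMap.GeneralLinearGroup k M} (hσ : σ ∈ Cfsg.minimalQuadraticElements G)
    (hτ : τ ∈ Cfsg.minimalQuadraticElements G)
    (hH : ¬ Cfsg.IsUnipotentOn (Subgroup.closure (Cfsg.scalarFamily σ ∪ Cfsg.scalarFamily τ))) :
    ∃ q : k[X], Irreducible q ∧
      Nonempty (↥(Subgroup.closure (Cfsg.scalarFamily σ ∪ Cfsg.scalarFamily τ)) ≃*
        Matrix.SpecialLinearGroup (Fin 2) (AdjoinRoot q)) := by
  have hNA := qpN_of_quad hσ.1
  have hNB := qpN_of_quad hτ.1
  have hd : Cfsg.commutatorRank τ = Cfsg.commutatorRank σ := le_antisymm (hτ.2 σ hσ.1) (hσ.2 τ hτ.1)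
  have hmin := qp_hmin_of_min hσ
  rcases qp_main hk2 hk3 hmin _ _ _ hNA hNB rfl hd rfl with hU | ⟨q, hq, -, ⟨e⟩⟩
  · exact (hH hU).elim
  · exact ⟨q, hq, ⟨e⟩⟩

end Cfsg.Agent.Lib.helper85
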