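import Cfsg.Agent.Lib.helper85.QP8

set_option autoImplicit false
set_option linter.unusedSimpArgs false

namespace Cfsg.Agent.Lib.helper85

open Polynomial
open scoped commutatorElement

section qp9a
variable {k : Type*} [Field k] {M : Type*} [AddCommGroup M] [Module k M]
variable {G : Subgroup (LinearMap.GeneralLinearGroup k M)}

theorem qp_weyl_inv2 [FiniteDimensional k M] {d : ℕ} {q : k[X]} {A B : Module.End k M}
    (S : QpSetup G d q A B) {f₀ : k[X]} {γ : Matrix.SpecialLinearGroup (Fin 2) k[X]} (hγ : γ ∈ qpGam k)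
    (hΦ : qpPhi A B γ.1 = qpT A B 1 (-f₀) 0 0)
    (h10 : q ∣ (qpL 1 * γ * qpL 1 * (qpL 1 * γ * qpL 1)).1 1 0)
    (h01 : q ∣ (qpL 1 * γ * qpL 1 * (qpL 1 * γ * qpL 1)).1 0 1)
    (h00 : q ∣ (qpL 1 * γ * qpL 1 * (qpL 1 * γ * qpL 1)).1 0 0 -
      (qpL 1 * γ * qpL 1 * (qpL 1 * γ * qpL 1)).1 1 1) :
    qpEv A B (1 - X * f₀) * A = 0 ∧ qpEv A B (1 - X * f₀) * B = 0 := by
  have hA := S.hNA.1
  have hB := S.hNB.1
  have Z1 := qp_Z1 S
  have Z2 := qp_Z2 S
  have hW : qpL 1 * γ * qpL 1 ∈ qpGam k := mul_mem (mul_mem (qpL_mem 1) hγ) (qpL_mem 1)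
  have hΦW : qpPhi A B (qpL 1 * γ * qpL 1).1 = qpT A B (1 - X * f₀) (-f₀) (C 2 - X * f₀) 0 := by
    rw [Matrix.SpecialLinearGroup.coe_mul, Matrix.SpecialLinearGroup.coe_mul,
      qpPhi_mul hA hB (qpOrd_mul (qpGam_ord (qpL_mem 1)) (qpGam_ord hγ)) (qpGam_ord (qpL_mem 1)),
      qpPhi_mul hA hB (qpGam_ord (qpL_mem 1)) (qpGam_ord hγ), hΦ, qpPhi_Lq, qpT_mul hA hB, qpT_mul hA hB]
    refine qpT_congr A B ?_ ?_ ?_ ?_
    · rw [C_1]; ring
    · rw [C_1]; ring
    · rw [C_1, show (C (2 : k) : k[X]) = 2 from rfl]; ring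
    · rw [C_1]; ring
  obtain ⟨g, hgdef⟩ : ∃ g, g = qpL 1 * γ * qpL 1 * (qpL 1 * γ * qpL 1) := ⟨_, rfl⟩
  rw [← hgdef] at h10 h01 h00
  have hg : g ∈ qpGam k := by rw [hgdef]; exact mul_mem hW hW
  obtain ⟨c', hc⟩ := (qpGam_ord hg).1
  obtain ⟨p4, h4⟩ := (qpGam_ord hg).2
  obtain ⟨cA, cB⟩ := qp_core S hg h10 hc
  have hqc' : q ∣ c' := S.hqX.dvd_of_dvd_mul_left (by rw [← hc]; exact h10)
  have hqp4 : q ∣ p4 := S.hqX.dvd_of_dvd_mul_left (by rw [← h4]; exact h00)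
  have hg' : qpL 1 * g * qpL (-1) ∈ qpGam k := mul_mem (mul_mem (qpL_mem 1) hg) (qpL_mem (-1))
  have hc' : (qpL 1 * g * qpL (-1)).1 1 0 = X * (c' + X * (p4 - g.1 0 1)) := by
    rw [qm_mul10, qm_mul10, qm_mul11, qpL_10, qpL_11, qpL_00, qpL_10, hc, C_neg, C_1]
    linear_combination X * h4
  have hq' : q ∣ (qpL 1 * g * qpL (-1)).1 1 0 := by
    rw [hc']
    exact dvd_mul_of_dvd_right (dvd_add hqc' (dvd_mul_of_dvd_right (dvd_sub hqp4 h01) _)) _
  obtain ⟨-, cB'⟩ := qp_core S hg' hq' hc'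
  have hpB : qpEv A B (p4 - g.1 0 1) * B = 0 := by
    apply qp_cancelXB hB Z2
    rw [map_add, add_mul, cB, zero_add] at cB'
    exact cB'
  have hstar : qpT A B (g.1 1 1) (g.1 0 1) c' p4 =
      qpT A B ((1 - X * f₀) ^ 2 - X * f₀ * (C 2 - X * f₀)) (-(C 2 * ((1 - X * f₀) * f₀)))
        (C 2 * ((1 - X * f₀) * (C 2 - X * f₀))) 0 := by
    rw [← qpPhi_eq A B hc h4, hgdef, Matrix.SpecialLinearGroup.coe_mul,
      qpPhi_mul hA hB (qpGam_ord hW) (qpGam_ord hW), hΦW, qpT_mul hA hB]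
    refine qpT_congr A B ?_ ?_ ?_ ?_
    · ring
    · rw [show (C (2 : k) : k[X]) = 2 from rfl]; ring
    · rw [show (C (2 : k) : k[X]) = 2 from rfl]; ring
    · ring
  exact qp_weyl_trick hA hB S.h2 Z1 Z2 hstar cA hpB


theorem qp_setup_exists [FiniteDimensional k M] (hk2 : ringChar k ≠ 2) (hk3 : Nat.card k ≠ 3) {d : ℕ}
    (hmin : ∀ N : Module.End k M, qpN G N → N ≠ 0 → d ≤ Module.finrank k (LinearMap.range N))
    {A B : Module.End k M} (hNA : qpN G A) (hNB : qpN G B)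
    (rA : Module.finrank k (LinearMap.range A) = d) (rB : Module.finrank k (LinearMap.range B) = d)
    (hnil : ¬ ∃ n : ℕ, (A * B + B * A) ^ n = 0) : ∃ q : k[X], QpSetup G d q A B := by
  have hA := hNA.1
  have hB := hNB.1
  obtain ⟨q, hq, hqX, hMq⟩ := qp_exists_q A B hnil
  have hT4 : ∀ g ∈ qpGam k, q ∣ g.1 1 0 → ∃ n : ℕ, qpEv A B (g.1 1 0) ^ n = 0 := by
    intro g hg hq1
    have hN' := qpCj_N hNA hNB hg
    have hr' : Module.finrank k (LinearMap.range (qpCj A B g)) = d := by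
      rw [qpCj_rank hA hB hg, rA]
    obtain ⟨σ, hσG, hσ⟩ := hNA.2 1
    obtain ⟨σ', hσ'G, hσ'⟩ := hN'.2 1
    rw [one_smul] at hσ hσ'
    have hσH : σ ∈ Subgroup.closure (qpFam A ∪ qpFam (qpCj A B g)) :=
      Subgroup.subset_closure (Or.inl ⟨1, by rw [hσ, one_smul]⟩)
    have hσ'H : σ' ∈ Subgroup.closure (qpFam A ∪ qpFam (qpCj A B g)) :=
      Subgroup.subset_closure (Or.inr ⟨1, by rw [hσ', one_smul]⟩)
    rcases qp_main hk2 hk3 hmin _ A (qpCj A B g) hNA hN' rA hr' rfl with hU | ⟨q', hq', hq'X, ⟨e⟩⟩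
    · obtain ⟨n, hn⟩ := qp_nil_of_unip hA hN'.1 hσ hσ' hσH hσ'H hU
      rw [qpCj_anti hA hB (qpGam_ord hg), neg_pow, neg_one_pow_mul_eq_zero_iff, ← map_pow, ← pow_mul] at hn
      exact ⟨2 * n, by rw [← map_pow]; exact hn⟩
    · exfalso
      have hF : Fact (Irreducible q') := ⟨hq'⟩
      obtain ⟨t, ht0, ht1⟩ := qp_exists_t hk2 hk3
      have hperfK : ⁅(⊤ : Subgroup (Matrix.SpecialLinearGroup (Fin 2) (AdjoinRoot q'))),
          (⊤ : Subgroup (Matrix.SpecialLinearGroup (Fin 2) (AdjoinRoot q')))⁆ = ⊤ :=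
        qp_perfect (algebraMap k (AdjoinRoot q') t) (by rwa [Ne, map_eq_zero])
          (by
            rw [← map_mul, ← map_one (algebraMap k (AdjoinRoot q'))]
            exact fun h => ht1 ((algebraMap k (AdjoinRoot q')).injective h))
      have hperfH : ⁅(⊤ : Subgroup ↥(Subgroup.closure (qpFam A ∪ qpFam (qpCj A B g)))),
          (⊤ : Subgroup ↥(Subgroup.closure (qpFam A ∪ qpFam (qpCj A B g))))⁆ = ⊤ := by
        have := Subgroup.map_commutator
          (⊤ : Subgroup (Matrix.SpecialLinearGroup (Fin 2) (AdjoinRoot q'))) ⊤ e.symm.toMonoidHom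
        rw [hperfK, Subgroup.map_top_of_surjective _ e.symm.surjective] at this
        exact this.symm
      have hperf : ⁅Subgroup.closure (qpFam A ∪ qpFam (qpCj A B g)),
          Subgroup.closure (qpFam A ∪ qpFam (qpCj A B g))⁆ =
          Subgroup.closure (qpFam A ∪ qpFam (qpCj A B g)) := by
        have := Subgroup.map_commutator
          (⊤ : Subgroup ↥(Subgroup.closure (qpFam A ∪ qpFam (qpCj A B g)))) ⊤
          (Subgroup.closure (qpFam A ∪ qpFam (qpCj A B g))).subtype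
        rw [hperfH, ← MonoidHom.range_eq_map, Subgroup.range_subtype] at this
        exact this.symm
      obtain ⟨c', hc⟩ := (qpGam_ord hg).1
      have hqc' : q ∣ c' := hqX.dvd_of_dvd_mul_left (by rw [← hc]; exact hq1)
      have hA' : ∀ m : M, qpEv A B q m = 0 → qpCj A B g m = qpEv A B (g.1 0 0 ^ 2) (A m) := by
        intro m hm
        rw [qpCj_eq hA hB (qpGam_ord hg) hc, qpT_split]
        simp only [LinearMap.add_apply, Module.End.mul_apply]
        rw [qp_dvd_ker A B (dvd_mul_of_dvd_right hq1 _) hm,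
          qp_dvd_ker A B ((dvd_neg).mpr (dvd_mul_of_dvd_right hq1 _))
            (by rw [qpEv_B_apply hB, hm, map_zero]),
          qp_dvd_ker A B ((dvd_neg).mpr (dvd_mul_of_dvd_right hqc' _))
            (by rw [qpEv_A_apply hA, qpEv_B_apply hB, hm, map_zero, map_zero]),
          zero_add, add_zero, add_zero]
      have hall := qp_perfect_contra hA hA' hperf
      obtain ⟨m₀, hm₀, hq0⟩ := hMq
      obtain ⟨m₁, hm₁, hAm₁⟩ := qp_LAq hB hqX hm₀ hq0
      exact hAm₁ (hall m₁ hm₁)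
  exact ⟨q, ⟨hk2, hk3, hq, hqX, hmin, hNA, hNB, rA, rB, hMq, hT4⟩⟩

theorem qp_ABA (A B : Module.End k M) (hA : A * A = 0) : A * B * A = qpEv A B X * A := by
  rw [mul_assoc, qp_BA0 A B, mul_sub, ← mul_assoc A A B, hA, zero_mul, sub_zero, qpEv_comm_A hA]

theorem qp_BAB (A B : Module.End k M) (hB : B * B = 0) : B * A * B = qpEv A B X * B := by
  rw [qp_BA0 A B, sub_mul, mul_assoc A B B, hB, mul_zero, sub_zero]

/-- for a pair of the `SL₂` kind there is a partner `B'` of `A` on the side of `B` -/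
theorem qp_inv_partner [FiniteDimensional k M] {d : ℕ} {q : k[X]} {A B : Module.End k M}
    (S : QpSetup G d q A B) :
    ∃ B' : Module.End k M, qpN G B' ∧ A * B' * A = A ∧ B' * A * B' = B' ∧
      LinearMap.range B' ≤ LinearMap.range B ∧ LinearMap.ker B ≤ LinearMap.ker B' := by
  have hA := S.hNA.1
  have hB := S.hNB.1
  obtain ⟨f₀, hf₀, γ, hγ, hΦ, h10, h01, h00⟩ := qp_weyl_exists S.symm
  obtain ⟨e1, e2⟩ := qp_weyl_inv2 S.symm hγ hΦ h10 h01 h00
  have hN := qpSpan_N S.symm hf₀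
  rw [qpEv_swap] at e1 e2 hN
  have hXfA : qpEv A B (X * f₀) * A = A := by
    rw [map_sub, map_one, sub_mul, one_mul] at e2
    exact (sub_eq_zero.mp e2).symm
  have hXfB : qpEv A B (X * f₀) * B = B := by
    rw [map_sub, map_one, sub_mul, one_mul] at e1
    exact (sub_eq_zero.mp e1).symm
  refine ⟨qpEv A B f₀ * B, hN, ?_, ?_, ?_, ?_⟩
  · calc A * (qpEv A B f₀ * B) * A = qpEv A B f₀ * (A * B * A) := by
          rw [qp_cA' hA, mul_assoc, mul_assoc]
      _ = qpEv A B (X * f₀) * A := by rw [qp_ABA A B hA, ← mul_assoc, ← map_mul, mul_comm f₀ X]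
      _ = A := hXfA
  · calc qpEv A B f₀ * B * A * (qpEv A B f₀ * B) = qpEv A B f₀ * (qpEv A B f₀ * (B * A * B)) := by
          simp only [mul_assoc, qp_cA' hA, qp_cB' hB, qpEv_comm_A hA, qpEv_comm_B hB]
      _ = qpEv A B f₀ * (qpEv A B (X * f₀) * B) := by
          rw [qp_BAB A B hB, ← mul_assoc (qpEv A B f₀) (qpEv A B X), ← map_mul, mul_comm f₀ X]
      _ = qpEv A B f₀ * B := by rw [hXfB]
  · rw [← qpEv_comm_B hB]
    exact LinearMap.range_comp_le_range _ _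
  · intro m hm
    rw [LinearMap.mem_ker] at hm ⊢
    rw [Module.End.mul_apply, hm, map_zero]

end qp9a

end Cfsg.Agent.Lib.helper85
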