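import Mathlib

set_option autoImplicit false

namespace Cfsg.Agent.Lib.helper2

/-- BINM (racer copy, helper85): an anisotropic binary quadratic form `x² + a x y + b y²` over a
finite field of odd characteristic takes the value `1` exactly `q + 1` times (rational
parametrisation of the conic from the point `(1, 0)`). -/
theorem h85_qfc_bin_minus_count {F : Type*} [Field F] [Fintype F] (h2 : (2 : F) ≠ 0) (a b : F)
    (hab : ∀ x y : F, x ^ 2 + a * x * y + b * y ^ 2 = 0 → x = 0 ∧ y = 0) :
    Nat.card {z : Fin 2 → F // z 0 ^ 2 + a * z 0 * z 1 + b * z 1 ^ 2 = 1} = Fintype.card F + 1 := by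
  classical
  have hD : ∀ t : F, t ^ 2 + a * t + b ≠ 0 := by
    intro t h
    have h1 := (hab t 1 (by linear_combination h)).2
    exact one_ne_zero h1
  have hYex : ∀ t : F, ∃ y : F, y * (t ^ 2 + a * t + b) = -(2 * t + a) := by
    intro t
    exact ⟨-(2 * t + a) / (t ^ 2 + a * t + b), div_mul_cancel₀ _ (hD t)⟩
  choose Y hY using hYex
  have hmem : ∀ t : F, (![1 + t * Y t, Y t] : Fin 2 → F) 0 ^ 2 +
      a * (![1 + t * Y t, Y t] : Fin 2 → F) 0 * (![1 + t * Y t, Y t] : Fin 2 → F) 1 +
      b * (![1 + t * Y t, Y t] : Fin 2 → F) 1 ^ 2 = 1 := by
    intro t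
    simp only [Matrix.cons_val_zero, Matrix.cons_val_one]
    linear_combination (Y t) * hY t
  have hmem0 : (![-1, 0] : Fin 2 → F) 0 ^ 2 +
      a * (![-1, 0] : Fin 2 → F) 0 * (![-1, 0] : Fin 2 → F) 1 +
      b * (![-1, 0] : Fin 2 → F) 1 ^ 2 = 1 := by
    simp
  let f : Option F → {z : Fin 2 → F // z 0 ^ 2 + a * z 0 * z 1 + b * z 1 ^ 2 = 1} := fun o =>
    match o with
    | none => ⟨![-1, 0], hmem0⟩
    | some t => ⟨![1 + t * Y t, Y t], hmem t⟩
  have hfn : (f none).1 = ![-1, 0] := rfl
  have hfs : ∀ t, (f (some t)).1 = ![1 + t * Y t, Y t] := fun t => rfl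
  have ext2 : ∀ z w : Fin 2 → F, z 0 = w 0 → z 1 = w 1 → z = w := by
    intro z w h0 h1
    funext i
    fin_cases i
    · exact h0
    · exact h1
  have hf : Function.Bijective f := by
    constructor
    · intro o1 o2 h
      have hv : (f o1).1 = (f o2).1 := congrArg Subtype.val h
      have h0 := congrFun hv 0
      have h1 := congrFun hv 1
      rcases o1 with _ | t <;> rcases o2 with _ | t'
      · rfl
      · exfalso
        rw [hfn, hfs] at h0 h1
        simp only [Matrix.cons_val_zero, Matrix.cons_val_one] at h0 h1
        apply h2
        rw [← h1] at h0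
        linear_combination -h0
      · exfalso
        rw [hfn, hfs] at h0 h1
        simp only [Matrix.cons_val_zero, Matrix.cons_val_one] at h0 h1
        apply h2
        rw [h1] at h0
        linear_combination h0
      · rw [hfs, hfs] at h0 h1
        simp only [Matrix.cons_val_zero, Matrix.cons_val_one] at h0 h1
        congr 1
        by_cases hy : Y t = 0
        · have e1 := hY t
          have e2 := hY t'
          rw [hy] at e1
          rw [← h1, hy] at e2
          have h3 : 2 * (t - t') = 0 := by linear_combination e1 - e2
          rcases mul_eq_zero.mp h3 with h4 | h4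
          · exact absurd h4 h2
          · exact sub_eq_zero.mp h4
        · have h3 : (t - t') * Y t = 0 := by
            rw [← h1] at h0
            linear_combination h0
          rcases mul_eq_zero.mp h3 with h4 | h4
          · exact sub_eq_zero.mp h4
          · exact absurd h4 hy
    · rintro ⟨z, hz⟩
      by_cases hy : z 1 = 0
      · have hx : (z 0 - 1) * (z 0 + 1) = 0 := by
          rw [hy] at hz
          linear_combination hz
        rcases mul_eq_zero.mp hx with h3 | h3
        · -- z 0 = 1 : t = -a/2
          have hY0 : Y (-a / 2) = 0 := by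
            have e := hY (-a / 2)
            have e' : Y (-a / 2) * ((-a / 2) ^ 2 + a * (-a / 2) + b) = 0 := by
              rw [e]
              field_simp
              ring
            rcases mul_eq_zero.mp e' with h4 | h4
            · exact h4
            · exact absurd h4 (hD _)
          refine ⟨some (-a / 2), ?_⟩
          apply Subtype.ext
          rw [hfs]
          apply ext2
          · change 1 + -a / 2 * Y (-a / 2) = z 0
            rw [hY0]
            linear_combination -h3
          · change Y (-a / 2) = z 1
            rw [hY0, hy]
        · refine ⟨none, ?_⟩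
          apply Subtype.ext
          rw [hfn]
          apply ext2
          · change (-1 : F) = z 0
            linear_combination -h3
          · change (0 : F) = z 1
            rw [hy]
      · -- t = (z 0 - 1) / z 1
        have ht : (z 0 - 1) / z 1 * z 1 = z 0 - 1 := div_mul_cancel₀ _ hy
        set t : F := (z 0 - 1) / z 1 with htdef
        have hYt : Y t = z 1 := by
          have e := hY t
          have e2 : (Y t - z 1) * (t ^ 2 + a * t + b) * z 1 = 0 := by
            linear_combination (z 1) * e - hz - (t * z 1 + z 0 - 1 + a * z 1 + 2) * ht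
          rcases mul_eq_zero.mp e2 with h4 | h4
          · rcases mul_eq_zero.mp h4 with h5 | h5
            · exact sub_eq_zero.mp h5
            · exact absurd h5 (hD _)
          · exact absurd h4 hy
        refine ⟨some t, ?_⟩
        apply Subtype.ext
        rw [hfs]
        apply ext2
        · change 1 + t * Y t = z 0
          rw [hYt]
          linear_combination ht
        · change Y t = z 1
          exact hYt
  rw [← Nat.card_congr (Equiv.ofBijective f hf), Nat.card_eq_fintype_card, Fintype.card_option]

end Cfsg.Agent.Lib.helper2
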