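import Mathlib
import Cfsg.Prelude.Def_GeometricClasses
import Cfsg.Agent.Lib.helper24.SfoDefs
import Cfsg.Agent.Lib.helper17.SymmForm

/-!
# S5977U piece NFA (racer copy, helper85): orthogonal family with values `1, …, 1, c`

From the landed classification `helper17.exists_basis_symm`, applied to `B = (1/2) polar Q`.
-/

set_option autoImplicit false

namespace Cfsg.Agent.Lib.helper2

open Cfsg.Geo Matrix Cfsg.Agent.Lib.helper24

/-- NFA -/
theorem h85_qfu_normal_family {E : Type*} [Field E] [Fintype E] {m : ℕ} (h2 : (2 : E) ≠ 0)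
    (Q : (Fin (m + 1) → E) → E) (hQ : IsNondegenerateQuadraticForm Q) :
    ∃ e : Fin (m + 1) → (Fin (m + 1) → E),
      (∀ i j, i ≠ j → QuadraticMap.polar Q (e i) (e j) = 0) ∧
      (∀ j, j ≠ Fin.last m → Q (e j) = 1) ∧ Q (e (Fin.last m)) ≠ 0 := by
  classical
  have hb := hQ.polar_bilinear
  obtain ⟨B, hB⟩ : ∃ B : LinearMap.BilinForm E (Fin (m + 1) → E),
      ∀ u v, B u v = (2 : E)⁻¹ * QuadraticMap.polar Q u v := by
    refine ⟨LinearMap.mk₂ E (fun u v => (2 : E)⁻¹ * QuadraticMap.polar Q u v) ?_ ?_ ?_ ?_,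
      fun u v => rfl⟩
    · intro x y v
      rw [hb.add_left, mul_add]
    · intro c x v
      rw [hb.smul_left, smul_eq_mul]
      ring
    · intro v x y
      rw [hb.add_right, mul_add]
    · intro c v x
      rw [hb.smul_right, smul_eq_mul]
      ring
  have hsymm : B.IsSymm := ⟨fun x y => by
    rw [hB, hB, QuadraticMap.polar_comm]⟩
  have h2inv : (2 : E)⁻¹ ≠ 0 := inv_ne_zero h2
  have hnd : B.Nondegenerate := by
    constructor
    · intro x hx
      by_contra hne
      obtain ⟨-, y, hy⟩ := hQ.nondegenerate x hne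
      apply hy
      have h := hx y
      rw [hB] at h
      rcases mul_eq_zero.mp h with h' | h'
      · exact absurd h' h2inv
      · exact h'
    · intro y hy
      by_contra hne
      obtain ⟨⟨x, hx⟩, -⟩ := hQ.nondegenerate y hne
      apply hx
      have h := hy x
      rw [hB] at h
      rcases mul_eq_zero.mp h with h' | h'
      · exact absurd h' h2inv
      · exact h'
  have hdiag : ∀ v, B v v = Q v := by
    intro v
    rw [hB]
    have h1 : QuadraticMap.polar Q v v = 2 * Q v := by
      unfold QuadraticMap.polar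
      have h3 : v + v = (2 : E) • v := by rw [two_smul]
      rw [h3, hQ.smul]
      ring
    rw [h1, ← mul_assoc, inv_mul_cancel₀ h2, one_mul]
  obtain ⟨α, hα⟩ := FiniteField.exists_nonsquare
    (Cfsg.Agent.Lib.helper17.ringChar_ne_two_of_two_ne_zero h2)
  have hα0 : α ≠ 0 := by
    rintro rfl
    exact hα IsSquare.zero
  have hfin : Module.finrank E (Fin (m + 1) → E) = m + 1 := Module.finrank_fin_fun E
  obtain ⟨b, hb1, hb2, hb3⟩ :=
    Cfsg.Agent.Lib.helper17.exists_basis_symm h2 B hsymm hnd hfin α hα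
  refine ⟨fun i => b i, ?_, ?_, ?_⟩
  · intro i j hij
    have h := hb1 i j hij
    rw [hB] at h
    rcases mul_eq_zero.mp h with h' | h'
    · exact absurd h' h2inv
    · exact h'
  · intro j hj
    rw [← hdiag]
    exact hb2 j hj
  · rw [← hdiag]
    rcases hb3 with h | h
    · rw [h]
      exact one_ne_zero
    · rw [h]
      exact hα0

end Cfsg.Agent.Lib.helper2
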