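import Mathlib
import Cfsg.Prelude.Def_RootSubgroups
import Cfsg.Agent.Lib.helper91.BaerSuzuki

set_option autoImplicit false
set_option linter.unusedSimpArgs false
set_option linter.unusedSectionVars false

namespace Cfsg.Agent.Lib.helper85

open Cfsg

section RootInv

variable {G : Type*} [Group G]

/-! ### Words in involutions -/

theorem eq_one_of_odd_of_pow {x : G} (hodd : Odd (orderOf x)) {k : ℕ} (h : x ^ 2 ^ k = 1) :
    x = 1 := by
  have hd : orderOf x ∣ 2 ^ k := orderOf_dvd_of_pow_eq_one h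
  have hcop : Nat.Coprime (orderOf x) (2 ^ k) :=
    Nat.Coprime.pow_right _ (Nat.Coprime.symm (Nat.coprime_two_left.mpr hodd))
  exact orderOf_eq_one_iff.mp (Nat.eq_one_of_dvd_coprimes hcop dvd_rfl hd)

/-- Commuting involutions with a product of odd order are equal. -/
theorem eq_of_commute_odd {u y : G} (hu : u * u = 1) (hy : y * y = 1) (h : u * y = y * u)
    (hodd : Odd (orderOf (u * y))) : u = y := by
  have h2 : (u * y) ^ 2 ^ 1 = 1 := by
    rw [pow_one, pow_two]
    calc u * y * (u * y) = u * (y * u) * y := by simp only [mul_assoc]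
      _ = u * (u * y) * y := by rw [← h]
      _ = (u * u) * (y * y) := by simp only [mul_assoc]
      _ = 1 := by rw [hu, hy, one_mul]
  have h3 : u * y = 1 := eq_one_of_odd_of_pow hodd h2
  calc u = u * (y * y) := by rw [hy, mul_one]
    _ = (u * y) * y := by rw [mul_assoc]
    _ = y := by rw [h3, one_mul]

/-- The relations `(v y)⁴ = 1 = (u v y)⁴` for commuting involutions `u`, `v` and an involution `y`
are incompatible with `u y` having odd order greater than one. -/
theorem vv_case {u v y : G} (hu : u * u = 1) (hv : v * v = 1) (hy : y * y = 1)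
    (huv : u * v = v * u) (h1 : (v * y) ^ 4 = 1) (h2 : (u * v * y) ^ 4 = 1)
    (hodd : Odd (orderOf (u * y))) : u * y = 1 := by
  have hu' : ∀ x, u * (u * x) = x := fun x => by rw [← mul_assoc, hu, one_mul]
  have hv' : ∀ x, v * (v * x) = x := fun x => by rw [← mul_assoc, hv, one_mul]
  have hy' : ∀ x, y * (y * x) = x := fun x => by rw [← mul_assoc, hy, one_mul]
  have huv' : ∀ x, v * (u * x) = u * (v * x) := fun x => by rw [← mul_assoc, ← huv, mul_assoc]
  obtain ⟨j, hj⟩ := hodd
  obtain ⟨ρ, hρ⟩ : ∃ ρ, ρ = u * y := ⟨_, rfl⟩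
  have hρm : ρ ^ (2 * j + 1) = 1 := by
    rw [hρ, ← hj]
    exact pow_orderOf_eq_one _
  have hρi : ρ⁻¹ = y * u := by
    apply inv_eq_of_mul_eq_one_right
    rw [hρ]
    simp only [mul_assoc, hy', hu]
  obtain ⟨t, ht⟩ : ∃ t, t = y * v * y * v := ⟨_, rfl⟩
  have htt : t * t = 1 := by
    have e : t * t = y * (v * y) ^ 4 * y := by
      rw [ht]
      simp only [pow_succ, pow_zero, one_mul, mul_assoc, hy, mul_one]
    rw [e, h1, mul_one, hy]
  have hti : t⁻¹ = t := inv_eq_of_mul_eq_one_left htt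
  obtain ⟨s, hs⟩ : ∃ s, s = y * (u * v) * y * (u * v) := ⟨_, rfl⟩
  have hss : s * s = 1 := by
    have e : s * s = y * (u * v * y) ^ 4 * y := by
      rw [hs]
      simp only [pow_succ, pow_zero, one_mul, mul_assoc, hy, mul_one]
    rw [e, h2, mul_one, hy]
  have hA : v * ρ * v = ρ * t := by
    rw [hρ, ht]
    simp only [mul_assoc, huv', hy']
  have hB : (u * v) * ρ * (u * v) = ρ * s := by
    rw [hρ, hs]
    simp only [mul_assoc, huv', hy', hu']
  have hvi : v⁻¹ = v := inv_eq_of_mul_eq_one_left hv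
  have hC : (u * v) * ρ * (u * v) = (v * ρ * v)⁻¹ := by
    rw [mul_inv_rev, mul_inv_rev, hvi, hρi, hρ]
    simp only [mul_assoc, huv', hu']
  have hD : ρ * s = t * ρ⁻¹ := by
    rw [← hB, hC, hA, mul_inv_rev, hti]
  have hs' : s = ρ⁻¹ * t * ρ⁻¹ := by
    rw [mul_assoc, ← hD, inv_mul_cancel_left]
  have hE : t * (ρ * ρ) * t⁻¹ = (ρ * ρ)⁻¹ := by
    rw [hs'] at hss
    have e1 : t * (ρ⁻¹ * ρ⁻¹) * t = ρ * ρ := by
      calc t * (ρ⁻¹ * ρ⁻¹) * t = ρ * (ρ⁻¹ * t * ρ⁻¹ * (ρ⁻¹ * t * ρ⁻¹)) * ρ := by group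
        _ = ρ * ρ := by rw [hss, mul_one]
    calc t * (ρ * ρ) * t⁻¹ = (t * (ρ⁻¹ * ρ⁻¹) * t)⁻¹ := by
          simp only [mul_inv_rev, inv_inv, hti, mul_assoc]
      _ = (ρ * ρ)⁻¹ := by rw [e1]
  have hσ : (ρ * ρ) ^ (j + 1) = ρ := by
    rw [← pow_two, ← pow_mul]
    have : 2 * (j + 1) = (2 * j + 1) + 1 := by ring
    rw [this, pow_succ, hρm, one_mul]
  have hF : t * ρ * t⁻¹ = ρ⁻¹ := by
    calc t * ρ * t⁻¹ = t * (ρ * ρ) ^ (j + 1) * t⁻¹ := by rw [hσ]
      _ = (t * (ρ * ρ) * t⁻¹) ^ (j + 1) := conj_pow.symm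
      _ = ((ρ * ρ)⁻¹) ^ (j + 1) := by rw [hE]
      _ = ρ⁻¹ := by rw [inv_pow, hσ]
  have hG : (ρ * t) * (ρ * t) = 1 := by
    calc ρ * t * (ρ * t) = ρ * (t * ρ * t⁻¹) := by
          rw [hti]
          simp only [mul_assoc]
      _ = 1 := by rw [hF, mul_inv_cancel]
  rw [← hA] at hG
  have hH : ρ * ρ = 1 := by
    have e : v * ρ * v * (v * ρ * v) = v * (ρ * ρ) * v := by simp only [mul_assoc, hv']
    rw [e] at hG
    calc ρ * ρ = v * (v * (ρ * ρ) * v) * v := by simp only [mul_assoc, hv', hv, mul_one]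
      _ = 1 := by rw [hG, mul_one, hv]
  have h3 : ρ ^ 2 ^ 1 = 1 := by
    rw [pow_one, pow_two]
    exact hH
  rw [← hρ]
  exact eq_one_of_odd_of_pow (by rw [hρ]; exact ⟨j, hj⟩) h3

/-! ### Two involutions generate a dihedral group -/

theorem inv_swap {x y : G} (hx : x * x = 1) (hy : y * y = 1) (j : ℤ) :
    x * (x * y) ^ j = (x * y) ^ (-j) * x := by
  have hxi : x⁻¹ = x := inv_eq_of_mul_eq_one_left hx
  have hyi : y⁻¹ = y := inv_eq_of_mul_eq_one_left hy
  have hconj : x * (x * y) * x⁻¹ = (x * y)⁻¹ := by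
    rw [mul_inv_rev, hxi, hyi, ← mul_assoc, hx, one_mul]
  have h1 := conj_zpow (a := x) (b := x * y) (i := j)
  rw [hconj, inv_zpow, ← zpow_neg] at h1
  rw [h1, mul_assoc, hxi, mul_assoc, hx, mul_one]

theorem closure_pair_form {x y : G} (hx : x * x = 1) (hy : y * y = 1) :
    ∀ g ∈ Subgroup.closure ({x, y} : Set G),
      ∃ i : ℤ, g = (x * y) ^ i ∨ g = (x * y) ^ i * x := by
  have hxi : x⁻¹ = x := inv_eq_of_mul_eq_one_left hx
  have hyi : y⁻¹ = y := inv_eq_of_mul_eq_one_left hy
  intro g hg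
  induction hg using Subgroup.closure_induction with
  | mem z hz =>
    rcases hz with rfl | rfl
    · exact ⟨0, Or.inr (by simp)⟩
    · refine ⟨-1, Or.inr ?_⟩
      rw [zpow_neg_one, mul_inv_rev, inv_mul_cancel_right, hyi]
  | one => exact ⟨0, Or.inl (by simp)⟩
  | mul a b _ _ ha hb =>
    obtain ⟨i, ha | ha⟩ := ha <;> obtain ⟨j, hb | hb⟩ := hb
    · exact ⟨i + j, Or.inl (by rw [ha, hb, zpow_add])⟩
    · exact ⟨i + j, Or.inr (by rw [ha, hb, zpow_add, mul_assoc])⟩
    · exact ⟨i - j, Or.inr (by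
        rw [ha, hb, mul_assoc, inv_swap hx hy, ← mul_assoc, ← zpow_add, sub_eq_add_neg])⟩
    · refine ⟨i - j, Or.inl ?_⟩
      rw [ha, hb]
      calc (x * y) ^ i * x * ((x * y) ^ j * x)
          = (x * y) ^ i * (x * (x * y) ^ j) * x := by simp only [mul_assoc]
        _ = (x * y) ^ i * ((x * y) ^ (-j) * x) * x := by rw [inv_swap hx hy]
        _ = (x * y) ^ (i - j) := by
          rw [sub_eq_add_neg, zpow_add]
          simp only [mul_assoc, hx, mul_one]
  | inv a _ ha =>
    obtain ⟨i, ha | ha⟩ := ha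
    · exact ⟨-i, Or.inl (by rw [ha, zpow_neg])⟩
    · refine ⟨i, Or.inr ?_⟩
      rw [ha, mul_inv_rev, hxi, ← zpow_neg, inv_swap hx hy, neg_neg]

theorem isPGroup_two_closure_pair {x y : G} (hx : x * x = 1) (hy : y * y = 1) {k : ℕ}
    (hxy : (x * y) ^ 2 ^ k = 1) : IsPGroup 2 (Subgroup.closure ({x, y} : Set G)) := by
  intro g
  obtain ⟨i, hg | hg⟩ := closure_pair_form hx hy g.1 g.2
  · refine ⟨k, ?_⟩
    apply Subtype.ext
    rw [Subgroup.coe_pow, hg, Subgroup.coe_one, ← zpow_natCast, ← zpow_mul, mul_comm, zpow_mul,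
      zpow_natCast, hxy, one_zpow]
  · refine ⟨1, ?_⟩
    apply Subtype.ext
    rw [Subgroup.coe_pow, hg, Subgroup.coe_one, pow_one, pow_two]
    calc (x * y) ^ i * x * ((x * y) ^ i * x)
        = (x * y) ^ i * (x * (x * y) ^ i) * x := by simp only [mul_assoc]
      _ = (x * y) ^ i * ((x * y) ^ (-i) * x) * x := by rw [inv_swap hx hy]
      _ = 1 := by
        rw [← mul_assoc, ← zpow_add, add_neg_cancel, zpow_zero, one_mul, hx]

/-! ### Root involutions -/

variable {D : Set G}

theorem ri_sq (hD : IsRootInvolutionSet D) {d : G} (hd : d ∈ D) : d * d = 1 := by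
  have := pow_orderOf_eq_one d
  rw [hD.orderOf_eq d hd, pow_two] at this
  exact this

theorem ri_inv (hD : IsRootInvolutionSet D) {d : G} (hd : d ∈ D) : d⁻¹ = d :=
  inv_eq_of_mul_eq_one_left (ri_sq hD hd)

theorem ri_ne_one (hD : IsRootInvolutionSet D) {d : G} (hd : d ∈ D) : d ≠ 1 := by
  rintro rfl
  have := hD.orderOf_eq 1 hd
  rw [orderOf_one] at this
  omega

theorem orderOf_mul_swap (a b : G) : orderOf (b * a) = orderOf (a * b) := by
  have e : b * a = MulAut.conj a⁻¹ (a * b) := by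
    rw [MulAut.conj_apply]
    group
  rw [e, MulEquiv.orderOf_eq]

theorem oddAdj_symm {a b : G} (h : OddAdj D a b) : OddAdj D b a := by
  obtain ⟨ha, hb, hne, hodd⟩ := h
  exact ⟨hb, ha, hne.symm, by rw [orderOf_mul_swap]; exact hodd⟩

theorem oddAdj_conj (hD : IsRootInvolutionSet D) {a b : G} (h : OddAdj D a b) (g : G) :
    OddAdj D (g * a * g⁻¹) (g * b * g⁻¹) := by
  obtain ⟨ha, hb, hne, hodd⟩ := h
  refine ⟨hD.conj_mem a ha g, hD.conj_mem b hb g, ?_, ?_⟩
  · intro h
    apply hne
    have := congrArg (fun z => g⁻¹ * z * g) h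
    simpa [mul_assoc] using this
  · have e : g * a * g⁻¹ * (g * b * g⁻¹) = MulAut.conj g (a * b) := by
      rw [MulAut.conj_apply]
      group
    rw [e, MulEquiv.orderOf_eq]
    exact hodd

theorem oddReach_symm {a b : G} (h : Relation.ReflTransGen (OddAdj D) a b) :
    Relation.ReflTransGen (OddAdj D) b a := by
  induction h with
  | refl => exact Relation.ReflTransGen.refl
  | tail _ hstep ih => exact Relation.ReflTransGen.head (oddAdj_symm hstep) ih

theorem comp_eq_of_reach {a b : G} (h : Relation.ReflTransGen (OddAdj D) a b) :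
    elemComponentOf (OddAdj D) D a = elemComponentOf (OddAdj D) D b := by
  ext z
  constructor
  · rintro ⟨hz, hr⟩
    exact ⟨hz, (oddReach_symm h).trans hr⟩
  · rintro ⟨hz, hr⟩
    exact ⟨hz, h.trans hr⟩

theorem exists_nbr_of_comp {a : G}
    (h : ∃ a' ∈ elemComponentOf (OddAdj D) D a, a' ≠ a) : ∃ y, OddAdj D a y := by
  obtain ⟨a', ⟨-, hr⟩, hne⟩ := h
  rcases Relation.ReflTransGen.cases_head hr with h1 | ⟨c, hc, -⟩
  · exact absurd h1.symm hne
  · exact ⟨c, hc⟩

theorem exists_nbr_of_not_isolated {a : G} (ha : a ∈ D)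
    (h : ¬ IsIsolatedElem (OddAdj D) D a) : ∃ y, OddAdj D a y := by
  by_contra hcon
  apply h
  refine ⟨ha, fun b => ⟨fun hb => hcon ⟨b, hb⟩, fun hb => hcon ⟨b, oddAdj_symm hb⟩⟩⟩

/-- A member of `D` having odd-order product with `u` cannot commute with `v` when `u`, `v`
commute and `u v ∈ D`. -/
theorem line_no_commute (hD : IsRootInvolutionSet D) {u v y : G} (hu : u ∈ D) (hv : v ∈ D)
    (hy : y ∈ D) (huv : u * v = v * u) (huvD : u * v ∈ D) (hyu : y ≠ u)
    (hodd : Odd (orderOf (u * y))) (hvy : v * y = y * v) : False := by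
  have huu := ri_sq hD hu
  have hvv := ri_sq hD hv
  have hyy := ri_sq hD hy
  have hne : u * y ≠ 1 := by
    intro h
    apply hyu
    calc y = (u * u) * y := by rw [huu, one_mul]
      _ = u * (u * y) := by rw [mul_assoc]
      _ = u := by rw [h, mul_one]
  have hcomm : Commute v (u * y) := by
    show v * (u * y) = u * y * v
    rw [← mul_assoc, ← huv, mul_assoc, hvy, mul_assoc]
  have hw : u * v * y = v * (u * y) := by rw [huv, mul_assoc]
  have hpow : ∀ k : ℕ, (u * v * y) ^ k = v ^ k * (u * y) ^ k := by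
    intro k
    rw [hw, hcomm.mul_pow]
  rcases hD.pair (u * v) huvD y hy with h | h | h
  · have h1 : u * y = y * u := by
      have e : u * v * y * v = u * y := by
        rw [mul_assoc (u * v) y v, ← hvy, ← mul_assoc (u * v) v y, mul_assoc u v v, hvv, mul_one]
      calc u * y = u * v * y * v := e.symm
        _ = y * (u * v) * v := by rw [h]
        _ = y * u := by rw [mul_assoc y, mul_assoc u, hvv, mul_one]
    exact hyu (eq_of_commute_odd huu hyy h1 hodd).symm
  · have h1 : (u * v * y) ^ (orderOf (u * y) * 2) = 1 := by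
      rw [hpow]
      have e1 : (u * y) ^ (orderOf (u * y) * 2) = 1 := by
        rw [pow_mul, pow_orderOf_eq_one, one_pow]
      have e2 : v ^ (orderOf (u * y) * 2) = 1 := by
        rw [mul_comm, pow_mul, pow_two, hvv, one_pow]
      rw [e1, e2, one_mul]
    have hd : orderOf (u * v * y) ∣ orderOf (u * y) * 2 := orderOf_dvd_of_pow_eq_one h1
    have hd' : orderOf (u * v * y) ∣ orderOf (u * y) :=
      Nat.Coprime.dvd_of_dvd_mul_right (Nat.coprime_two_right.mpr h) hd
    have h2 : (u * v * y) ^ orderOf (u * y) = 1 := by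
      obtain ⟨c, hc⟩ := hd'
      rw [hc, pow_mul, pow_orderOf_eq_one, one_pow]
    rw [hpow, pow_orderOf_eq_one, mul_one] at h2
    obtain ⟨j, hj⟩ := hodd
    rw [hj, pow_succ, pow_mul, pow_two, hvv, one_pow, one_mul] at h2
    exact ri_ne_one hD hv h2
  · have h1 : (u * v * y) ^ 4 = 1 := by
      rw [← h.1]
      exact pow_orderOf_eq_one _
    rw [hpow] at h1
    have hv4 : v ^ 4 = 1 := by
      have : v ^ 4 = (v * v) ^ 2 := by rw [← pow_two, ← pow_mul]
      rw [this, hvv, one_pow]
    rw [hv4, one_mul] at h1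
    exact hne (eq_one_of_odd_of_pow hodd (k := 2) h1)

/-- The line lemma: for commuting `u`, `v` with `u v ∈ D`, a neighbour of `u` in the graph of
odd-order products is a neighbour of `v` or of `u v`. -/
theorem line_lemma (hD : IsRootInvolutionSet D) {u v y : G} (hu : u ∈ D) (hv : v ∈ D)
    (huv : u * v = v * u) (huvD : u * v ∈ D) (h : OddAdj D u y) :
    OddAdj D v y ∨ OddAdj D (u * v) y := by
  obtain ⟨-, hy, hne, hodd⟩ := h
  have huu := ri_sq hD hu
  have hvv := ri_sq hD hv
  have hyy := ri_sq hD hy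
  rcases hD.pair v hv y hy with h1 | h1 | h1
  · exact absurd (line_no_commute hD hu hv hy huv huvD hne.symm hodd h1) id
  · left
    refine ⟨hv, hy, ?_, h1⟩
    rintro rfl
    exact hne (eq_of_commute_odd huu hyy huv hodd)
  · have huw : u * (u * v) = (u * v) * u := by rw [mul_assoc, ← huv]
    have huwD : u * (u * v) ∈ D := by
      rw [← mul_assoc, huu, one_mul]
      exact hv
    rcases hD.pair (u * v) huvD y hy with h2 | h2 | h2
    · exact absurd (line_no_commute hD hu huvD hy huw huwD hne.symm hodd h2) id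
    · right
      refine ⟨huvD, hy, ?_, h2⟩
      intro h3
      rw [← h3] at hodd
      exact hne (by rw [← h3]; exact eq_of_commute_odd huu (ri_sq hD huvD) huw hodd)
    · exfalso
      have e1 : (v * y) ^ 4 = 1 := by
        rw [← h1.1]
        exact pow_orderOf_eq_one _
      have e2 : (u * v * y) ^ 4 = 1 := by
        rw [← h2.1]
        exact pow_orderOf_eq_one _
      have h3 := vv_case huu hvv hyy huv e1 e2 hodd
      apply hne
      calc u = u * (y * y) := by rw [hyy, mul_one]
        _ = (u * y) * y := by rw [mul_assoc]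
        _ = y := by rw [h3, one_mul]

/-! ### Isolated vertices -/

theorem isolated_conj (hD : IsRootInvolutionSet D) {w : G}
    (hw : IsIsolatedElem (OddAdj D) D w) (g : G) :
    IsIsolatedElem (OddAdj D) D (g * w * g⁻¹) := by
  have e : g⁻¹ * (g * w * g⁻¹) * g⁻¹⁻¹ = w := by group
  refine ⟨hD.conj_mem w hw.1 g, fun b => ⟨fun h => ?_, fun h => ?_⟩⟩
  · have h1 := oddAdj_conj hD h g⁻¹
    rw [e] at h1
    exact (hw.2 _).1 h1
  · have h1 := oddAdj_conj hD h g⁻¹
    rw [e] at h1
    exact (hw.2 _).2 h1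

theorem isolated_pair_pgroup (hD : IsRootInvolutionSet D) {x y : G}
    (hx : IsIsolatedElem (OddAdj D) D x) (hy : y ∈ D) :
    IsPGroup 2 (Subgroup.closure ({x, y} : Set G)) := by
  have hxx := ri_sq hD hx.1
  have hyy := ri_sq hD hy
  rcases hD.pair x hx.1 y hy with h | h | h
  · apply isPGroup_two_closure_pair hxx hyy (k := 1)
    rw [pow_one, pow_two]
    calc x * y * (x * y) = x * (y * x) * y := by simp only [mul_assoc]
      _ = x * (x * y) * y := by rw [← h]
      _ = (x * x) * (y * y) := by simp only [mul_assoc]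
      _ = 1 := by rw [hxx, hyy, one_mul]
  · by_cases hxy : x = y
    · subst hxy
      apply isPGroup_two_closure_pair hxx hyy (k := 0)
      rw [pow_zero, pow_one, hxx]
    · exact absurd ⟨hx.1, hy, hxy, h⟩ (hx.2 y).1
  · apply isPGroup_two_closure_pair hxx hyy (k := 2)
    have e : (2 : ℕ) ^ 2 = 4 := by norm_num
    rw [e, ← h.1]
    exact pow_orderOf_eq_one _

theorem isolated_closure_pgroup [Finite G] (hD : IsRootInvolutionSet D) :
    IsPGroup 2 (Subgroup.closure {w | IsIsolatedElem (OddAdj D) D w}) := by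
  have : Fact (Nat.Prime 2) := ⟨Nat.prime_two⟩
  apply Cfsg.Agent.Lib.helper91.baer_suzuki
  · intro g x hx
    exact isolated_conj hD hx g
  · intro x hx y hy
    exact isolated_pair_pgroup hD hx hy.1

theorem isolated_closure_normal (hD : IsRootInvolutionSet D) :
    (Subgroup.closure {w | IsIsolatedElem (OddAdj D) D w}).Normal :=
  Cfsg.Agent.Lib.helper91.closure_normal_of_conj _ (fun g _ hx => isolated_conj hD hx g)

/-- A member of `D` inside a normal 2-subgroup is an isolated vertex. -/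
theorem isolated_of_mem_normal_pgroup (hD : IsRootInvolutionSet D) {N : Subgroup G}
    (hN : N.Normal) (hP : IsPGroup 2 N) {d : G} (hd : d ∈ D) (hdN : d ∈ N) :
    IsIsolatedElem (OddAdj D) D d := by
  have key : ∀ b, ¬ OddAdj D d b := by
    rintro b ⟨-, hb, hne, hodd⟩
    have hbb := ri_sq hD hb
    have h1 : b * d * b⁻¹ ∈ N := hN.conj_mem d hdN b
    have h2 : d * (b * d * b⁻¹) ∈ N := N.mul_mem hdN h1
    have e : d * (b * d * b⁻¹) = (d * b) ^ 2 := by
      rw [ri_inv hD hb, pow_two]
      simp only [mul_assoc]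
    rw [e] at h2
    obtain ⟨k, hk⟩ := hP ⟨(d * b) ^ 2, h2⟩
    have hk' : ((d * b) ^ 2) ^ 2 ^ k = 1 := by
      have := congrArg Subtype.val hk
      simpa using this
    have hk2 : (d * b) ^ 2 ^ (k + 1) = 1 := by
      rw [pow_succ, mul_comm, pow_mul]
      exact hk'
    have h3 := eq_one_of_odd_of_pow hodd hk2
    apply hne
    calc d = d * (b * b) := by rw [hbb, mul_one]
      _ = (d * b) * b := by rw [mul_assoc]
      _ = b := by rw [h3, one_mul]
  exact ⟨hd, fun b => ⟨key b, fun h => key b (oddAdj_symm h)⟩⟩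

theorem sq_swap (hD : IsRootInvolutionSet D) {a b : G} (ha : a ∈ D) (hb : b ∈ D)
    (h4 : orderOf (a * b) = 4) : (b * a) ^ 2 = (a * b) ^ 2 := by
  have h1 : (a * b) ^ 2 * (a * b) ^ 2 = 1 := by
    rw [← pow_add]
    have : 2 + 2 = orderOf (a * b) := by rw [h4]
    rw [this]
    exact pow_orderOf_eq_one _
  have e : b * a = (a * b)⁻¹ := by rw [mul_inv_rev, ri_inv hD ha, ri_inv hD hb]
  rw [e, inv_pow]
  exact inv_eq_of_mul_eq_one_left h1

/-- If `a b` has order 4 and both `a` and `(a b)²` have neighbours, they are connected. -/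
theorem reach_sq (hD : IsRootInvolutionSet D) {a b : G} (ha : a ∈ D) (hb : b ∈ D)
    (h4 : orderOf (a * b) = 4) (hc : (a * b) ^ 2 ∈ D) (hna : ∃ y, OddAdj D a y)
    (hnc : ∃ y, OddAdj D ((a * b) ^ 2) y) :
    Relation.ReflTransGen (OddAdj D) a ((a * b) ^ 2) := by
  have haa := ri_sq hD ha
  have hbb := ri_sq hD hb
  have hsw := sq_swap hD ha hb h4
  obtain ⟨c, hcdef⟩ : ∃ c, c = (a * b) ^ 2 := ⟨_, rfl⟩
  rw [← hcdef] at hc hnc hsw ⊢
  have hc' : c = a * b * (a * b) := by rw [hcdef, pow_two]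
  have hc'' : c = b * a * (b * a) := by rw [← hsw, pow_two]
  have hac : a * c = b * a * b⁻¹ := by
    rw [hc', ri_inv hD hb]
    simp only [← mul_assoc, haa, one_mul]
  have hacD : a * c ∈ D := by
    rw [hac]
    exact hD.conj_mem a ha b
  have hcomm : a * c = c * a := by
    calc a * c = a * (b * a * (b * a)) := by rw [← hc'']
      _ = (a * b * (a * b)) * a := by simp only [mul_assoc]
      _ = c * a := by rw [← hc']
  obtain ⟨ya, hya⟩ := hna
  obtain ⟨yc, hyc⟩ := hnc
  have l1 := line_lemma hD hc ha hcomm.symm (by rw [← hcomm]; exact hacD) hyc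
  have l2 := line_lemma hD ha hc hcomm hacD hya
  rcases l1 with h1 | h1
  · exact Relation.ReflTransGen.tail (Relation.ReflTransGen.single h1) (oddAdj_symm hyc)
  · rw [← hcomm] at h1
    have r1 : Relation.ReflTransGen (OddAdj D) (a * c) c :=
      Relation.ReflTransGen.tail (Relation.ReflTransGen.single h1) (oddAdj_symm hyc)
    rcases l2 with h2 | h2
    · exact Relation.ReflTransGen.tail (Relation.ReflTransGen.single hya) (oddAdj_symm h2)
    · exact (Relation.ReflTransGen.tail (Relation.ReflTransGen.single hya)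
        (oddAdj_symm h2)).trans r1

/-- Commutators of members of different non-trivial components lie in the subgroup generated by
the isolated vertices. -/
theorem comm_mem_isolated (hD : IsRootInvolutionSet D) {a b : G} (ha : a ∈ D) (hb : b ∈ D)
    (hca : ∃ a' ∈ elemComponentOf (OddAdj D) D a, a' ≠ a)
    (hcb : ∃ b' ∈ elemComponentOf (OddAdj D) D b, b' ≠ b)
    (hne : elemComponentOf (OddAdj D) D a ≠ elemComponentOf (OddAdj D) D b) :
    a * b * a⁻¹ * b⁻¹ ∈ Subgroup.closure {w | IsIsolatedElem (OddAdj D) D w} := by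
  have haa := ri_sq hD ha
  have hbb := ri_sq hD hb
  have hnr : ¬ Relation.ReflTransGen (OddAdj D) a b := fun h => hne (comp_eq_of_reach h)
  rw [ri_inv hD ha, ri_inv hD hb]
  rcases hD.pair a ha b hb with h | h | h
  · have e : a * b * a * b = 1 := by
      rw [mul_assoc a b a, ← h, ← mul_assoc, haa, one_mul, hbb]
    rw [e]
    exact Subgroup.one_mem _
  · exfalso
    apply hnr
    by_cases hab : a = b
    · rw [hab]
    · exact Relation.ReflTransGen.single ⟨ha, hb, hab, h⟩
  · have e : a * b * a * b = (a * b) ^ 2 := by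
      rw [pow_two]
      simp only [mul_assoc]
    rw [e]
    by_cases hiso : IsIsolatedElem (OddAdj D) D ((a * b) ^ 2)
    · exact Subgroup.subset_closure hiso
    · exfalso
      apply hnr
      have hnc := exists_nbr_of_not_isolated h.2 hiso
      have r1 := reach_sq hD ha hb h.1 h.2 (exists_nbr_of_comp hca) hnc
      have h4' : orderOf (b * a) = 4 := by
        rw [orderOf_mul_swap]
        exact h.1
      have hsw := sq_swap hD ha hb h.1
      have r2 := reach_sq hD hb ha h4' (by rw [hsw]; exact h.2) (exists_nbr_of_comp hcb)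
        (by rw [hsw]; exact hnc)
      rw [hsw] at r2
      exact r1.trans (oddReach_symm r2)

/-- The commuting partners with product in `D` of a member of a non-trivial component lie in
that component or are isolated. -/
theorem productPartners_sub (hD : IsRootInvolutionSet D) {a : G} (ha : a ∈ D)
    (hca : ∃ a' ∈ elemComponentOf (OddAdj D) D a, a' ≠ a) :
    productPartners D a ⊆
      elemComponentOf (OddAdj D) D a ∪ {w | IsIsolatedElem (OddAdj D) D w} := by
  rintro e ⟨⟨he, hea, hne⟩, heaD⟩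
  by_cases hiso : IsIsolatedElem (OddAdj D) D e
  · exact Or.inr hiso
  · left
    refine ⟨he, ?_⟩
    obtain ⟨ye, hye⟩ := exists_nbr_of_not_isolated he hiso
    obtain ⟨ya, hya⟩ := exists_nbr_of_comp hca
    have haeD : a * e ∈ D := by
      rw [← hea]
      exact heaD
    rcases line_lemma hD ha he hea.symm haeD hya with h1 | h1
    · exact Relation.ReflTransGen.tail (Relation.ReflTransGen.single hya) (oddAdj_symm h1)
    · have r1 : Relation.ReflTransGen (OddAdj D) a (a * e) :=
        Relation.ReflTransGen.tail (Relation.ReflTransGen.single hya) (oddAdj_symm h1)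
      rcases line_lemma hD he ha hea heaD hye with h2 | h2
      · exact oddReach_symm
          (Relation.ReflTransGen.tail (Relation.ReflTransGen.single hye) (oddAdj_symm h2))
      · rw [hea] at h2
        exact r1.trans
          (Relation.ReflTransGen.tail (Relation.ReflTransGen.single h2) (oddAdj_symm hye))

end RootInv

end Cfsg.Agent.Lib.helper85
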