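import Mathlib
import Cfsg.Prelude.Def_RootSubgroups
import Cfsg.Prelude.Def_QuasithinSetup
import Cfsg.Agent.Lib.helper91.BaerSuzuki
import Cfsg.Agent.Lib.helper85.RootInv

/-!
# Root involutions: the solvable radical and simplicity

For a finite group generated by a connected set of root involutions containing a line, every
normal subgroup avoiding `D` lies in `O_{2,Z}(G)`.
-/

namespace Cfsg.Agent.Lib.helper85

open Cfsg

set_option autoImplicit false

variable {G : Type*} [Group G]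

/-! ### General group theory -/

theorem ri2_le_pCore {p : ℕ} {M : Subgroup G} (hM : M.Normal) (hp : IsPGroup p M) :
    M ≤ pCore p G :=
  le_sSup ⟨hM, hp⟩

theorem ri2_pCore_isPGroup (p : ℕ) : IsPGroup p (pCore p G) :=
  Sylow.sSup_of_normal _ (fun _ h => h.2) (fun _ h => h.1)

theorem ri2_pCore_normal (p : ℕ) : (pCore p G).Normal :=
  Subgroup.sSup_normal _ (fun _ h => h.1)

/-- A `p`-subgroup normalised by a normal subgroup containing it lies in `O_p(G)`. -/
theorem ri2_subnormal_le_pCore [Finite G] {p : ℕ} [Fact p.Prime] {N Q : Subgroup G}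
    (hN : N.Normal) (hQN : Q ≤ N) (hnorm : ∀ n ∈ N, ∀ q ∈ Q, n * q * n⁻¹ ∈ Q)
    (hQ : IsPGroup p Q) : Q ≤ pCore p G := by
  obtain ⟨M, hM, hMp, hQM⟩ := Cfsg.Agent.Lib.helper91.baer_suzuki_subgroup Q (p := p) (fun g => by
    apply IsPGroup.to_sup_of_normal_right' hQ (hQ.map _)
    rw [Subgroup.le_normalizer_iff]
    rintro h hh _ ⟨q, hq, rfl⟩
    have h1 : g⁻¹ * h * g ∈ N := by
      have := hN.conj_mem h (hQN hh) g⁻¹
      rwa [inv_inv] at this
    refine ⟨(g⁻¹ * h * g) * q * (g⁻¹ * h * g)⁻¹, hnorm _ h1 q hq, ?_⟩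
    show g * ((g⁻¹ * h * g) * q * (g⁻¹ * h * g)⁻¹) * g⁻¹ = h * (g * q * g⁻¹) * h⁻¹
    group)
  exact hQM.trans (ri2_le_pCore hM hMp)

/-- Baer–Suzuki relative to a normal subgroup `N`: if any two `N`-conjugates of `a` generate a
`p`-group, then all of them together do. -/
theorem ri2_baer_suzuki_rel [Finite G] {p : ℕ} [Fact p.Prime] {N : Subgroup G} (hN : N.Normal)
    (a : G)
    (h2 : ∀ n ∈ N, ∀ m ∈ N,
      IsPGroup p (Subgroup.closure ({n * a * n⁻¹, m * a * m⁻¹} : Set G))) :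
    IsPGroup p (Subgroup.closure {x : G | ∃ n ∈ N, x = n * a * n⁻¹}) := by
  have := hN
  obtain ⟨H, hH⟩ : ∃ H : Subgroup G, H = N ⊔ Subgroup.zpowers a := ⟨_, rfl⟩
  have hNH : N ≤ H := hH ▸ le_sup_left
  have haH : a ∈ H := hH ▸ (le_sup_right : Subgroup.zpowers a ≤ _) (Subgroup.mem_zpowers a)
  let X : Set ↥H := {x | ∃ n ∈ N, (x : G) = n * a * n⁻¹}
  have hconj : ∀ h : ↥H, ∀ x ∈ X, h * x * h⁻¹ ∈ X := by
    rintro ⟨h, hh⟩ x ⟨n, hn, hx⟩
    have hh' : h ∈ ((N ⊔ Subgroup.zpowers a : Subgroup G) : Set G) := hH ▸ hh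
    rw [Subgroup.normal_mul] at hh'
    obtain ⟨n₁, hn₁, z, hz, rfl⟩ := Set.mem_mul.mp hh'
    have hza : z * a * z⁻¹ = a := by
      obtain ⟨i, rfl⟩ := Subgroup.mem_zpowers_iff.mp hz
      have : Commute (a ^ i) a := (Commute.refl a).zpow_left i
      rw [this.eq, mul_inv_cancel_right]
    refine ⟨n₁ * (z * n * z⁻¹), N.mul_mem hn₁ (hN.conj_mem n hn z), ?_⟩
    show n₁ * z * (x : G) * (n₁ * z)⁻¹ = _
    rw [hx]
    calc n₁ * z * (n * a * n⁻¹) * (n₁ * z)⁻¹
        = n₁ * (z * n * z⁻¹) * (z * a * z⁻¹) * (n₁ * (z * n * z⁻¹))⁻¹ := by group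
      _ = _ := by rw [hza]
  have h2' : ∀ x ∈ X, ∀ y ∈ X, IsPGroup p (Subgroup.closure ({x, y} : Set ↥H)) := by
    rintro x ⟨n, hn, hx⟩ y ⟨m, hm, hy⟩
    have h3 := (h2 n hn m hm).comap_of_injective H.subtype H.subtype_injective
    refine h3.to_le ?_
    rw [Subgroup.closure_le]
    intro w hw
    rw [SetLike.mem_coe, Subgroup.mem_comap]
    rcases hw with rfl | rfl
    · show (w : G) ∈ _
      rw [hx]
      exact Subgroup.subset_closure (Or.inl rfl)
    · show (w : G) ∈ _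
      rw [hy]
      exact Subgroup.subset_closure (Or.inr rfl)
  have hP := Cfsg.Agent.Lib.helper91.baer_suzuki X hconj h2'
  refine (hP.map H.subtype).to_le ?_
  rw [Subgroup.closure_le]
  rintro x ⟨n, hn, rfl⟩
  have hxH : n * a * n⁻¹ ∈ H := H.mul_mem (H.mul_mem (hNH hn) haH) (H.inv_mem (hNH hn))
  exact ⟨⟨n * a * n⁻¹, hxH⟩, Subgroup.subset_closure ⟨n, hn, rfl⟩, rfl⟩

theorem ri2_mem_twoZCore_iff {x : G} :
    x ∈ twoZCore G ↔ ∀ g : G, (x * g * x⁻¹ * g⁻¹) ∈ pCore 2 G := by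
  have := ri2_pCore_normal (G := G) 2
  unfold twoZCore
  rw [Subgroup.mem_comap, Subgroup.mem_center_iff]
  constructor
  · intro h g
    have h1 := h (QuotientGroup.mk' (pCore 2 G) g)
    rw [← (QuotientGroup.eq_one_iff (N := pCore 2 G) (x * g * x⁻¹ * g⁻¹))]
    have h2 : ((x * g * x⁻¹ * g⁻¹ : G) : G ⧸ pCore 2 G)
        = (QuotientGroup.mk' (pCore 2 G) x) * (QuotientGroup.mk' (pCore 2 G) g)
          * (QuotientGroup.mk' (pCore 2 G) x)⁻¹ * (QuotientGroup.mk' (pCore 2 G) g)⁻¹ := rfl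
    rw [h2, ← h1]
    group
  · intro h g
    induction g using QuotientGroup.induction_on with
    | H g =>
      have h1 := h g
      rw [← (QuotientGroup.eq_one_iff (N := pCore 2 G) (x * g * x⁻¹ * g⁻¹))] at h1
      have h2 : ((x * g : G) : G ⧸ pCore 2 G)
          = (((x * g * x⁻¹ * g⁻¹) * (g * x) : G) : G ⧸ pCore 2 G) := by
        congr 1
        group
      show ((g * x : G) : G ⧸ pCore 2 G) = ((x * g : G) : G ⧸ pCore 2 G)
      have h3 : (((x * g * x⁻¹ * g⁻¹) * (g * x) : G) : G ⧸ pCore 2 G)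
          = ((x * g * x⁻¹ * g⁻¹ : G) : G ⧸ pCore 2 G) * ((g * x : G) : G ⧸ pCore 2 G) := rfl
      rw [h2, h3, h1, one_mul]

theorem ri2_isSolvable_twoZCore [Finite G] : Group.IsSolvable ↥(twoZCore G) := by
  have := ri2_pCore_normal (G := G) 2
  have : Fact (Nat.Prime 2) := ⟨Nat.prime_two⟩
  have hle : pCore 2 G ≤ twoZCore G := by
    intro x hx
    rw [ri2_mem_twoZCore_iff]
    intro g
    have h1 : g * x⁻¹ * g⁻¹ ∈ pCore 2 G :=
      (ri2_pCore_normal (G := G) 2).conj_mem _ ((pCore 2 G).inv_mem hx) g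
    have h2 := (pCore 2 G).mul_mem hx h1
    have e : x * g * x⁻¹ * g⁻¹ = x * (g * x⁻¹ * g⁻¹) := by group
    rw [e]
    exact h2
  have : Group.IsSolvable ↥(pCore 2 G) := by
    have := (ri2_pCore_isPGroup (G := G) 2).isNilpotent
    infer_instance
  let f : ↥(pCore 2 G) →* ↥(twoZCore G) := Subgroup.inclusion hle
  let g : ↥(twoZCore G) →* G ⧸ pCore 2 G :=
    (QuotientGroup.mk' (pCore 2 G)).comp (twoZCore G).subtype
  have : Group.IsSolvable ↥g.range := by
    apply Group.isSolvable_of_comm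
    rintro ⟨_, ⟨x, rfl⟩⟩ ⟨_, ⟨y, rfl⟩⟩
    apply Subtype.ext
    show g x * g y = g y * g x
    have hx : g x ∈ Subgroup.center (G ⧸ pCore 2 G) := x.2
    exact (Subgroup.mem_center_iff.mp hx (g y)).symm
  apply Group.isSolvable_of_ker_le_range f g.rangeRestrict
  intro x hx
  rw [MonoidHom.mem_ker] at hx
  have h1 : g x = 1 := by
    have := congrArg Subtype.val hx
    simpa using this
  have h2 : (x : G) ∈ pCore 2 G := by
    rw [← QuotientGroup.eq_one_iff]
    exact h1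
  exact ⟨⟨x, h2⟩, Subtype.ext rfl⟩

/-! ### Root involutions -/

variable {D : Set G}

/-- Members of `D` with product of odd order are conjugate. -/
theorem ri2_conj_of_oddAdj (hD : IsRootInvolutionSet D) {a b : G} (h : OddAdj D a b) :
    ∃ g : G, b = g * a * g⁻¹ := by
  obtain ⟨ha, hb, -, hodd⟩ := h
  have haa := ri_sq hD ha
  have hbb := ri_sq hD hb
  obtain ⟨k, hk⟩ := hodd
  have hm : (a * b) ^ (2 * k + 1) = 1 := by
    rw [← hk]
    exact pow_orderOf_eq_one _
  refine ⟨(a * b) ^ k, ?_⟩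
  have h1 : a * ((a * b) ^ k)⁻¹ = (a * b) ^ k * a := by
    have := inv_swap haa hbb (-(k : ℤ))
    rw [neg_neg, zpow_neg, zpow_natCast] at this
    exact this
  have h2 : (a * b) ^ k * (a * b) ^ k * (a * b) = 1 := by
    rw [← pow_add, ← pow_succ, ← hm]
    congr 1
    omega
  have h3 : (a * b) ^ k * (a * b) ^ k = b * a := by
    have : (a * b) ^ k * (a * b) ^ k = (a * b)⁻¹ := eq_inv_of_mul_eq_one_left h2
    rw [this, mul_inv_rev, ri_inv hD ha, ri_inv hD hb]
  calc b = b * (a * a) := by rw [haa, mul_one]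
    _ = (b * a) * a := by rw [mul_assoc]
    _ = (a * b) ^ k * ((a * b) ^ k * a) := by rw [← h3, mul_assoc]
    _ = (a * b) ^ k * (a * ((a * b) ^ k)⁻¹) := by rw [h1]
    _ = (a * b) ^ k * a * ((a * b) ^ k)⁻¹ := by rw [mul_assoc]

theorem ri2_conj_of_reach (hD : IsRootInvolutionSet D) {a b : G}
    (h : Relation.ReflTransGen (OddAdj D) a b) : ∃ g : G, b = g * a * g⁻¹ := by
  induction h with
  | refl => exact ⟨1, by simp⟩
  | tail _ hstep ih =>
    obtain ⟨g, rfl⟩ := ih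
    obtain ⟨g', hg'⟩ := ri2_conj_of_oddAdj hD hstep
    exact ⟨g' * g, by rw [hg']; group⟩

theorem ri2_coset_odd {N : Subgroup G} (hN : N.Normal) {x y : G} (hx : x * x = 1)
    (hxy : x⁻¹ * y ∈ N) (hodd : Odd (orderOf y)) : x ∈ N := by
  have := hN
  have h1 : ((x : G) : G ⧸ N) = ((y : G) : G ⧸ N) := QuotientGroup.eq.mpr hxy
  obtain ⟨k, hk⟩ := hodd
  have h2 : ((y : G) : G ⧸ N) ^ (2 * k + 1) = 1 := by
    rw [← QuotientGroup.mk_pow, ← hk, pow_orderOf_eq_one]
    rfl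
  have h3 : ((x : G) : G ⧸ N) * ((x : G) : G ⧸ N) = 1 := by
    rw [← QuotientGroup.mk_mul, hx]
    rfl
  rw [← h1, pow_succ, pow_mul, pow_two, h3, one_pow, one_mul] at h2
  exact (QuotientGroup.eq_one_iff x).mp h2

theorem ri2_not_oddAdj_coset (hD : IsRootInvolutionSet D) {N : Subgroup G} (hN : N.Normal)
    (hDN : ∀ d ∈ D, d ∉ N) {a b a' : G} (ha : a ∈ D) (hb : b ∈ D) (hab : a * b = b * a)
    (habD : a * b ∈ D) (h : a⁻¹ * a' ∈ N) : ¬ OddAdj D a a' := by
  intro hodd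
  rcases line_lemma hD ha hb hab habD hodd with h1 | h1
  · apply hDN _ habD
    apply ri2_coset_odd hN (ri_sq hD habD) ?_ h1.2.2.2
    have e : (a * b)⁻¹ * (b * a') = a⁻¹ * a' := by
      rw [hab]
      group
    rw [e]
    exact h
  · apply hDN _ hb
    apply ri2_coset_odd hN (ri_sq hD hb) ?_ h1.2.2.2
    have e : b⁻¹ * (a * b * a') = a⁻¹ * a' := by
      rw [hab, ri_inv hD ha]
      group
    rw [e]
    exact h

theorem ri2_pair_pgroup (hD : IsRootInvolutionSet D) {x y : G} (hx : x ∈ D) (hy : y ∈ D)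
    (hno : ¬ OddAdj D x y) : IsPGroup 2 (Subgroup.closure ({x, y} : Set G)) := by
  have hxx := ri_sq hD hx
  have hyy := ri_sq hD hy
  rcases hD.pair x hx y hy with h | h | h
  · apply isPGroup_two_closure_pair hxx hyy (k := 1)
    rw [pow_one, pow_two]
    calc x * y * (x * y) = x * (y * x) * y := by simp only [mul_assoc]
      _ = x * (x * y) * y := by rw [← h]
      _ = (x * x) * (y * y) := by simp only [mul_assoc]
      _ = 1 := by rw [hxx, hyy, one_mul]
  · by_cases hxy : x = y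
    · subst hxy
      apply isPGroup_two_closure_pair hxx hyy (k := 0)
      rw [pow_zero, pow_one, hxx]
    · exact absurd ⟨hx, hy, hxy, h⟩ hno
  · apply isPGroup_two_closure_pair hxx hyy (k := 2)
    have e : (2 : ℕ) ^ 2 = 4 := by norm_num
    rw [e, ← h.1]
    exact pow_orderOf_eq_one _

/-- A normal subgroup containing no member of `D` lies in `O_{2,Z}(G)`, when every member of
`D` lies on a line. -/
theorem ri2_normal_le_twoZCore [Finite G] (hD : IsRootInvolutionSet D)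
    (hpart : ∀ a ∈ D, ∃ b ∈ D, a * b = b * a ∧ a * b ∈ D)
    {N : Subgroup G} (hN : N.Normal) (hDN : ∀ d ∈ D, d ∉ N) : N ≤ twoZCore G := by
  have : Fact (Nat.Prime 2) := ⟨Nat.prime_two⟩
  have hO := ri2_pCore_normal (G := G) 2
  have key : ∀ d ∈ D, ∀ n ∈ N, d * n * d⁻¹ * n⁻¹ ∈ pCore 2 G := by
    intro d hd n hn
    have hP : IsPGroup 2 (Subgroup.closure {x : G | ∃ n ∈ N, x = n * d * n⁻¹}) := by
      apply ri2_baer_suzuki_rel hN
      intro n hn m hm
      have h1 : n * d * n⁻¹ ∈ D := hD.conj_mem d hd n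
      have h2 : m * d * m⁻¹ ∈ D := hD.conj_mem d hd m
      obtain ⟨b, hb, hab, habD⟩ := hpart _ h1
      apply ri2_pair_pgroup hD h1 h2
      apply ri2_not_oddAdj_coset hD hN hDN h1 hb hab habD
      have h3 : d⁻¹ * (n⁻¹ * m) * d⁻¹⁻¹ ∈ N :=
        hN.conj_mem _ (N.mul_mem (N.inv_mem hn) hm) d⁻¹
      have h4 := N.mul_mem (N.mul_mem hn h3) (N.inv_mem hm)
      have e : (n * d * n⁻¹)⁻¹ * (m * d * m⁻¹) = n * (d⁻¹ * (n⁻¹ * m) * d⁻¹⁻¹) * m⁻¹ := by
        group
      rw [e]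
      exact h4
    have hQ : Subgroup.closure {x : G | ∃ n ∈ N, x = n * d * n⁻¹} ⊓ N ≤ pCore 2 G := by
      apply ri2_subnormal_le_pCore hN inf_le_right ?_ (hP.to_le inf_le_left)
      rintro n hn q ⟨hq1, hq2⟩
      refine ⟨?_, hN.conj_mem q hq2 n⟩
      have hle : Subgroup.closure {x : G | ∃ n ∈ N, x = n * d * n⁻¹}
          ≤ (Subgroup.closure {x : G | ∃ n ∈ N, x = n * d * n⁻¹}).comap
            (MulAut.conj n).toMonoidHom := by
        rw [Subgroup.closure_le]
        rintro _ ⟨m, hm, rfl⟩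
        rw [SetLike.mem_coe, Subgroup.mem_comap]
        apply Subgroup.subset_closure
        refine ⟨n * m, N.mul_mem hn hm, ?_⟩
        show n * (m * d * m⁻¹) * n⁻¹ = _
        group
      exact hle hq1
    apply hQ
    refine ⟨?_, ?_⟩
    · have e : d * n * d⁻¹ * n⁻¹ = (1 * d * 1⁻¹) * (n * d * n⁻¹) := by
        rw [ri_inv hD hd]
        group
      rw [e]
      exact Subgroup.mul_mem _ (Subgroup.subset_closure ⟨1, N.one_mem, rfl⟩)
        (Subgroup.subset_closure ⟨n, hn, rfl⟩)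
    · have h1 : d * n * d⁻¹ ∈ N := hN.conj_mem n hn d
      exact N.mul_mem h1 (N.inv_mem hn)
  have hall : ∀ g : G, ∀ n ∈ N, g * n * g⁻¹ * n⁻¹ ∈ pCore 2 G := by
    intro g
    have hg : g ∈ Subgroup.closure D := hD.generates ▸ Subgroup.mem_top g
    refine Subgroup.closure_induction
      (p := fun g _ => ∀ n ∈ N, g * n * g⁻¹ * n⁻¹ ∈ pCore 2 G) ?_ ?_ ?_ ?_ hg
    · intro d hd n hn
      exact key d hd n hn
    · intro n _
      have e : (1 : G) * n * 1⁻¹ * n⁻¹ = 1 := by group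
      rw [e]
      exact Subgroup.one_mem _
    · intro x y _ _ hx hy n hn
      have h1 := hO.conj_mem _ (hy n hn) x
      have h2 := (pCore 2 G).mul_mem h1 (hx n hn)
      have e : x * y * n * (x * y)⁻¹ * n⁻¹
          = x * (y * n * y⁻¹ * n⁻¹) * x⁻¹ * (x * n * x⁻¹ * n⁻¹) := by group
      rw [e]
      exact h2
    · intro x _ hx n hn
      have h1 := hO.conj_mem _ ((pCore 2 G).inv_mem (hx n hn)) x⁻¹
      have e : x⁻¹ * n * x⁻¹⁻¹ * n⁻¹ = x⁻¹ * (x * n * x⁻¹ * n⁻¹)⁻¹ * x⁻¹⁻¹ := by group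
      rw [e]
      exact h1
  intro n hn
  rw [ri2_mem_twoZCore_iff]
  intro g
  have h1 := (pCore 2 G).inv_mem (hall g n hn)
  have e : n * g * n⁻¹ * g⁻¹ = (g * n * g⁻¹ * n⁻¹)⁻¹ := by group
  rw [e]
  exact h1

/-- The solvable radical and simplicity for a connected set of root involutions with a line. -/
theorem ri2_main [Finite G] (hD : IsRootInvolutionSet D)
    (hc : IsConnectedSet (OddAdj D) D) (hDD : (D ∩ commutingProducts D).Nonempty) :
    solvableRadical G = twoZCore G ∧ IsSimpleGroup (G ⧸ twoZCore G) := by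
  obtain ⟨x, hxD, a₀, ha₀, b₀, hb₀, hcomm, hne1, rfl⟩ := hDD
  have hconj : ∀ a ∈ D, ∀ b ∈ D, ∃ g : G, b = g * a * g⁻¹ :=
    fun a ha b hb => ri2_conj_of_reach hD (hc a ha b hb)
  have hpart : ∀ a ∈ D, ∃ b ∈ D, a * b = b * a ∧ a * b ∈ D := by
    intro a ha
    obtain ⟨g, rfl⟩ := hconj a₀ ha₀ a ha
    refine ⟨g * b₀ * g⁻¹, hD.conj_mem b₀ hb₀ g, ?_, ?_⟩
    · calc g * a₀ * g⁻¹ * (g * b₀ * g⁻¹) = g * (a₀ * b₀) * g⁻¹ := by group
        _ = g * (b₀ * a₀) * g⁻¹ := by rw [hcomm]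
        _ = _ := by group
    · have e : g * a₀ * g⁻¹ * (g * b₀ * g⁻¹) = g * (a₀ * b₀) * g⁻¹ := by group
      rw [e]
      exact hD.conj_mem _ hxD g
  have hne : a₀ ≠ b₀ := by
    rintro rfl
    exact hne1 (ri_sq hD ha₀)
  obtain ⟨c₀, hc₀⟩ : ∃ c, OddAdj D a₀ c := by
    rcases Relation.ReflTransGen.cases_head (hc a₀ ha₀ b₀ hb₀) with h1 | ⟨c, hc', -⟩
    · exact absurd h1 hne
    · exact ⟨c, hc'⟩
  have hT := twoZCore_normal G
  have hprod : ∀ a c, OddAdj D a c → a * c ∉ twoZCore G := by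
    rintro a c ⟨ha, hc', hac, hodd⟩ hmem
    rw [ri2_mem_twoZCore_iff] at hmem
    have h1 := hmem a
    have e : a * c * a * (a * c)⁻¹ * a⁻¹ = (a * c) ^ 2 := by
      rw [mul_inv_rev, ri_inv hD ha, ri_inv hD hc', pow_two]
      simp only [mul_assoc]
      rw [ri_sq hD ha, mul_one]
    rw [e] at h1
    obtain ⟨k, hk⟩ := ri2_pCore_isPGroup (G := G) 2 ⟨(a * c) ^ 2, h1⟩
    have hk' : ((a * c) ^ 2) ^ 2 ^ k = 1 := by
      have := congrArg Subtype.val hk
      simpa using this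
    have hk2 : (a * c) ^ 2 ^ (k + 1) = 1 := by
      rw [pow_succ, mul_comm, pow_mul]
      exact hk'
    have h3 := eq_one_of_odd_of_pow hodd hk2
    apply hac
    calc a = a * (c * c) := by rw [ri_sq hD hc', mul_one]
      _ = (a * c) * c := by rw [mul_assoc]
      _ = c := by rw [h3, one_mul]
  have hDT : ∀ d ∈ D, d ∉ twoZCore G := by
    intro d hd hdT
    obtain ⟨g, rfl⟩ := hconj a₀ ha₀ d hd
    have h1 := oddAdj_conj hD hc₀ g
    obtain ⟨h, hh⟩ := ri2_conj_of_oddAdj hD h1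
    apply hprod _ _ h1
    refine (twoZCore G).mul_mem hdT ?_
    rw [hh]
    exact hT.conj_mem _ hdT h
  have hdich : ∀ N : Subgroup G, N.Normal → N = ⊤ ∨ N ≤ twoZCore G := by
    intro N hN
    by_cases h : ∃ d ∈ D, d ∈ N
    · left
      obtain ⟨d, hd, hdN⟩ := h
      rw [eq_top_iff, ← hD.generates, Subgroup.closure_le]
      intro e he
      obtain ⟨g, rfl⟩ := hconj d hd e he
      exact hN.conj_mem d hdN g
    · right
      push Not at h
      exact ri2_normal_le_twoZCore hD hpart hN h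
  have hsimple : IsSimpleGroup (G ⧸ twoZCore G) := by
    have hnt : Nontrivial (G ⧸ twoZCore G) := by
      refine ⟨⟨(a₀ : G ⧸ twoZCore G), 1, ?_⟩⟩
      intro h
      exact hDT a₀ ha₀ ((QuotientGroup.eq_one_iff a₀).mp h)
    refine { toNontrivial := hnt, eq_bot_or_eq_top_of_normal := ?_ }
    intro H hH
    rcases hdich (H.comap (QuotientGroup.mk' (twoZCore G))) (hH.comap _) with h | h
    · right
      rw [eq_top_iff]
      intro x _
      induction x using QuotientGroup.induction_on with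
      | H x =>
        have hx : x ∈ H.comap (QuotientGroup.mk' (twoZCore G)) := h ▸ Subgroup.mem_top x
        exact hx
    · left
      rw [eq_bot_iff]
      intro x hx
      induction x using QuotientGroup.induction_on with
      | H x =>
        have h1 : x ∈ twoZCore G := h hx
        rw [Subgroup.mem_bot]
        exact (QuotientGroup.eq_one_iff x).mpr h1
  refine ⟨?_, hsimple⟩
  apply le_antisymm
  · apply sSup_le
    rintro N ⟨hN, hsol⟩
    rcases hdich N hN with h | h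
    · exfalso
      subst h
      have hG : Group.IsSolvable G :=
        Group.isSolvable_of_surjective (f := (⊤ : Subgroup G).subtype)
          (fun g => ⟨⟨g, Subgroup.mem_top g⟩, rfl⟩)
      have hGT : Group.IsSolvable (G ⧸ twoZCore G) := inferInstance
      have hcomm' := (IsSimpleGroup.comm_iff_isSolvable (G := G ⧸ twoZCore G)).mpr hGT
      obtain ⟨h, hh⟩ := ri2_conj_of_oddAdj hD hc₀
      apply hprod _ _ hc₀
      rw [← QuotientGroup.eq_one_iff, hh]
      have e : ((a₀ * (h * a₀ * h⁻¹) : G) : G ⧸ twoZCore G)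
          = (a₀ : G ⧸ twoZCore G) * ((h : G ⧸ twoZCore G) * (a₀ : G ⧸ twoZCore G)
            * (h : G ⧸ twoZCore G)⁻¹) := rfl
      rw [e, hcomm' (h : G ⧸ twoZCore G) (a₀ : G ⧸ twoZCore G), mul_inv_cancel_right,
        ← QuotientGroup.mk_mul, ri_sq hD ha₀]
      rfl
    · exact h
  · exact le_sSup ⟨hT, ri2_isSolvable_twoZCore⟩

end Cfsg.Agent.Lib.helper85
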