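import Mathlib
import Cfsg.Prelude.Def_RootSubgroups
import Cfsg.Agent.Lib.helper91.BaerSuzuki
import Cfsg.Agent.Lib.helper85.RootInv
import Cfsg.Agent.Lib.helper85.RootInv2

/-!
# Root involutions: twins

Two members of a set `D` of root involutions are twins when they have the same neighbours in
the graph of odd-order products.  When that graph is connected, twins commute, and the product
of two commuting twins lying in `D` is again a twin.
-/

set_option autoImplicit false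

namespace Cfsg.Agent.Lib.helper85

open Cfsg

section RootInv3

variable {G : Type*} [Group G] {D : Set G}

/-! ### Trichotomy -/

theorem ri3_tri (hD : IsRootInvolutionSet D) {a b : G} (ha : a ∈ D) (hb : b ∈ D) :
    a * b = b * a ∨ OddAdj D a b ∨ (orderOf (a * b) = 4 ∧ (a * b) ^ 2 ∈ D) := by
  rcases hD.pair a ha b hb with h | h | h
  · exact Or.inl h
  · by_cases hab : a = b
    · left
      rw [hab]
    · exact Or.inr (Or.inl ⟨ha, hb, hab, h⟩)
  · exact Or.inr (Or.inr h)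

theorem ri3_not_comm_of_oddAdj (hD : IsRootInvolutionSet D) {a b : G} (h : OddAdj D a b) :
    a * b ≠ b * a := by
  intro hc
  exact h.2.2.1 (eq_of_commute_odd (ri_sq hD h.1) (ri_sq hD h.2.1) hc h.2.2.2)

theorem ri3_not_comm_of_four (hD : IsRootInvolutionSet D) {a b : G} (ha : a ∈ D) (hb : b ∈ D)
    (h4 : orderOf (a * b) = 4) : a * b ≠ b * a := by
  intro hc
  have h2 : (a * b) ^ 2 = 1 := by
    rw [pow_two]
    calc a * b * (a * b) = a * (b * a) * b := by simp only [mul_assoc]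
      _ = a * (a * b) * b := by rw [← hc]
      _ = (a * a) * (b * b) := by simp only [mul_assoc]
      _ = 1 := by rw [ri_sq hD ha, ri_sq hD hb, one_mul]
  have h3 := orderOf_dvd_of_pow_eq_one h2
  rw [h4] at h3
  omega

theorem ri3_not_four_of_oddAdj {a b : G} (h : OddAdj D a b) : orderOf (a * b) ≠ 4 := by
  intro h4
  have h1 := h.2.2.2
  rw [h4] at h1
  exact absurd h1 (by decide)

theorem ri3_sq_mem (hD : IsRootInvolutionSet D) {a b : G} (ha : a ∈ D) (hb : b ∈ D)
    (h4 : orderOf (a * b) = 4) : (a * b) ^ 2 ∈ D := by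
  rcases hD.pair a ha b hb with h | h | h
  · exact absurd h (ri3_not_comm_of_four hD ha hb h4)
  · rw [h4] at h
    exact absurd h (by decide)
  · exact h.2

theorem ri3_four_swap {a b : G} (h4 : orderOf (a * b) = 4) : orderOf (b * a) = 4 := by
  rw [orderOf_mul_swap]
  exact h4

/-! ### Pairs with product of order 4 -/

theorem ri3_mul_conj (hD : IsRootInvolutionSet D) (a : G) {b : G} (hb : b ∈ D) :
    a * (b * a * b⁻¹) = (a * b) ^ 2 := by
  rw [ri_inv hD hb, pow_two]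
  simp only [mul_assoc]

theorem ri3_conj_mul (hD : IsRootInvolutionSet D) {a b : G} (ha : a ∈ D) (hb : b ∈ D)
    (h4 : orderOf (a * b) = 4) : (b * a * b⁻¹) * a = (a * b) ^ 2 := by
  rw [← sq_swap hD ha hb h4, ri_inv hD hb, pow_two]
  simp only [mul_assoc]

theorem ri3_ne_conj (hD : IsRootInvolutionSet D) {a b : G} (ha : a ∈ D) (hb : b ∈ D)
    (h4 : orderOf (a * b) = 4) : a ≠ b * a * b⁻¹ := by
  intro h
  apply ri3_not_comm_of_four hD ha hb h4
  calc a * b = (b * a * b⁻¹) * b := by rw [← h]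
    _ = b * a := by rw [inv_mul_cancel_right]

/-- `a (a b)² = b a b⁻¹`. -/
theorem ri3_left_mul_sq (hD : IsRootInvolutionSet D) {a b : G} (ha : a ∈ D) (hb : b ∈ D) :
    a * (a * b) ^ 2 = b * a * b⁻¹ := by
  rw [ri_inv hD hb, pow_two]
  calc a * (a * b * (a * b)) = (a * a) * b * a * b := by simp only [mul_assoc]
    _ = b * a * b := by rw [ri_sq hD ha, one_mul]

/-- `(a b)² b = a b a⁻¹`. -/
theorem ri3_sq_mul_right (hD : IsRootInvolutionSet D) {a b : G} (ha : a ∈ D) (hb : b ∈ D) :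
    (a * b) ^ 2 * b = a * b * a⁻¹ := by
  rw [ri_inv hD ha, pow_two]
  calc a * b * (a * b) * b = a * b * a * (b * b) := by simp only [mul_assoc]
    _ = a * b * a := by rw [ri_sq hD hb, mul_one]

theorem ri3_sq_mul_left (hD : IsRootInvolutionSet D) {a b : G} (ha : a ∈ D) (hb : b ∈ D)
    (h4 : orderOf (a * b) = 4) : (a * b) ^ 2 * a = b * a * b⁻¹ := by
  rw [← sq_swap hD ha hb h4, ri_inv hD hb, pow_two]
  calc b * a * (b * a) * a = b * a * b * (a * a) := by simp only [mul_assoc]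
    _ = b * a * b := by rw [ri_sq hD ha, mul_one]

theorem ri3_right_mul_sq (hD : IsRootInvolutionSet D) {a b : G} (ha : a ∈ D) (hb : b ∈ D)
    (h4 : orderOf (a * b) = 4) : b * (a * b) ^ 2 = a * b * a⁻¹ := by
  rw [← sq_swap hD ha hb h4, ri_inv hD ha, pow_two]
  calc b * (b * a * (b * a)) = (b * b) * a * b * a := by simp only [mul_assoc]
    _ = a * b * a := by rw [ri_sq hD hb, one_mul]

theorem ri3_sq_comm_left (hD : IsRootInvolutionSet D) {a b : G} (ha : a ∈ D) (hb : b ∈ D)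
    (h4 : orderOf (a * b) = 4) : a * (a * b) ^ 2 = (a * b) ^ 2 * a := by
  rw [ri3_left_mul_sq hD ha hb, ri3_sq_mul_left hD ha hb h4]

theorem ri3_sq_comm_right (hD : IsRootInvolutionSet D) {a b : G} (ha : a ∈ D) (hb : b ∈ D)
    (h4 : orderOf (a * b) = 4) : (a * b) ^ 2 * b = b * (a * b) ^ 2 := by
  rw [ri3_sq_mul_right hD ha hb, ri3_right_mul_sq hD ha hb h4]

/-- Commuting elements of `D` are not related by a product of order 4; a pair that is neither
adjacent nor commuting has product of order 4. -/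
theorem ri3_four_of_not (hD : IsRootInvolutionSet D) {a b : G} (ha : a ∈ D) (hb : b ∈ D)
    (h1 : ¬ OddAdj D a b) (h2 : a * b ≠ b * a) : orderOf (a * b) = 4 := by
  rcases ri3_tri hD ha hb with h | h | h
  · exact absurd h h2
  · exact absurd h h1
  · exact h.1

/-- A member of `D` commutes with its conjugate by a member that is not adjacent to it. -/
theorem ri3_comm_conj_of_not_adj (hD : IsRootInvolutionSet D) {a b : G} (ha : a ∈ D)
    (hb : b ∈ D) (h1 : ¬ OddAdj D a b) : a * (b * a * b⁻¹) = (b * a * b⁻¹) * a := by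
  rcases ri3_tri hD ha hb with h | h | h
  · have e : b * a * b⁻¹ = a := by rw [← h, mul_inv_cancel_right]
    rw [e]
  · exact absurd h h1
  · rw [ri3_mul_conj hD a hb, ri3_conj_mul hD ha hb h.1]

/-! ### Twins -/

/-- Twins: the same neighbours in the graph of odd-order products. -/
def ri3Tw (D : Set G) (a b : G) : Prop := ∀ z, OddAdj D a z ↔ OddAdj D b z

theorem ri3Tw_refl (a : G) : ri3Tw D a a := fun _ => Iff.rfl

theorem ri3Tw_symm {a b : G} (h : ri3Tw D a b) : ri3Tw D b a := fun z => (h z).symm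

theorem ri3Tw_trans {a b c : G} (h1 : ri3Tw D a b) (h2 : ri3Tw D b c) : ri3Tw D a c :=
  fun z => (h1 z).trans (h2 z)

theorem ri3_oddAdj_conj_iff (hD : IsRootInvolutionSet D) (g a z : G) :
    OddAdj D (g * a * g⁻¹) z ↔ OddAdj D a (g⁻¹ * z * g) := by
  constructor
  · intro h
    have h1 := oddAdj_conj hD h g⁻¹
    have e : g⁻¹ * (g * a * g⁻¹) * g⁻¹⁻¹ = a := by group
    rw [e, inv_inv] at h1
    exact h1
  · intro h
    have h1 := oddAdj_conj hD h g
    have e : g * (g⁻¹ * z * g) * g⁻¹ = z := by group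
    rw [e] at h1
    exact h1

theorem ri3Tw_conj (hD : IsRootInvolutionSet D) {a b : G} (h : ri3Tw D a b) (g : G) :
    ri3Tw D (g * a * g⁻¹) (g * b * g⁻¹) := by
  intro z
  rw [ri3_oddAdj_conj_iff hD, ri3_oddAdj_conj_iff hD]
  exact h _

theorem ri3Tw_not_adj {a b : G} (h : ri3Tw D a b) : ¬ OddAdj D a b := by
  intro hab
  exact ((h b).mp hab).2.2.1 rfl

/-- Conjugating a twin of `b` by an element commuting with `b` gives a twin of `b`. -/
theorem ri3Tw_conj_fix (hD : IsRootInvolutionSet D) {a b g : G} (h : ri3Tw D a b)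
    (hg : g * b = b * g) : ri3Tw D (g * a * g⁻¹) b := by
  have h1 := ri3Tw_conj hD h g
  have e : g * b * g⁻¹ = b := by rw [hg, mul_inv_cancel_right]
  rw [e] at h1
  exact h1

/-! ### Neighbourhoods have a common size -/

/-- The neighbourhood of `a` in the graph of odd-order products. -/
def ri3A (D : Set G) (a : G) : Set G := {z | OddAdj D a z}

theorem ri3_ncard_conj (hD : IsRootInvolutionSet D) (a g : G) :
    (ri3A D (g * a * g⁻¹)).ncard = (ri3A D a).ncard := by
  have e : ri3A D (g * a * g⁻¹) = (fun z => g * z * g⁻¹) '' ri3A D a := by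
    ext z
    constructor
    · intro hz
      exact ⟨g⁻¹ * z * g, (ri3_oddAdj_conj_iff hD g a z).mp hz, by group⟩
    · rintro ⟨w, hw, rfl⟩
      exact oddAdj_conj hD hw g
  rw [e]
  apply Set.ncard_image_of_injective
  intro z w hzw
  simpa using hzw

/-- The product of two commuting twins, if it lies in `D`, is a twin of both. -/
theorem ri3_L1 [Finite G] (hD : IsRootInvolutionSet D)
    (hcl : ∀ a ∈ D, ∀ b ∈ D, ∃ g : G, b = g * a * g⁻¹) {a b : G} (ha : a ∈ D) (hb : b ∈ D)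
    (hab : a * b = b * a) (habD : a * b ∈ D) (htw : ri3Tw D a b) : ri3Tw D (a * b) a := by
  have h2 : a * b * a = b := by rw [hab, mul_assoc, ri_sq hD ha, mul_one]
  have h1 : a * b * a = a * (a * b) := by rw [h2, ← mul_assoc, ri_sq hD ha, one_mul]
  have hsub : ri3A D (a * b) ⊆ ri3A D a := by
    intro z hz
    rcases line_lemma hD habD ha h1 (by rw [h2]; exact hb) hz with h | h
    · exact h
    · rw [h2] at h
      exact (htw z).mpr h
  obtain ⟨g, hg⟩ := hcl a ha (a * b) habD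
  have hcard : (ri3A D a).ncard ≤ (ri3A D (a * b)).ncard := by
    rw [hg, ri3_ncard_conj hD]
  have heq := Set.eq_of_subset_of_ncard_le hsub hcard (Set.toFinite _)
  intro z
  show z ∈ ri3A D (a * b) ↔ z ∈ ri3A D a
  rw [heq]

/-- If `a b` has order 4 and `b a b⁻¹` is a twin of `a`, then `(a b)²` is a twin of `a`. -/
theorem ri3_tw_sq [Finite G] (hD : IsRootInvolutionSet D)
    (hcl : ∀ a ∈ D, ∀ b ∈ D, ∃ g : G, b = g * a * g⁻¹) {a b : G} (ha : a ∈ D) (hb : b ∈ D)
    (h4 : orderOf (a * b) = 4) (htw : ri3Tw D (b * a * b⁻¹) a) : ri3Tw D ((a * b) ^ 2) a := by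
  have h1 := ri3_L1 hD hcl ha (hD.conj_mem a ha b)
    (by rw [ri3_mul_conj hD a hb, ri3_conj_mul hD ha hb h4])
    (by rw [ri3_mul_conj hD a hb]; exact ri3_sq_mem hD ha hb h4) (ri3Tw_symm htw)
  rw [ri3_mul_conj hD a hb] at h1
  exact h1

/-! ### Twins commute -/

/-- Baer–Suzuki for a set normalised by a subgroup containing it. -/
theorem ri3_bs_local [Finite G] {p : ℕ} [Fact p.Prime] (T : Set G) (N : Subgroup G)
    (hTN : T ⊆ N) (hconj : ∀ g ∈ N, ∀ t ∈ T, g * t * g⁻¹ ∈ T)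
    (h2 : ∀ x ∈ T, ∀ y ∈ T, IsPGroup p (Subgroup.closure ({x, y} : Set G))) :
    IsPGroup p (Subgroup.closure T) := by
  let X : Set ↥N := {x | (x : G) ∈ T}
  have hc : ∀ h : ↥N, ∀ x ∈ X, h * x * h⁻¹ ∈ X := by
    rintro ⟨h, hh⟩ x hx
    exact hconj h hh x.1 hx
  have h2' : ∀ x ∈ X, ∀ y ∈ X, IsPGroup p (Subgroup.closure ({x, y} : Set ↥N)) := by
    intro x hx y hy
    have h3 := (h2 x.1 hx y.1 hy).comap_of_injective N.subtype N.subtype_injective
    refine h3.to_le ?_
    rw [Subgroup.closure_le]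
    intro w hw
    rw [SetLike.mem_coe, Subgroup.mem_comap]
    rcases hw with rfl | rfl
    · exact Subgroup.subset_closure (Or.inl rfl)
    · exact Subgroup.subset_closure (Or.inr rfl)
  have hP := Cfsg.Agent.Lib.helper91.baer_suzuki X hc h2'
  refine (hP.map N.subtype).to_le ?_
  rw [Subgroup.closure_le]
  intro x hx
  exact ⟨⟨x, hTN hx⟩, Subgroup.subset_closure hx, rfl⟩

/-- A non-trivial finite `p`-group is not contained in its own commutator subgroup. -/
theorem ri3_not_le_commutator [Finite G] {p : ℕ} [Fact p.Prime] (P : Subgroup G)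
    (hP : IsPGroup p P) (hne : P ≠ ⊥) : ¬ P ≤ ⁅P, P⁆ := by
  intro hle
  have : Nontrivial ↥P := (Subgroup.nontrivial_iff_ne_bot P).mpr hne
  have : Group.IsNilpotent ↥P := hP.isNilpotent
  have hlt := Group.IsSolvable.commutator_lt_top_of_nontrivial ↥P
  apply hlt.ne
  rw [eq_top_iff]
  intro g _
  have hg : (g : G) ∈ ⁅P, P⁆ := hle g.2
  rw [← Subgroup.map_subtype_commutator] at hg
  obtain ⟨g', hg', hgg⟩ := hg
  have e : g' = g := Subtype.ext hgg
  rw [← e]
  exact hg'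

/-- Twins commute. -/
theorem ri3_L2 [Finite G] (hD : IsRootInvolutionSet D)
    (hcl : ∀ a ∈ D, ∀ b ∈ D, ∃ g : G, b = g * a * g⁻¹) {a b : G} (ha : a ∈ D) (hb : b ∈ D)
    (htw : ri3Tw D a b) : a * b = b * a := by
  by_contra hnc
  have h4 : orderOf (a * b) = 4 := ri3_four_of_not hD ha hb (ri3Tw_not_adj htw) hnc
  have hκ : (a * b) ^ 2 ∈ D := ri3_sq_mem hD ha hb h4
  have htw1 : ri3Tw D (b * a * b⁻¹) a := by
    have h1 := ri3Tw_conj hD htw b
    rw [mul_inv_cancel_right] at h1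
    exact ri3Tw_trans h1 (ri3Tw_symm htw)
  have hκtw := ri3_tw_sq hD hcl ha hb h4 htw1
  let N : Subgroup G :=
    { carrier := {g | ri3Tw D (g * a * g⁻¹) a}
      one_mem' := by
        show ri3Tw D (1 * a * 1⁻¹) a
        rw [one_mul, inv_one, mul_one]
        exact ri3Tw_refl a
      mul_mem' := by
        intro g₁ g₂ h1 h2
        show ri3Tw D (g₁ * g₂ * a * (g₁ * g₂)⁻¹) a
        have h3 := ri3Tw_conj hD h2 g₁
        have e : g₁ * g₂ * a * (g₁ * g₂)⁻¹ = g₁ * (g₂ * a * g₂⁻¹) * g₁⁻¹ := by group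
        rw [e]
        exact ri3Tw_trans h3 h1
      inv_mem' := by
        intro g h1
        show ri3Tw D (g⁻¹ * a * g⁻¹⁻¹) a
        have h3 := ri3Tw_conj hD h1 g⁻¹
        have e : g⁻¹ * (g * a * g⁻¹) * g⁻¹⁻¹ = a := by group
        rw [e] at h3
        exact ri3Tw_symm h3 }
  let T : Set G := {t | t ∈ D ∧ ri3Tw D t a}
  have hmemN : ∀ g : G, g ∈ N ↔ ri3Tw D (g * a * g⁻¹) a := fun g => Iff.rfl
  have hTN : T ⊆ N := by
    intro t ht
    rw [SetLike.mem_coe, hmemN]
    have h1 := ri3Tw_conj hD (ri3Tw_symm ht.2) t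
    rw [mul_inv_cancel_right] at h1
    exact ri3Tw_trans h1 ht.2
  have hNT : ∀ g ∈ N, ∀ t ∈ T, g * t * g⁻¹ ∈ T := by
    intro g hg t ht
    exact ⟨hD.conj_mem t ht.1 g, ri3Tw_trans (ri3Tw_conj hD ht.2 g) ((hmemN g).mp hg)⟩
  have hP : IsPGroup 2 (Subgroup.closure T) :=
    ri3_bs_local T N hTN hNT (fun x hx y hy =>
      ri2_pair_pgroup hD hx.1 hy.1 (ri3Tw_not_adj (ri3Tw_trans hx.2 (ri3Tw_symm hy.2))))
  have haT : a ∈ T := ⟨ha, ri3Tw_refl a⟩
  have hbT : b ∈ T := ⟨hb, ri3Tw_symm htw⟩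
  apply ri3_not_le_commutator (Subgroup.closure T) hP
  · intro hbot
    have h1 : a ∈ (⊥ : Subgroup G) := hbot ▸ Subgroup.subset_closure haT
    exact ri_ne_one hD ha (Subgroup.mem_bot.mp h1)
  · rw [Subgroup.closure_le]
    intro t ht
    obtain ⟨h, hh⟩ := hcl ((a * b) ^ 2) hκ t ht.1
    have hhN : h ∈ N := by
      rw [hmemN]
      have h1 := ri3Tw_conj hD (ri3Tw_symm hκtw) h
      rw [← hh] at h1
      exact ri3Tw_trans h1 ht.2
    have e : t = h * a * h⁻¹ * (h * b * h⁻¹) * (h * a * h⁻¹)⁻¹ * (h * b * h⁻¹)⁻¹ := by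
      have e1 : h * a * h⁻¹ * (h * b * h⁻¹) * (h * a * h⁻¹)⁻¹ * (h * b * h⁻¹)⁻¹
          = h * (a * b * a⁻¹ * b⁻¹) * h⁻¹ := by
        group
      rw [e1, ri_inv hD ha, ri_inv hD hb, hh, pow_two]
      simp only [mul_assoc]
    rw [SetLike.mem_coe, e]
    exact Subgroup.commutator_mem_commutator (Subgroup.subset_closure (hNT h hhN a haT))
      (Subgroup.subset_closure (hNT h hhN b hbT))

/-! ### Conjugates of twins -/

/-- If `g ∈ D` has product of order 4 with every twin of `c`, then each twin of `c` commutes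
with the `g`-conjugate of each twin of `c`. -/
theorem ri3_L3 [Finite G] (hD : IsRootInvolutionSet D)
    (hcl : ∀ a ∈ D, ∀ b ∈ D, ∃ g : G, b = g * a * g⁻¹) {c g : G} (hg : g ∈ D)
    (h4 : ∀ t ∈ D, ri3Tw D t c → orderOf (t * g) = 4) {t t' : G} (ht : t ∈ D)
    (htw : ri3Tw D t c) (ht' : t' ∈ D) (htw' : ri3Tw D t' c) :
    t * (g * t' * g⁻¹) = (g * t' * g⁻¹) * t := by
  by_contra hnc
  have ht''D : g * t' * g⁻¹ ∈ D := hD.conj_mem t' ht' g
  obtain ⟨t'', ht''⟩ : ∃ t'', t'' = g * t' * g⁻¹ := ⟨_, rfl⟩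
  rw [← ht''] at hnc ht''D
  have h4' := h4 t' ht' htw'
  have hc1 : t' * t'' = t'' * t' := by
    rw [ht'', ri3_mul_conj hD t' hg, ri3_conj_mul hD ht' hg h4']
  have htt' : ri3Tw D t t' := ri3Tw_trans htw (ri3Tw_symm htw')
  have hna : ¬ OddAdj D t t'' := by
    intro h
    exact ri3_not_comm_of_oddAdj hD ((htt' t'').mp h) hc1
  have h44 : orderOf (t * t'') = 4 := ri3_four_of_not hD ht ht''D hna hnc
  have h3 : ri3Tw D ((t * t'') ^ 2) t := by
    apply ri3_tw_sq hD hcl ht ht''D h44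
    have h5 : ri3Tw D (t'' * t * t''⁻¹) t' := ri3Tw_conj_fix hD htt' hc1.symm
    exact ri3Tw_trans h5 (ri3Tw_symm htt')
  have h44' : orderOf (t'' * t) = 4 := ri3_four_swap h44
  have hs : t * (g * t * g⁻¹) = (g * t * g⁻¹) * t := by
    rw [ri3_mul_conj hD t hg, ri3_conj_mul hD ht hg (h4 t ht htw)]
  have h6 : ri3Tw D t'' (g * t * g⁻¹) := by
    rw [ht'']
    exact ri3Tw_conj hD (ri3Tw_symm htt') g
  have h7 : ri3Tw D ((t'' * t) ^ 2) t'' := by
    apply ri3_tw_sq hD hcl ht''D ht h44'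
    have h8 : ri3Tw D (t * t'' * t⁻¹) (g * t * g⁻¹) := ri3Tw_conj_fix hD h6 hs
    exact ri3Tw_trans h8 (ri3Tw_symm h6)
  rw [sq_swap hD ht ht''D h44] at h7
  have h9 : ri3Tw D t'' c := ri3Tw_trans (ri3Tw_symm h7) (ri3Tw_trans h3 htw)
  have h10 : ri3Tw D ((t' * g) ^ 2) t' := by
    apply ri3_tw_sq hD hcl ht' hg h4'
    rw [← ht'']
    exact ri3Tw_trans h9 (ri3Tw_symm htw')
  have h11 := h4 _ (ri3_sq_mem hD ht' hg h4') (ri3Tw_trans h10 htw')
  exact ri3_not_comm_of_four hD (ri3_sq_mem hD ht' hg h4') hg h11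
    (ri3_sq_comm_right hD ht' hg h4')

/-! ### Twins and the commuting members -/

theorem ri3_mem_CV_iff (hD : IsRootInvolutionSet D) {a : G} (ha : a ∈ D) (z : G) :
    z ∈ commutingMembers D a ∪ fourPartners D a ↔ z ∈ D ∧ ¬ OddAdj D a z := by
  constructor
  · rintro (⟨hz, h⟩ | ⟨hz, h⟩)
    · exact ⟨hz, fun h1 => ri3_not_comm_of_oddAdj hD h1 h.symm⟩
    · exact ⟨hz, fun h1 => ri3_not_four_of_oddAdj h1 h⟩
  · rintro ⟨hz, h⟩
    rcases ri3_tri hD ha hz with h1 | h1 | h1
    · exact Or.inl ⟨hz, h1.symm⟩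
    · exact absurd h1 h
    · exact Or.inr ⟨hz, h1.1⟩

theorem ri3_CV_eq_iff (hD : IsRootInvolutionSet D) {d e : G} (hd : d ∈ D) (he : e ∈ D) :
    commutingMembers D d ∪ fourPartners D d = commutingMembers D e ∪ fourPartners D e ↔
      ri3Tw D d e := by
  constructor
  · intro h z
    have h1 := ri3_mem_CV_iff hD hd z
    have h2 := ri3_mem_CV_iff hD he z
    rw [h] at h1
    have h3 : (z ∈ D ∧ ¬ OddAdj D d z) ↔ (z ∈ D ∧ ¬ OddAdj D e z) := h1.symm.trans h2
    constructor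
    · intro hz
      by_contra hne
      exact (h3.mpr ⟨hz.2.1, hne⟩).2 hz
    · intro hz
      by_contra hne
      exact (h3.mp ⟨hz.2.1, hne⟩).2 hz
  · intro h
    ext z
    rw [ri3_mem_CV_iff hD hd, ri3_mem_CV_iff hD he]
    constructor
    · rintro ⟨hz, h1⟩
      exact ⟨hz, fun h2 => h1 ((h z).mpr h2)⟩
    · rintro ⟨hz, h1⟩
      exact ⟨hz, fun h2 => h1 ((h z).mp h2)⟩

/-- Members of `D` with the same commuting members have the same neighbours. -/
theorem ri3_adj_of_comm_eq (hD : IsRootInvolutionSet D) {d e : G} (hd : d ∈ D) (he : e ∈ D)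
    (hC : ∀ z ∈ D, (z * d = d * z ↔ z * e = e * z)) {z : G} (h : OddAdj D d z) :
    OddAdj D e z := by
  have hz := h.2.1
  rcases ri3_tri hD he hz with h1 | h1 | h1
  · exact absurd ((hC z hz).mpr h1.symm).symm (ri3_not_comm_of_oddAdj hD h)
  · exact h1
  · exfalso
    obtain ⟨h4, -⟩ := h1
    have hzi := ri_inv hD hz
    have hzz := ri_sq hD hz
    have hz' : ∀ w, z * (z * w) = w := fun w => by rw [← mul_assoc, hzz, one_mul]
    have h2 : (z * e * z⁻¹) * e = e * (z * e * z⁻¹) := by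
      rw [ri3_mul_conj hD e hz, ri3_conj_mul hD he hz h4]
    have h3 : (z * e * z⁻¹) * d = d * (z * e * z⁻¹) := (hC _ (hD.conj_mem e he z)).mpr h2
    have h5 : (z * d * z⁻¹) * e = e * (z * d * z⁻¹) := by
      rw [hzi] at h3 ⊢
      have e1 : z * (z * e * z * d) * z = e * (z * d * z) := by simp only [mul_assoc, hz']
      have e2 : z * (d * (z * e * z)) * z = z * d * z * e := by
        simp only [mul_assoc, hzz, mul_one]
      rw [← e1, ← e2, h3]
    have h6 : (z * d * z⁻¹) * d = d * (z * d * z⁻¹) := (hC _ (hD.conj_mem d hd z)).mpr h5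
    have h7 : (d * z) ^ 2 ^ 2 = 1 := by
      show (d * z) ^ 4 = 1
      rw [ri3_mul_conj hD d hz] at h6
      have e3 : z * d * z⁻¹ * d = ((d * z) ^ 2)⁻¹ := by
        rw [hzi, ← inv_pow, mul_inv_rev, hzi, ri_inv hD hd, pow_two]
        simp only [mul_assoc]
      rw [e3] at h6
      calc (d * z) ^ 4 = (d * z) ^ 2 * (d * z) ^ 2 := by rw [← pow_add]
        _ = ((d * z) ^ 2)⁻¹ * (d * z) ^ 2 := by rw [h6]
        _ = 1 := inv_mul_cancel _
    have h8 : d * z = 1 := eq_one_of_odd_of_pow h.2.2.2 h7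
    apply h.2.2.1
    calc d = d * (z * z) := by rw [hzz, mul_one]
      _ = (d * z) * z := by rw [mul_assoc]
      _ = z := by rw [h8, one_mul]

theorem ri3_tw_of_comm_eq (hD : IsRootInvolutionSet D) {d e : G} (hd : d ∈ D) (he : e ∈ D)
    (hC : ∀ z ∈ D, (z * d = d * z ↔ z * e = e * z)) : ri3Tw D d e := fun _ =>
  ⟨fun h => ri3_adj_of_comm_eq hD hd he hC h,
    fun h => ri3_adj_of_comm_eq hD he hd (fun z hz => (hC z hz).symm) h⟩

end RootInv3

end Cfsg.Agent.Lib.helper85
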