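import Mathlib
import Cfsg.Prelude.Def_RootSubgroups
import Cfsg.Agent.Lib.helper85.RootInv
import Cfsg.Agent.Lib.helper85.RootInv2
import Cfsg.Agent.Lib.helper85.RootInv3

/-!
# Root involutions: twins have the same commuting members

For a set `D` of root involutions whose graph of odd-order products is connected, two members
with the same neighbours in that graph commute with the same members of `D`.
-/

set_option autoImplicit false

namespace Cfsg.Agent.Lib.helper85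

open Cfsg

section RootInv4

variable {G : Type*} [Group G] {D : Set G}

/-! ### Reflections of a dihedral group -/

theorem ri4_c_swap {x c : G} (hx : x * x = 1) (hc : c * c = 1) (j : ℤ) :
    c * (x * c) ^ j = (x * c) ^ (-j) * c := by
  have h1 := inv_swap hc hx (-j)
  have e : c * x = (x * c)⁻¹ := by
    rw [mul_inv_rev, inv_eq_of_mul_eq_one_left hx, inv_eq_of_mul_eq_one_left hc]
  rw [e, neg_neg, inv_zpow', inv_zpow', neg_neg] at h1
  exact h1

theorem ri4_refl_mem (hD : IsRootInvolutionSet D) {x c : G} (hx : x ∈ D) (hc : c ∈ D) (n : ℤ) :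
    (x * c) ^ n * c ∈ D := by
  have hxx := ri_sq hD hx
  have hcc := ri_sq hD hc
  obtain ⟨k, rfl | rfl⟩ := Int.even_or_odd' n
  · have e : (x * c) ^ (2 * k) * c = (x * c) ^ k * c * ((x * c) ^ k)⁻¹ := by
      rw [← zpow_neg, mul_assoc, ri4_c_swap hxx hcc, neg_neg, ← mul_assoc, ← zpow_add, two_mul]
    rw [e]
    exact hD.conj_mem c hc _
  · have e : (x * c) ^ (2 * k + 1) * c = (x * c) ^ k * x * ((x * c) ^ k)⁻¹ := by
      rw [← zpow_neg, mul_assoc ((x * c) ^ k), inv_swap hxx hcc, neg_neg, ← mul_assoc,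
        ← zpow_add, zpow_add_one, two_mul, mul_assoc ((x * c) ^ (k + k)), mul_assoc x c c, hcc,
        mul_one]
    rw [e]
    exact hD.conj_mem x hx _

theorem ri4_conj_x {x c : G} (hx : x * x = 1) (hc : c * c = 1) (n : ℤ) :
    x * ((x * c) ^ n * c) * x⁻¹ = (x * c) ^ (2 - n) * c := by
  have hxi : x⁻¹ = x := inv_eq_of_mul_eq_one_left hx
  have e : (2 : ℤ) - n = -n + 1 + 1 := by ring
  rw [hxi, e, zpow_add_one, zpow_add_one, ← mul_assoc x, inv_swap hx hc]
  simp only [mul_assoc]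
  rw [hc, mul_one]

theorem ri4_conj_c {x c : G} (hx : x * x = 1) (hc : c * c = 1) (n : ℤ) :
    c * ((x * c) ^ n * c) * c⁻¹ = (x * c) ^ (-n) * c := by
  rw [mul_assoc c, mul_inv_cancel_right, ri4_c_swap hx hc]

theorem ri4_swap_refl {x c : G} (hx : x * x = 1) (hc : c * c = 1) (m : ℤ) :
    (c * x) ^ m * x = (x * c) ^ (1 - m) * c := by
  have e : c * x = (x * c)⁻¹ := by
    rw [mul_inv_rev, inv_eq_of_mul_eq_one_left hx, inv_eq_of_mul_eq_one_left hc]
  have e2 : (1 : ℤ) - m = -m + 1 := by ring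
  rw [e, inv_zpow', e2, zpow_add_one, mul_assoc, mul_assoc x c c, hc, mul_one]

/-! ### The configuration `(y; x, c)` -/

/-- For commuting `y`, `c` with `y c ∈ D`, and `x` adjacent to `c` with `x y` of order 4, the
product of `c` with `(x y)²` has order 4. -/
theorem ri4_ruleB (hD : IsRootInvolutionSet D) {y x c : G} (hy : y ∈ D) (hx : x ∈ D)
    (hc : c ∈ D) (hyc : y * c = c * y) (hxy : orderOf (x * y) = 4) (hcx : OddAdj D c x) :
    orderOf (c * (x * y) ^ 2) = 4 := by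
  have hs := ri3_sq_mem hD hx hy hxy
  have hxs : x * (x * y) ^ 2 = (x * y) ^ 2 * x := ri3_sq_comm_left hD hx hy hxy
  have hxsD : x * (x * y) ^ 2 ∈ D := by
    rw [ri3_left_mul_sq hD hx hy]
    exact hD.conj_mem x hx y
  have hsy : (x * y) ^ 2 * y = y * (x * y) ^ 2 := ri3_sq_comm_right hD hx hy hxy
  have hsyD : (x * y) ^ 2 * y ∈ D := by
    rw [ri3_sq_mul_right hD hx hy]
    exact hD.conj_mem y hy x
  rcases ri3_tri hD hc hs with h | h | h
  · exact absurd (line_no_commute hD hx hs hc hxs hxsD hcx.2.2.1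
      (by rw [orderOf_mul_swap]; exact hcx.2.2.2) h.symm) id
  · exact absurd (line_no_commute hD hs hy hc hsy hsyD h.2.2.1
      (by rw [orderOf_mul_swap]; exact h.2.2.2) hyc) id
  · exact h.1

theorem ri4_L4_step (hD : IsRootInvolutionSet D) {y x c : G} (hy : y ∈ D) (hx : x ∈ D)
    (hc : c ∈ D) (hxy : orderOf (x * y) = 4) (m : ℤ)
    (h1 : ¬ OddAdj D y ((x * c) ^ (-m) * c))
    (h2 : ¬ OddAdj D ((x * y) ^ 2) ((x * c) ^ (-m) * c)) :
    ¬ OddAdj D y ((x * c) ^ (m + 2) * c) := by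
  intro h
  have hxx := ri_sq hD hx
  have hcc := ri_sq hD hc
  have h3 := oddAdj_conj hD h x
  have e : (2 : ℤ) - (m + 2) = -m := by ring
  rw [ri4_conj_x hxx hcc, e] at h3
  have huv : x * y * x⁻¹ * y = y * (x * y * x⁻¹) := by
    rw [ri3_mul_conj hD y hx, sq_swap hD hx hy hxy, ri_inv hD hx, pow_two]
    simp only [mul_assoc]
  have huvE : x * y * x⁻¹ * y = (x * y) ^ 2 := by
    rw [ri_inv hD hx, pow_two]
    simp only [mul_assoc]
  have huvD : x * y * x⁻¹ * y ∈ D := by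
    rw [huvE]
    exact ri3_sq_mem hD hx hy hxy
  rcases line_lemma hD (hD.conj_mem y hy x) hy huv huvD h3 with h4 | h4
  · exact h1 h4
  · rw [huvE] at h4
    exact h2 h4

theorem ri4_L4_nat (hD : IsRootInvolutionSet D) : ∀ k : ℕ, ∀ y x c : G, y ∈ D → x ∈ D →
    c ∈ D → y * c = c * y → y * c ∈ D → orderOf (x * y) = 4 → OddAdj D c x →
    ¬ OddAdj D y ((x * c) ^ (k : ℤ) * c) ∧ ¬ OddAdj D y ((x * c) ^ (-(k : ℤ)) * c) := by
  intro k
  induction k using Nat.strong_induction_on with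
  | _ k ih =>
    intro y x c hy hx hc hyc hycD hxy hcx
    have hxx := ri_sq hD hx
    have hcc := ri_sq hD hc
    have hpos : ¬ OddAdj D y ((x * c) ^ (k : ℤ) * c) := by
      rcases Nat.lt_or_ge k 2 with hk | hk
      · interval_cases k
        · rw [Nat.cast_zero, zpow_zero, one_mul]
          intro h
          exact ri3_not_comm_of_oddAdj hD h hyc
        · rw [Nat.cast_one, zpow_one, mul_assoc, hcc, mul_one]
          intro h
          exact ri3_not_four_of_oddAdj h (ri3_four_swap hxy)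
      · obtain ⟨j, rfl⟩ := Nat.exists_eq_add_of_le hk
        have e : ((2 + j : ℕ) : ℤ) = (j : ℤ) + 2 := by
          push_cast
          ring
        rw [e]
        have hs := ri3_sq_mem hD hx hy hxy
        have hsx : (x * y) ^ 2 * x = x * (x * y) ^ 2 := (ri3_sq_comm_left hD hx hy hxy).symm
        have hsxD : (x * y) ^ 2 * x ∈ D := by
          rw [ri3_sq_mul_left hD hx hy hxy]
          exact hD.conj_mem x hx y
        have hcs := ri4_ruleB hD hy hx hc hyc hxy hcx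
        have i1 := (ih j (by omega) y x c hy hx hc hyc hycD hxy hcx).2
        have i2 := (ih (j + 1) (by omega) ((x * y) ^ 2) c x hs hc hx hsx hsxD hcs
          (oddAdj_symm hcx)).1
        have e2 : (1 : ℤ) - ((j + 1 : ℕ) : ℤ) = -(j : ℤ) := by
          push_cast
          ring
        rw [ri4_swap_refl hxx hcc, e2] at i2
        exact ri4_L4_step hD hy hx hc hxy (j : ℤ) i1 i2
    refine ⟨hpos, ?_⟩
    intro h
    apply hpos
    have h1 := oddAdj_conj hD h c
    rw [ri4_conj_c hxx hcc, neg_neg] at h1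
    have e : c * y * c⁻¹ = y := by rw [← hyc, mul_inv_cancel_right]
    rw [e] at h1
    exact h1

/-- In the configuration `(y; x, c)`, the element `y` is adjacent to no reflection of the
dihedral group generated by `x` and `c`. -/
theorem ri4_L4 (hD : IsRootInvolutionSet D) {y x c : G} (hy : y ∈ D) (hx : x ∈ D)
    (hc : c ∈ D) (hyc : y * c = c * y) (hycD : y * c ∈ D) (hxy : orderOf (x * y) = 4)
    (hcx : OddAdj D c x) (n : ℤ) : ¬ OddAdj D y ((x * c) ^ n * c) := by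
  rcases Int.natAbs_eq n with h | h
  · rw [h]
    exact (ri4_L4_nat hD n.natAbs y x c hy hx hc hyc hycD hxy hcx).1
  · rw [h]
    exact (ri4_L4_nat hD n.natAbs y x c hy hx hc hyc hycD hxy hcx).2

/-! ### The conjugates of `y` under the rotations -/

/-- The conjugate of `y` by the `j`-th power of `x c`. -/
def ri4Y (x c y : G) (j : ℤ) : G := (x * c) ^ j * y * (x * c) ^ (-j)

theorem ri4Y_mem (hD : IsRootInvolutionSet D) (x c : G) {y : G} (hy : y ∈ D) (j : ℤ) :
    ri4Y x c y j ∈ D := by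
  unfold ri4Y
  rw [zpow_neg]
  exact hD.conj_mem y hy _

theorem ri4_y_comm_Y (hD : IsRootInvolutionSet D) {y x c : G} (hy : y ∈ D) (hx : x ∈ D)
    (hc : c ∈ D) (hyc : y * c = c * y) (hycD : y * c ∈ D) (hxy : orderOf (x * y) = 4)
    (hcx : OddAdj D c x) (n : ℤ) : y * ri4Y x c y n = ri4Y x c y n * y := by
  have hr := ri4_refl_mem hD hx hc n
  have hna := ri4_L4 hD hy hx hc hyc hycD hxy hcx n
  have h1 := ri3_comm_conj_of_not_adj hD hy hr hna
  have e : (x * c) ^ n * c * y * ((x * c) ^ n * c)⁻¹ = ri4Y x c y n := by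
    unfold ri4Y
    rw [mul_inv_rev, ← zpow_neg, ri_inv hD hc]
    have hcyc : c * y * c = y := by rw [← hyc, mul_assoc, ri_sq hD hc, mul_one]
    calc (x * c) ^ n * c * y * (c * (x * c) ^ (-n))
        = (x * c) ^ n * (c * y * c) * (x * c) ^ (-n) := by simp only [mul_assoc]
      _ = (x * c) ^ n * y * (x * c) ^ (-n) := by rw [hcyc]
  rw [e] at h1
  exact h1

theorem ri4_conj_comm {g a b : G} (h : a * b = b * a) :
    (g * a * g⁻¹) * (g * b * g⁻¹) = (g * b * g⁻¹) * (g * a * g⁻¹) := by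
  calc (g * a * g⁻¹) * (g * b * g⁻¹) = g * (a * b) * g⁻¹ := by group
    _ = g * (b * a) * g⁻¹ := by rw [h]
    _ = (g * b * g⁻¹) * (g * a * g⁻¹) := by group

theorem ri4Y_conj (x c y : G) (i j : ℤ) :
    (x * c) ^ i * ri4Y x c y j * ((x * c) ^ i)⁻¹ = ri4Y x c y (i + j) := by
  unfold ri4Y
  rw [neg_add_rev, zpow_add, zpow_add, ← zpow_neg]
  simp only [mul_assoc]

theorem ri4Y_comm (hD : IsRootInvolutionSet D) {y x c : G} (hy : y ∈ D) (hx : x ∈ D)
    (hc : c ∈ D) (hyc : y * c = c * y) (hycD : y * c ∈ D) (hxy : orderOf (x * y) = 4)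
    (hcx : OddAdj D c x) (i j : ℤ) : Commute (ri4Y x c y i) (ri4Y x c y j) := by
  have h1 := ri4_y_comm_Y hD hy hx hc hyc hycD hxy hcx (j - i)
  have e : i + (j - i) = j := by ring
  have hj : ri4Y x c y j = (x * c) ^ i * ri4Y x c y (j - i) * ((x * c) ^ i)⁻¹ := by
    rw [ri4Y_conj, e]
  have hi : ri4Y x c y i = (x * c) ^ i * y * ((x * c) ^ i)⁻¹ := by
    unfold ri4Y
    rw [zpow_neg]
  show ri4Y x c y i * ri4Y x c y j = ri4Y x c y j * ri4Y x c y i
  rw [hj, hi]
  exact ri4_conj_comm h1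

theorem ri4Y_conj_c (hD : IsRootInvolutionSet D) {y x c : G} (hx : x ∈ D) (hc : c ∈ D)
    (hyc : y * c = c * y) (j : ℤ) : c * ri4Y x c y j * c⁻¹ = ri4Y x c y (-j) := by
  unfold ri4Y
  have hxx := ri_sq hD hx
  have hcc := ri_sq hD hc
  rw [ri_inv hD hc, neg_neg]
  have e1 := ri4_c_swap hxx hcc j
  have hcyc : c * y * c = y := by rw [← hyc, mul_assoc, hcc, mul_one]
  calc c * ((x * c) ^ j * y * (x * c) ^ (-j)) * c
      = (c * (x * c) ^ j) * y * ((x * c) ^ (-j) * c) := by simp only [mul_assoc]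
    _ = ((x * c) ^ (-j) * c) * y * (c * (x * c) ^ j) := by rw [← e1]
    _ = (x * c) ^ (-j) * (c * y * c) * (x * c) ^ j := by simp only [mul_assoc]
    _ = (x * c) ^ (-j) * y * (x * c) ^ j := by rw [hcyc]

/-- The products `y₋ₙ ⋯ y₋₁ y y₁ ⋯ yₙ`. -/
def ri4B (x c y : G) : ℕ → G
  | 0 => y
  | n + 1 => ri4Y x c y (-((n : ℤ) + 1)) * ri4B x c y n * ri4Y x c y ((n : ℤ) + 1)

theorem ri4B_comm (hD : IsRootInvolutionSet D) {y x c : G} (hy : y ∈ D) (hx : x ∈ D)
    (hc : c ∈ D) (hyc : y * c = c * y) (hycD : y * c ∈ D) (hxy : orderOf (x * y) = 4)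
    (hcx : OddAdj D c x) (n : ℕ) (j : ℤ) : Commute (ri4B x c y n) (ri4Y x c y j) := by
  induction n with
  | zero =>
    show y * ri4Y x c y j = ri4Y x c y j * y
    exact ri4_y_comm_Y hD hy hx hc hyc hycD hxy hcx j
  | succ n ih =>
    show Commute (ri4Y x c y (-((n : ℤ) + 1)) * ri4B x c y n * ri4Y x c y ((n : ℤ) + 1))
      (ri4Y x c y j)
    exact ((ri4Y_comm hD hy hx hc hyc hycD hxy hcx _ j).mul_left ih).mul_left
      (ri4Y_comm hD hy hx hc hyc hycD hxy hcx _ j)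

theorem ri4B_sq (hD : IsRootInvolutionSet D) {y x c : G} (hy : y ∈ D) (hx : x ∈ D)
    (hc : c ∈ D) (hyc : y * c = c * y) (hycD : y * c ∈ D) (hxy : orderOf (x * y) = 4)
    (hcx : OddAdj D c x) (n : ℕ) : ri4B x c y n * ri4B x c y n = 1 := by
  induction n with
  | zero => exact ri_sq hD hy
  | succ n ih =>
    show ri4Y x c y (-((n : ℤ) + 1)) * ri4B x c y n * ri4Y x c y ((n : ℤ) + 1) *
      (ri4Y x c y (-((n : ℤ) + 1)) * ri4B x c y n * ri4Y x c y ((n : ℤ) + 1)) = 1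
    have hA := ri_sq hD (ri4Y_mem hD x c hy (-((n : ℤ) + 1)))
    have hC := ri_sq hD (ri4Y_mem hD x c hy ((n : ℤ) + 1))
    have hBA := ri4B_comm hD hy hx hc hyc hycD hxy hcx n (-((n : ℤ) + 1))
    have hBC := ri4B_comm hD hy hx hc hyc hycD hxy hcx n ((n : ℤ) + 1)
    have hAC := ri4Y_comm hD hy hx hc hyc hycD hxy hcx (-((n : ℤ) + 1)) ((n : ℤ) + 1)
    have h1 : Commute (ri4Y x c y (-((n : ℤ) + 1)) * ri4B x c y n) (ri4Y x c y ((n : ℤ) + 1)) :=
      hAC.mul_left hBC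
    rw [← pow_two, h1.mul_pow, hBA.symm.mul_pow, pow_two, pow_two, pow_two, hA, ih, hC, one_mul,
      one_mul]

theorem ri4B_step (ρ y W : G) (k : ℤ) :
    (ρ ^ (-(k + 1)) * y * ρ ^ (k + 1)) * (ρ ^ (-k) * W * ρ ^ (-(k + 1))) *
      (ρ ^ (k + 1) * y * ρ ^ (-(k + 1))) =
    ρ ^ (-(k + 1)) * ((y * ρ) * W * (y * ρ)) * ρ ^ (-(k + 1 + 1)) := by
  have e1 : ρ ^ (k + 1) * ρ ^ (-k) = ρ := by
    rw [← zpow_add]
    have : k + 1 + -k = 1 := by ring
    rw [this, zpow_one]
  have e2 : ρ ^ (-(k + 1)) * ρ ^ (k + 1) = 1 := by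
    rw [← zpow_add, neg_add_cancel, zpow_zero]
  have e3 : ρ ^ (-(k + 1 + 1)) = ρ⁻¹ * ρ ^ (-(k + 1)) := by
    have : -(k + 1 + 1) = -1 + -(k + 1) := by ring
    rw [this, zpow_add, zpow_neg, zpow_one]
  calc (ρ ^ (-(k + 1)) * y * ρ ^ (k + 1)) * (ρ ^ (-k) * W * ρ ^ (-(k + 1))) *
        (ρ ^ (k + 1) * y * ρ ^ (-(k + 1)))
      = ρ ^ (-(k + 1)) * y * (ρ ^ (k + 1) * ρ ^ (-k)) * W * (ρ ^ (-(k + 1)) * ρ ^ (k + 1)) * y *
          ρ ^ (-(k + 1)) := by simp only [mul_assoc]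
    _ = ρ ^ (-(k + 1)) * y * ρ * W * y * ρ ^ (-(k + 1)) := by rw [e1, e2, mul_one]
    _ = ρ ^ (-(k + 1)) * ((y * ρ) * W * (y * ρ)) * (ρ⁻¹ * ρ ^ (-(k + 1))) := by
      simp only [mul_assoc, mul_inv_cancel_left]
    _ = ρ ^ (-(k + 1)) * ((y * ρ) * W * (y * ρ)) * ρ ^ (-(k + 1 + 1)) := by rw [e3]

theorem ri4B_formula (x c y : G) (n : ℕ) :
    ri4B x c y n =
      (x * c) ^ (-(n : ℤ)) * (y * (x * c)) ^ (2 * n + 1) * (x * c) ^ (-((n : ℤ) + 1)) := by
  induction n with
  | zero =>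
    show y = _
    rw [Nat.cast_zero, neg_zero, zpow_zero, one_mul, mul_zero, zero_add, pow_one, zero_add,
      zpow_neg, zpow_one, mul_inv_cancel_right]
  | succ n ih =>
    show ri4Y x c y (-((n : ℤ) + 1)) * ri4B x c y n * ri4Y x c y ((n : ℤ) + 1) = _
    rw [ih]
    unfold ri4Y
    rw [neg_neg, ri4B_step]
    have e : ((n + 1 : ℕ) : ℤ) = (n : ℤ) + 1 := by push_cast; ring
    have e2 : 2 * (n + 1) + 1 = (2 * n + 1) + 1 + 1 := by ring
    have e3 : (y * (x * c)) ^ ((2 * n + 1) + 1 + 1) =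
        (y * (x * c)) * (y * (x * c)) ^ (2 * n + 1) * (y * (x * c)) := by
      rw [pow_succ (y * (x * c)) (2 * n + 1 + 1), pow_succ' (y * (x * c)) (2 * n + 1)]
    rw [e, e2, e3]

/-! ### Twins against the conjugates of `y` -/

theorem ri4_four_Y (hD : IsRootInvolutionSet D) {y x c : G} (hy : y ∈ D) (hx : x ∈ D)
    (hc : c ∈ D) (hyc : y * c = c * y) (hycD : y * c ∈ D) (hxy : orderOf (x * y) = 4)
    (hcx : OddAdj D c x) (j : ℤ) (hj : (x * c) ^ (j + j) ≠ 1) {t : G} (ht : t ∈ D)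
    (htw : ri3Tw D t c) : orderOf (t * ri4Y x c y j) = 4 := by
  have hxx := ri_sq hD hx
  have hcc := ri_sq hD hc
  obtain ⟨w, hw⟩ : ∃ w, w = (x * c) ^ (-j) := ⟨_, rfl⟩
  have hwi : w⁻¹ = (x * c) ^ j := by rw [hw, zpow_neg, inv_inv]
  have hr : w * c * w⁻¹ = (x * c) ^ (-j + -j) * c := by
    rw [hwi, hw, mul_assoc, ri4_c_swap hxx hcc, ← mul_assoc, ← zpow_add]
  have hrD : (x * c) ^ (-j + -j) * c ∈ D := ri4_refl_mem hD hx hc _
  have hrc : (x * c) ^ (-j + -j) * c ≠ c := by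
    intro h
    apply hj
    have h1 : (x * c) ^ (-j + -j) = 1 := mul_right_cancel (h.trans (one_mul c).symm)
    rw [← neg_add, zpow_neg, inv_eq_one] at h1
    exact h1
  have hoddρ : Odd (orderOf (x * c)) := by
    rw [orderOf_mul_swap]
    exact hcx.2.2.2
  have hcr : OddAdj D c ((x * c) ^ (-j + -j) * c) := by
    refine ⟨hc, hrD, hrc.symm, ?_⟩
    have e : c * ((x * c) ^ (-j + -j) * c) = (x * c) ^ (-(-j + -j)) := by
      rw [← mul_assoc, ri4_c_swap hxx hcc, mul_assoc, hcc, mul_one]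
    rw [e]
    apply Odd.of_dvd_nat hoddρ
    apply orderOf_dvd_of_pow_eq_one
    rw [← zpow_natCast, ← zpow_mul, mul_comm, zpow_mul, zpow_natCast, pow_orderOf_eq_one,
      one_zpow]
  have hyr1 : ¬ OddAdj D y ((x * c) ^ (-j + -j) * c) :=
    ri4_L4 hD hy hx hc hyc hycD hxy hcx _
  have hcy : c * y = y * c := hyc.symm
  have hcyD : c * y ∈ D := by
    rw [hcy]
    exact hycD
  have htD : w * t * w⁻¹ ∈ D := hD.conj_mem t ht w
  have htw' : ri3Tw D (w * t * w⁻¹) ((x * c) ^ (-j + -j) * c) := by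
    have h0 := ri3Tw_conj hD htw w
    rw [hr] at h0
    exact h0
  have h1 : ¬ OddAdj D (w * t * w⁻¹) y := fun h => hyr1 (oddAdj_symm ((htw' y).mp h))
  have h2 : OddAdj D c (w * t * w⁻¹) := oddAdj_symm ((htw' c).mpr (oddAdj_symm hcr))
  have h3 : w * t * w⁻¹ * y ≠ y * (w * t * w⁻¹) := by
    intro h
    exact line_no_commute hD hc hy htD hcy hcyD h2.2.2.1.symm h2.2.2.2 h.symm
  have h4 := ri3_four_of_not hD htD hy h1 h3
  have e : t * ri4Y x c y j = MulAut.conj w⁻¹ (w * t * w⁻¹ * y) := by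
    rw [MulAut.conj_apply, inv_inv]
    unfold ri4Y
    rw [← hwi, ← hw]
    group
  rw [e, MulEquiv.orderOf_eq]
  exact h4

theorem ri4_pair_comm [Finite G] (hD : IsRootInvolutionSet D)
    (hcl : ∀ a ∈ D, ∀ b ∈ D, ∃ g : G, b = g * a * g⁻¹) {y x c e : G} (hy : y ∈ D)
    (hx : x ∈ D) (hc : c ∈ D) (hyc : y * c = c * y) (hycD : y * c ∈ D)
    (hxy : orderOf (x * y) = 4) (hcx : OddAdj D c x) (he : e ∈ D) (hetw : ri3Tw D e c)
    (hec : e * c = c * e) (j : ℤ) (hj : (x * c) ^ (j + j) ≠ 1) :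
    Commute e (ri4Y x c y (-j) * ri4Y x c y j) := by
  have hYD := ri4Y_mem hD x c hy j
  have h4 : ∀ t ∈ D, ri3Tw D t c → orderOf (t * ri4Y x c y j) = 4 := fun t ht htw =>
    ri4_four_Y hD hy hx hc hyc hycD hxy hcx j hj ht htw
  have h1 := ri3_L3 hD hcl hYD h4 he hetw hc (ri3Tw_refl c)
  have e1 : ri4Y x c y (-j) * ri4Y x c y j =
      c * (ri4Y x c y j * c * (ri4Y x c y j)⁻¹) := by
    rw [← ri4Y_conj_c hD hx hc hyc j, ri_inv hD hc, ri_inv hD hYD]
    simp only [mul_assoc]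
  rw [e1]
  exact Commute.mul_right (show Commute e c from hec) h1

/-- The final contradiction: in the configuration `(y; x, c)` every twin of `c` commuting with
`c` commutes with `y`. -/
theorem ri4_final [Finite G] (hD : IsRootInvolutionSet D)
    (hcl : ∀ a ∈ D, ∀ b ∈ D, ∃ g : G, b = g * a * g⁻¹) {y x c e : G} (hy : y ∈ D)
    (hx : x ∈ D) (hc : c ∈ D) (hyc : y * c = c * y) (hycD : y * c ∈ D)
    (hxy : orderOf (x * y) = 4) (hcx : OddAdj D c x) (he : e ∈ D) (hetw : ri3Tw D e c)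
    (hec : e * c = c * e) : e * y = y * e := by
  have hoddρ : Odd (orderOf (x * c)) := by
    rw [orderOf_mul_swap]
    exact hcx.2.2.2
  obtain ⟨h, hh⟩ := hoddρ
  have hcy : c * y = y * c := hyc.symm
  have hcyD : c * y ∈ D := by
    rw [hcy]
    exact hycD
  have hpair : ∀ j : ℕ, j < h →
      Commute e (ri4Y x c y (-((j : ℤ) + 1)) * ri4Y x c y ((j : ℤ) + 1)) := by
    intro j hjh
    apply ri4_pair_comm hD hcl hy hx hc hyc hycD hxy hcx he hetw hec
    intro h1
    have h2 : (x * c) ^ (2 * (j + 1)) = 1 := by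
      rw [← zpow_natCast]
      have e : ((2 * (j + 1) : ℕ) : ℤ) = ((j : ℤ) + 1) + ((j : ℤ) + 1) := by
        push_cast
        ring
      rw [e]
      exact h1
    have h3 := orderOf_dvd_of_pow_eq_one h2
    rw [hh] at h3
    have h5 := Nat.le_of_dvd (by omega) h3
    omega
  have hBe : ∀ n : ℕ, n ≤ h → Commute e (ri4B x c y n * y) := by
    intro n
    induction n with
    | zero =>
      intro _
      show Commute e (y * y)
      rw [ri_sq hD hy]
      exact Commute.one_right e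
    | succ n ih =>
      intro hn
      have h1 := ih (by omega)
      have h2 := hpair n (by omega)
      have h3 := ri4B_comm hD hy hx hc hyc hycD hxy hcx n ((n : ℤ) + 1)
      have e1 : ri4B x c y (n + 1) * y =
          (ri4Y x c y (-((n : ℤ) + 1)) * ri4Y x c y ((n : ℤ) + 1)) * (ri4B x c y n * y) := by
        show ri4Y x c y (-((n : ℤ) + 1)) * ri4B x c y n * ri4Y x c y ((n : ℤ) + 1) * y = _
        calc ri4Y x c y (-((n : ℤ) + 1)) * ri4B x c y n * ri4Y x c y ((n : ℤ) + 1) * y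
            = ri4Y x c y (-((n : ℤ) + 1)) * (ri4B x c y n * ri4Y x c y ((n : ℤ) + 1)) * y := by
              simp only [mul_assoc]
          _ = ri4Y x c y (-((n : ℤ) + 1)) * (ri4Y x c y ((n : ℤ) + 1) * ri4B x c y n) * y := by
              rw [h3.eq]
          _ = _ := by simp only [mul_assoc]
      rw [e1]
      exact Commute.mul_right h2 h1
  have hB := hBe h le_rfl
  have hoddyρ : Odd (orderOf (y * (x * c))) := by
    rcases line_lemma hD hc hy hcy hcyD hcx with h1 | h1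
    · exact absurd (ri3_four_swap hxy) (ri3_not_four_of_oddAdj h1)
    · have e : y * (x * c) = y * x * c := by rw [mul_assoc]
      rw [e, orderOf_mul_swap c (y * x), ← mul_assoc]
      exact h1.2.2.2
  have hρh : (x * c) ^ (-((h : ℤ) + 1)) = (x * c) ^ (h : ℤ) := by
    have e : -((h : ℤ) + 1) = (h : ℤ) + -((2 * h + 1 : ℕ) : ℤ) := by
      push_cast
      ring
    rw [e, zpow_add, zpow_neg, zpow_natCast (x * c) (2 * h + 1), ← hh, pow_orderOf_eq_one,
      inv_one, mul_one]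
  have hform := ri4B_formula x c y h
  rw [hρh] at hform
  have hconj : ri4B x c y h =
      MulAut.conj ((x * c) ^ (-(h : ℤ))) ((y * (x * c)) ^ (2 * h + 1)) := by
    rw [MulAut.conj_apply, hform, ← zpow_neg, neg_neg]
  have hodd : Odd (orderOf (ri4B x c y h)) := by
    rw [hconj, MulEquiv.orderOf_eq]
    exact Odd.of_dvd_nat hoddyρ (orderOf_pow_dvd _)
  have hsq := ri4B_sq hD hy hx hc hyc hycD hxy hcx h
  have hB1 : ri4B x c y h = 1 :=
    eq_one_of_odd_of_pow hodd (k := 1) (by rw [pow_one, pow_two]; exact hsq)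
  rw [hB1, one_mul] at hB
  exact hB.eq

/-- Twins commute with the same members of `D`. -/
theorem ri4_comm_of_tw [Finite G] (hD : IsRootInvolutionSet D)
    (hcl : ∀ a ∈ D, ∀ b ∈ D, ∃ g : G, b = g * a * g⁻¹) {d e y : G} (he : e ∈ D)
    (htw : ri3Tw D d e) (hy : y ∈ D) (hyd : y * d = d * y) : y * e = e * y := by
  by_contra hne
  have hna : ¬ OddAdj D e y := by
    intro h
    exact ri3_not_comm_of_oddAdj hD ((htw y).mpr h) hyd.symm
  have hne' : e * y ≠ y * e := fun h => hne h.symm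
  have h4 : orderOf (e * y) = 4 := ri3_four_of_not hD he hy hna hne'
  have hcD : (e * y) ^ 2 ∈ D := ri3_sq_mem hD he hy h4
  have htw1 : ri3Tw D (y * e * y⁻¹) e := by
    have h1 : ri3Tw D (y * e * y⁻¹) d := ri3Tw_conj_fix hD (ri3Tw_symm htw) hyd
    exact ri3Tw_trans h1 htw
  have hctw : ri3Tw D ((e * y) ^ 2) e := ri3_tw_sq hD hcl he hy h4 htw1
  obtain ⟨c, hcdef⟩ : ∃ c, c = (e * y) ^ 2 := ⟨_, rfl⟩
  rw [← hcdef] at hcD hctw
  have hyc : y * c = c * y := by
    rw [hcdef]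
    exact (ri3_sq_comm_right hD he hy h4).symm
  have hycD : y * c ∈ D := by
    rw [hcdef, ri3_right_mul_sq hD he hy h4]
    exact hD.conj_mem y hy e
  have hec : e * c = c * e := by
    rw [hcdef]
    exact ri3_sq_comm_left hD he hy h4
  have hcy : c * y = y * c := hyc.symm
  have hcyD : c * y ∈ D := by
    rw [hcy]
    exact hycD
  have hex : ∃ x, OddAdj D c x ∧ orderOf (x * y) = 4 := by
    by_contra hno
    have hno' : ∀ x, OddAdj D c x → orderOf (x * y) ≠ 4 := fun x hx h => hno ⟨x, hx, h⟩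
    have hsub : ri3A D c ⊆ ri3A D y := by
      intro x hx
      have hxD := hx.2.1
      rcases ri3_tri hD hxD hy with h | h | h
      · exact absurd (line_no_commute hD hcD hy hxD hcy hcyD hx.2.2.1.symm hx.2.2.2 h.symm) id
      · exact oddAdj_symm h
      · exact absurd h.1 (hno' x hx)
    obtain ⟨g, hg⟩ := hcl c hcD y hy
    have hcard : (ri3A D y).ncard ≤ (ri3A D c).ncard := by
      rw [hg, ri3_ncard_conj hD]
    have heq := Set.eq_of_subset_of_ncard_le hsub hcard (Set.toFinite _)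
    have hytw : ri3Tw D y c := by
      intro z
      show z ∈ ri3A D y ↔ z ∈ ri3A D c
      rw [heq]
    exact hne (ri3_L2 hD hcl hy he (ri3Tw_trans hytw hctw))
  obtain ⟨x, hcx, hxy⟩ := hex
  exact hne' (ri4_final hD hcl hy hcx.2.1 hcD hyc hycD hxy hcx he (ri3Tw_symm hctw) hec)

end RootInv4

end Cfsg.Agent.Lib.helper85
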