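import Mathlib

/-!
S6000, sub-lemma for AELT2 (requested by helper62): a double count of commuting pairs.
-/

set_option autoImplicit false

namespace Cfsg.Agent.Lib.helper89.S60

theorem h85_half_count {X : Type*} [Fintype X] (P : X → Prop) [DecidablePred P] (f f' : X → X)
    (hf : ∀ x, ¬ P x → P (f x)) (hf' : ∀ x, P x → ¬ P (f' x))
    (h1 : ∀ x, f' (f x) = x) (h2 : ∀ x, f (f' x) = x) :
    2 * (Finset.univ.filter P).card = Fintype.card X := by
  classical
  have hbij : (Finset.univ.filter (fun x => ¬ P x)).card = (Finset.univ.filter P).card := by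
    apply Finset.card_bij' (fun x _ => f x) (fun x _ => f' x)
    · intro x hx
      rw [Finset.mem_filter] at hx ⊢
      exact ⟨Finset.mem_univ _, hf x hx.2⟩
    · intro x hx
      rw [Finset.mem_filter] at hx ⊢
      exact ⟨Finset.mem_univ _, hf' x hx.2⟩
    · intro x _
      exact h1 x
    · intro x _
      exact h2 x
  have hsum := Finset.card_filter_add_card_filter_not (s := (Finset.univ : Finset X)) P
  rw [Finset.card_univ] at hsum
  omega

theorem h85_comm_count {G : Type*} [Group G] [Finite G] (T : Subgroup G) (hZ : Subgroup.center G ≤ T)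
    (H1 : ∀ t ∈ T, ∀ g h : G, ¬ Commute t g → ¬ Commute t h → Commute t (g⁻¹ * h))
    (H2 : ∀ g : G, ∀ s ∈ T, ∀ t ∈ T, ¬ Commute s g → ¬ Commute t g → Commute (s⁻¹ * t) g) :
    Nat.card (Subgroup.center G) * Nat.card G =
      Nat.card (Subgroup.centralizer (T : Set G)) * Nat.card T := by
  classical
  haveI := Fintype.ofFinite G
  -- rows
  have hA : ∀ t : T, 2 * (Finset.univ.filter (fun g : G => Commute (t : G) g)).card =
      Fintype.card G * (1 + if (t : G) ∈ Subgroup.center G then 1 else 0) := by
    intro t
    by_cases ht : (t : G) ∈ Subgroup.center G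
    · rw [if_pos ht]
      have hall : (Finset.univ.filter (fun g : G => Commute (t : G) g)) = Finset.univ := by
        apply Finset.filter_true_of_mem
        intro g _
        exact ((Subgroup.mem_center_iff.mp ht) g).symm
      rw [hall, Finset.card_univ]
      ring
    · rw [if_neg ht, add_zero, mul_one]
      have hex : ∃ g₀ : G, ¬ Commute (t : G) g₀ := by
        by_contra hcon
        push_neg at hcon
        apply ht
        rw [Subgroup.mem_center_iff]
        intro g
        exact (hcon g).symm
      obtain ⟨g₀, hg₀⟩ := hex
      apply h85_half_count (fun g : G => Commute (t : G) g) (fun x => g₀⁻¹ * x) (fun x => g₀ * x)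
      · intro x hx
        exact H1 t t.2 g₀ x hg₀ hx
      · intro x hx hc
        apply hg₀
        have h3 : g₀ = (g₀ * x) * x⁻¹ := by group
        rw [h3]
        exact hc.mul_right hx.inv_right
      · intro x
        exact mul_inv_cancel_left g₀ x
      · intro x
        exact inv_mul_cancel_left g₀ x
  -- columns
  have hB : ∀ g : G, 2 * (Finset.univ.filter (fun t : T => Commute (t : G) g)).card =
      Fintype.card T * (1 + if g ∈ Subgroup.centralizer (T : Set G) then 1 else 0) := by
    intro g
    by_cases hg : g ∈ Subgroup.centralizer (T : Set G)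
    · rw [if_pos hg]
      have hall : (Finset.univ.filter (fun t : T => Commute (t : G) g)) = Finset.univ := by
        apply Finset.filter_true_of_mem
        intro t _
        exact (Subgroup.mem_centralizer_iff.mp hg) t t.2
      rw [hall, Finset.card_univ]
      ring
    · rw [if_neg hg, add_zero, mul_one]
      have hex : ∃ s₀ : T, ¬ Commute (s₀ : G) g := by
        by_contra hcon
        push_neg at hcon
        apply hg
        rw [Subgroup.mem_centralizer_iff]
        intro h hh
        exact hcon ⟨h, hh⟩
      obtain ⟨s₀, hs₀⟩ := hex
      apply h85_half_count (fun t : T => Commute (t : G) g) (fun x => s₀⁻¹ * x) (fun x => s₀ * x)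
      · intro x hx
        have h3 := H2 g s₀ s₀.2 x x.2 hs₀ hx
        simpa using h3
      · intro x hx hc
        apply hs₀
        have h3 : (s₀ : G) = ((s₀ * x : T) : G) * (x : G)⁻¹ := by
          rw [Subgroup.coe_mul]
          group
        rw [h3]
        exact hc.mul_left hx.inv_left
      · intro x
        exact mul_inv_cancel_left s₀ x
      · intro x
        exact inv_mul_cancel_left s₀ x
  -- double count
  have hswap : (∑ t : T, (Finset.univ.filter (fun g : G => Commute (t : G) g)).card) =
      ∑ g : G, (Finset.univ.filter (fun t : T => Commute (t : G) g)).card := by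
    simp only [Finset.card_filter]
    exact Finset.sum_comm
  have hcZ : (∑ t : T, if (t : G) ∈ Subgroup.center G then 1 else 0) =
      Nat.card (Subgroup.center G) := by
    rw [← Finset.card_filter]
    have e : {t : T // (t : G) ∈ Subgroup.center G} ≃ Subgroup.center G :=
      (Subgroup.subgroupOfEquivOfLe hZ).toEquiv
    rw [← Nat.card_congr e, Nat.card_eq_fintype_card, Fintype.card_subtype]
  have hcC : (∑ g : G, if g ∈ Subgroup.centralizer (T : Set G) then 1 else 0) =
      Nat.card (Subgroup.centralizer (T : Set G)) := by
    rw [← Finset.card_filter, Nat.card_eq_fintype_card, Fintype.card_subtype]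
  have h1 : 2 * (∑ t : T, (Finset.univ.filter (fun g : G => Commute (t : G) g)).card) =
      Fintype.card G * (Fintype.card T + Nat.card (Subgroup.center G)) := by
    rw [Finset.mul_sum, Finset.sum_congr rfl (fun t _ => hA t), ← Finset.mul_sum,
      Finset.sum_add_distrib, hcZ, Finset.sum_const, Finset.card_univ, smul_eq_mul, mul_one]
  have h2 : 2 * (∑ g : G, (Finset.univ.filter (fun t : T => Commute (t : G) g)).card) =
      Fintype.card T * (Fintype.card G + Nat.card (Subgroup.centralizer (T : Set G))) := by
    rw [Finset.mul_sum, Finset.sum_congr rfl (fun g _ => hB g), ← Finset.mul_sum,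
      Finset.sum_add_distrib, hcC, Finset.sum_const, Finset.card_univ, smul_eq_mul, mul_one]
  rw [hswap, h2] at h1
  rw [Nat.card_eq_fintype_card (α := G), Nat.card_eq_fintype_card (α := T)]
  nlinarith [h1]

end Cfsg.Agent.Lib.helper89.S60
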