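import Mathlib
import Cfsg.Agent.Lib.helper24.S6eDefs
import Cfsg.Agent.Lib.helper63.Elusive1

/-! S6002 piece B5F (helper85, racer copy): an element of order 5 of `GL_4(q)`, `q` of order 4
modulo 5, has no eigenvalue 1. -/

set_option autoImplicit false

namespace Cfsg.Agent.Lib.helper24

open Matrix Cfsg Cfsg.Geo

/-- B5F (racer copy) -/
theorem h85_s6_five_no_fix {F : Type*} [Field F] [Fintype F]
    (h4 : orderOf ((Fintype.card F : ℕ) : ZMod 5) = 4) (c : Matrix S6I S6I F) (hc : c ^ 5 = 1) (hc1 : c ≠ 1) :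
    (c - 1).det ≠ 0 := by
  classical
  have : Fact (Nat.Prime 5) := ⟨by norm_num⟩
  have hq : ((Fintype.card F : ℕ) : ZMod 5) ≠ 0 := by
    intro h0
    rw [h0] at h4
    have h5 : orderOf (0 : ZMod 5) = 0 := by
      rw [orderOf_eq_zero_iff]
      intro hfin
      obtain ⟨n, hn, hn1⟩ := isOfFinOrder_iff_pow_eq_one.mp hfin
      rw [zero_pow hn.ne'] at hn1
      exact zero_ne_one hn1
    omega
  obtain ⟨f, hfdef⟩ : ∃ f : (S6I → F) →ₗ[F] (S6I → F), f = Matrix.toLinAlgEquiv' c := ⟨_, rfl⟩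
  have hfv : ∀ v, f v = c *ᵥ v := by
    intro v
    rw [hfdef, Matrix.toLinAlgEquiv'_apply]
  have hf : f ^ 5 = 1 := by
    rw [hfdef, ← map_pow, hc, map_one]
  have h := Cfsg.Agent.Lib.helper63.Elusive.orderOf_dvd_finrank_sub 5 hq f hf
  have hdim : Module.finrank F (S6I → F) = 4 := by
    rw [Module.finrank_fintype_fun_eq_card]
    rfl
  rw [h4, hdim] at h
  have hle : Module.finrank F (LinearMap.ker (f - 1)) ≤ 4 := by
    rw [← hdim]; exact Submodule.finrank_le _
  have hker : ∀ v, v ∈ LinearMap.ker (f - 1) ↔ (c - 1) *ᵥ v = 0 := by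
    intro v
    rw [LinearMap.mem_ker, LinearMap.sub_apply, hfv, Matrix.sub_mulVec, Matrix.one_mulVec]
    rfl
  rcases Nat.lt_or_ge (Module.finrank F (LinearMap.ker (f - 1))) 4 with hlt | hge
  · -- the kernel is trivial
    have hd0 : Module.finrank F (LinearMap.ker (f - 1)) = 0 := by
      obtain ⟨t, ht⟩ := h
      omega
    have hbot : LinearMap.ker (f - 1) = ⊥ := Submodule.finrank_eq_zero.mp hd0
    intro hdet
    obtain ⟨v, hv0, hv⟩ := Matrix.exists_mulVec_eq_zero_iff.mpr hdet
    have hvk : v ∈ LinearMap.ker (f - 1) := (hker v).mpr hv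
    rw [hbot, Submodule.mem_bot] at hvk
    exact hv0 hvk
  · -- the kernel is everything: `c = 1`
    exfalso
    have hd4 : Module.finrank F (LinearMap.ker (f - 1)) = Module.finrank F (S6I → F) := by
      rw [hdim]; omega
    have htop : LinearMap.ker (f - 1) = ⊤ := Submodule.eq_top_of_finrank_eq hd4
    apply hc1
    have hall : ∀ v, (c - 1) *ᵥ v = 0 := fun v => (hker v).mp (by rw [htop]; trivial)
    have hzero : c - 1 = 0 := by
      ext i j
      have := congrFun (hall (Pi.single j 1)) i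
      simpa using this
    exact sub_eq_zero.mp hzero

end Cfsg.Agent.Lib.helper24
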