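import Mathlib
import Cfsg.Prelude.Def_RootSubgroups
import Cfsg.Prelude.Def_Classical
import Cfsg.Agent.Lib.helper85.AlgRoot
import Cfsg.Agent.Lib.helper85.SLRoot
import Cfsg.Agent.Lib.helper85.RootSub7
import Cfsg.Agent.Lib.helper85.Line2
import Cfsg.Agent.Lib.helper85.Transfer

set_option autoImplicit false
set_option linter.unusedSimpArgs false
set_option linter.unusedSectionVars false

namespace Cfsg.Agent.Lib.helper85

open Matrix Cfsg

section UnitRoot

/-- Data making `x ↦ x ^ q` an involutive field automorphism that is not the identity. -/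
structure QData (F : Type*) [Field F] (q : ℕ) : Prop where
  add : ∀ x y : F, (x + y) ^ q = x ^ q + y ^ q
  invol : ∀ x : F, (x ^ q) ^ q = x
  ne : ∃ b : F, b ^ q ≠ b
  pos : q ≠ 0

variable {F : Type*} [Field F] {d : ℕ} {q : ℕ}

/-- The `q`-th power map as a ring homomorphism. -/
def QData.frob (h : QData F q) : F →+* F where
  toFun x := x ^ q
  map_one' := one_pow q
  map_mul' x y := mul_pow x y q
  map_zero' := zero_pow h.pos
  map_add' := h.add

theorem QData.frob_apply (h : QData F q) (x : F) : h.frob x = x ^ q := rfl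

theorem QData.neg (h : QData F q) (x : F) : (-x) ^ q = -(x ^ q) := by
  rw [← h.frob_apply, map_neg, h.frob_apply]

theorem QData.sub (h : QData F q) (x y : F) : (x - y) ^ q = x ^ q - y ^ q := by
  rw [← h.frob_apply, map_sub, h.frob_apply, h.frob_apply]

theorem QData.sum (h : QData F q) {ι : Type*} (s : Finset ι) (f : ι → F) :
    (∑ i ∈ s, f i) ^ q = ∑ i ∈ s, f i ^ q := by
  rw [← h.frob_apply, map_sum]
  rfl

/-- An element `c₀ ≠ 0` with `c₀ ^ q = -c₀`. -/
theorem QData.exists_skew (h : QData F q) : ∃ c : F, c ≠ 0 ∧ c ^ q = -c := by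
  obtain ⟨b, hb⟩ := h.ne
  refine ⟨b - b ^ q, sub_ne_zero.mpr (Ne.symm hb), ?_⟩
  rw [h.sub, h.invol]
  ring

/-- An element `θ` with `θ + θ ^ q = 1`. -/
theorem QData.exists_trace_one (h : QData F q) : ∃ θ : F, θ + θ ^ q = 1 := by
  obtain ⟨b, hb⟩ : ∃ b : F, b + b ^ q ≠ 0 := by
    by_cases h2 : (2 : F) = 0
    · obtain ⟨b, hb⟩ := h.ne
      refine ⟨b, fun h0 => hb ?_⟩
      have h1 : b ^ q = -b := by linear_combination h0
      rw [h1]
      linear_combination (-b) * h2
    · refine ⟨1, ?_⟩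
      rw [one_pow]
      intro h0
      apply h2
      linear_combination h0
  refine ⟨b / (b + b ^ q), ?_⟩
  rw [div_pow, h.add, h.invol, add_comm (b ^ q) b]
  field_simp

/-- The vector of `q`-th powers. -/
def cj (q : ℕ) (v : Fin d → F) : Fin d → F := fun i => v i ^ q

theorem herm_eq (u v : Fin d → F) : hermForm d F q u v = u ⬝ᵥ cj q v := rfl

theorem herm_add_left (u u' v : Fin d → F) :
    hermForm d F q (u + u') v = hermForm d F q u v + hermForm d F q u' v := by
  rw [herm_eq, herm_eq, herm_eq, add_dotProduct]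

theorem herm_sub_left (u u' v : Fin d → F) :
    hermForm d F q (u - u') v = hermForm d F q u v - hermForm d F q u' v := by
  rw [herm_eq, herm_eq, herm_eq, sub_dotProduct]

theorem herm_smul_left (c : F) (u v : Fin d → F) :
    hermForm d F q (c • u) v = c * hermForm d F q u v := by
  rw [herm_eq, herm_eq, smul_dotProduct, smul_eq_mul]

theorem cj_add (h : QData F q) (v v' : Fin d → F) : cj q (v + v') = cj q v + cj q v' := by
  funext i
  exact h.add _ _

theorem cj_smul (c : F) (v : Fin d → F) : cj q (c • v) = c ^ q • cj q v := by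
  funext i
  simp [cj, mul_pow]

theorem cj_ne {p : Fin d → F} (hp : p ≠ 0) : cj q p ≠ 0 := by
  intro h0
  apply hp
  funext i
  have h1 : p i ^ q = 0 := congrFun h0 i
  exact eq_zero_of_pow_eq_zero h1

theorem herm_add_right (h : QData F q) (u v v' : Fin d → F) :
    hermForm d F q u (v + v') = hermForm d F q u v + hermForm d F q u v' := by
  rw [herm_eq, herm_eq, herm_eq, cj_add h, dotProduct_add]

theorem herm_smul_right (c : F) (u v : Fin d → F) :
    hermForm d F q u (c • v) = c ^ q * hermForm d F q u v := by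
  rw [herm_eq, herm_eq, cj_smul, dotProduct_smul, smul_eq_mul]

theorem herm_conj (h : QData F q) (u v : Fin d → F) :
    (hermForm d F q u v) ^ q = hermForm d F q v u := by
  unfold hermForm
  rw [h.sum]
  apply Finset.sum_congr rfl
  intro i _
  rw [mul_pow, h.invol, mul_comm]

theorem herm_zero_symm (h : QData F q) {u v : Fin d → F} (huv : hermForm d F q u v = 0) :
    hermForm d F q v u = 0 := by
  rw [← herm_conj h, huv, zero_pow h.pos]

theorem herm_ne_symm (h : QData F q) {u v : Fin d → F} (huv : hermForm d F q u v ≠ 0) :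
    hermForm d F q v u ≠ 0 := fun h0 => huv (herm_zero_symm h h0)

/-- The nilpotent matrix of the unitary transvections with centre `p`. -/
def uN (q : ℕ) (p : Fin d → F) : Matrix (Fin d) (Fin d) F := vecMulVec p (cj q p)

theorem uN_mulVec (p v : Fin d → F) : uN q p *ᵥ v = hermForm d F q v p • p := by
  unfold uN
  rw [tv_mulVec, herm_eq, dotProduct_comm]

theorem uN_mul (p p' : Fin d → F) :
    uN q p * uN q p' = hermForm d F q p' p • vecMulVec p (cj q p') := by
  unfold uN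
  rw [vecMulVec_mul_vecMulVec, vecMulVec_smul, herm_eq, dotProduct_comm]

theorem uN_sq {p : Fin d → F} (hp : hermForm d F q p p = 0) : uN q p * uN q p = 0 := by
  rw [uN_mul, hp, zero_smul]

theorem uN_mul_mul (p p' : Fin d → F) :
    uN q p * uN q p' * uN q p = (hermForm d F q p' p * hermForm d F q p p') • uN q p := by
  rw [uN_mul]
  unfold uN
  rw [Matrix.smul_mul, vecMulVec_mul_vecMulVec, vecMulVec_smul, smul_smul, herm_eq, herm_eq,
    dotProduct_comm (cj q p') p]

/-- The representation of `SU` on matrices. -/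
def uρ (d : ℕ) (F : Type*) [Field F] (q : ℕ) : ↥(SU d F q) →* Matrix (Fin d) (Fin d) F :=
  (slToMat d F).comp (SU d F q).subtype

theorem uρ_apply (g : ↥(SU d F q)) :
    uρ d F q g = ((g : Matrix.SpecialLinearGroup (Fin d) F) : Matrix (Fin d) (Fin d) F) := rfl

theorem uρ_injective : Function.Injective (uρ d F q) := by
  intro a b h
  apply Subtype.ext
  apply Subtype.ext
  exact h

theorem su_herm (g : ↥(SU d F q)) (u v : Fin d → F) :
    hermForm d F q (uρ d F q g *ᵥ u) (uρ d F q g *ᵥ v) = hermForm d F q u v := g.2 u v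

theorem uT_dot {p : Fin d → F} (hp : hermForm d F q p p = 0) (c : F) :
    cj q p ⬝ᵥ (c • p) = 0 := by
  rw [dotProduct_smul, dotProduct_comm, ← herm_eq, hp, smul_zero]

theorem uT_mem (h : QData F q) {p : Fin d → F} (hp : hermForm d F q p p = 0) {c : F}
    (hc : c ^ q = -c) : elemSL (c • p) (cj q p) (uT_dot hp c) ∈ SU d F q := by
  intro u v
  change hermForm d F q ((elemSL (c • p) (cj q p) (uT_dot hp c) : Matrix (Fin d) (Fin d) F) *ᵥ u)
    ((elemSL (c • p) (cj q p) (uT_dot hp c) : Matrix (Fin d) (Fin d) F) *ᵥ v) = _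
  rw [elemSL_coe, add_mulVec, add_mulVec, one_mulVec, one_mulVec, tv_mulVec, tv_mulVec,
    dotProduct_comm (cj q p) u, dotProduct_comm (cj q p) v, ← herm_eq, ← herm_eq]
  simp only [herm_add_left, herm_add_right h, herm_smul_left, herm_smul_right, hp, herm_conj h, hc]
  ring

/-- The unitary transvection `v ↦ v + c h(v, p) p`. -/
def uT (h : QData F q) {p : Fin d → F} (hp : hermForm d F q p p = 0) {c : F}
    (hc : c ^ q = -c) : ↥(SU d F q) :=
  ⟨elemSL (c • p) (cj q p) (uT_dot hp c), uT_mem h hp hc⟩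

theorem uT_coe (h : QData F q) {p : Fin d → F} (hp : hermForm d F q p p = 0) {c : F}
    (hc : c ^ q = -c) : uρ d F q (uT h hp hc) = 1 + c • uN q p := by
  rw [uρ_apply]
  change (elemSL (c • p) (cj q p) (uT_dot hp c) : Matrix (Fin d) (Fin d) F) = _
  rw [elemSL_coe, smul_vecMulVec]
  rfl

/-- The unitary transvection group with centre `p`. -/
def uSub (q : ℕ) (p : Fin d → F) : Subgroup ↥(SU d F q) :=
  Subgroup.closure {g | ∃ c : F, c ^ q = -c ∧ uρ d F q g = 1 + c • uN q p}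

theorem mem_uSub (h : QData F q) {p : Fin d → F} (hp : hermForm d F q p p = 0)
    {g : ↥(SU d F q)} :
    g ∈ uSub q p ↔ ∃ c : F, c ^ q = -c ∧ uρ d F q g = 1 + c • uN q p := by
  constructor
  · intro hg
    unfold uSub at hg
    induction hg using Subgroup.closure_induction with
    | mem x hx => exact hx
    | one => exact ⟨0, by rw [zero_pow h.pos, neg_zero], by simp⟩
    | mul x y _ _ hx hy =>
      obtain ⟨c, hc, hx⟩ := hx
      obtain ⟨c', hc', hy⟩ := hy
      refine ⟨c + c', by rw [h.add, hc, hc']; ring, ?_⟩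
      rw [map_mul, hx, hy]
      simp only [mul_add, add_mul, mul_one, one_mul, smul_mul_assoc, mul_smul_comm, uN_sq hp,
        smul_zero, add_zero, add_smul]
      abel
    | inv x _ hx =>
      obtain ⟨c, hc, hx⟩ := hx
      exact ⟨-c, by rw [h.neg, hc], ar_coe_inv (K := F) (uρ d F q) (uN_sq hp) hx⟩
  · exact fun hg => Subgroup.subset_closure hg

theorem uT_mem_uSub (h : QData F q) {p : Fin d → F} (hp : hermForm d F q p p = 0) {c : F}
    (hc : c ^ q = -c) : uT h hp hc ∈ uSub q p :=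
  (mem_uSub h hp).mpr ⟨c, hc, uT_coe h hp hc⟩

theorem exists_herm_one {p : Fin d → F} (hp0 : p ≠ 0) :
    ∃ v₀ : Fin d → F, hermForm d F q v₀ p = 1 := by
  obtain ⟨i, hi⟩ : ∃ i, p i ≠ 0 := by
    by_contra hcon
    push Not at hcon
    exact hp0 (funext hcon)
  refine ⟨((p i) ^ q)⁻¹ • Pi.single i 1, ?_⟩
  rw [herm_smul_left, herm_eq, single_dotProduct, one_mul]
  exact inv_mul_cancel₀ (pow_ne_zero q hi)

theorem uN_ne {p : Fin d → F} (hp0 : p ≠ 0) : uN q p ≠ 0 := by
  intro h0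
  obtain ⟨v₀, hv₀⟩ := exists_herm_one (q := q) hp0
  have h1 := uN_mulVec (q := q) p v₀
  rw [h0, zero_mulVec, hv₀, one_smul] at h1
  exact hp0 h1.symm

/-- The transvection group of the statement is `uSub`. -/
theorem uSub_eq (h : QData F q) {p : Fin d → F} (hp0 : p ≠ 0) (hp : hermForm d F q p p = 0) :
    Subgroup.closure {g : ↥(SU d F q) |
      (∀ v : Fin d → F, ∃ c : F,
        ((g : Matrix.SpecialLinearGroup (Fin d) F) : Matrix (Fin d) (Fin d) F) *ᵥ v = v + c • p) ∧
      ∀ v : Fin d → F, hermForm d F q v p = 0 →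
        ((g : Matrix.SpecialLinearGroup (Fin d) F) : Matrix (Fin d) (Fin d) F) *ᵥ v = v} =
      uSub q p := by
  unfold uSub
  congr 1
  ext g
  constructor
  · rintro ⟨h1, h2⟩
    obtain ⟨v₀, hv₀⟩ := exists_herm_one (q := q) hp0
    obtain ⟨c, hc⟩ := h1 v₀
    have hform : ∀ v : Fin d → F,
        ((g : Matrix.SpecialLinearGroup (Fin d) F) : Matrix (Fin d) (Fin d) F) *ᵥ v =
          v + (c * hermForm d F q v p) • p := by
      intro v
      have hperp : hermForm d F q (v - hermForm d F q v p • v₀) p = 0 := by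
        rw [herm_sub_left, herm_smul_left, hv₀]
        ring
      have h3 := h2 _ hperp
      rw [mulVec_sub, mulVec_smul, hc] at h3
      have e : ((g : Matrix.SpecialLinearGroup (Fin d) F) : Matrix (Fin d) (Fin d) F) *ᵥ v =
          (v - hermForm d F q v p • v₀) + hermForm d F q v p • (v₀ + c • p) := by
        rw [← h3]
        abel
      rw [e]
      module
    refine ⟨c, ?_, ?_⟩
    · have hu := g.2 v₀ v₀
      change hermForm d F q
        (((g : Matrix.SpecialLinearGroup (Fin d) F) : Matrix (Fin d) (Fin d) F) *ᵥ v₀)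
        (((g : Matrix.SpecialLinearGroup (Fin d) F) : Matrix (Fin d) (Fin d) F) *ᵥ v₀) =
        hermForm d F q v₀ v₀ at hu
      rw [hc] at hu
      have hpv : hermForm d F q p v₀ = 1 := by rw [← herm_conj h, hv₀, one_pow]
      simp only [herm_add_left, herm_add_right h, herm_smul_left, herm_smul_right, hp, hv₀,
        hpv] at hu
      linear_combination hu
    · apply Matrix.mulVec_injective
      funext v
      rw [uρ_apply, hform v, add_mulVec, one_mulVec, smul_mulVec, uN_mulVec, smul_smul]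
  · rintro ⟨c, hc, hg⟩
    rw [uρ_apply] at hg
    constructor
    · intro v
      refine ⟨c * hermForm d F q v p, ?_⟩
      rw [hg, add_mulVec, one_mulVec, smul_mulVec, uN_mulVec, smul_smul]
    · intro v hv
      rw [hg, add_mulVec, one_mulVec, smul_mulVec, uN_mulVec, hv, zero_smul, smul_zero, add_zero]

theorem su_cj (g : ↥(SU d F q)) (v : Fin d → F) :
    cj q (uρ d F q g *ᵥ v) ᵥ* uρ d F q g = cj q v := by
  apply dotProduct_eq
  intro u
  rw [← dotProduct_mulVec, dotProduct_comm, ← herm_eq, su_herm, herm_eq, dotProduct_comm]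

theorem u_conj_N (g : ↥(SU d F q)) (p : Fin d → F) :
    uρ d F q g * uN q p * uρ d F q g⁻¹ = uN q (uρ d F q g *ᵥ p) := by
  unfold uN
  rw [mul_vecMulVec, vecMulVec_mul]
  congr 1
  calc cj q p ᵥ* uρ d F q g⁻¹
      = (cj q (uρ d F q g *ᵥ p) ᵥ* uρ d F q g) ᵥ* uρ d F q g⁻¹ := by rw [su_cj]
    _ = cj q (uρ d F q g *ᵥ p) := by rw [vecMul_vecMul, ar_mul_inv, vecMul_one]

theorem conjBy_uSub (h : QData F q) {p : Fin d → F} (hp : hermForm d F q p p = 0)
    (g : ↥(SU d F q)) : conjBy (uSub q p) g = uSub q (uρ d F q g *ᵥ p) := by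
  have hp' : hermForm d F q (uρ d F q g *ᵥ p) (uρ d F q g *ᵥ p) = 0 := by rw [su_herm, hp]
  ext x
  rw [mem_conjBy, mem_uSub h hp, mem_uSub h hp', ← u_conj_N]
  have c1 : ∀ M : Matrix (Fin d) (Fin d) F,
      uρ d F q g * (uρ d F q g⁻¹ * M * uρ d F q g) * uρ d F q g⁻¹ = M := by
    intro M
    calc _ = (uρ d F q g * uρ d F q g⁻¹) * M * (uρ d F q g * uρ d F q g⁻¹) := by
          simp only [mul_assoc]
      _ = M := by rw [ar_mul_inv, one_mul, mul_one]
  have c2 : ∀ M : Matrix (Fin d) (Fin d) F,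
      uρ d F q g⁻¹ * (uρ d F q g * M * uρ d F q g⁻¹) * uρ d F q g = M := by
    intro M
    calc _ = (uρ d F q g⁻¹ * uρ d F q g) * M * (uρ d F q g⁻¹ * uρ d F q g) := by
          simp only [mul_assoc]
      _ = M := by rw [ar_inv_mul, one_mul, mul_one]
  constructor
  · rintro ⟨c, hc, hx⟩
    refine ⟨c, hc, ?_⟩
    rw [map_mul, map_mul] at hx
    rw [← c1 (uρ d F q x), hx]
    simp only [mul_add, add_mul, mul_one, smul_mul_assoc, mul_smul_comm, ar_mul_inv]
  · rintro ⟨c, hc, hx⟩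
    refine ⟨c, hc, ?_⟩
    rw [map_mul, map_mul, hx]
    simp only [mul_add, add_mul, mul_one, smul_mul_assoc, mul_smul_comm, ar_inv_mul]
    rw [c2]

theorem u_mulVec_ne (g : ↥(SU d F q)) {p : Fin d → F} (hp : p ≠ 0) :
    uρ d F q g *ᵥ p ≠ 0 := by
  intro h
  apply hp
  have h1 := congrArg (fun w => uρ d F q g⁻¹ *ᵥ w) h
  simpa only [mulVec_mulVec, ar_inv_mul, one_mulVec, mulVec_zero] using h1

theorem uSub_comm (h : QData F q) {p : Fin d → F} (hp : hermForm d F q p p = 0) :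
    IsMulCommutative (uSub q p) := by
  rw [isMulCommutative_iff]
  rintro ⟨a, ha⟩ ⟨b, hb⟩
  apply Subtype.ext
  obtain ⟨c, -, hc⟩ := (mem_uSub h hp).mp ha
  obtain ⟨c', -, hc'⟩ := (mem_uSub h hp).mp hb
  apply uρ_injective
  change uρ d F q (a * b) = uρ d F q (b * a)
  rw [map_mul, map_mul, hc, hc']
  simp only [mul_add, add_mul, mul_one, one_mul, smul_mul_assoc, mul_smul_comm, uN_sq hp,
    smul_zero, add_zero]
  abel

theorem uSub_ne_bot (h : QData F q) {p : Fin d → F} (hp0 : p ≠ 0)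
    (hp : hermForm d F q p p = 0) : uSub q p ≠ ⊥ := by
  obtain ⟨c, hc0, hc⟩ := h.exists_skew
  intro hbot
  have h1 := uT_mem_uSub h hp hc
  rw [hbot, Subgroup.mem_bot] at h1
  have h2 := uT_coe h hp hc
  rw [h1, map_one] at h2
  have h3 : c • uN q p = 0 := by
    have := h2.symm
    rwa [add_eq_left] at this
  rcases smul_eq_zero.mp h3 with h4 | h4
  · exact hc0 h4
  · exact uN_ne hp0 h4

theorem u_commute (h : QData F q) {p p' : Fin d → F} (hp : hermForm d F q p p = 0)
    (hp' : hermForm d F q p' p' = 0) (hpp : hermForm d F q p' p = 0) :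
    ⁅uSub q p, uSub q p'⁆ = ⊥ := by
  apply comm_eq_bot_of_commute
  intro a ha b hb
  obtain ⟨c, -, hc⟩ := (mem_uSub h hp).mp ha
  obtain ⟨c', -, hc'⟩ := (mem_uSub h hp').mp hb
  apply uρ_injective
  rw [map_mul, map_mul, hc, hc']
  have e1 : uN q p * uN q p' = 0 := by rw [uN_mul, hpp, zero_smul]
  have e2 : uN q p' * uN q p = 0 := by rw [uN_mul, herm_zero_symm h hpp, zero_smul]
  simp only [mul_add, add_mul, mul_one, one_mul, smul_mul_assoc, mul_smul_comm, e1, e2,
    smul_zero, add_zero]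
  abel

theorem sl_map_injective {R S : Type*} [CommRing R] [CommRing S] {n : Type*} [DecidableEq n]
    [Fintype n] {f : R →+* S} (hf : Function.Injective f) :
    Function.Injective (Matrix.SpecialLinearGroup.map (n := n) f) := by
  intro A B hAB
  ext i j
  apply hf
  have := congrArg (fun g : Matrix.SpecialLinearGroup n S => (g : Matrix n n S) i j) hAB
  simpa [Matrix.SpecialLinearGroup.map_apply_coe] using this

open Cfsg.Agent.S5016 in
theorem sl_map_U {R S : Type*} [Field R] [Field S] (f : R →+* S) (x : R) :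
    Matrix.SpecialLinearGroup.map f (U x) = U (f x) := by
  ext i j
  fin_cases i <;> fin_cases j <;> simp [U_coe, Matrix.SpecialLinearGroup.map_apply_coe]

open Cfsg.Agent.S5016 in
theorem sl_map_L {R S : Type*} [Field R] [Field S] (f : R →+* S) (x : R) :
    Matrix.SpecialLinearGroup.map f (L x) = L (f x) := by
  ext i j
  fin_cases i <;> fin_cases j <;> simp [L_coe, Matrix.SpecialLinearGroup.map_apply_coe]

open Cfsg.Agent.S5016 in
/-- Two transvection groups with non-perpendicular centres form a rank one pair over the fixed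
field. -/
theorem u_rop (h : QData F q) {K : Type*} [Field K] [Algebra K F]
    (hj1 : ∀ a : K, (algebraMap K F a) ^ q = algebraMap K F a)
    (hj2 : ∀ x : F, x ^ q = x → ∃ a : K, algebraMap K F a = x)
    {p p' : Fin d → F} (hp : hermForm d F q p p = 0) (hp' : hermForm d F q p' p' = 0)
    (hpp : hermForm d F q p' p ≠ 0) :
    IsRankOnePair (uSub q p) (uSub q p') ∧ IsPSL2PairOver K (uSub q p) (uSub q p') := by
  obtain ⟨c₀, hc0, hc⟩ := h.exists_skew
  obtain ⟨μ, hμ⟩ : ∃ μ, μ = hermForm d F q p' p * hermForm d F q p p' := ⟨_, rfl⟩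
  have hμ0 : μ ≠ 0 := by
    rw [hμ]
    exact mul_ne_zero hpp (herm_ne_symm h hpp)
  have hμq : μ ^ q = μ := by rw [hμ, mul_pow, herm_conj h, herm_conj h, mul_comm]
  have hp0 : p ≠ 0 := by
    rintro rfl
    apply hpp
    rw [herm_eq]
    have : cj q (0 : Fin d → F) = 0 := by
      funext i
      simp [cj, h.pos]
    rw [this, dotProduct_zero]
  obtain ⟨e, he⟩ : ∃ e, e = c₀ • uN q p := ⟨_, rfl⟩
  obtain ⟨f, hf⟩ : ∃ f, f = (c₀ * μ)⁻¹ • uN q p' := ⟨_, rfl⟩
  have hcμ : c₀ * μ ≠ 0 := mul_ne_zero hc0 hμ0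
  have hee : e * e = 0 := by
    rw [he, smul_mul_assoc, mul_smul_comm, uN_sq hp, smul_zero, smul_zero]
  have hff : f * f = 0 := by
    rw [hf, smul_mul_assoc, mul_smul_comm, uN_sq hp', smul_zero, smul_zero]
  have hefe : e * f * e = e := by
    rw [he, hf]
    simp only [smul_mul_assoc, mul_smul_comm, smul_smul]
    rw [uN_mul_mul, smul_smul, ← hμ]
    congr 1
    field_simp
  have hfef : f * e * f = f := by
    rw [he, hf]
    simp only [smul_mul_assoc, mul_smul_comm, smul_smul]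
    rw [uN_mul_mul, smul_smul, mul_comm (hermForm d F q p p') (hermForm d F q p' p), ← hμ]
    congr 1
    field_simp
  have he0 : e ≠ 0 := by
    rw [he]
    exact smul_ne_zero hc0 (uN_ne hp0)
  obtain ⟨Ψ, hΨi, hΨU, hΨL⟩ := exists_sl2_hom_of_rel hee hff hefe hfef he0
  obtain ⟨Ψ', hΨ'⟩ : ∃ Ψ' : Matrix.SpecialLinearGroup (Fin 2) K →* Matrix (Fin d) (Fin d) F,
      Ψ' = Ψ.comp (Matrix.SpecialLinearGroup.map (algebraMap K F)) := ⟨_, rfl⟩
  have hΨ'i : Function.Injective Ψ' := by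
    rw [hΨ']
    exact hΨi.comp (sl_map_injective (algebraMap K F).injective)
  have hU : ∀ x : K, Ψ' (U x) = 1 + (algebraMap K F x * c₀) • uN q p := by
    intro x
    rw [hΨ', MonoidHom.comp_apply, sl_map_U, hΨU, he, smul_smul]
  have hL : ∀ x : K, Ψ' (L x) = 1 + (algebraMap K F x * (c₀ * μ)⁻¹) • uN q p' := by
    intro x
    rw [hΨ', MonoidHom.comp_apply, sl_map_L, hΨL, hf, smul_smul]
  have hq1 : ∀ x : K, (algebraMap K F x * c₀) ^ q = -(algebraMap K F x * c₀) := by
    intro x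
    rw [mul_pow, hj1, hc]
    ring
  have hq2 : ∀ x : K, (algebraMap K F x * (c₀ * μ)⁻¹) ^ q = -(algebraMap K F x * (c₀ * μ)⁻¹) := by
    intro x
    rw [mul_pow, hj1, inv_pow, mul_pow, hc, hμq, neg_mul, inv_neg, mul_neg]
  refine rop_of_sl2 (uρ d F q) uρ_injective Ψ' hΨ'i ?_ ?_ ?_ ?_
  · intro t
    rw [mem_uSub h hp]
    constructor
    · rintro ⟨c, hcq, ht⟩
      obtain ⟨x, hx⟩ := hj2 (c / c₀) (by rw [div_pow, hcq, hc, neg_div_neg_eq])
      refine ⟨x, ?_⟩
      rw [hU, hx, div_mul_cancel₀ c hc0, ht]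
    · rintro ⟨x, hx⟩
      exact ⟨algebraMap K F x * c₀, hq1 x, by rw [hx, hU]⟩
  · intro t
    rw [mem_uSub h hp']
    constructor
    · rintro ⟨c, hcq, ht⟩
      obtain ⟨x, hx⟩ := hj2 (c * (c₀ * μ)) (by rw [mul_pow, mul_pow, hcq, hc, hμq]; ring)
      refine ⟨x, ?_⟩
      rw [hL, hx, mul_assoc, mul_inv_cancel₀ hcμ, mul_one, ht]
    · rintro ⟨x, hx⟩
      exact ⟨algebraMap K F x * (c₀ * μ)⁻¹, hq2 x, by rw [hx, hL]⟩
  · intro x
    exact ⟨uT h hp (hq1 x), by rw [uT_coe, hU]⟩
  · intro x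
    exact ⟨uT h hp' (hq2 x), by rw [uT_coe, hL]⟩

theorem u_exists_w (h : QData F q) {p p' : Fin d → F} (hp0 : p ≠ 0) (hp'0 : p' ≠ 0)
    (hp : hermForm d F q p p = 0) (hpp : hermForm d F q p' p = 0) :
    ∃ w : Fin d → F, hermForm d F q w w = 0 ∧ hermForm d F q w p ≠ 0 ∧
      hermForm d F q w p' ≠ 0 := by
  obtain ⟨v, hv1, hv2⟩ := exists_dot_ne (cj_ne (q := q) hp0) (cj_ne (q := q) hp'0)
  rw [dotProduct_comm, ← herm_eq] at hv1 hv2
  obtain ⟨θ, hθ⟩ := h.exists_trace_one
  have hpv : hermForm d F q p v ≠ 0 := herm_ne_symm h hv1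
  obtain ⟨l, hl⟩ : ∃ l, l = -(hermForm d F q v v * θ) / hermForm d F q p v := ⟨_, rfl⟩
  refine ⟨v + l • p, ?_, ?_, ?_⟩
  · simp only [herm_add_left, herm_add_right h, herm_smul_left, herm_smul_right, hp]
    have hvv : hermForm d F q v v ^ q = hermForm d F q v v := herm_conj h v v
    have hvp : hermForm d F q v p = hermForm d F q p v ^ q := (herm_conj h p v).symm
    have hl1 : l * hermForm d F q p v = -(hermForm d F q v v * θ) := by
      rw [hl]
      field_simp
    have hl2 : l ^ q * hermForm d F q v p = -(hermForm d F q v v * θ ^ q) := by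
      rw [hvp, ← mul_pow, hl1, h.neg, mul_pow, hvv]
    linear_combination hl2 + hl1 - hermForm d F q v v * hθ
  · rw [herm_add_left, herm_smul_left, hp, mul_zero, add_zero]
    exact hv1
  · rw [herm_add_left, herm_smul_left, herm_zero_symm h hpp, mul_zero, add_zero]
    exact hv2

/-- The set of unitary transvection groups, as in the statement. -/
def uClass (d : ℕ) (F : Type*) [Field F] (q : ℕ) : Set (Subgroup ↥(SU d F q)) :=
  {A : Subgroup ↥(SU d F q) | ∃ p : Fin d → F, p ≠ 0 ∧ hermForm d F q p p = 0 ∧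
    A = Subgroup.closure {g : ↥(SU d F q) |
      (∀ v : Fin d → F, ∃ c : F,
        ((g : Matrix.SpecialLinearGroup (Fin d) F) : Matrix (Fin d) (Fin d) F) *ᵥ v = v + c • p) ∧
      ∀ v : Fin d → F, hermForm d F q v p = 0 →
        ((g : Matrix.SpecialLinearGroup (Fin d) F) : Matrix (Fin d) (Fin d) F) *ᵥ v = v}}

theorem mem_uClass (h : QData F q) {A : Subgroup ↥(SU d F q)} :
    A ∈ uClass d F q ↔ ∃ p : Fin d → F, p ≠ 0 ∧ hermForm d F q p p = 0 ∧ A = uSub q p := by
  constructor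
  · rintro ⟨p, hp0, hp, rfl⟩
    exact ⟨p, hp0, hp, uSub_eq h hp0 hp⟩
  · rintro ⟨p, hp0, hp, rfl⟩
    exact ⟨p, hp0, hp, (uSub_eq h hp0 hp).symm⟩

/-- Transfer of a degenerate connected family of `k`-root subgroups to the subgroup generated. -/
theorem degclass_subgroupOf {G : Type*} [Group G] {k : Type*} [Field k] {S : Set (Subgroup G)}
    (hcomm : ∀ A ∈ S, IsMulCommutative A) (hne : ∀ A ∈ S, A ≠ ⊥) (hnonempty : S.Nonempty)
    (hconj : ∀ A ∈ S, ∀ g : G, conjBy A g ∈ S)
    (hpair : ∀ A ∈ S, ∀ B ∈ S, ⁅A, B⁆ = ⊥ ∨ (IsRankOnePair A B ∧ IsPSL2PairOver k A B))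
    (hconn : IsConnectedFamily (FAdj S) S) :
    IsRootSubgroupClass ((fun A : Subgroup G => A.subgroupOf (⨆ B ∈ S, B)) '' S) ∧
    IsDegenerateRootSet ((fun A : Subgroup G => A.subgroupOf (⨆ B ∈ S, B)) '' S) ∧
    IsKRootSubgroupSet k ((fun A : Subgroup G => A.subgroupOf (⨆ B ∈ S, B)) '' S) ∧
    IsConnectedFamily (FAdj ((fun A : Subgroup G => A.subgroupOf (⨆ B ∈ S, B)) '' S))
      ((fun A : Subgroup G => A.subgroupOf (⨆ B ∈ S, B)) '' S) := by
  have hk := kroot_subgroupOf (k := k) hcomm hne (fun A hA g _ => hconj A hA g)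
    (fun A hA B hB => (hpair A hA B hB).imp id Or.inl)
  obtain ⟨H, hH⟩ : ∃ H, H = ⨆ B ∈ S, B := ⟨_, rfl⟩
  rw [← hH] at hk ⊢
  have hle : ∀ A ∈ S, A ≤ H := by
    intro A hA
    rw [hH]
    exact le_biSup (fun B => B) hA
  obtain ⟨S₀, hS₀⟩ : ∃ S₀, S₀ = (fun A : Subgroup G => A.subgroupOf H) '' S := ⟨_, rfl⟩
  rw [← hS₀] at hk ⊢
  have hmem : ∀ A ∈ S, A.subgroupOf H ∈ S₀ := by
    intro A hA
    rw [hS₀]
    exact ⟨A, hA, rfl⟩
  have hconn₀ : IsConnectedFamily (FAdj S₀) S₀ := by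
    intro A₀ hA₀ B₀ hB₀
    rw [hS₀] at hA₀ hB₀
    obtain ⟨A, hA, rfl⟩ := hA₀
    obtain ⟨B, hB, rfl⟩ := hB₀
    have := hconn A hA B hB
    exact Relation.ReflTransGen.lift (fun A : Subgroup G => A.subgroupOf H)
      (fun X Y hXY => ⟨hmem X hXY.1, hmem Y hXY.2.1,
        rop_subgroupOf hXY.2.2 (hle X hXY.1) (hle Y hXY.2.1)⟩) A B this
  refine ⟨⟨hk.1, ?_, ?_⟩, ?_, hk, hconn₀⟩
  · obtain ⟨A, hA⟩ := hnonempty
    exact ⟨_, hmem A hA⟩
  · intro A₀ hA₀ B₀ hB₀
    exact conj_of_reach (hconn₀ A₀ hA₀ B₀ hB₀)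
  · intro A₀ hA₀ B₀ hB₀ hcc
    have hA₀' := hA₀
    have hB₀' := hB₀
    rw [hS₀] at hA₀' hB₀'
    obtain ⟨A, hA, rfl⟩ := hA₀'
    obtain ⟨B, hB, rfl⟩ := hB₀'
    rcases hpair A hA B hB with h | h
    · have h1 := hcc.1
      rw [comm_subgroupOf_eq_bot H h] at h1
      exact hk.1.ne_bot _ h1 rfl
    · exact rop_not_cc (rop_subgroupOf h.1 (hle A hA) (hle B hB)) (hk.1.commutative _ hA₀) hcc

/-- The unitary transvection groups: a degenerate class of `K`-root subgroups, connected. -/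
theorem uClass_main (h : QData F q) {K : Type*} [Field K] [Algebra K F]
    (hj1 : ∀ a : K, (algebraMap K F a) ^ q = algebraMap K F a)
    (hj2 : ∀ x : F, x ^ q = x → ∃ a : K, algebraMap K F a = x)
    (hiso : ∃ p : Fin d → F, p ≠ 0 ∧ hermForm d F q p p = 0) :
    IsRootSubgroupClass ((fun A : Subgroup ↥(SU d F q) =>
      A.subgroupOf (⨆ B ∈ uClass d F q, B)) '' uClass d F q) ∧
    IsDegenerateRootSet ((fun A : Subgroup ↥(SU d F q) =>
      A.subgroupOf (⨆ B ∈ uClass d F q, B)) '' uClass d F q) ∧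
    IsKRootSubgroupSet K ((fun A : Subgroup ↥(SU d F q) =>
      A.subgroupOf (⨆ B ∈ uClass d F q, B)) '' uClass d F q) ∧
    IsConnectedFamily (FAdj ((fun A : Subgroup ↥(SU d F q) =>
      A.subgroupOf (⨆ B ∈ uClass d F q, B)) '' uClass d F q))
      ((fun A : Subgroup ↥(SU d F q) =>
      A.subgroupOf (⨆ B ∈ uClass d F q, B)) '' uClass d F q) := by
  apply degclass_subgroupOf (k := K)
  · intro A hA
    obtain ⟨p, hp0, hp, rfl⟩ := (mem_uClass h).mp hA
    exact uSub_comm h hp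
  · intro A hA
    obtain ⟨p, hp0, hp, rfl⟩ := (mem_uClass h).mp hA
    exact uSub_ne_bot h hp0 hp
  · obtain ⟨p, hp0, hp⟩ := hiso
    exact ⟨uSub q p, (mem_uClass h).mpr ⟨p, hp0, hp, rfl⟩⟩
  · intro A hA g
    obtain ⟨p, hp0, hp, rfl⟩ := (mem_uClass h).mp hA
    rw [conjBy_uSub h hp]
    exact (mem_uClass h).mpr ⟨_, u_mulVec_ne g hp0, by rw [su_herm, hp], rfl⟩
  · intro A hA B hB
    obtain ⟨p, hp0, hp, rfl⟩ := (mem_uClass h).mp hA
    obtain ⟨p', hp'0, hp', rfl⟩ := (mem_uClass h).mp hB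
    by_cases hpp : hermForm d F q p' p = 0
    · exact Or.inl (u_commute h hp hp' hpp)
    · exact Or.inr (u_rop h hj1 hj2 hp hp' hpp)
  · intro A hA B hB
    obtain ⟨p, hp0, hp, rfl⟩ := (mem_uClass h).mp hA
    obtain ⟨p', hp'0, hp', rfl⟩ := (mem_uClass h).mp hB
    by_cases hpp : hermForm d F q p' p = 0
    · obtain ⟨w, hw, hw1, hw2⟩ := u_exists_w h hp0 hp'0 hp hpp
      have hw0 : w ≠ 0 := by
        rintro rfl
        apply hw1
        rw [herm_eq, zero_dotProduct]
      have hC : uSub q w ∈ uClass d F q := (mem_uClass h).mpr ⟨w, hw0, hw, rfl⟩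
      have h1 : FAdj (uClass d F q) (uSub q p) (uSub q w) :=
        ⟨hA, hC, (u_rop h hj1 hj2 hp hw hw1).1⟩
      have h2 : FAdj (uClass d F q) (uSub q w) (uSub q p') :=
        ⟨hC, hB, (u_rop h hj1 hj2 hw hp' (herm_ne_symm h hw2)).1⟩
      exact Relation.ReflTransGen.tail (Relation.ReflTransGen.single h1) h2
    · exact Relation.ReflTransGen.single ⟨hA, hB, (u_rop h hj1 hj2 hp hp' hpp).1⟩

end UnitRoot

end Cfsg.Agent.Lib.helper85
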