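import Mathlib
import Cfsg.Prelude.Def_RootSubgroups
import Cfsg.Prelude.Def_Classical
import Cfsg.Agent.Lib.helper85.UnitRoot

set_option autoImplicit false
set_option linter.unusedSimpArgs false
set_option linter.unusedSectionVars false

namespace Cfsg.Agent.Lib.helper85

open Matrix Cfsg

section UnitField

theorem exists_isotropic {F : Type*} [Field F] {q : ℕ} (n : ℕ) {x : F} (hx : x ^ (q + 1) = -1) :
    ∃ p : Fin (n + 2) → F, p ≠ 0 ∧ hermForm (n + 2) F q p p = 0 := by
  refine ⟨fun i => if i = 0 then x else if i = 1 then 1 else 0, ?_, ?_⟩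
  · intro h0
    have := congrFun h0 1
    simp at this
  · unfold hermForm
    rw [Fin.sum_univ_succ, Fin.sum_univ_succ]
    have h1 : ∀ i : Fin n, (i.succ.succ : Fin (n + 2)) ≠ 0 := fun i => Fin.succ_ne_zero _
    have h2 : ∀ i : Fin n, (i.succ.succ : Fin (n + 2)) ≠ 1 := fun i => Fin.succ_succ_ne_one i
    simp only [h1, h2, if_false, if_true, zero_mul, Finset.sum_const_zero, add_zero,
      Fin.succ_zero_eq_one, one_ne_zero, one_pow, mul_one]
    have : x * x ^ q = x ^ (q + 1) := by ring
    rw [this, hx]
    ring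

/-- The arithmetic of a field with `q ^ 2` elements. -/
theorem unit_field_data (F : Type*) [Field F] [Fintype F] (q : ℕ)
    (hF : Fintype.card F = q ^ 2) :
    QData F q ∧ (∃ x : F, x ^ (q + 1) = -1) ∧
    ∃ (K : Type) (_ : Field K) (_ : Fintype K) (_ : Algebra K F), Fintype.card K = q ∧
      (∀ a : K, (algebraMap K F a) ^ q = algebraMap K F a) ∧
      (∀ x : F, x ^ q = x → ∃ a : K, algebraMap K F a = x) := by
  classical
  obtain ⟨p, hchar⟩ := CharP.exists F
  obtain ⟨m, hp, hcard⟩ := FiniteField.card F p
  have : Fact p.Prime := ⟨hp⟩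
  have hq2 : q ^ 2 = p ^ (m : ℕ) := by rw [← hF, hcard]
  have hqdvd : q ∣ p ^ (m : ℕ) := by
    rw [← hq2]
    exact dvd_pow_self q two_ne_zero
  obtain ⟨k, hk, hqk⟩ := (Nat.dvd_prime_pow hp).mp hqdvd
  have hm : (m : ℕ) = 2 * k := by
    have : p ^ (2 * k) = p ^ (m : ℕ) := by rw [← hq2, hqk, ← pow_mul, mul_comm]
    exact (Nat.pow_right_injective hp.two_le this).symm
  have hk0 : k ≠ 0 := by
    rintro rfl
    have := m.pos
    omega
  have hq1 : 1 < q := by
    rw [hqk]
    exact Nat.one_lt_pow hk0 hp.one_lt
  have hqq : q * q = Fintype.card F := by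
    rw [hF]
    ring
  have hadd : ∀ x y : F, (x + y) ^ q = x ^ q + y ^ q := by
    intro x y
    rw [hqk]
    exact add_pow_char_pow x y p k
  have hinvol : ∀ x : F, (x ^ q) ^ q = x := by
    intro x
    rw [← pow_mul, hqq, FiniteField.pow_card]
  have hfix : (Finset.univ.filter (fun x : F => x ^ q = x)).card ≤ q := by
    have h1 : Finset.univ.filter (fun x : F => x ^ q = x) ⊆
        (Polynomial.X ^ q - Polynomial.X : Polynomial F).roots.toFinset := by
      intro x hx
      rw [Finset.mem_filter] at hx
      rw [Multiset.mem_toFinset, Polynomial.mem_roots (FiniteField.X_pow_card_sub_X_ne_zero F hq1)]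
      simp [hx.2]
    calc _ ≤ (Polynomial.X ^ q - Polynomial.X : Polynomial F).roots.toFinset.card :=
          Finset.card_le_card h1
      _ ≤ Multiset.card (Polynomial.X ^ q - Polynomial.X : Polynomial F).roots :=
          Multiset.toFinset_card_le _
      _ ≤ (Polynomial.X ^ q - Polynomial.X : Polynomial F).natDegree := Polynomial.card_roots' _
      _ = q := FiniteField.X_pow_card_sub_X_natDegree_eq F hq1
  have hne : ∃ b : F, b ^ q ≠ b := by
    by_contra hcon
    push Not at hcon
    have h1 : Finset.univ.filter (fun x : F => x ^ q = x) = Finset.univ := by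
      ext x
      simp [hcon x]
    rw [h1, Finset.card_univ, hF] at hfix
    nlinarith
  have hQ : QData F q := ⟨hadd, hinvol, hne, by omega⟩
  obtain ⟨K, hK⟩ : ∃ K : Type, K = GaloisField p k := ⟨_, rfl⟩
  subst hK
  let instFin : Fintype (GaloisField p k) := Fintype.ofFinite (GaloisField p k)
  have hKcard : Fintype.card (GaloisField p k) = q := by
    rw [← Nat.card_eq_fintype_card, GaloisField.card p k hk0, hqk]
  let : Algebra (ZMod p) F := ZMod.algebra F p
  have hfr1 : Module.finrank (ZMod p) (GaloisField p k) = k := GaloisField.finrank p hk0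
  have hfr2 : Module.finrank (ZMod p) F = 2 * k := by
    have := FiniteField.pow_finrank_eq_card p F
    rw [hcard, hm] at this
    exact Nat.pow_right_injective hp.two_le this
  obtain ⟨j⟩ := FiniteField.nonempty_algHom_of_finrank_dvd (F := ZMod p) (K := GaloisField p k)
    (L := F) (by rw [hfr1, hfr2]; exact dvd_mul_left k 2)
  let instAlg : Algebra (GaloisField p k) F := j.toRingHom.toAlgebra
  have hj1 : ∀ a : GaloisField p k, (algebraMap (GaloisField p k) F a) ^ q =
      algebraMap (GaloisField p k) F a := by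
    intro a
    rw [← map_pow, ← hKcard, FiniteField.pow_card]
  have hj2 : ∀ x : F, x ^ q = x → ∃ a : GaloisField p k, algebraMap (GaloisField p k) F a = x := by
    intro x hx
    have himg : (Finset.univ.image (algebraMap (GaloisField p k) F)) =
        Finset.univ.filter (fun x : F => x ^ q = x) := by
      apply Finset.eq_of_subset_of_card_le
      · intro y hy
        rw [Finset.mem_image] at hy
        obtain ⟨a, -, rfl⟩ := hy
        rw [Finset.mem_filter]
        exact ⟨Finset.mem_univ _, hj1 a⟩
      · rw [Finset.card_image_of_injective _ (algebraMap (GaloisField p k) F).injective,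
          Finset.card_univ, hKcard]
        exact hfix
    have h1 : x ∈ Finset.univ.image (algebraMap (GaloisField p k) F) := by
      rw [himg, Finset.mem_filter]
      exact ⟨Finset.mem_univ _, hx⟩
    rw [Finset.mem_image] at h1
    obtain ⟨a, -, ha⟩ := h1
    exact ⟨a, ha⟩
  refine ⟨hQ, ?_, GaloisField p k, inferInstance, instFin, instAlg, hKcard, hj1, hj2⟩
  obtain ⟨x, hx⟩ := FiniteField.norm_surjective (GaloisField p k) F (-1 : GaloisField p k)
  refine ⟨x, ?_⟩
  have h1 := FiniteField.algebraMap_norm_eq_pow (K := GaloisField p k) (K' := F) (x := x)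
  rw [hx, map_neg, map_one] at h1
  rw [h1]
  congr 1
  rw [Nat.card_eq_fintype_card, Nat.card_eq_fintype_card, hKcard, hF]
  obtain ⟨r, rfl⟩ : ∃ r, q = r + 1 := ⟨q - 1, by omega⟩
  have h2 : (r + 1) ^ 2 = (r + 1 + 1) * r + 1 := by ring
  rw [h2, Nat.add_sub_cancel, Nat.add_sub_cancel]
  exact (Nat.mul_div_cancel _ (by omega)).symm

end UnitField

end Cfsg.Agent.Lib.helper85
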