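import Mathlib
import Cfsg.Prelude.Def_RootSubgroups
import Cfsg.Agent.Lib.helper85.RankOne
import Cfsg.Agent.Lib.helper85.RootSub
import Cfsg.Agent.Lib.helper85.RootSub4
import Cfsg.Agent.Lib.helper85.RootSub7
import Cfsg.Agent.Lib.helper85.RootSub8
import Cfsg.Agent.Lib.helper85.CommGen
import Cfsg.Agent.Lib.helper85.Line
import Cfsg.Agent.Lib.helper85.Line2
import Cfsg.Agent.Lib.helper85.Line3
import Cfsg.Agent.Lib.helper85.Line4

set_option autoImplicit false

namespace Cfsg.Agent.Lib.helper85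

open Cfsg
open scoped commutatorElement

variable {G : Type*} [Group G]

/-- The stabilizer of a family of subgroups under conjugation. -/
def familyStabilizer (Δ : Set (Subgroup G)) : Subgroup G where
  carrier := {g | ∀ T : Subgroup G, conjBy T g ∈ Δ ↔ T ∈ Δ}
  one_mem' := by
    intro T
    rw [conjBy_one]
  mul_mem' := by
    intro g h hg hh T
    rw [← conjBy_conjBy, hg, hh]
  inv_mem' := by
    intro g hg T
    have h1 := hg (conjBy T g⁻¹)
    rw [conjBy_conjBy, mul_inv_cancel, conjBy_one] at h1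
    exact h1.symm

theorem mem_familyStabilizer {Δ : Set (Subgroup G)} {g : G} :
    g ∈ familyStabilizer Δ ↔ ∀ T : Subgroup G, conjBy T g ∈ Δ ↔ T ∈ Δ := Iff.rfl

/-- A root element carrying some member of a weak TI-subset into it stabilizes the subset. -/
theorem weakTI_mem_stabilizer {S Δ : Set (Subgroup G)} (hΔ : IsWeakTISubset S Δ) {d : G}
    (hd : d ∈ rootElements S) {T : Subgroup G} (hT : T ∈ Δ) (hTd : conjBy T d ∈ Δ) :
    d ∈ familyStabilizer Δ := by
  rcases hΔ.2.2.2 d hd with himg | hdis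
  · intro T'
    constructor
    · intro h
      rw [← himg] at h
      obtain ⟨T'', hT'', e⟩ := h
      have e' : conjBy T'' d = conjBy T' d := e
      rw [← conjBy_inj.mp e']; exact hT''
    · intro h
      rw [← himg]
      exact ⟨T', h, rfl⟩
  · exfalso
    exact Set.disjoint_left.mp hdis ⟨T, hT, rfl⟩ hTd

theorem weakTI_le_stabilizer {S Δ : Set (Subgroup G)} (hΔ : IsWeakTISubset S Δ)
    {D : Subgroup G} (hD : D ∈ S) {T : Subgroup G} (hT : T ∈ Δ)
    (h : ∀ d ∈ D, conjBy T d ∈ Δ) : D ≤ familyStabilizer Δ := by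
  intro d hd
  by_cases hd1 : d = 1
  · rw [hd1]; exact Subgroup.one_mem _
  · exact weakTI_mem_stabilizer hΔ ⟨hd1, D, hD, hd⟩ hT (h d hd)

theorem weakTI_le_stabilizer_of_commute {S Δ : Set (Subgroup G)} (hΔ : IsWeakTISubset S Δ)
    {D : Subgroup G} (hD : D ∈ S) {T : Subgroup G} (hT : T ∈ Δ)
    (h : ∀ d ∈ D, ∀ t ∈ T, d * t = t * d) : D ≤ familyStabilizer Δ := by
  apply weakTI_le_stabilizer hΔ hD hT
  intro d hd
  rw [conjBy_eq_self_of_commute (h d hd)]
  exact hT

theorem weakTI_self_le_stabilizer {S Δ : Set (Subgroup G)} (hΔ : IsWeakTISubset S Δ)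
    {T : Subgroup G} (hT : T ∈ Δ) : T ≤ familyStabilizer Δ := by
  apply weakTI_le_stabilizer hΔ (hΔ.1 hT) hT
  intro d hd
  rw [conjBy_of_mem hd]
  exact hT

/-- A weak TI-subset of a non-degenerate class contains no rank one pair. -/
theorem weakTI_no_rank_one {S : Set (Subgroup G)} (hS : IsRootSubgroupClass S)
    (hnd : IsNondegenerateRootSet S) {Δ : Set (Subgroup G)} (hΔ : IsWeakTISubset S Δ)
    {A B : Subgroup G} (hA : A ∈ Δ) (hB : B ∈ Δ) (hAB : IsRankOnePair A B) : False := by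
  have hiso := class_exists_partner hS hnd.2.1
  have hK : ∀ k ∈ familyStabilizer Δ, ∀ T ∈ Δ, conjBy T k ∈ Δ := fun k hk T hT => (hk T).mpr hT
  -- line partners of a member of a rank one pair inside `Δ` are conjugates under the stabilizer
  have key : ∀ A' ∈ Δ, ∀ B' ∈ Δ, IsRankOnePair A' B' → ∀ C ∈ linePartners S A',
      ∃ k ∈ familyStabilizer Δ, C = conjBy A' k := by
    intro A' hA' B' hB' hAB' C hC
    obtain ⟨E, hE, hF, D, hD, d, hd, f, hf, hCdf⟩ :=
      line_conj hS.1 hiso (hΔ.1 hA') hC (hΔ.1 hB') hAB'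
    have hDK : D ≤ familyStabilizer Δ :=
      weakTI_le_stabilizer_of_commute hΔ hD.1.1 hA'
        (fun d hd t ht => (commute_of_comm_eq_bot hD.1.2.2 t ht d hd).symm)
    have hEB := comm_case_of_mem hS.1 hE.1.1 (hΔ.1 hB') hF
    have hFK : ⁅E, B'⁆ ≤ familyStabilizer Δ :=
      weakTI_le_stabilizer_of_commute hΔ hF hB' (fun c hc b hb => cc_comm_right hEB hb hc)
    exact ⟨d * f, Subgroup.mul_mem _ (hDK hd) (hFK hf), hCdf⟩
  have hreach : ∀ T : Subgroup G, Relation.ReflTransGen (EAdj S S) A T →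
      ∃ k ∈ familyStabilizer Δ, T = conjBy A k := by
    intro T hT
    induction hT with
    | refl => exact ⟨1, Subgroup.one_mem _, (conjBy_one A).symm⟩
    | tail _ hPQ ih =>
      obtain ⟨k, hk, rfl⟩ := ih
      obtain ⟨k', hk', h2⟩ := key _ (hK k hk A hA) _ (hK k hk B hB) (rop_conj hAB k) _ hPQ.2.2
      refine ⟨k' * k, Subgroup.mul_mem _ hk' hk, ?_⟩
      rw [h2, conjBy_conjBy]
  have hconn := eadj_connected hS hnd
  apply hΔ.2.2.1
  apply Set.Subset.antisymm hΔ.1
  intro T hT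
  obtain ⟨k, hk, rfl⟩ := hreach T (hconn A (hΔ.1 hA) T hT)
  exact hK k hk A hA

/-- Weak TI-subsets of a non-degenerate class are abelian. -/
theorem weakTI_abelian {S : Set (Subgroup G)} (hS : IsRootSubgroupClass S)
    (hnd : IsNondegenerateRootSet S) {Δ : Set (Subgroup G)} (hΔ : IsWeakTISubset S Δ) :
    IsAbelianFamily Δ := by
  have hiso := class_exists_partner hS hnd.2.1
  intro A hA B hB
  by_contra hcon
  have hne : ⁅A, B⁆ ≠ ⊥ := by
    intro h
    exact hcon (commute_of_comm_eq_bot h)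
  have hAS := hΔ.1 hA
  have hBS := hΔ.1 hB
  rcases hS.1.pair A hAS B hBS with h1 | h2 | h3
  · exact hne h1
  · exact weakTI_no_rank_one hS hnd hΔ hA hB h2
  · obtain ⟨D, hD, hDC⟩ := exists_double_comm hS.1 hiso hAS hBS h3.1
    have hBD := rank_one_of_double_comm hS.1 hAS hBS h3.1 hD hDC
    have hcc : RootCommutatorCase S D ⁅A, B⁆ :=
      comm_case_of_mem hS.1 hD h3.1 (by rw [hDC]; exact hAS)
    have hDK : D ≤ familyStabilizer Δ := by
      apply weakTI_le_stabilizer_of_commute hΔ hD hA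
      intro d hd a ha
      have ha' : a ∈ ⁅D, ⁅A, B⁆⁆ := by rw [hDC]; exact ha
      exact (cc_comm_left hcc hd ha').symm
    have hBK := weakTI_self_le_stabilizer hΔ hB
    obtain ⟨x, hx, hDx⟩ := rop_right_mem_unipotent hBD
    have hxK : x ∈ familyStabilizer Δ := (sup_le hBK hDK) hx
    have hDΔ : D ∈ Δ := by
      rw [hDx]; exact (hxK B).mpr hB
    exact weakTI_no_rank_one hS hnd hΔ hB hDΔ hBD

end Cfsg.Agent.Lib.helper85
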